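import Cfsg.Agent.Lib.Helper7.ChevAdd
import Cfsg.Prelude.Def_ChevE7

set_option autoImplicit false
set_option maxRecDepth 1000000

namespace Cfsg.Agent.Lib.Helper7.AddE7
open Cfsg.Lie Cfsg.Agent.Lib.Helper7.ChevAdd

theorem adE7_0 : addCheck chevE7 (chevE7.simple 0) = true := by decide +kernel

theorem anE7_0 : addCheck chevE7 (chevE7.neg (chevE7.simple 0)) = true := by decide +kernel

theorem adE7_1 : addCheck chevE7 (chevE7.simple 1) = true := by decide +kernel

theorem anE7_1 : addCheck chevE7 (chevE7.neg (chevE7.simple 1)) = true := by decide +kernel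

theorem adE7_2 : addCheck chevE7 (chevE7.simple 2) = true := by decide +kernel

theorem anE7_2 : addCheck chevE7 (chevE7.neg (chevE7.simple 2)) = true := by decide +kernel

theorem adE7_3 : addCheck chevE7 (chevE7.simple 3) = true := by decide +kernel

theorem anE7_3 : addCheck chevE7 (chevE7.neg (chevE7.simple 3)) = true := by decide +kernel

theorem adE7_4 : addCheck chevE7 (chevE7.simple 4) = true := by decide +kernel

theorem anE7_4 : addCheck chevE7 (chevE7.neg (chevE7.simple 4)) = true := by decide +kernel

theorem adE7_5 : addCheck chevE7 (chevE7.simple 5) = true := by decide +kernel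

theorem anE7_5 : addCheck chevE7 (chevE7.neg (chevE7.simple 5)) = true := by decide +kernel

theorem adE7_6 : addCheck chevE7 (chevE7.simple 6) = true := by decide +kernel

theorem anE7_6 : addCheck chevE7 (chevE7.neg (chevE7.simple 6)) = true := by decide +kernel

end Cfsg.Agent.Lib.Helper7.AddE7
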