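import Cfsg.Agent.Lib.Helper7.ChevAdd
import Cfsg.Prelude.Def_ChevE8

set_option autoImplicit false
set_option maxRecDepth 1000000

namespace Cfsg.Agent.Lib.Helper7.AddE8a
open Cfsg.Lie Cfsg.Agent.Lib.Helper7.ChevAdd

theorem adE8_0 : addCheck chevE8 (chevE8.simple 0) = true := by decide +kernel

theorem anE8_0 : addCheck chevE8 (chevE8.neg (chevE8.simple 0)) = true := by decide +kernel

theorem adE8_1 : addCheck chevE8 (chevE8.simple 1) = true := by decide +kernel

theorem anE8_1 : addCheck chevE8 (chevE8.neg (chevE8.simple 1)) = true := by decide +kernel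

theorem adE8_2 : addCheck chevE8 (chevE8.simple 2) = true := by decide +kernel

theorem anE8_2 : addCheck chevE8 (chevE8.neg (chevE8.simple 2)) = true := by decide +kernel

theorem adE8_3 : addCheck chevE8 (chevE8.simple 3) = true := by decide +kernel

theorem anE8_3 : addCheck chevE8 (chevE8.neg (chevE8.simple 3)) = true := by decide +kernel

end Cfsg.Agent.Lib.Helper7.AddE8a
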