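import Cfsg.Agent.Lib.Helper7.ChevAdd
import Cfsg.Prelude.Def_ChevE8

set_option autoImplicit false
set_option maxRecDepth 1000000

namespace Cfsg.Agent.Lib.Helper7.AddE8b
open Cfsg.Lie Cfsg.Agent.Lib.Helper7.ChevAdd

theorem adE8_4 : addCheck chevE8 (chevE8.simple 4) = true := by decide +kernel

theorem anE8_4 : addCheck chevE8 (chevE8.neg (chevE8.simple 4)) = true := by decide +kernel

theorem adE8_5 : addCheck chevE8 (chevE8.simple 5) = true := by decide +kernel

theorem anE8_5 : addCheck chevE8 (chevE8.neg (chevE8.simple 5)) = true := by decide +kernel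

theorem adE8_6 : addCheck chevE8 (chevE8.simple 6) = true := by decide +kernel

theorem anE8_6 : addCheck chevE8 (chevE8.neg (chevE8.simple 6)) = true := by decide +kernel

theorem adE8_7 : addCheck chevE8 (chevE8.simple 7) = true := by decide +kernel

theorem anE8_7 : addCheck chevE8 (chevE8.neg (chevE8.simple 7)) = true := by decide +kernel

end Cfsg.Agent.Lib.Helper7.AddE8b
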