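import Cfsg.Agent.Lib.Helper7.ChevAdd
import Cfsg.Prelude.Def_ChevG2
import Cfsg.Prelude.Def_ChevB2
import Cfsg.Prelude.Def_ChevD4
import Cfsg.Prelude.Def_ChevF4

set_option autoImplicit false
set_option maxRecDepth 1000000

namespace Cfsg.Agent.Lib.Helper7.AddSmall
open Cfsg.Lie Cfsg.Agent.Lib.Helper7.ChevAdd

theorem adG2_0 : addCheck chevG2 (chevG2.simple 0) = true := by decide +kernel

theorem anG2_0 : addCheck chevG2 (chevG2.neg (chevG2.simple 0)) = true := by decide +kernel

theorem adG2_1 : addCheck chevG2 (chevG2.simple 1) = true := by decide +kernel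

theorem anG2_1 : addCheck chevG2 (chevG2.neg (chevG2.simple 1)) = true := by decide +kernel

theorem adB2_0 : addCheck chevB2 (chevB2.simple 0) = true := by decide +kernel

theorem anB2_0 : addCheck chevB2 (chevB2.neg (chevB2.simple 0)) = true := by decide +kernel

theorem adB2_1 : addCheck chevB2 (chevB2.simple 1) = true := by decide +kernel

theorem anB2_1 : addCheck chevB2 (chevB2.neg (chevB2.simple 1)) = true := by decide +kernel

theorem adD4_0 : addCheck chevD4 (chevD4.simple 0) = true := by decide +kernel

theorem anD4_0 : addCheck chevD4 (chevD4.neg (chevD4.simple 0)) = true := by decide +kernel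

theorem adD4_1 : addCheck chevD4 (chevD4.simple 1) = true := by decide +kernel

theorem anD4_1 : addCheck chevD4 (chevD4.neg (chevD4.simple 1)) = true := by decide +kernel

theorem adD4_2 : addCheck chevD4 (chevD4.simple 2) = true := by decide +kernel

theorem anD4_2 : addCheck chevD4 (chevD4.neg (chevD4.simple 2)) = true := by decide +kernel

theorem adD4_3 : addCheck chevD4 (chevD4.simple 3) = true := by decide +kernel

theorem anD4_3 : addCheck chevD4 (chevD4.neg (chevD4.simple 3)) = true := by decide +kernel

theorem adF4_0 : addCheck chevF4 (chevF4.simple 0) = true := by decide +kernel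

theorem anF4_0 : addCheck chevF4 (chevF4.neg (chevF4.simple 0)) = true := by decide +kernel

theorem adF4_1 : addCheck chevF4 (chevF4.simple 1) = true := by decide +kernel

theorem anF4_1 : addCheck chevF4 (chevF4.neg (chevF4.simple 1)) = true := by decide +kernel

theorem adF4_2 : addCheck chevF4 (chevF4.simple 2) = true := by decide +kernel

theorem anF4_2 : addCheck chevF4 (chevF4.neg (chevF4.simple 2)) = true := by decide +kernel

theorem adF4_3 : addCheck chevF4 (chevF4.simple 3) = true := by decide +kernel

theorem anF4_3 : addCheck chevF4 (chevF4.neg (chevF4.simple 3)) = true := by decide +kernel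

end Cfsg.Agent.Lib.Helper7.AddSmall
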