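import Cfsg.Agent.Lib.Helper7.ChevAdd
import Cfsg.Agent.Lib.Helper7.AddSmall
import Cfsg.Agent.Lib.Helper7.AddE6
import Cfsg.Agent.Lib.Helper7.AddE7
import Cfsg.Agent.Lib.Helper7.AddE8a
import Cfsg.Agent.Lib.Helper7.AddE8b

set_option autoImplicit false

namespace Cfsg.Agent.Lib.Helper7.AddAll
open Cfsg.Lie Cfsg.Agent.Lib.Helper7.ChevAdd

theorem abG2 : AddBase chevG2 := by
  intro i hi
  have hi' : i < 2 := hi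
  interval_cases i
  · exact ⟨Cfsg.Agent.Lib.Helper7.AddSmall.adG2_0, Cfsg.Agent.Lib.Helper7.AddSmall.anG2_0⟩
  · exact ⟨Cfsg.Agent.Lib.Helper7.AddSmall.adG2_1, Cfsg.Agent.Lib.Helper7.AddSmall.anG2_1⟩

theorem abB2 : AddBase chevB2 := by
  intro i hi
  have hi' : i < 2 := hi
  interval_cases i
  · exact ⟨Cfsg.Agent.Lib.Helper7.AddSmall.adB2_0, Cfsg.Agent.Lib.Helper7.AddSmall.anB2_0⟩
  · exact ⟨Cfsg.Agent.Lib.Helper7.AddSmall.adB2_1, Cfsg.Agent.Lib.Helper7.AddSmall.anB2_1⟩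

theorem abD4 : AddBase chevD4 := by
  intro i hi
  have hi' : i < 4 := hi
  interval_cases i
  · exact ⟨Cfsg.Agent.Lib.Helper7.AddSmall.adD4_0, Cfsg.Agent.Lib.Helper7.AddSmall.anD4_0⟩
  · exact ⟨Cfsg.Agent.Lib.Helper7.AddSmall.adD4_1, Cfsg.Agent.Lib.Helper7.AddSmall.anD4_1⟩
  · exact ⟨Cfsg.Agent.Lib.Helper7.AddSmall.adD4_2, Cfsg.Agent.Lib.Helper7.AddSmall.anD4_2⟩
  · exact ⟨Cfsg.Agent.Lib.Helper7.AddSmall.adD4_3, Cfsg.Agent.Lib.Helper7.AddSmall.anD4_3⟩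

theorem abF4 : AddBase chevF4 := by
  intro i hi
  have hi' : i < 4 := hi
  interval_cases i
  · exact ⟨Cfsg.Agent.Lib.Helper7.AddSmall.adF4_0, Cfsg.Agent.Lib.Helper7.AddSmall.anF4_0⟩
  · exact ⟨Cfsg.Agent.Lib.Helper7.AddSmall.adF4_1, Cfsg.Agent.Lib.Helper7.AddSmall.anF4_1⟩
  · exact ⟨Cfsg.Agent.Lib.Helper7.AddSmall.adF4_2, Cfsg.Agent.Lib.Helper7.AddSmall.anF4_2⟩
  · exact ⟨Cfsg.Agent.Lib.Helper7.AddSmall.adF4_3, Cfsg.Agent.Lib.Helper7.AddSmall.anF4_3⟩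

theorem abE6 : AddBase chevE6 := by
  intro i hi
  have hi' : i < 6 := hi
  interval_cases i
  · exact ⟨Cfsg.Agent.Lib.Helper7.AddE6.adE6_0, Cfsg.Agent.Lib.Helper7.AddE6.anE6_0⟩
  · exact ⟨Cfsg.Agent.Lib.Helper7.AddE6.adE6_1, Cfsg.Agent.Lib.Helper7.AddE6.anE6_1⟩
  · exact ⟨Cfsg.Agent.Lib.Helper7.AddE6.adE6_2, Cfsg.Agent.Lib.Helper7.AddE6.anE6_2⟩
  · exact ⟨Cfsg.Agent.Lib.Helper7.AddE6.adE6_3, Cfsg.Agent.Lib.Helper7.AddE6.anE6_3⟩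
  · exact ⟨Cfsg.Agent.Lib.Helper7.AddE6.adE6_4, Cfsg.Agent.Lib.Helper7.AddE6.anE6_4⟩
  · exact ⟨Cfsg.Agent.Lib.Helper7.AddE6.adE6_5, Cfsg.Agent.Lib.Helper7.AddE6.anE6_5⟩

theorem abE7 : AddBase chevE7 := by
  intro i hi
  have hi' : i < 7 := hi
  interval_cases i
  · exact ⟨Cfsg.Agent.Lib.Helper7.AddE7.adE7_0, Cfsg.Agent.Lib.Helper7.AddE7.anE7_0⟩
  · exact ⟨Cfsg.Agent.Lib.Helper7.AddE7.adE7_1, Cfsg.Agent.Lib.Helper7.AddE7.anE7_1⟩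
  · exact ⟨Cfsg.Agent.Lib.Helper7.AddE7.adE7_2, Cfsg.Agent.Lib.Helper7.AddE7.anE7_2⟩
  · exact ⟨Cfsg.Agent.Lib.Helper7.AddE7.adE7_3, Cfsg.Agent.Lib.Helper7.AddE7.anE7_3⟩
  · exact ⟨Cfsg.Agent.Lib.Helper7.AddE7.adE7_4, Cfsg.Agent.Lib.Helper7.AddE7.anE7_4⟩
  · exact ⟨Cfsg.Agent.Lib.Helper7.AddE7.adE7_5, Cfsg.Agent.Lib.Helper7.AddE7.anE7_5⟩
  · exact ⟨Cfsg.Agent.Lib.Helper7.AddE7.adE7_6, Cfsg.Agent.Lib.Helper7.AddE7.anE7_6⟩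

theorem abE8 : AddBase chevE8 := by
  intro i hi
  have hi' : i < 8 := hi
  interval_cases i
  · exact ⟨Cfsg.Agent.Lib.Helper7.AddE8a.adE8_0, Cfsg.Agent.Lib.Helper7.AddE8a.anE8_0⟩
  · exact ⟨Cfsg.Agent.Lib.Helper7.AddE8a.adE8_1, Cfsg.Agent.Lib.Helper7.AddE8a.anE8_1⟩
  · exact ⟨Cfsg.Agent.Lib.Helper7.AddE8a.adE8_2, Cfsg.Agent.Lib.Helper7.AddE8a.anE8_2⟩
  · exact ⟨Cfsg.Agent.Lib.Helper7.AddE8a.adE8_3, Cfsg.Agent.Lib.Helper7.AddE8a.anE8_3⟩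
  · exact ⟨Cfsg.Agent.Lib.Helper7.AddE8b.adE8_4, Cfsg.Agent.Lib.Helper7.AddE8b.anE8_4⟩
  · exact ⟨Cfsg.Agent.Lib.Helper7.AddE8b.adE8_5, Cfsg.Agent.Lib.Helper7.AddE8b.anE8_5⟩
  · exact ⟨Cfsg.Agent.Lib.Helper7.AddE8b.adE8_6, Cfsg.Agent.Lib.Helper7.AddE8b.anE8_6⟩
  · exact ⟨Cfsg.Agent.Lib.Helper7.AddE8b.adE8_7, Cfsg.Agent.Lib.Helper7.AddE8b.anE8_7⟩

theorem addBase_of_mem (D : ChevalleyDatum)
    (hD : D ∈ [chevG2, chevB2, chevD4, chevF4, chevE6, chevE7, chevE8]) : AddBase D := by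
  simp only [List.mem_cons, List.not_mem_nil, or_false] at hD
  rcases hD with rfl | rfl | rfl | rfl | rfl | rfl | rfl
  · exact abG2
  · exact abB2
  · exact abD4
  · exact abF4
  · exact abE6
  · exact abE7
  · exact abE8

end Cfsg.Agent.Lib.Helper7.AddAll
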