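import Cfsg.Agent.Lib.Helper7.ChevChain

set_option autoImplicit false
set_option maxRecDepth 1000000
set_option maxHeartbeats 4000000

namespace Cfsg.Agent.Lib.Helper7.ChainD4
open Cfsg.Lie Cfsg.Agent.Lib.Helper7.ChevW0 Cfsg.Agent.Lib.Helper7.W0All Cfsg.Agent.Lib.Helper7.ChevWPerm
  Cfsg.Agent.Lib.Helper7.WPermAll Cfsg.Agent.Lib.Helper7.ChevWGrp Cfsg.Agent.Lib.Helper7.ChevChain
  Cfsg.Agent.Lib.Helper7.PoinAbs

def labs : List ℕ := []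

theorem lb : labCheck chevD4 wtD4 labs = true := by decide +kernel

def tab0 : List (ℕ × ℕ × ℕ) := [(1, 1, 10), (3, 2, 9), (4, 2, 8), (8, 0, 8), (9, 0, 7), (18, 0, 6), (8, 2, 8), (9, 2, 7), (11, 1, 7), (14, 1, 6), (13, 2, 6), (12, 3, 6), (15, 1, 5), (16, 1, 5), (15, 3, 5), (17, 2, 4), (17, 3, 4), (22, 0, 3), (19, 1, 5), (20, 3, 4), (22, 2, 3), (22, 3, 3), (23, 1, 2), (0, 0, 1)]

theorem bd0 : ∀ x < 24, dpOf tab0 x ≤ 10 := by decide +kernel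

theorem cs0 : (List.range 10).map (cnt 24 tab0) = [1, 1, 3, 3, 4, 4, 3, 3, 1, 1] := by decide +kernel

def tab1 : List (ℕ × ℕ × ℕ) := [(0, 0, 0), (2, 3, 4), (4, 2, 3), (4, 3, 3), (9, 0, 2), (0, 0, 0), (7, 3, 3), (9, 2, 2), (9, 3, 2), (0, 0, 1), (0, 0, 0), (0, 0, 0), (0, 0, 0), (0, 0, 0), (0, 0, 0), (0, 0, 0), (0, 0, 0), (0, 0, 0), (0, 0, 0), (0, 0, 0), (0, 0, 0), (0, 0, 0), (0, 0, 0), (0, 0, 0)]

theorem bd1 : ∀ x < 24, dpOf tab1 x ≤ 4 := by decide +kernel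

theorem cs1 : (List.range 4).map (cnt 24 tab1) = [1, 3, 3, 1] := by decide +kernel

def steps : List (ℕ × List (ℕ × ℕ × ℕ)) := [(23, tab0), (9, tab1)]

theorem ch : chainCheck chevD4 wtD4 caD4 coD4 labs [] steps = true := by decide +kernel

theorem hm : chevD4 ∈ [chevG2, chevB2, chevD4, chevF4, chevE6, chevE7, chevE8] := by simp

theorem chainPoly_eq (q : ℕ) : chainPoly chevD4.nroots steps q = evalH [1, 1, 3, 3, 4, 4, 3, 3, 1, 1] q * evalH [1, 3, 3, 1] q := by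
  have e : chainPoly chevD4.nroots steps q = polyOf 24 tab0 q * (polyOf 24 tab1 q * 1) := by
    rfl
  rw [e, polyOf_eq 24 10 tab0 bd0 q, cs0, polyOf_eq 24 4 tab1 bd1 q, cs1]
  ring

theorem poly_id (q : ℕ) : ((evalH [1, 1, 3, 3, 4, 4, 3, 3, 1, 1] q : ℕ) : ℤ) * ((evalH [1, 3, 3, 1] q : ℕ) : ℤ) * ((q : ℤ) - 1) ^ 4 = ((q : ℤ) ^ 2 - 1) * ((q : ℤ) ^ 4 - 1) * ((q : ℤ) ^ 4 - 1) * ((q : ℤ) ^ 6 - 1) := by
  simp only [evalH, List.foldr]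
  push_cast
  ring

theorem poincareD4 (q : ℕ) [Fintype ↥(Wg chevD4 hm)] :
    ((∑ σ : ↥(Wg chevD4 hm), q ^ Nv (sgn chevD4 hm) (σ : Equiv.Perm (Fin chevD4.nroots)) : ℕ) : ℤ) * ((q : ℤ) - 1) ^ 4 = ((q : ℤ) ^ 2 - 1) * ((q : ℤ) ^ 4 - 1) * ((q : ℤ) ^ 4 - 1) * ((q : ℤ) ^ 6 - 1) := by
  rw [poincare chevD4 hm wtD4 caD4 coD4 labs woD4 (pack_of_check _ _ _ pkD4) (lab_of_check _ _ _ woD4 lb) steps ch q, chainPoly_eq q]
  push_cast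
  exact poly_id q

end Cfsg.Agent.Lib.Helper7.ChainD4
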