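import Cfsg.Agent.Lib.Helper7.ChevChain

set_option autoImplicit false
set_option maxRecDepth 1000000
set_option maxHeartbeats 4000000

namespace Cfsg.Agent.Lib.Helper7.ChainE6
open Cfsg.Lie Cfsg.Agent.Lib.Helper7.ChevW0 Cfsg.Agent.Lib.Helper7.W0All Cfsg.Agent.Lib.Helper7.ChevWPerm
  Cfsg.Agent.Lib.Helper7.WPermAll Cfsg.Agent.Lib.Helper7.ChevWGrp Cfsg.Agent.Lib.Helper7.ChevChain
  Cfsg.Agent.Lib.Helper7.PoinAbs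

def labs : List ℕ := []

theorem lb : labCheck chevE6 wtE6 labs = true := by decide +kernel

def tab0 : List (ℕ × ℕ × ℕ) := [(1, 1, 22), (2, 3, 21), (3, 4, 20), (6, 2, 19), (7, 2, 18), (6, 4, 19), (8, 3, 18), (9, 3, 17), (19, 0, 17), (20, 0, 16), (21, 0, 15), (26, 0, 16), (27, 0, 15), (28, 0, 14), (29, 0, 13), (56, 0, 12), (17, 4, 18), (19, 3, 17), (20, 3, 16), (22, 2, 16), (23, 2, 15), (24, 2, 14), (30, 1, 15), (31, 1, 14), (32, 1, 13), (46, 1, 12), (30, 2, 15), (31, 2, 14), (32, 2, 13), (42, 2, 12), (33, 3, 14), (34, 3, 13), (39, 3, 12), (35, 4, 13), (37, 4, 12), (36, 5, 12), (38, 4, 11), (38, 5, 11), (41, 3, 10), (40, 4, 11), (41, 5, 10), (45, 2, 9), (43, 3, 11), (44, 4, 10), (45, 5, 9), (52, 1, 8), (47, 3, 11), (48, 4, 10), (49, 5, 9), (52, 2, 8), (51, 4, 9), (52, 5, 8), (54, 3, 7),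 (54, 5, 7), (55, 4, 6), (66, 0, 5), (57, 2, 11), (58, 3, 10), (59, 4, 9), (60, 5, 8), (63, 1, 7), (62, 4, 8), (63, 5, 7), (65, 3, 6), (65, 5, 6), (66, 4, 5), (69, 2, 4), (68, 5, 5), (69, 4, 4), (70, 3, 3), (71, 1, 2), (0, 0, 1)]

theorem bd0 : ∀ x < 72, dpOf tab0 x ≤ 22 := by decide +kernel

theorem cs0 : (List.range 22).map (cnt 72 tab0) = [1, 1, 1, 2, 3, 3, 4, 5, 5, 5, 6, 6, 5, 5, 5, 4, 3, 3, 2, 1, 1, 1] := by decide +kernel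

def tab1 : List (ℕ × ℕ × ℕ) := [(0, 0, 0), (0, 0, 0), (0, 0, 0), (0, 0, 0), (0, 0, 0), (0, 0, 0), (0, 0, 0), (0, 0, 0), (0, 0, 0), (0, 0, 0), (0, 0, 0), (26, 0, 10), (27, 0, 9), (28, 0, 8), (29, 0, 7), (56, 0, 6), (0, 0, 0), (0, 0, 0), (0, 0, 0), (0, 0, 0), (0, 0, 0), (0, 0, 0), (0, 0, 0), (0, 0, 0), (0, 0, 0), (0, 0, 0), (30, 2, 9), (31, 2, 8), (32, 2, 7), (42, 2, 6), (33, 3, 8), (34, 3, 7), (39, 3, 6), (35, 4, 7), (37, 4, 6), (36, 5, 6), (38, 4, 5), (38, 5, 5), (41, 3, 4), (40, 4, 5), (41, 5, 4), (45, 2, 3), (43, 3, 5), (44, 4, 4), (45, 5, 3), (60, 0, 2), (0, 0, 0), (0, 0, 0), (0, 0, 0), (0, 0, 0), (0, 0, 0), (0, 0, 0), (0, 0, 0), (0, 0, 0), (0, 0, 0), (0, 0, 0), (57, 2, 5), (58, 3, 4), (59, 4, 3), (60, 5, 2), (0, 0, 1), (0, 0, 0), (0, 0, 0), (0, 0, 0), (0, 0, 0), (0, 0, 0), (0, 0, 0),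 (0, 0, 0), (0, 0, 0), (0, 0, 0), (0, 0, 0), (0, 0, 0)]

theorem bd1 : ∀ x < 72, dpOf tab1 x ≤ 10 := by decide +kernel

theorem cs1 : (List.range 10).map (cnt 72 tab1) = [1, 2, 3, 4, 5, 5, 4, 3, 2, 1] := by decide +kernel

def tab2 : List (ℕ × ℕ × ℕ) := [(0, 0, 0), (0, 0, 0), (0, 0, 0), (0, 0, 0), (0, 0, 0), (0, 0, 0), (0, 0, 0), (0, 0, 0), (0, 0, 0), (0, 0, 0), (0, 0, 0), (0, 0, 0), (0, 0, 0), (0, 0, 0), (0, 0, 0), (0, 0, 0), (0, 0, 0), (0, 0, 0), (0, 0, 0), (0, 0, 0), (0, 0, 0), (0, 0, 0), (0, 0, 0), (0, 0, 0), (0, 0, 0), (0, 0, 0), (0, 0, 0), (31, 2, 6), (32, 2, 5), (42, 2, 4), (0, 0, 0), (34, 3, 5), (39, 3, 4), (0, 0, 0), (37, 4, 4), (0, 0, 0), (0, 0, 0), (40, 3, 3), (0, 0, 0), (40, 4, 3), (44, 2, 2), (0, 0, 0), (43, 3, 3), (44, 4, 2), (0, 0, 1), (0, 0, 0), (0, 0, 0), (0, 0, 0), (0,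 0, 0), (0, 0, 0), (0, 0, 0), (0, 0, 0), (0, 0, 0), (0, 0, 0), (0, 0, 0), (0, 0, 0), (0, 0, 0), (0, 0, 0), (0, 0, 0), (0, 0, 0), (0, 0, 0), (0, 0, 0), (0, 0, 0), (0, 0, 0), (0, 0, 0), (0, 0, 0), (0, 0, 0), (0, 0, 0), (0, 0, 0), (0, 0, 0), (0, 0, 0), (0, 0, 0)]

theorem bd2 : ∀ x < 72, dpOf tab2 x ≤ 6 := by decide +kernel

theorem cs2 : (List.range 6).map (cnt 72 tab2) = [1, 2, 3, 3, 2, 1] := by decide +kernel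

def tab3 : List (ℕ × ℕ × ℕ) := [(0, 0, 0), (2, 3, 2), (0, 0, 1), (0, 0, 0), (0, 0, 0), (0, 0, 0), (0, 0, 0), (0, 0, 0), (0, 0, 0), (0, 0, 0), (0, 0, 0), (0, 0, 0), (0, 0, 0), (0, 0, 0), (0, 0, 0), (0, 0, 0), (0, 0, 0), (0, 0, 0), (0, 0, 0), (0, 0, 0), (0, 0, 0), (0, 0, 0), (0, 0, 0), (0, 0, 0), (0, 0, 0), (0, 0, 0), (0, 0, 0), (0, 0, 0), (0, 0, 0), (0, 0, 0), (0, 0, 0), (0, 0, 0), (0, 0, 0), (0, 0, 0), (0, 0, 0), (0, 0, 0), (0, 0, 0), (0, 0, 0), (0, 0, 0), (0, 0, 0), (0, 0, 0), (0, 0, 0), (0, 0, 0), (0, 0, 0), (0, 0, 0), (0, 0, 0), (0, 0, 0), (0, 0, 0), (0, 0, 0), (0, 0, 0), (0, 0, 0), (0, 0, 0), (0, 0, 0), (0, 0, 0), (0, 0, 0), (0, 0, 0), (0, 0, 0), (0, 0, 0), (0, 0, 0), (0, 0, 0), (0, 0, 0), (0, 0, 0), (0, 0, 0), (0, 0, 0), (0, 0, 0), (0, 0, 0), (0, 0, 0), (0, 0, 0), (0, 0, 0), (0, 0,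 0), (0, 0, 0), (0, 0, 0)]

theorem bd3 : ∀ x < 72, dpOf tab3 x ≤ 2 := by decide +kernel

theorem cs3 : (List.range 2).map (cnt 72 tab3) = [1, 1] := by decide +kernel

def steps : List (ℕ × List (ℕ × ℕ × ℕ)) := [(71, tab0), (60, tab1), (44, tab2), (2, tab3)]

theorem ch : chainCheck chevE6 wtE6 caE6 coE6 labs [] steps = true := by decide +kernel

theorem hm : chevE6 ∈ [chevG2, chevB2, chevD4, chevF4, chevE6, chevE7, chevE8] := by simp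

theorem chainPoly_eq (q : ℕ) : chainPoly chevE6.nroots steps q = evalH [1, 1, 1, 2, 3, 3, 4, 5, 5, 5, 6, 6, 5, 5, 5, 4, 3, 3, 2, 1, 1, 1] q * evalH [1, 2, 3, 4, 5, 5, 4, 3, 2, 1] q * evalH [1, 2, 3, 3, 2, 1] q * evalH [1, 1] q := by
  have e : chainPoly chevE6.nroots steps q = polyOf 72 tab0 q * (polyOf 72 tab1 q * (polyOf 72 tab2 q * (polyOf 72 tab3 q * 1))) := by
    rfl
  rw [e, polyOf_eq 72 22 tab0 bd0 q, cs0, polyOf_eq 72 10 tab1 bd1 q, cs1, polyOf_eq 72 6 tab2 bd2 q, cs2, polyOf_eq 72 2 tab3 bd3 q, cs3]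
  ring

theorem poly_id (q : ℕ) : ((evalH [1, 1, 1, 2, 3, 3, 4, 5, 5, 5, 6, 6, 5, 5, 5, 4, 3, 3, 2, 1, 1, 1] q : ℕ) : ℤ) * ((evalH [1, 2, 3, 4, 5, 5, 4, 3, 2, 1] q : ℕ) : ℤ) * ((evalH [1, 2, 3, 3, 2, 1] q : ℕ) : ℤ) * ((evalH [1, 1] q : ℕ) : ℤ) * ((q : ℤ) - 1) ^ 6 = ((q : ℤ) ^ 2 - 1) * ((q : ℤ) ^ 5 - 1) * ((q : ℤ) ^ 6 - 1) * ((q : ℤ) ^ 8 - 1) * ((q : ℤ) ^ 9 - 1) * ((q : ℤ) ^ 12 - 1) := by
  simp only [evalH, List.foldr]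
  push_cast
  ring

theorem poincareE6 (q : ℕ) [Fintype ↥(Wg chevE6 hm)] :
    ((∑ σ : ↥(Wg chevE6 hm), q ^ Nv (sgn chevE6 hm) (σ : Equiv.Perm (Fin chevE6.nroots)) : ℕ) : ℤ) * ((q : ℤ) - 1) ^ 6 = ((q : ℤ) ^ 2 - 1) * ((q : ℤ) ^ 5 - 1) * ((q : ℤ) ^ 6 - 1) * ((q : ℤ) ^ 8 - 1) * ((q : ℤ) ^ 9 - 1) * ((q : ℤ) ^ 12 - 1) := by
  rw [poincare chevE6 hm wtE6 caE6 coE6 labs woE6 (pack_of_check _ _ _ pkE6) (lab_of_check _ _ _ woE6 lb) steps ch q, chainPoly_eq q]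
  push_cast
  exact poly_id q

end Cfsg.Agent.Lib.Helper7.ChainE6
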