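import Cfsg.Agent.Lib.Helper7.ChevChain

set_option autoImplicit false
set_option maxRecDepth 1000000
set_option maxHeartbeats 4000000

namespace Cfsg.Agent.Lib.Helper7.ChainE7
open Cfsg.Lie Cfsg.Agent.Lib.Helper7.ChevW0 Cfsg.Agent.Lib.Helper7.W0All Cfsg.Agent.Lib.Helper7.ChevWPerm
  Cfsg.Agent.Lib.Helper7.WPermAll Cfsg.Agent.Lib.Helper7.ChevWGrp Cfsg.Agent.Lib.Helper7.ChevChain
  Cfsg.Agent.Lib.Helper7.PoinAbs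

def labs : List ℕ := []

theorem lb : labCheck chevE7 wtE7 labs = true := by decide +kernel

def tab0 : List (ℕ × ℕ × ℕ) := [(1, 0, 34), (2, 2, 33), (3, 3, 32), (4, 4, 31), (5, 5, 30), (9, 1, 29), (10, 1, 28), (8, 4, 30), (9, 5, 29), (12, 3, 28), (13, 3, 27), (12, 5, 28), (14, 4, 27), (15, 4, 26), (20, 2, 26), (21, 2, 25), (22, 2, 24), (18, 5, 27), (20, 4, 26), (21, 4, 25), (23, 3, 25), (24, 3, 24), (25, 3, 23), (39, 0, 24), (40, 0, 23), (41, 0, 22), (42, 0, 21), (48, 0, 23), (49, 0, 22), (50, 0, 21), (51, 0, 20), (52, 0, 19), (93, 0, 18), (34, 5, 26), (36, 4, 25), (37, 4, 24), (39, 3, 24), (40, 3, 23), (41, 3, 22), (43, 2, 23), (44, 2, 22), (45, 2, 21), (46, 2, 20), (53, 1, 22), (54, 1, 21), (55, 1, 20), (56, 1, 19), (78, 1, 18), (53, 2, 22), (54, 2, 21), (55, 2, 20), (56, 2,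 19), (73, 2, 18), (57, 3, 21), (58, 3, 20), (59, 3, 19), (69, 3, 18), (60, 4, 20), (61, 4, 19), (66, 4, 18), (62, 5, 19), (64, 5, 18), (63, 6, 18), (65, 5, 17), (65, 6, 17), (68, 4, 16), (67, 5, 17), (68, 6, 16), (72, 3, 15), (70, 4, 17), (71, 5, 16), (72, 6, 15), (77, 2, 14), (74, 3, 17), (75, 4, 16), (76, 5, 15), (77, 6, 14), (86, 1, 13), (79, 3, 17), (80, 4, 16), (81, 5, 15), (82, 6, 14), (86, 2, 13), (84, 4, 15), (85, 5, 14), (86, 6, 13), (89, 3, 12), (88, 5, 13), (89, 6, 12), (91, 4, 11), (91, 6, 11), (92, 5, 10), (108, 0, 9), (94, 2, 17), (95, 3, 16), (96, 4, 15), (97, 5, 14), (98, 6, 13), (102, 1, 12), (100, 4, 14), (101, 5, 13), (102, 6, 12), (105, 3, 11), (104, 5, 12), (105, 6, 11), (107, 4, 10), (107, 6, 10), (108, 5, 9), (114, 2, 8), (110, 5, 11), (111, 6, 10), (113,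 4, 9), (113, 6, 9), (114, 5, 8), (117, 3, 7), (116, 6, 8), (117, 5, 7), (118, 4, 6), (122, 1, 5), (120, 6, 7), (121, 5, 6), (122, 4, 5), (123, 3, 4), (124, 2, 3), (125, 0, 2), (0, 0, 1)]

theorem bd0 : ∀ x < 126, dpOf tab0 x ≤ 34 := by decide +kernel

theorem cs0 : (List.range 34).map (cnt 126 tab0) = [1, 1, 1, 1, 2, 2, 3, 3, 4, 4, 5, 5, 6, 6, 6, 6, 7, 7, 6, 6, 6, 6, 5, 5, 4, 4, 3, 3, 2, 2, 1, 1, 1, 1] := by decide +kernel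

def tab1 : List (ℕ × ℕ × ℕ) := [(0, 0, 0), (0, 0, 0), (0, 0, 0), (0, 0, 0), (0, 0, 0), (0, 0, 0), (0, 0, 0), (0, 0, 0), (0, 0, 0), (0, 0, 0), (0, 0, 0), (0, 0, 0), (0, 0, 0), (0, 0, 0), (0, 0, 0), (0, 0, 0), (0, 0, 0), (0, 0, 0), (0, 0, 0), (0, 0, 0), (0, 0, 0), (0, 0, 0), (0, 0, 0), (0, 0, 0), (0, 0, 0), (0, 0, 0), (0, 0, 0), (0, 0, 0), (0, 0, 0), (0, 0, 0), (0, 0, 0), (0, 0, 0), (0, 0, 0), (34, 5, 18), (36, 4, 17), (37, 4, 16), (39, 3, 16), (40, 3, 15), (41, 3, 14), (43, 2, 15), (44, 2, 14), (45, 2, 13), (46, 2, 12), (53, 1, 14), (54, 1, 13), (55, 1, 12), (56, 1, 11), (78, 1, 10), (53, 2, 14), (54, 2, 13), (55, 2, 12), (56, 2, 11), (73, 2, 10), (57, 3, 13), (58, 3, 12), (59, 3, 11), (69, 3, 10), (60, 4, 12), (61, 4, 11), (66, 4, 10), (62, 5, 11), (64, 5, 10), (63, 6, 10), (65,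 5, 9), (65, 6, 9), (68, 4, 8), (67, 5, 9), (68, 6, 8), (72, 3, 7), (70, 4, 9), (71, 5, 8), (72, 6, 7), (77, 2, 6), (74, 3, 9), (75, 4, 8), (76, 5, 7), (77, 6, 6), (86, 1, 5), (79, 3, 9), (80, 4, 8), (81, 5, 7), (82, 6, 6), (86, 2, 5), (84, 4, 7), (85, 5, 6), (86, 6, 5), (89, 3, 4), (88, 5, 5), (89, 6, 4), (91, 4, 3), (91, 6, 3), (92, 5, 2), (0, 0, 1), (0, 0, 0), (0, 0, 0), (0, 0, 0), (0, 0, 0), (0, 0, 0), (0, 0, 0), (0, 0, 0), (0, 0, 0), (0, 0, 0), (0, 0, 0), (0, 0, 0), (0, 0, 0), (0, 0, 0), (0, 0, 0), (0, 0, 0), (0, 0, 0), (0, 0, 0), (0, 0, 0), (0, 0, 0), (0, 0, 0), (0, 0, 0), (0, 0, 0), (0, 0, 0), (0, 0, 0), (0, 0, 0), (0, 0, 0), (0, 0, 0), (0, 0, 0), (0, 0, 0), (0, 0, 0), (0, 0, 0), (0, 0, 0), (0, 0, 0)]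

theorem bd1 : ∀ x < 126, dpOf tab1 x ≤ 18 := by decide +kernel

theorem cs1 : (List.range 18).map (cnt 126 tab1) = [1, 1, 2, 2, 4, 4, 5, 5, 6, 6, 5, 5, 4, 4, 2, 2, 1, 1] := by decide +kernel

def tab2 : List (ℕ × ℕ × ℕ) := [(0, 0, 0), (0, 0, 0), (0, 0, 0), (0, 0, 0), (0, 0, 0), (6, 6, 8), (10, 1, 7), (0, 0, 0), (0, 0, 0), (10, 6, 7), (13, 3, 6), (0, 0, 0), (13, 6, 6), (15, 4, 5), (15, 6, 5), (21, 2, 4), (0, 0, 0), (0, 0, 0), (19, 6, 5), (21, 4, 4), (21, 6, 4), (24, 3, 3), (0, 0, 0), (24, 6, 3), (28, 1, 2), (0, 0, 0), (0, 0, 0), (28, 6, 2), (0, 0, 1), (0, 0, 0), (0, 0, 0), (0, 0, 0), (0, 0, 0), (0, 0, 0), (0, 0, 0), (0, 0, 0), (0, 0, 0), (0, 0, 0), (0, 0, 0), (0, 0, 0), (0, 0, 0), (0, 0, 0), (0, 0, 0), (0, 0, 0), (0, 0, 0), (0, 0, 0), (0, 0, 0), (0, 0, 0), (0, 0, 0), (0, 0, 0),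 (0, 0, 0), (0, 0, 0), (0, 0, 0), (0, 0, 0), (0, 0, 0), (0, 0, 0), (0, 0, 0), (0, 0, 0), (0, 0, 0), (0, 0, 0), (0, 0, 0), (0, 0, 0), (0, 0, 0), (0, 0, 0), (0, 0, 0), (0, 0, 0), (0, 0, 0), (0, 0, 0), (0, 0, 0), (0, 0, 0), (0, 0, 0), (0, 0, 0), (0, 0, 0), (0, 0, 0), (0, 0, 0), (0, 0, 0), (0, 0, 0), (0, 0, 0), (0, 0, 0), (0, 0, 0), (0, 0, 0), (0, 0, 0), (0, 0, 0), (0, 0, 0), (0, 0, 0), (0, 0, 0), (0, 0, 0), (0, 0, 0), (0, 0, 0), (0, 0, 0), (0, 0, 0), (0, 0, 0), (0, 0, 0), (0, 0, 0), (0, 0, 0), (0, 0, 0), (0, 0, 0), (0, 0, 0), (0, 0, 0), (0, 0, 0), (0, 0, 0), (0, 0, 0), (0, 0, 0), (0, 0, 0), (0, 0, 0), (0, 0, 0), (0, 0, 0), (0, 0, 0), (0, 0, 0), (0, 0, 0), (0, 0, 0), (0, 0, 0), (0, 0, 0), (0, 0, 0), (0, 0, 0), (0, 0, 0), (0, 0, 0), (0, 0, 0), (0, 0, 0), (0, 0, 0), (0, 0, 0), (0, 0,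 0), (0, 0, 0), (0, 0, 0), (0, 0, 0), (0, 0, 0)]

theorem bd2 : ∀ x < 126, dpOf tab2 x ≤ 8 := by decide +kernel

theorem cs2 : (List.range 8).map (cnt 126 tab2) = [1, 2, 2, 3, 3, 2, 2, 1] := by decide +kernel

def tab3 : List (ℕ × ℕ × ℕ) := [(0, 0, 0), (0, 0, 0), (0, 0, 0), (0, 0, 0), (0, 0, 0), (0, 0, 0), (0, 0, 0), (0, 0, 0), (0, 0, 0), (0, 0, 0), (0, 0, 0), (0, 0, 0), (0, 0, 0), (0, 0, 0), (0, 0, 0), (0, 0, 0), (0, 0, 0), (0, 0, 0), (0, 0, 0), (0, 0, 0), (0, 0, 0), (0, 0, 0), (0, 0, 0), (0, 0, 0), (0, 0, 0), (0, 0, 0), (0, 0, 0), (0, 0, 0), (0, 0, 0), (0, 0, 0), (0, 0, 0), (0, 0, 0), (0, 0, 0), (0, 0, 0), (0, 0, 0), (0, 0, 0), (0, 0, 0), (0, 0, 0), (0, 0, 0), (0, 0, 0), (0, 0, 0), (0, 0, 0), (0, 0, 0), (0, 0, 0), (0, 0, 0), (0, 0, 0), (0, 0, 0), (0, 0, 0), (0, 0, 0), (0, 0,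 0), (55, 2, 6), (56, 2, 5), (73, 2, 4), (0, 0, 0), (0, 0, 0), (59, 3, 5), (69, 3, 4), (0, 0, 0), (0, 0, 0), (66, 4, 4), (0, 0, 0), (0, 0, 0), (0, 0, 0), (0, 0, 0), (0, 0, 0), (0, 0, 0), (70, 3, 3), (0, 0, 0), (0, 0, 0), (70, 4, 3), (75, 2, 2), (0, 0, 0), (0, 0, 0), (74, 3, 3), (75, 4, 2), (0, 0, 1), (0, 0, 0), (0, 0, 0), (0, 0, 0), (0, 0, 0), (0, 0, 0), (0, 0, 0), (0, 0, 0), (0, 0, 0), (0, 0, 0), (0, 0, 0), (0, 0, 0), (0, 0, 0), (0, 0, 0), (0, 0, 0), (0, 0, 0), (0, 0, 0), (0, 0, 0), (0, 0, 0), (0, 0, 0), (0, 0, 0), (0, 0, 0), (0, 0, 0), (0, 0, 0), (0, 0, 0), (0, 0, 0), (0, 0, 0), (0, 0, 0), (0, 0, 0), (0, 0, 0), (0, 0, 0), (0, 0, 0), (0, 0, 0), (0, 0, 0), (0, 0, 0), (0, 0, 0), (0, 0, 0), (0, 0, 0), (0, 0, 0), (0, 0, 0), (0, 0, 0), (0, 0, 0), (0, 0, 0), (0, 0, 0), (0, 0, 0), (0,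 0, 0), (0, 0, 0), (0, 0, 0), (0, 0, 0), (0, 0, 0), (0, 0, 0)]

theorem bd3 : ∀ x < 126, dpOf tab3 x ≤ 6 := by decide +kernel

theorem cs3 : (List.range 6).map (cnt 126 tab3) = [1, 2, 3, 3, 2, 1] := by decide +kernel

def tab4 : List (ℕ × ℕ × ℕ) := [(0, 0, 0), (0, 0, 0), (3, 3, 2), (0, 0, 1), (0, 0, 0), (0, 0, 0), (0, 0, 0), (0, 0, 0), (0, 0, 0), (0, 0, 0), (0, 0, 0), (0, 0, 0), (0, 0, 0), (0, 0, 0), (0, 0, 0), (0, 0, 0), (0, 0, 0), (0, 0, 0), (0, 0, 0), (0, 0, 0), (0, 0, 0), (0, 0, 0), (0, 0, 0), (0, 0, 0), (0, 0, 0), (0, 0, 0), (0, 0, 0), (0, 0, 0), (0, 0, 0), (0, 0, 0), (0, 0, 0), (0, 0, 0), (0, 0, 0), (0, 0, 0), (0, 0, 0), (0, 0, 0), (0, 0, 0), (0, 0, 0), (0, 0, 0), (0, 0, 0), (0, 0, 0), (0, 0, 0), (0, 0, 0), (0, 0, 0), (0, 0, 0), (0, 0, 0), (0, 0, 0), (0, 0, 0), (0, 0, 0),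 (0, 0, 0), (0, 0, 0), (0, 0, 0), (0, 0, 0), (0, 0, 0), (0, 0, 0), (0, 0, 0), (0, 0, 0), (0, 0, 0), (0, 0, 0), (0, 0, 0), (0, 0, 0), (0, 0, 0), (0, 0, 0), (0, 0, 0), (0, 0, 0), (0, 0, 0), (0, 0, 0), (0, 0, 0), (0, 0, 0), (0, 0, 0), (0, 0, 0), (0, 0, 0), (0, 0, 0), (0, 0, 0), (0, 0, 0), (0, 0, 0), (0, 0, 0), (0, 0, 0), (0, 0, 0), (0, 0, 0), (0, 0, 0), (0, 0, 0), (0, 0, 0), (0, 0, 0), (0, 0, 0), (0, 0, 0), (0, 0, 0), (0, 0, 0), (0, 0, 0), (0, 0, 0), (0, 0, 0), (0, 0, 0), (0, 0, 0), (0, 0, 0), (0, 0, 0), (0, 0, 0), (0, 0, 0), (0, 0, 0), (0, 0, 0), (0, 0, 0), (0, 0, 0), (0, 0, 0), (0, 0, 0), (0, 0, 0), (0, 0, 0), (0, 0, 0), (0, 0, 0), (0, 0, 0), (0, 0, 0), (0, 0, 0), (0, 0, 0), (0, 0, 0), (0, 0, 0), (0, 0, 0), (0, 0, 0), (0, 0, 0), (0, 0, 0), (0, 0, 0), (0, 0, 0), (0, 0, 0), (0, 0,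 0), (0, 0, 0), (0, 0, 0), (0, 0, 0), (0, 0, 0), (0, 0, 0)]

theorem bd4 : ∀ x < 126, dpOf tab4 x ≤ 2 := by decide +kernel

theorem cs4 : (List.range 2).map (cnt 126 tab4) = [1, 1] := by decide +kernel

def steps : List (ℕ × List (ℕ × ℕ × ℕ)) := [(125, tab0), (92, tab1), (28, tab2), (75, tab3), (3, tab4)]

theorem ch : chainCheck chevE7 wtE7 caE7 coE7 labs [] steps = true := by decide +kernel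

theorem hm : chevE7 ∈ [chevG2, chevB2, chevD4, chevF4, chevE6, chevE7, chevE8] := by simp

theorem chainPoly_eq (q : ℕ) : chainPoly chevE7.nroots steps q = evalH [1, 1, 1, 1, 2, 2, 3, 3, 4, 4, 5, 5, 6, 6, 6, 6, 7, 7, 6, 6, 6, 6, 5, 5, 4, 4, 3, 3, 2, 2, 1, 1, 1, 1] q * evalH [1, 1, 2, 2, 4, 4, 5, 5, 6, 6, 5, 5, 4, 4, 2, 2, 1, 1] q * evalH [1, 2, 2, 3, 3, 2, 2, 1] q * evalH [1, 2, 3, 3, 2, 1] q * evalH [1, 1] q := by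
  have e : chainPoly chevE7.nroots steps q = polyOf 126 tab0 q * (polyOf 126 tab1 q * (polyOf 126 tab2 q * (polyOf 126 tab3 q * (polyOf 126 tab4 q * 1)))) := by
    rfl
  rw [e, polyOf_eq 126 34 tab0 bd0 q, cs0, polyOf_eq 126 18 tab1 bd1 q, cs1, polyOf_eq 126 8 tab2 bd2 q, cs2, polyOf_eq 126 6 tab3 bd3 q, cs3, polyOf_eq 126 2 tab4 bd4 q, cs4]
  ring

theorem poly_id (q : ℕ) : ((evalH [1, 1, 1, 1, 2, 2, 3, 3, 4, 4, 5, 5, 6, 6, 6, 6, 7, 7, 6, 6, 6, 6, 5, 5, 4, 4, 3, 3, 2, 2, 1, 1, 1, 1] q : ℕ) : ℤ) * ((evalH [1, 1, 2, 2, 4, 4, 5, 5, 6, 6, 5, 5, 4, 4, 2, 2, 1, 1] q : ℕ) : ℤ) * ((evalH [1, 2, 2, 3, 3, 2, 2, 1] q : ℕ) : ℤ) * ((evalH [1, 2, 3, 3, 2, 1] q : ℕ) : ℤ) * ((evalH [1, 1] q : ℕ) : ℤ) * ((q : ℤ) - 1) ^ 7 = ((q : ℤ) ^ 2 - 1) * ((q : ℤ) ^ 6 - 1) * ((q : ℤ) ^ 8 - 1) * ((q : ℤ)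 ^ 10 - 1) * ((q : ℤ) ^ 12 - 1) * ((q : ℤ) ^ 14 - 1) * ((q : ℤ) ^ 18 - 1) := by
  simp only [evalH, List.foldr]
  push_cast
  ring

theorem poincareE7 (q : ℕ) [Fintype ↥(Wg chevE7 hm)] :
    ((∑ σ : ↥(Wg chevE7 hm), q ^ Nv (sgn chevE7 hm) (σ : Equiv.Perm (Fin chevE7.nroots)) : ℕ) : ℤ) * ((q : ℤ) - 1) ^ 7 = ((q : ℤ) ^ 2 - 1) * ((q : ℤ) ^ 6 - 1) * ((q : ℤ) ^ 8 - 1) * ((q : ℤ) ^ 10 - 1) * ((q : ℤ) ^ 12 - 1) * ((q : ℤ) ^ 14 - 1) * ((q : ℤ) ^ 18 - 1) := by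
  rw [poincare chevE7 hm wtE7 caE7 coE7 labs woE7 (pack_of_check _ _ _ pkE7) (lab_of_check _ _ _ woE7 lb) steps ch q, chainPoly_eq q]
  push_cast
  exact poly_id q

end Cfsg.Agent.Lib.Helper7.ChainE7
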