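import Cfsg.Agent.Lib.Helper7.ChevChain

set_option autoImplicit false
set_option maxRecDepth 1000000
set_option maxHeartbeats 4000000

namespace Cfsg.Agent.Lib.Helper7.ChainE8
open Cfsg.Lie Cfsg.Agent.Lib.Helper7.ChevW0 Cfsg.Agent.Lib.Helper7.W0All Cfsg.Agent.Lib.Helper7.ChevWPerm
  Cfsg.Agent.Lib.Helper7.WPermAll Cfsg.Agent.Lib.Helper7.ChevWGrp Cfsg.Agent.Lib.Helper7.ChevChain
  Cfsg.Agent.Lib.Helper7.PoinAbs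

def labs : List ℕ := []

theorem lb : labCheck chevE8 wtE8 labs = true := by decide +kernel

def tab0 : List (ℕ × ℕ × ℕ) := [(1, 7, 58), (2, 6, 57), (3, 5, 56), (4, 4, 55), (5, 3, 54), (6, 2, 53), (8, 1, 52), (8, 2, 52), (9, 3, 51), (10, 4, 50), (11, 5, 49), (12, 6, 48), (19, 0, 47), (20, 0, 46), (15, 1, 51), (16, 3, 50), (17, 4, 49), (18, 5, 48), (19, 6, 47), (24, 2, 46), (25, 2, 45), (22, 4, 48), (23, 5, 47), (24, 6, 46), (28, 3, 45), (29, 3, 44), (27, 5, 46), (28, 6, 45), (31, 4, 44), (32, 4, 43), (31, 6, 44), (33, 5, 43), (34, 5, 42), (43, 1, 42), (44, 1, 41), (45, 1, 40), (37, 5, 45), (38, 6, 44), (41, 4, 43), (42, 4, 42), (41, 6, 43), (43, 5, 42), (44, 5, 41), (49, 3, 41), (50, 3, 40), (51, 3, 39), (47, 6, 42), (49, 5, 41), (50, 5, 40), (52, 4, 40), (53, 4, 39), (54, 4,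 38), (62, 2, 39), (63, 2, 38), (64, 2, 37), (65, 2, 36), (57, 6, 41), (59, 5, 40), (60, 5, 39), (62, 4, 39), (63, 4, 38), (64, 4, 37), (66, 3, 38), (67, 3, 37), (68, 3, 36), (69, 3, 35), (88, 0, 37), (89, 0, 36), (90, 0, 35), (91, 0, 34), (92, 0, 33), (99, 0, 36), (100, 0, 35), (101, 0, 34), (102, 0, 33), (103, 0, 32), (104, 0, 31), (162, 0, 30), (79, 6, 40), (81, 5, 39), (82, 5, 38), (84, 4, 38), (85, 4, 37), (86, 4, 36), (88, 3, 37), (89, 3, 36), (90, 3, 35), (91, 3, 34), (93, 2, 36), (94, 2, 35), (95, 2, 34), (96, 2, 33), (97, 2, 32), (105, 1, 35), (106, 1, 34), (107, 1, 33), (108, 1, 32), (109, 1, 31), (141, 1, 30), (105, 2, 35), (106, 2, 34), (107, 2, 33), (108, 2, 32), (109, 2, 31), (135, 2, 30), (110, 3, 34), (111, 3, 33), (112, 3, 32), (113, 3, 31), (130, 3, 30), (114,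 4, 33), (115, 4, 32), (116, 4, 31), (126, 4, 30), (117, 5, 32), (118, 5, 31), (123, 5, 30), (119, 6, 31), (121, 6, 30), (120, 7, 30), (122, 6, 29), (122, 7, 29), (125, 5, 28), (124, 6, 29), (125, 7, 28), (129, 4, 27), (127, 5, 29), (128, 6, 28), (129, 7, 27), (134, 3, 26), (131, 4, 29), (132, 5, 28), (133, 6, 27), (134, 7, 26), (140, 2, 25), (136, 3, 29), (137, 4, 28), (138, 5, 27), (139, 6, 26), (140, 7, 25), (151, 1, 24), (142, 3, 29), (143, 4, 28), (144, 5, 27), (145, 6, 26), (146, 7, 25), (151, 2, 24), (148, 4, 27), (149, 5, 26), (150, 6, 25), (151, 7, 24), (155, 3, 23), (153, 5, 25), (154, 6, 24), (155, 7, 23), (158, 4, 22), (157, 6, 23), (158, 7, 22), (160, 5, 21), (160, 7, 21), (161, 6, 20), (183, 0, 19), (163, 2, 29), (164, 3, 28), (165, 4, 27), (166, 5, 26), (167, 6,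 25), (168, 7, 24), (173, 1, 23), (170, 4, 26), (171, 5, 25), (172, 6, 24), (173, 7, 23), (177, 3, 22), (175, 5, 24), (176, 6, 23), (177, 7, 22), (180, 4, 21), (179, 6, 22), (180, 7, 21), (182, 5, 20), (182, 7, 20), (183, 6, 19), (193, 2, 18), (185, 5, 23), (186, 6, 22), (187, 7, 21), (190, 4, 20), (189, 6, 21), (190, 7, 20), (192, 5, 19), (192, 7, 19), (193, 6, 18), (199, 3, 17), (195, 6, 20), (196, 7, 19), (198, 5, 18), (198, 7, 18), (199, 6, 17), (202, 4, 16), (201, 7, 17), (202, 6, 16), (203, 5, 15), (213, 1, 14), (205, 6, 19), (206, 7, 18), (208, 5, 17), (208, 7, 17), (209, 6, 16), (212, 4, 15), (211, 7, 16), (212, 6, 15), (213, 5, 14), (217, 3, 13), (215, 7, 15), (216, 6, 14), (217, 5, 13), (218, 4, 12), (223, 2, 11), (220, 7, 14), (221, 6, 13), (222, 5, 12), (223, 4, 11),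 (224, 3, 10), (231, 0, 9), (233, 0, 8), (227, 7, 13), (228, 6, 12), (229, 5, 11), (230, 4, 10), (231, 3, 9), (232, 2, 8), (234, 1, 7), (234, 2, 7), (235, 3, 6), (236, 4, 5), (237, 5, 4), (238, 6, 3), (239, 7, 2), (0, 0, 1)]

theorem bd0 : ∀ x < 240, dpOf tab0 x ≤ 58 := by decide +kernel

theorem cs0 : (List.range 58).map (cnt 240 tab0) = [1, 1, 1, 1, 1, 1, 2, 2, 2, 2, 3, 3, 4, 4, 4, 4, 5, 5, 6, 6, 6, 6, 7, 7, 7, 7, 7, 7, 8, 8, 7, 7, 7, 7, 7, 7, 6, 6, 6, 6, 5, 5, 4, 4, 4, 4, 3, 3, 2, 2, 2, 2, 1, 1, 1, 1, 1, 1] := by decide +kernel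

def tab1 : List (ℕ × ℕ × ℕ) := [(0, 0, 0), (0, 0, 0), (0, 0, 0), (0, 0, 0), (0, 0, 0), (0, 0, 0), (0, 0, 0), (0, 0, 0), (0, 0, 0), (0, 0, 0), (0, 0, 0), (0, 0, 0), (0, 0, 0), (20, 0, 34), (0, 0, 0), (0, 0, 0), (0, 0, 0), (0, 0, 0), (0, 0, 0), (0, 0, 0), (25, 2, 33), (0, 0, 0), (0, 0, 0), (0, 0, 0), (0, 0, 0), (29, 3, 32), (0, 0, 0), (0, 0, 0), (0, 0, 0), (32, 4, 31), (0, 0, 0), (0, 0, 0), (34, 5, 30), (0, 0, 0), (44, 1, 29), (45, 1, 28), (0, 0, 0), (0, 0, 0), (0, 0, 0), (42, 4, 30), (0, 0, 0), (0, 0, 0), (44, 5, 29), (0, 0, 0), (50, 3, 28), (51, 3, 27), (0, 0, 0), (0, 0, 0), (50, 5, 28), (0, 0, 0), (53, 4, 27), (54, 4, 26), (0, 0, 0), (63, 2, 26), (64, 2, 25), (65, 2, 24), (0, 0, 0), (0, 0, 0), (60, 5, 27), (0, 0, 0), (63, 4, 26), (64, 4, 25), (0, 0, 0), (67, 3, 25), (68, 3,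 24), (69, 3, 23), (0, 0, 0), (89, 0, 24), (90, 0, 23), (91, 0, 22), (92, 0, 21), (0, 0, 0), (100, 0, 23), (101, 0, 22), (102, 0, 21), (103, 0, 20), (104, 0, 19), (162, 0, 18), (0, 0, 0), (0, 0, 0), (82, 5, 26), (0, 0, 0), (85, 4, 25), (86, 4, 24), (0, 0, 0), (89, 3, 24), (90, 3, 23), (91, 3, 22), (0, 0, 0), (94, 2, 23), (95, 2, 22), (96, 2, 21), (97, 2, 20), (0, 0, 0), (106, 1, 22), (107, 1, 21), (108, 1, 20), (109, 1, 19), (141, 1, 18), (0, 0, 0), (106, 2, 22), (107, 2, 21), (108, 2, 20), (109, 2, 19), (135, 2, 18), (0, 0, 0), (111, 3, 21), (112, 3, 20), (113, 3, 19), (130, 3, 18), (0, 0, 0), (115, 4, 20), (116, 4, 19), (126, 4, 18), (0, 0, 0), (118, 5, 19), (123, 5, 18), (0, 0, 0), (121, 6, 18), (0, 0, 0), (0, 0, 0), (124, 5, 17), (0, 0, 0), (124, 6, 17), (128, 4, 16), (0,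 0, 0), (127, 5, 17), (128, 6, 16), (133, 3, 15), (0, 0, 0), (131, 4, 17), (132, 5, 16), (133, 6, 15), (139, 2, 14), (0, 0, 0), (136, 3, 17), (137, 4, 16), (138, 5, 15), (139, 6, 14), (150, 1, 13), (0, 0, 0), (142, 3, 17), (143, 4, 16), (144, 5, 15), (145, 6, 14), (150, 2, 13), (0, 0, 0), (148, 4, 15), (149, 5, 14), (150, 6, 13), (154, 3, 12), (0, 0, 0), (153, 5, 13), (154, 6, 12), (157, 4, 11), (0, 0, 0), (157, 6, 11), (159, 5, 10), (0, 0, 0), (181, 0, 9), (0, 0, 0), (0, 0, 0), (163, 2, 17), (164, 3, 16), (165, 4, 15), (166, 5, 14), (167, 6, 13), (172, 1, 12), (0, 0, 0), (170, 4, 14), (171, 5, 13), (172, 6, 12), (176, 3, 11), (0, 0, 0), (175, 5, 12), (176, 6, 11), (179, 4, 10), (0, 0, 0), (179, 6, 10), (181, 5, 9), (0, 0, 0), (191, 2, 8), (0, 0, 0), (0, 0, 0), (185, 5, 11), (186,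 6, 10), (189, 4, 9), (0, 0, 0), (189, 6, 9), (191, 5, 8), (0, 0, 0), (197, 3, 7), (0, 0, 0), (0, 0, 0), (195, 6, 8), (197, 5, 7), (0, 0, 0), (200, 4, 6), (0, 0, 0), (0, 0, 0), (210, 1, 5), (0, 0, 0), (0, 0, 0), (0, 0, 0), (205, 6, 7), (207, 5, 6), (0, 0, 0), (210, 4, 5), (0, 0, 0), (0, 0, 0), (214, 3, 4), (0, 0, 0), (0, 0, 0), (0, 0, 0), (219, 2, 3), (0, 0, 0), (0, 0, 0), (0, 0, 0), (0, 0, 0), (226, 0, 2), (0, 0, 0), (0, 0, 0), (0, 0, 0), (0, 0, 0), (0, 0, 0), (0, 0, 0), (0, 0, 1), (0, 0, 0), (0, 0, 0), (0, 0, 0), (0, 0, 0), (0, 0, 0), (0, 0, 0), (0, 0, 0), (0, 0, 0), (0, 0, 0), (0, 0, 0), (0, 0, 0), (0, 0, 0), (0, 0, 0)]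

theorem bd1 : ∀ x < 240, dpOf tab1 x ≤ 34 := by decide +kernel

theorem cs1 : (List.range 34).map (cnt 240 tab1) = [1, 1, 1, 1, 2, 2, 3, 3, 4, 4, 5, 5, 6, 6, 6, 6, 7, 7, 6, 6, 6, 6, 5, 5, 4, 4, 3, 3, 2, 2, 1, 1, 1, 1] := by decide +kernel

def tab2 : List (ℕ × ℕ × ℕ) := [(0, 0, 0), (0, 0, 0), (0, 0, 0), (0, 0, 0), (0, 0, 0), (0, 0, 0), (0, 0, 0), (0, 0, 0), (0, 0, 0), (0, 0, 0), (0, 0, 0), (0, 0, 0), (0, 0, 0), (0, 0, 0), (0, 0, 0), (0, 0, 0), (0, 0, 0), (0, 0, 0), (0, 0, 0), (0, 0, 0), (0, 0, 0), (0, 0, 0), (0, 0, 0), (0, 0, 0), (0, 0, 0), (0, 0, 0), (0, 0, 0), (0, 0, 0), (0, 0, 0), (0, 0, 0), (0, 0, 0), (0, 0, 0), (0, 0, 0), (0, 0, 0), (0, 0, 0), (0, 0, 0), (0, 0, 0), (0, 0, 0), (0, 0, 0), (0, 0, 0), (0, 0, 0), (0, 0, 0), (0, 0, 0), (0, 0, 0), (0, 0, 0), (0, 0, 0), (0, 0,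 0), (0, 0, 0), (0, 0, 0), (0, 0, 0), (0, 0, 0), (0, 0, 0), (0, 0, 0), (0, 0, 0), (0, 0, 0), (0, 0, 0), (0, 0, 0), (0, 0, 0), (0, 0, 0), (0, 0, 0), (0, 0, 0), (0, 0, 0), (0, 0, 0), (0, 0, 0), (0, 0, 0), (0, 0, 0), (0, 0, 0), (0, 0, 0), (0, 0, 0), (0, 0, 0), (0, 0, 0), (0, 0, 0), (0, 0, 0), (0, 0, 0), (0, 0, 0), (0, 0, 0), (0, 0, 0), (0, 0, 0), (0, 0, 0), (0, 0, 0), (82, 5, 18), (0, 0, 0), (85, 4, 17), (86, 4, 16), (0, 0, 0), (89, 3, 16), (90, 3, 15), (91, 3, 14), (0, 0, 0), (94, 2, 15), (95, 2, 14), (96, 2, 13), (97, 2, 12), (0, 0, 0), (106, 1, 14), (107, 1, 13), (108, 1, 12), (109, 1, 11), (141, 1, 10), (0, 0, 0), (106, 2, 14), (107, 2, 13), (108, 2, 12), (109, 2, 11), (135, 2, 10), (0, 0, 0), (111, 3, 13), (112, 3, 12), (113, 3, 11), (130, 3, 10), (0, 0, 0), (115, 4, 12), (116,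 4, 11), (126, 4, 10), (0, 0, 0), (118, 5, 11), (123, 5, 10), (0, 0, 0), (121, 6, 10), (0, 0, 0), (0, 0, 0), (124, 5, 9), (0, 0, 0), (124, 6, 9), (128, 4, 8), (0, 0, 0), (127, 5, 9), (128, 6, 8), (133, 3, 7), (0, 0, 0), (131, 4, 9), (132, 5, 8), (133, 6, 7), (139, 2, 6), (0, 0, 0), (136, 3, 9), (137, 4, 8), (138, 5, 7), (139, 6, 6), (150, 1, 5), (0, 0, 0), (142, 3, 9), (143, 4, 8), (144, 5, 7), (145, 6, 6), (150, 2, 5), (0, 0, 0), (148, 4, 7), (149, 5, 6), (150, 6, 5), (154, 3, 4), (0, 0, 0), (153, 5, 5), (154, 6, 4), (157, 4, 3), (0, 0, 0), (157, 6, 3), (159, 5, 2), (0, 0, 0), (0, 0, 1), (0, 0, 0), (0, 0, 0), (0, 0, 0), (0, 0, 0), (0, 0, 0), (0, 0, 0), (0, 0, 0), (0, 0, 0), (0, 0, 0), (0, 0, 0), (0, 0, 0), (0, 0, 0), (0, 0, 0), (0, 0, 0), (0, 0, 0), (0, 0, 0), (0, 0, 0), (0,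 0, 0), (0, 0, 0), (0, 0, 0), (0, 0, 0), (0, 0, 0), (0, 0, 0), (0, 0, 0), (0, 0, 0), (0, 0, 0), (0, 0, 0), (0, 0, 0), (0, 0, 0), (0, 0, 0), (0, 0, 0), (0, 0, 0), (0, 0, 0), (0, 0, 0), (0, 0, 0), (0, 0, 0), (0, 0, 0), (0, 0, 0), (0, 0, 0), (0, 0, 0), (0, 0, 0), (0, 0, 0), (0, 0, 0), (0, 0, 0), (0, 0, 0), (0, 0, 0), (0, 0, 0), (0, 0, 0), (0, 0, 0), (0, 0, 0), (0, 0, 0), (0, 0, 0), (0, 0, 0), (0, 0, 0), (0, 0, 0), (0, 0, 0), (0, 0, 0), (0, 0, 0), (0, 0, 0), (0, 0, 0), (0, 0, 0), (0, 0, 0), (0, 0, 0), (0, 0, 0), (0, 0, 0), (0, 0, 0), (0, 0, 0), (0, 0, 0), (0, 0, 0), (0, 0, 0), (0, 0, 0), (0, 0, 0), (0, 0, 0), (0, 0, 0), (0, 0, 0), (0, 0, 0), (0, 0, 0), (0, 0, 0), (0, 0, 0), (0, 0, 0)]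

theorem bd2 : ∀ x < 240, dpOf tab2 x ≤ 18 := by decide +kernel

theorem cs2 : (List.range 18).map (cnt 240 tab2) = [1, 1, 2, 2, 4, 4, 5, 5, 6, 6, 5, 5, 4, 4, 2, 2, 1, 1] := by decide +kernel

def tab3 : List (ℕ × ℕ × ℕ) := [(0, 0, 0), (0, 0, 0), (0, 0, 0), (0, 0, 0), (0, 0, 0), (0, 0, 0), (0, 0, 0), (0, 0, 0), (0, 0, 0), (0, 0, 0), (0, 0, 0), (0, 0, 0), (0, 0, 0), (0, 0, 0), (0, 0, 0), (0, 0, 0), (0, 0, 0), (0, 0, 0), (19, 6, 8), (24, 2, 7), (0, 0, 0), (0, 0, 0), (0, 0, 0), (24, 6, 7), (28, 3, 6), (0, 0, 0), (0, 0, 0), (28, 6, 6), (31, 4, 5), (0, 0, 0), (31, 6, 5), (41, 1, 4), (0, 0, 0), (0, 0, 0), (0, 0, 0), (0, 0, 0), (0, 0, 0), (38, 6, 5), (41, 4, 4), (0, 0, 0), (41, 6, 4), (47, 3, 3), (0, 0, 0), (0, 0, 0), (0, 0, 0), (0, 0, 0), (47, 6, 3), (57, 2, 2), (0, 0, 0), (0, 0, 0),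 (0, 0, 0), (0, 0, 0), (0, 0, 0), (0, 0, 0), (0, 0, 0), (0, 0, 0), (57, 6, 2), (0, 0, 1), (0, 0, 0), (0, 0, 0), (0, 0, 0), (0, 0, 0), (0, 0, 0), (0, 0, 0), (0, 0, 0), (0, 0, 0), (0, 0, 0), (0, 0, 0), (0, 0, 0), (0, 0, 0), (0, 0, 0), (0, 0, 0), (0, 0, 0), (0, 0, 0), (0, 0, 0), (0, 0, 0), (0, 0, 0), (0, 0, 0), (0, 0, 0), (0, 0, 0), (0, 0, 0), (0, 0, 0), (0, 0, 0), (0, 0, 0), (0, 0, 0), (0, 0, 0), (0, 0, 0), (0, 0, 0), (0, 0, 0), (0, 0, 0), (0, 0, 0), (0, 0, 0), (0, 0, 0), (0, 0, 0), (0, 0, 0), (0, 0, 0), (0, 0, 0), (0, 0, 0), (0, 0, 0), (0, 0, 0), (0, 0, 0), (0, 0, 0), (0, 0, 0), (0, 0, 0), (0, 0, 0), (0, 0, 0), (0, 0, 0), (0, 0, 0), (0, 0, 0), (0, 0, 0), (0, 0, 0), (0, 0, 0), (0, 0, 0), (0, 0, 0), (0, 0, 0), (0, 0, 0), (0, 0, 0), (0, 0, 0), (0, 0, 0), (0, 0, 0), (0, 0, 0), (0,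 0, 0), (0, 0, 0), (0, 0, 0), (0, 0, 0), (0, 0, 0), (0, 0, 0), (0, 0, 0), (0, 0, 0), (0, 0, 0), (0, 0, 0), (0, 0, 0), (0, 0, 0), (0, 0, 0), (0, 0, 0), (0, 0, 0), (0, 0, 0), (0, 0, 0), (0, 0, 0), (0, 0, 0), (0, 0, 0), (0, 0, 0), (0, 0, 0), (0, 0, 0), (0, 0, 0), (0, 0, 0), (0, 0, 0), (0, 0, 0), (0, 0, 0), (0, 0, 0), (0, 0, 0), (0, 0, 0), (0, 0, 0), (0, 0, 0), (0, 0, 0), (0, 0, 0), (0, 0, 0), (0, 0, 0), (0, 0, 0), (0, 0, 0), (0, 0, 0), (0, 0, 0), (0, 0, 0), (0, 0, 0), (0, 0, 0), (0, 0, 0), (0, 0, 0), (0, 0, 0), (0, 0, 0), (0, 0, 0), (0, 0, 0), (0, 0, 0), (0, 0, 0), (0, 0, 0), (0, 0, 0), (0, 0, 0), (0, 0, 0), (0, 0, 0), (0, 0, 0), (0, 0, 0), (0, 0, 0), (0, 0, 0), (0, 0, 0), (0, 0, 0), (0, 0, 0), (0, 0, 0), (0, 0, 0), (0, 0, 0), (0, 0, 0), (0, 0, 0), (0, 0, 0), (0, 0, 0), (0, 0, 0),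 (0, 0, 0), (0, 0, 0), (0, 0, 0), (0, 0, 0), (0, 0, 0), (0, 0, 0), (0, 0, 0), (0, 0, 0), (0, 0, 0), (0, 0, 0), (0, 0, 0), (0, 0, 0), (0, 0, 0), (0, 0, 0), (0, 0, 0), (0, 0, 0), (0, 0, 0), (0, 0, 0), (0, 0, 0), (0, 0, 0), (0, 0, 0), (0, 0, 0), (0, 0, 0), (0, 0, 0), (0, 0, 0), (0, 0, 0), (0, 0, 0), (0, 0, 0), (0, 0, 0), (0, 0, 0), (0, 0, 0), (0, 0, 0), (0, 0, 0), (0, 0, 0), (0, 0, 0), (0, 0, 0), (0, 0, 0), (0, 0, 0), (0, 0, 0), (0, 0, 0), (0, 0, 0), (0, 0, 0), (0, 0, 0), (0, 0, 0), (0, 0, 0), (0, 0, 0), (0, 0, 0)]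

theorem bd3 : ∀ x < 240, dpOf tab3 x ≤ 8 := by decide +kernel

theorem cs3 : (List.range 8).map (cnt 240 tab3) = [1, 2, 2, 3, 3, 2, 2, 1] := by decide +kernel

def tab4 : List (ℕ × ℕ × ℕ) := [(0, 0, 0), (0, 0, 0), (0, 0, 0), (0, 0, 0), (0, 0, 0), (0, 0, 0), (0, 0, 0), (0, 0, 0), (0, 0, 0), (0, 0, 0), (0, 0, 0), (0, 0, 0), (0, 0, 0), (0, 0, 0), (0, 0, 0), (0, 0, 0), (0, 0, 0), (0, 0, 0), (0, 0, 0), (0, 0, 0), (0, 0, 0), (0, 0, 0), (0, 0, 0), (0, 0, 0), (0, 0, 0), (0, 0, 0), (0, 0, 0), (0, 0, 0), (0, 0, 0), (0, 0, 0), (0, 0, 0), (0, 0, 0), (0, 0, 0), (0, 0, 0), (0, 0, 0), (0, 0, 0), (0, 0, 0), (0, 0, 0), (0, 0, 0), (0, 0, 0), (0, 0, 0), (0, 0, 0), (0, 0, 0), (0, 0, 0), (0, 0, 0), (0, 0, 0), (0, 0, 0), (0, 0, 0), (0, 0, 0), (0, 0, 0), (0, 0, 0), (0, 0, 0), (0, 0, 0), (0, 0, 0),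 (0, 0, 0), (0, 0, 0), (0, 0, 0), (0, 0, 0), (0, 0, 0), (0, 0, 0), (0, 0, 0), (0, 0, 0), (0, 0, 0), (0, 0, 0), (0, 0, 0), (0, 0, 0), (0, 0, 0), (0, 0, 0), (0, 0, 0), (0, 0, 0), (0, 0, 0), (0, 0, 0), (0, 0, 0), (0, 0, 0), (0, 0, 0), (0, 0, 0), (0, 0, 0), (0, 0, 0), (0, 0, 0), (0, 0, 0), (0, 0, 0), (0, 0, 0), (0, 0, 0), (0, 0, 0), (0, 0, 0), (0, 0, 0), (0, 0, 0), (0, 0, 0), (0, 0, 0), (0, 0, 0), (0, 0, 0), (0, 0, 0), (0, 0, 0), (0, 0, 0), (0, 0, 0), (0, 0, 0), (108, 1, 6), (109, 1, 5), (141, 1, 4), (0, 0, 0), (0, 0, 0), (0, 0, 0), (0, 0, 0), (0, 0, 0), (0, 0, 0), (0, 0, 0), (0, 0, 0), (0, 0, 0), (113, 3, 5), (130, 3, 4), (0, 0, 0), (0, 0, 0), (0, 0, 0), (126, 4, 4), (0, 0, 0), (0, 0, 0), (0, 0, 0), (0, 0, 0), (0, 0, 0), (0, 0, 0), (0, 0, 0), (0, 0, 0), (0, 0, 0), (0, 0, 0), (0,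 0, 0), (0, 0, 0), (131, 3, 3), (0, 0, 0), (0, 0, 0), (0, 0, 0), (131, 4, 3), (143, 1, 2), (0, 0, 0), (0, 0, 0), (0, 0, 0), (0, 0, 0), (0, 0, 0), (0, 0, 0), (0, 0, 0), (0, 0, 0), (0, 0, 0), (142, 3, 3), (143, 4, 2), (0, 0, 1), (0, 0, 0), (0, 0, 0), (0, 0, 0), (0, 0, 0), (0, 0, 0), (0, 0, 0), (0, 0, 0), (0, 0, 0), (0, 0, 0), (0, 0, 0), (0, 0, 0), (0, 0, 0), (0, 0, 0), (0, 0, 0), (0, 0, 0), (0, 0, 0), (0, 0, 0), (0, 0, 0), (0, 0, 0), (0, 0, 0), (0, 0, 0), (0, 0, 0), (0, 0, 0), (0, 0, 0), (0, 0, 0), (0, 0, 0), (0, 0, 0), (0, 0, 0), (0, 0, 0), (0, 0, 0), (0, 0, 0), (0, 0, 0), (0, 0, 0), (0, 0, 0), (0, 0, 0), (0, 0, 0), (0, 0, 0), (0, 0, 0), (0, 0, 0), (0, 0, 0), (0, 0, 0), (0, 0, 0), (0, 0, 0), (0, 0, 0), (0, 0, 0), (0, 0, 0), (0, 0, 0), (0, 0, 0), (0, 0, 0), (0, 0, 0), (0, 0, 0),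 (0, 0, 0), (0, 0, 0), (0, 0, 0), (0, 0, 0), (0, 0, 0), (0, 0, 0), (0, 0, 0), (0, 0, 0), (0, 0, 0), (0, 0, 0), (0, 0, 0), (0, 0, 0), (0, 0, 0), (0, 0, 0), (0, 0, 0), (0, 0, 0), (0, 0, 0), (0, 0, 0), (0, 0, 0), (0, 0, 0), (0, 0, 0), (0, 0, 0), (0, 0, 0), (0, 0, 0), (0, 0, 0), (0, 0, 0), (0, 0, 0), (0, 0, 0), (0, 0, 0), (0, 0, 0), (0, 0, 0), (0, 0, 0), (0, 0, 0), (0, 0, 0), (0, 0, 0), (0, 0, 0), (0, 0, 0), (0, 0, 0), (0, 0, 0), (0, 0, 0), (0, 0, 0), (0, 0, 0), (0, 0, 0), (0, 0, 0), (0, 0, 0)]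

theorem bd4 : ∀ x < 240, dpOf tab4 x ≤ 6 := by decide +kernel

theorem cs4 : (List.range 6).map (cnt 240 tab4) = [1, 2, 3, 3, 2, 1] := by decide +kernel

def tab5 : List (ℕ × ℕ × ℕ) := [(0, 0, 0), (0, 0, 0), (0, 0, 0), (0, 0, 0), (5, 3, 2), (0, 0, 1), (0, 0, 0), (0, 0, 0), (0, 0, 0), (0, 0, 0), (0, 0, 0), (0, 0, 0), (0, 0, 0), (0, 0, 0), (0, 0, 0), (0, 0, 0), (0, 0, 0), (0, 0, 0), (0, 0, 0), (0, 0, 0), (0, 0, 0), (0, 0, 0), (0, 0, 0), (0, 0, 0), (0, 0, 0), (0, 0, 0), (0, 0, 0), (0, 0, 0), (0, 0, 0), (0, 0, 0), (0, 0, 0), (0, 0, 0), (0, 0, 0), (0, 0, 0), (0, 0, 0), (0, 0, 0), (0, 0, 0), (0, 0, 0), (0, 0, 0), (0, 0, 0), (0, 0, 0), (0, 0, 0), (0, 0, 0), (0, 0, 0), (0, 0, 0), (0, 0, 0), (0, 0, 0), (0, 0, 0), (0, 0, 0), (0, 0, 0), (0, 0, 0), (0, 0, 0), (0, 0, 0), (0, 0, 0), (0, 0,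 0), (0, 0, 0), (0, 0, 0), (0, 0, 0), (0, 0, 0), (0, 0, 0), (0, 0, 0), (0, 0, 0), (0, 0, 0), (0, 0, 0), (0, 0, 0), (0, 0, 0), (0, 0, 0), (0, 0, 0), (0, 0, 0), (0, 0, 0), (0, 0, 0), (0, 0, 0), (0, 0, 0), (0, 0, 0), (0, 0, 0), (0, 0, 0), (0, 0, 0), (0, 0, 0), (0, 0, 0), (0, 0, 0), (0, 0, 0), (0, 0, 0), (0, 0, 0), (0, 0, 0), (0, 0, 0), (0, 0, 0), (0, 0, 0), (0, 0, 0), (0, 0, 0), (0, 0, 0), (0, 0, 0), (0, 0, 0), (0, 0, 0), (0, 0, 0), (0, 0, 0), (0, 0, 0), (0, 0, 0), (0, 0, 0), (0, 0, 0), (0, 0, 0), (0, 0, 0), (0, 0, 0), (0, 0, 0), (0, 0, 0), (0, 0, 0), (0, 0, 0), (0, 0, 0), (0, 0, 0), (0, 0, 0), (0, 0, 0), (0, 0, 0), (0, 0, 0), (0, 0, 0), (0, 0, 0), (0, 0, 0), (0, 0, 0), (0, 0, 0), (0, 0, 0), (0, 0, 0), (0, 0, 0), (0, 0, 0), (0, 0, 0), (0, 0, 0), (0, 0, 0), (0, 0, 0), (0, 0, 0), (0,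 0, 0), (0, 0, 0), (0, 0, 0), (0, 0, 0), (0, 0, 0), (0, 0, 0), (0, 0, 0), (0, 0, 0), (0, 0, 0), (0, 0, 0), (0, 0, 0), (0, 0, 0), (0, 0, 0), (0, 0, 0), (0, 0, 0), (0, 0, 0), (0, 0, 0), (0, 0, 0), (0, 0, 0), (0, 0, 0), (0, 0, 0), (0, 0, 0), (0, 0, 0), (0, 0, 0), (0, 0, 0), (0, 0, 0), (0, 0, 0), (0, 0, 0), (0, 0, 0), (0, 0, 0), (0, 0, 0), (0, 0, 0), (0, 0, 0), (0, 0, 0), (0, 0, 0), (0, 0, 0), (0, 0, 0), (0, 0, 0), (0, 0, 0), (0, 0, 0), (0, 0, 0), (0, 0, 0), (0, 0, 0), (0, 0, 0), (0, 0, 0), (0, 0, 0), (0, 0, 0), (0, 0, 0), (0, 0, 0), (0, 0, 0), (0, 0, 0), (0, 0, 0), (0, 0, 0), (0, 0, 0), (0, 0, 0), (0, 0, 0), (0, 0, 0), (0, 0, 0), (0, 0, 0), (0, 0, 0), (0, 0, 0), (0, 0, 0), (0, 0, 0), (0, 0, 0), (0, 0, 0), (0, 0, 0), (0, 0, 0), (0, 0, 0), (0, 0, 0), (0, 0, 0), (0, 0, 0), (0, 0, 0),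 (0, 0, 0), (0, 0, 0), (0, 0, 0), (0, 0, 0), (0, 0, 0), (0, 0, 0), (0, 0, 0), (0, 0, 0), (0, 0, 0), (0, 0, 0), (0, 0, 0), (0, 0, 0), (0, 0, 0), (0, 0, 0), (0, 0, 0), (0, 0, 0), (0, 0, 0), (0, 0, 0), (0, 0, 0), (0, 0, 0), (0, 0, 0), (0, 0, 0), (0, 0, 0), (0, 0, 0), (0, 0, 0), (0, 0, 0), (0, 0, 0), (0, 0, 0), (0, 0, 0), (0, 0, 0), (0, 0, 0), (0, 0, 0), (0, 0, 0), (0, 0, 0), (0, 0, 0), (0, 0, 0), (0, 0, 0), (0, 0, 0), (0, 0, 0), (0, 0, 0), (0, 0, 0), (0, 0, 0)]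

theorem bd5 : ∀ x < 240, dpOf tab5 x ≤ 2 := by decide +kernel

theorem cs5 : (List.range 2).map (cnt 240 tab5) = [1, 1] := by decide +kernel

def steps : List (ℕ × List (ℕ × ℕ × ℕ)) := [(239, tab0), (226, tab1), (159, tab2), (57, tab3), (143, tab4), (5, tab5)]

theorem ch : chainCheck chevE8 wtE8 caE8 coE8 labs [] steps = true := by decide +kernel

theorem hm : chevE8 ∈ [chevG2, chevB2, chevD4, chevF4, chevE6, chevE7, chevE8] := by simp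

theorem chainPoly_eq (q : ℕ) : chainPoly chevE8.nroots steps q = evalH [1, 1, 1, 1, 1, 1, 2, 2, 2, 2, 3, 3, 4, 4, 4, 4, 5, 5, 6, 6, 6, 6, 7, 7, 7, 7, 7, 7, 8, 8, 7, 7, 7, 7, 7, 7, 6, 6, 6, 6, 5, 5, 4, 4, 4, 4, 3, 3, 2, 2, 2, 2, 1, 1, 1, 1, 1, 1] q * evalH [1, 1, 1, 1, 2, 2, 3, 3, 4, 4, 5, 5, 6, 6, 6, 6, 7, 7, 6, 6, 6, 6, 5, 5, 4, 4, 3, 3, 2, 2, 1, 1, 1, 1] q * evalH [1, 1, 2, 2, 4, 4, 5, 5, 6, 6, 5, 5, 4, 4, 2, 2, 1, 1] q * evalH [1, 2, 2, 3, 3, 2, 2, 1] q * evalH [1, 2, 3, 3, 2, 1] q * evalH [1, 1] q := by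
  have e : chainPoly chevE8.nroots steps q = polyOf 240 tab0 q * (polyOf 240 tab1 q * (polyOf 240 tab2 q * (polyOf 240 tab3 q * (polyOf 240 tab4 q * (polyOf 240 tab5 q * 1))))) := by
    rfl
  rw [e, polyOf_eq 240 58 tab0 bd0 q, cs0, polyOf_eq 240 34 tab1 bd1 q, cs1, polyOf_eq 240 18 tab2 bd2 q, cs2, polyOf_eq 240 8 tab3 bd3 q, cs3, polyOf_eq 240 6 tab4 bd4 q, cs4, polyOf_eq 240 2 tab5 bd5 q, cs5]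
  ring

theorem poly_id (q : ℕ) : ((evalH [1, 1, 1, 1, 1, 1, 2, 2, 2, 2, 3, 3, 4, 4, 4, 4, 5, 5, 6, 6, 6, 6, 7, 7, 7, 7, 7, 7, 8, 8, 7, 7, 7, 7, 7, 7, 6, 6, 6, 6, 5, 5, 4, 4, 4, 4, 3, 3, 2, 2, 2, 2, 1, 1, 1, 1, 1, 1] q : ℕ) : ℤ) * ((evalH [1, 1, 1, 1, 2, 2, 3, 3, 4, 4, 5, 5, 6, 6, 6, 6, 7, 7, 6, 6, 6, 6, 5, 5, 4, 4, 3, 3, 2, 2, 1, 1, 1, 1] q : ℕ) : ℤ) * ((evalH [1, 1, 2, 2, 4, 4, 5, 5, 6, 6, 5, 5, 4, 4, 2, 2, 1, 1] q : ℕ) : ℤ) * ((evalH [1, 2, 2, 3, 3, 2, 2, 1] q : ℕ) : ℤ) * ((evalH [1, 2, 3, 3, 2, 1] q : ℕ) : ℤ) * ((evalH [1, 1] q : ℕ) : ℤ) * ((q : ℤ) - 1) ^ 8 = ((q : ℤ) ^ 2 - 1) * ((q : ℤ) ^ 8 - 1) * ((q : ℤ) ^ 12 - 1) * ((q : ℤ) ^ 14 - 1) * ((q : ℤ) ^ 18 - 1) * ((q : ℤ) ^ 20 - 1) * ((q : ℤ) ^ 24 - 1) * ((q : ℤ) ^ 30 - 1) := by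
  simp only [evalH, List.foldr]
  push_cast
  ring

theorem poincareE8 (q : ℕ) [Fintype ↥(Wg chevE8 hm)] :
    ((∑ σ : ↥(Wg chevE8 hm), q ^ Nv (sgn chevE8 hm) (σ : Equiv.Perm (Fin chevE8.nroots)) : ℕ) : ℤ) * ((q : ℤ) - 1) ^ 8 = ((q : ℤ) ^ 2 - 1) * ((q : ℤ) ^ 8 - 1) * ((q : ℤ) ^ 12 - 1) * ((q : ℤ) ^ 14 - 1) * ((q : ℤ) ^ 18 - 1) * ((q : ℤ) ^ 20 - 1) * ((q : ℤ) ^ 24 - 1) * ((q : ℤ) ^ 30 - 1) := by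
  rw [poincare chevE8 hm wtE8 caE8 coE8 labs woE8 (pack_of_check _ _ _ pkE8) (lab_of_check _ _ _ woE8 lb) steps ch q, chainPoly_eq q]
  push_cast
  exact poly_id q

end Cfsg.Agent.Lib.Helper7.ChainE8
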