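import Cfsg.Agent.Lib.Helper7.ChevChain

set_option autoImplicit false
set_option maxRecDepth 1000000
set_option maxHeartbeats 4000000

namespace Cfsg.Agent.Lib.Helper7.ChainF4
open Cfsg.Lie Cfsg.Agent.Lib.Helper7.ChevW0 Cfsg.Agent.Lib.Helper7.W0All Cfsg.Agent.Lib.Helper7.ChevWPerm
  Cfsg.Agent.Lib.Helper7.WPermAll Cfsg.Agent.Lib.Helper7.ChevWGrp Cfsg.Agent.Lib.Helper7.ChevChain
  Cfsg.Agent.Lib.Helper7.PoinAbs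

def labs : List ℕ := [0, 0, 0, 1, 0, 0, 0, 1, 1, 1, 1, 1, 1, 1, 1, 0, 0, 0, 1, 1, 1, 0, 0, 0, 0, 0, 0, 1, 1, 1, 0, 0, 0, 1, 1, 1, 1, 1, 1, 1, 1, 0, 0, 0, 1, 0, 0, 0]

theorem lb : labCheck chevF4 wtF4 labs = true := by decide +kernel

def tab0 : List (ℕ × ℕ × ℕ) := [(0, 0, 0), (0, 0, 0), (0, 0, 0), (7, 0, 16), (0, 0, 0), (0, 0, 0), (0, 0, 0), (8, 1, 15), (9, 2, 14), (10, 3, 13), (12, 1, 12), (12, 3, 12), (13, 2, 11), (20, 0, 10), (33, 0, 9), (0, 0, 0), (0, 0, 0), (0, 0, 0), (19, 3, 11), (20, 2, 10), (27, 1, 9), (0, 0, 0), (0, 0, 0), (0, 0, 0), (0, 0, 0), (0, 0, 0), (0, 0, 0), (28, 2, 8), (29, 3, 7), (36, 0, 6), (0, 0, 0), (0, 0, 0), (0, 0, 0), (34, 1, 8), (35, 2, 7), (36, 3, 6), (38, 1, 5), (38, 3, 5), (39, 2, 4), (40, 1, 3), (44, 0, 2), (0, 0, 0), (0, 0, 0), (0, 0, 0), (0, 0, 1), (0, 0,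 0), (0, 0, 0), (0, 0, 0)]

theorem bd0 : ∀ x < 48, dpOf tab0 x ≤ 16 := by decide +kernel

theorem cs0 : (List.range 16).map (cnt 48 tab0) = [1, 1, 1, 1, 2, 2, 2, 2, 2, 2, 2, 2, 1, 1, 1, 1] := by decide +kernel

def tab1 : List (ℕ × ℕ × ℕ) := [(0, 0, 0), (0, 0, 0), (0, 0, 0), (0, 0, 0), (0, 0, 0), (0, 0, 0), (0, 0, 0), (0, 0, 0), (0, 0, 0), (0, 0, 0), (0, 0, 0), (0, 0, 0), (0, 0, 0), (0, 0, 0), (0, 0, 0), (16, 2, 8), (21, 1, 7), (22, 1, 6), (0, 0, 0), (0, 0, 0), (0, 0, 0), (23, 2, 6), (25, 2, 5), (24, 3, 5), (26, 2, 4), (26, 3, 4), (31, 1, 3), (0, 0, 0), (0, 0, 0), (0, 0, 0), (31, 3, 3), (32, 2, 2), (0, 0, 1), (0, 0, 0), (0, 0, 0), (0, 0, 0), (0, 0, 0), (0, 0, 0), (0, 0, 0), (0, 0, 0), (0, 0, 0), (0, 0, 0), (0, 0, 0), (0, 0, 0), (0, 0, 0), (0, 0, 0), (0, 0, 0), (0, 0, 0)]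

theorem bd1 : ∀ x < 48, dpOf tab1 x ≤ 8 := by decide +kernel

theorem cs1 : (List.range 8).map (cnt 48 tab1) = [1, 1, 2, 2, 2, 2, 1, 1] := by decide +kernel

def tab2 : List (ℕ × ℕ × ℕ) := [(0, 0, 0), (0, 0, 0), (0, 0, 0), (0, 0, 0), (0, 0, 0), (0, 0, 0), (0, 0, 0), (0, 0, 0), (0, 0, 0), (10, 3, 3), (12, 1, 2), (12, 3, 2), (0, 0, 1), (0, 0, 0), (0, 0, 0), (0, 0, 0), (0, 0, 0), (0, 0, 0), (0, 0, 0), (0, 0, 0), (0, 0, 0), (0, 0, 0), (0, 0, 0), (0, 0, 0), (0, 0, 0), (0, 0, 0), (0, 0, 0), (0, 0, 0), (0, 0, 0), (0, 0, 0), (0, 0, 0), (0, 0, 0), (0, 0, 0), (0, 0, 0), (0, 0, 0), (0, 0, 0), (0, 0, 0), (0, 0, 0), (0, 0, 0), (0, 0, 0), (0, 0, 0), (0, 0, 0), (0, 0, 0), (0, 0, 0), (0, 0, 0), (0, 0, 0), (0, 0, 0), (0, 0, 0)]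

theorem bd2 : ∀ x < 48, dpOf tab2 x ≤ 3 := by decide +kernel

theorem cs2 : (List.range 3).map (cnt 48 tab2) = [1, 2, 1] := by decide +kernel

def steps : List (ℕ × List (ℕ × ℕ × ℕ)) := [(44, tab0), (32, tab1), (12, tab2)]

theorem ch : chainCheck chevF4 wtF4 caF4 coF4 labs [] steps = true := by decide +kernel

theorem hm : chevF4 ∈ [chevG2, chevB2, chevD4, chevF4, chevE6, chevE7, chevE8] := by simp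

theorem chainPoly_eq (q : ℕ) : chainPoly chevF4.nroots steps q = evalH [1, 1, 1, 1, 2, 2, 2, 2, 2, 2, 2, 2, 1, 1, 1, 1] q * evalH [1, 1, 2, 2, 2, 2, 1, 1] q * evalH [1, 2, 1] q := by
  have e : chainPoly chevF4.nroots steps q = polyOf 48 tab0 q * (polyOf 48 tab1 q * (polyOf 48 tab2 q * 1)) := by
    rfl
  rw [e, polyOf_eq 48 16 tab0 bd0 q, cs0, polyOf_eq 48 8 tab1 bd1 q, cs1, polyOf_eq 48 3 tab2 bd2 q, cs2]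
  ring

theorem poly_id (q : ℕ) : ((evalH [1, 1, 1, 1, 2, 2, 2, 2, 2, 2, 2, 2, 1, 1, 1, 1] q : ℕ) : ℤ) * ((evalH [1, 1, 2, 2, 2, 2, 1, 1] q : ℕ) : ℤ) * ((evalH [1, 2, 1] q : ℕ) : ℤ) * ((q : ℤ) - 1) ^ 4 = ((q : ℤ) ^ 2 - 1) * ((q : ℤ) ^ 6 - 1) * ((q : ℤ) ^ 8 - 1) * ((q : ℤ) ^ 12 - 1) := by
  simp only [evalH, List.foldr]
  push_cast
  ring

theorem poincareF4 (q : ℕ) [Fintype ↥(Wg chevF4 hm)] :
    ((∑ σ : ↥(Wg chevF4 hm), q ^ Nv (sgn chevF4 hm) (σ : Equiv.Perm (Fin chevF4.nroots)) : ℕ) : ℤ) * ((q : ℤ) - 1) ^ 4 = ((q : ℤ) ^ 2 - 1) * ((q : ℤ) ^ 6 - 1) * ((q : ℤ) ^ 8 - 1) * ((q : ℤ) ^ 12 - 1) := by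
  rw [poincare chevF4 hm wtF4 caF4 coF4 labs woF4 (pack_of_check _ _ _ pkF4) (lab_of_check _ _ _ woF4 lb) steps ch q, chainPoly_eq q]
  push_cast
  exact poly_id q

end Cfsg.Agent.Lib.Helper7.ChainF4
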