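import Cfsg.Agent.Lib.Helper7.ChevChain

set_option autoImplicit false
set_option maxRecDepth 1000000
set_option maxHeartbeats 4000000

namespace Cfsg.Agent.Lib.Helper7.ChainG2
open Cfsg.Lie Cfsg.Agent.Lib.Helper7.ChevW0 Cfsg.Agent.Lib.Helper7.W0All Cfsg.Agent.Lib.Helper7.ChevWPerm
  Cfsg.Agent.Lib.Helper7.WPermAll Cfsg.Agent.Lib.Helper7.ChevWGrp Cfsg.Agent.Lib.Helper7.ChevChain
  Cfsg.Agent.Lib.Helper7.PoinAbs

def labs : List ℕ := [0, 0, 1, 1, 1, 0, 0, 1, 1, 1, 0, 0]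

theorem lb : labCheck chevG2 wtG2 labs = true := by decide +kernel

def tab0 : List (ℕ × ℕ × ℕ) := [(0, 0, 0), (0, 0, 0), (3, 0, 6), (4, 1, 5), (7, 0, 4), (0, 0, 0), (0, 0, 0), (8, 1, 3), (9, 0, 2), (0, 0, 1), (0, 0, 0), (0, 0, 0)]

theorem bd0 : ∀ x < 12, dpOf tab0 x ≤ 6 := by decide +kernel

theorem cs0 : (List.range 6).map (cnt 12 tab0) = [1, 1, 1, 1, 1, 1] := by decide +kernel

def tab1 : List (ℕ × ℕ × ℕ) := [(1, 1, 2), (0, 0, 1), (0, 0, 0), (0, 0, 0), (0, 0, 0), (0, 0, 0), (0, 0, 0), (0, 0, 0), (0, 0, 0), (0, 0, 0), (0, 0, 0), (0, 0, 0)]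

theorem bd1 : ∀ x < 12, dpOf tab1 x ≤ 2 := by decide +kernel

theorem cs1 : (List.range 2).map (cnt 12 tab1) = [1, 1] := by decide +kernel

def steps : List (ℕ × List (ℕ × ℕ × ℕ)) := [(9, tab0), (1, tab1)]

theorem ch : chainCheck chevG2 wtG2 caG2 coG2 labs [] steps = true := by decide +kernel

theorem hm : chevG2 ∈ [chevG2, chevB2, chevD4, chevF4, chevE6, chevE7, chevE8] := by simp

theorem chainPoly_eq (q : ℕ) : chainPoly chevG2.nroots steps q = evalH [1, 1, 1, 1, 1, 1] q * evalH [1, 1] q := by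
  have e : chainPoly chevG2.nroots steps q = polyOf 12 tab0 q * (polyOf 12 tab1 q * 1) := by
    rfl
  rw [e, polyOf_eq 12 6 tab0 bd0 q, cs0, polyOf_eq 12 2 tab1 bd1 q, cs1]
  ring

theorem poly_id (q : ℕ) : ((evalH [1, 1, 1, 1, 1, 1] q : ℕ) : ℤ) * ((evalH [1, 1] q : ℕ) : ℤ) * ((q : ℤ) - 1) ^ 2 = ((q : ℤ) ^ 2 - 1) * ((q : ℤ) ^ 6 - 1) := by
  simp only [evalH, List.foldr]
  push_cast
  ring

theorem poincareG2 (q : ℕ) [Fintype ↥(Wg chevG2 hm)] :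
    ((∑ σ : ↥(Wg chevG2 hm), q ^ Nv (sgn chevG2 hm) (σ : Equiv.Perm (Fin chevG2.nroots)) : ℕ) : ℤ) * ((q : ℤ) - 1) ^ 2 = ((q : ℤ) ^ 2 - 1) * ((q : ℤ) ^ 6 - 1) := by
  rw [poincare chevG2 hm wtG2 caG2 coG2 labs woG2 (pack_of_check _ _ _ pkG2) (lab_of_check _ _ _ woG2 lb) steps ch q, chainPoly_eq q]
  push_cast
  exact poly_id q

end Cfsg.Agent.Lib.Helper7.ChainG2
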