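import Cfsg.Agent.Lib.Helper7.ChevConjU
import Cfsg.Agent.S1024

set_option autoImplicit false

namespace Cfsg.Agent.Lib.Helper7.ChevAdd
open Cfsg.Lie Cfsg.Agent.Lib.Helper7.ChevEngine Cfsg.Agent.Lib.Helper7.ChevN
  Cfsg.Agent.Lib.Helper7.ChevConjT Cfsg.Agent.Lib.Helper7.ChevConjU

def addWordL (r : ℕ) : List (ℕ × Poly) := [(r, [(1, 1, 0)]), (r, [(1, 0, 1)])]

def addWordR (r : ℕ) : List (ℕ × Poly) := [(r, [(1, 1, 0), (1, 0, 1)])]

def addCheck (D : ChevalleyDatum) (r : ℕ) : Bool :=
  (List.range (D.rank + D.nroots)).all fun k =>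
    eqCheck D.rank D.nroots (fnsOf D) false (addWordL r) (addWordR r) k

theorem add_of_check {F : Type*} [Field F] (D : ChevalleyDatum) (r : ℕ) (h : addCheck D r = true) (a b : F) :
    D.x F r a * D.x F r b = D.x F r (a + b) := by
  have h1 := eqCheck_sound D.rank D.nroots (fnsOf D) false a b (fun hf => by simp at hf) (addWordL r) (addWordR r)
    (fun k hk => by
      unfold addCheck at h
      rw [List.all_eq_true] at h
      exact h k (List.mem_range.mpr hk))
  simp only [wM, addWordL, addWordR, List.map_cons, List.map_nil, List.prod_cons, List.prod_nil, mul_one,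
    eval_cons, eval_nil, evalM, Int.cast_one, one_mul, pow_one, pow_zero, add_zero] at h1
  rw [x_eq, x_eq, x_eq]
  exact h1

theorem x_zero {F : Type*} [Field F] (D : ChevalleyDatum) (r : ℕ) : D.x F r (0 : F) = 1 := by
  unfold ChevalleyDatum.x
  by_cases h : r < D.nroots
  · rw [dif_pos h]
    exact Cfsg.Agent.S1024.xMat_zero D ⟨r, h⟩
  · rw [dif_neg h]

def AddBase (D : ChevalleyDatum) : Prop :=
  ∀ j < D.rank, addCheck D (D.simple j) = true ∧ addCheck D (D.neg (D.simple j)) = true

theorem nMat_expand {F : Type*} [Field F] (D : ChevalleyDatum) (r : ℕ) (c : F) :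
    D.nMat F r c = D.x F r c * D.x F (D.neg r) (-c⁻¹) * D.x F r c := by
  unfold ChevalleyDatum.nMat ChevalleyDatum.nWord ChevalleyDatum.wordMat
  simp only [List.map_cons, List.map_nil, List.prod_cons, List.prod_nil, mul_one, mul_assoc]

theorem nMat_inv_of_add {F : Type*} [Field F] (D : ChevalleyDatum) (r : ℕ) (c : F) (hc : c ≠ 0)
    (h1 : ∀ a b : F, D.x F r a * D.x F r b = D.x F r (a + b))
    (h2 : ∀ a b : F, D.x F (D.neg r) a * D.x F (D.neg r) b = D.x F (D.neg r) (a + b)) :
    D.nMat F r (-c) * D.nMat F r c = 1 := by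
  rw [nMat_expand, nMat_expand]
  have e1 : -(-c)⁻¹ = c⁻¹ := by
    rw [inv_neg, neg_neg]
  rw [e1]
  calc D.x F r (-c) * D.x F (D.neg r) c⁻¹ * D.x F r (-c) * (D.x F r c * D.x F (D.neg r) (-c⁻¹) * D.x F r c)
      = D.x F r (-c) * D.x F (D.neg r) c⁻¹ * (D.x F r (-c) * D.x F r c) * D.x F (D.neg r) (-c⁻¹) * D.x F r c := by
        simp only [mul_assoc]
    _ = D.x F r (-c) * (D.x F (D.neg r) c⁻¹ * D.x F (D.neg r) (-c⁻¹)) * D.x F r c := by
        rw [h1, neg_add_cancel, x_zero, mul_one]
        simp only [mul_assoc]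
    _ = 1 := by
        rw [h2, add_neg_cancel, x_zero, mul_one, h1, neg_add_cancel, x_zero]

theorem add_all {F : Type*} [Field F] (D : ChevalleyDatum) (hC : ConjData D) (hA : AddBase D) :
    ∀ r < D.nroots, ∀ a b : F, D.x F r a * D.x F r b = D.x F r (a + b) := by
  obtain ⟨hc, LV, PI, hl⟩ := hC
  apply root_induction D LV PI hl (fun r => ∀ a b : F, D.x F r a * D.x F r b = D.x F r (a + b))
  · intro j hj
    exact add_of_check D _ (hA j hj).1
  · intro i hi r hr hwr ih a b
    obtain ⟨m, W, hn, -, hcj⟩ := hc i hi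
    have hinv : D.nMat F (D.simple i) (-1) * D.nMat F (D.simple i) 1 = 1 :=
      nMat_inv_of_add D (D.simple i) 1 one_ne_zero (add_of_check D _ (hA i hi).1) (add_of_check D _ (hA i hi).2)
    have hcx := conj_x (F := F) D i m W hn hcj r hr
    calc D.x F r a * D.x F r b
        = D.nMat F (D.simple i) (-1) * (D.nMat F (D.simple i) 1 * D.x F r a) * D.x F r b := by
          rw [← mul_assoc, hinv, one_mul]
      _ = D.nMat F (D.simple i) (-1) * (D.x F (D.reflectRoot i r) (((etaM m r : ℤ) : F) * a) *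
            D.x F (D.reflectRoot i r) (((etaM m r : ℤ) : F) * b)) * D.nMat F (D.simple i) 1 := by
          rw [hcx a]
          simp only [mul_assoc]
          rw [hcx b]
      _ = D.nMat F (D.simple i) (-1) * (D.nMat F (D.simple i) 1 * D.x F r (a + b)) := by
          rw [ih, ← mul_add, hcx (a + b)]
          simp only [mul_assoc]
      _ = D.x F r (a + b) := by
          rw [← mul_assoc, hinv, one_mul]

end Cfsg.Agent.Lib.Helper7.ChevAdd
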