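import Cfsg.Agent.Lib.Helper7.ChevTorus
import Cfsg.Prelude.Def_ChevG2
import Cfsg.Prelude.Def_ChevB2
import Cfsg.Prelude.Def_ChevD4
import Cfsg.Prelude.Def_ChevF4
import Cfsg.Prelude.Def_ChevE6
import Cfsg.Prelude.Def_ChevE7
import Cfsg.Prelude.Def_ChevE8

set_option autoImplicit false
set_option maxRecDepth 1000000

namespace Cfsg.Agent.Lib.Helper7.ChevBN
open Cfsg.Lie Cfsg.Agent.Lib.Helper7.ChevEngine Cfsg.Agent.Lib.Helper7.ChevN Cfsg.Agent.Lib.Helper7.ChevH
  Cfsg.Agent.Lib.Helper7.ChevConjT Cfsg.Agent.Lib.Helper7.ChevConjU Cfsg.Agent.Lib.Helper7.ChevAdd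
  Cfsg.Agent.Lib.Helper7.ChevHAll Cfsg.Agent.Lib.Helper7.HBaseAll Cfsg.Agent.Lib.Helper7.ChevTorus

def posSimpleCheck (D : ChevalleyDatum) : Bool :=
  (List.range D.rank).all fun j => decide (D.IsPosRoot (D.simple j))

theorem psG2 : posSimpleCheck chevG2 = true := by decide +kernel
theorem psB2 : posSimpleCheck chevB2 = true := by decide +kernel
theorem psD4 : posSimpleCheck chevD4 = true := by decide +kernel
theorem psF4 : posSimpleCheck chevF4 = true := by decide +kernel
theorem psE6 : posSimpleCheck chevE6 = true := by decide +kernel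
theorem psE7 : posSimpleCheck chevE7 = true := by decide +kernel
theorem psE8 : posSimpleCheck chevE8 = true := by decide +kernel

theorem posSimple (D : ChevalleyDatum) (hD : D ∈ [chevG2, chevB2, chevD4, chevF4, chevE6, chevE7, chevE8])
    (j : ℕ) (hj : j < D.rank) : D.IsPosRoot (D.simple j) := by
  have h : posSimpleCheck D = true := by
    simp only [List.mem_cons, List.not_mem_nil, or_false] at hD
    rcases hD with rfl | rfl | rfl | rfl | rfl | rfl | rfl
    exacts [psG2, psB2, psD4, psF4, psE6, psE7, psE8]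
  unfold posSimpleCheck at h
  simp only [List.all_eq_true, List.mem_range, decide_eq_true_eq] at h
  exact h j hj

section
variable {F : Type*} [Field F]

theorem nMat_word (D : ChevalleyDatum) (r : ℕ) (c : F) : D.nMat F r c = D.wordMat F (D.nWord r c) := rfl

theorem hMat_word (D : ChevalleyDatum) (r : ℕ) (c : F) : D.hMat F r c = D.wordMat F (D.hWord r c) := rfl

theorem nMat_inv (D : ChevalleyDatum) (hD : D ∈ [chevG2, chevB2, chevD4, chevF4, chevE6, chevE7, chevE8])
    (r : ℕ) (c : F) (hc : c ≠ 0) : D.nMat F r (-c) * D.nMat F r c = 1 :=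
  nMat_inv_of_add D r c hc (add_any D hD r) (add_any D hD (D.neg r))

theorem nMat_inv' (D : ChevalleyDatum) (hD : D ∈ [chevG2, chevB2, chevD4, chevF4, chevE6, chevE7, chevE8])
    (r : ℕ) (c : F) (hc : c ≠ 0) : D.nMat F r c * D.nMat F r (-c) = 1 := by
  have := nMat_inv D hD r (-c) (neg_ne_zero.mpr hc)
  rwa [neg_neg] at this

def NH (F : Type*) [Field F] (D : ChevalleyDatum) (r : ℕ) : Prop :=
  ∀ c : F, (c = 1 ∨ c = -1) → ∀ s < D.nroots, ∀ t : F, t ≠ 0 →
    ∃ s' < D.nroots, D.nMat F r c * D.hMat F s t = D.hMat F s' t * D.nMat F r c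

theorem nh_base (D : ChevalleyDatum) (hD : D ∈ [chevG2, chevB2, chevD4, chevF4, chevE6, chevE7, chevE8])
    (i : ℕ) (hi : i < D.rank) : NH F D (D.simple i) := by
  obtain ⟨hC, hA, hB⟩ := all_of_mem D hD
  obtain ⟨m, W, -, -, hcj⟩ := hC.1 i hi
  obtain ⟨-, -, hw⟩ := refl_props D i m W hcj
  intro c hc s hs t ht
  refine ⟨D.reflectRoot i s, (hw s hs).1, ?_⟩
  rcases hc with rfl | rfl
  · exact n_conj_h D hC hA hB i hi s hs t ht
  · have h1 := n_conj_h (F := F) D hC hA hB i hi (D.reflectRoot i s) (hw s hs).1 t ht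
    rw [(hw s hs).2] at h1
    have i1 := nMat_inv (F := F) D hD (D.simple i) 1 one_ne_zero
    have i2 := nMat_inv' (F := F) D hD (D.simple i) 1 one_ne_zero
    calc D.nMat F (D.simple i) (-1) * D.hMat F s t
        = D.nMat F (D.simple i) (-1) * (D.hMat F s t * D.nMat F (D.simple i) 1) * D.nMat F (D.simple i) (-1) := by
          rw [mul_assoc, mul_assoc, i2, mul_one]
      _ = D.nMat F (D.simple i) (-1) * (D.nMat F (D.simple i) 1 * D.hMat F (D.reflectRoot i s) t) *
            D.nMat F (D.simple i) (-1) := by rw [h1]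
      _ = D.hMat F (D.reflectRoot i s) t * D.nMat F (D.simple i) (-1) := by
          rw [← mul_assoc, i1, one_mul]

theorem nh_all (D : ChevalleyDatum) (hD : D ∈ [chevG2, chevB2, chevD4, chevF4, chevE6, chevE7, chevE8]) :
    ∀ r < D.nroots, NH F D r := by
  obtain ⟨hC, hA, hB⟩ := all_of_mem D hD
  obtain ⟨hc, LV, PI, hl⟩ := hC
  apply root_induction D LV PI hl (fun r => NH F D r)
  · intro j hj
    exact nh_base D hD j hj
  · intro i hi r hr hwr ih
    obtain ⟨m, W, hn, -, hcj⟩ := hc i hi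
    have hbase := nh_base (F := F) D hD i hi
    have i1 := nMat_inv (F := F) D hD (D.simple i) 1 one_ne_zero
    have hcn := conj_n (F := F) D i m W hn hcj r hr
    intro c hcc s hs t ht
    obtain ⟨s1, hs1, e1⟩ := hbase 1 (Or.inl rfl) s hs t ht
    have hc' : ((etaM m r : ℤ) : F) * c = 1 ∨ ((etaM m r : ℤ) : F) * c = -1 := by
      rcases etaM_cases m r with h1 | h1 <;> rcases hcc with rfl | rfl <;> rw [h1] <;> simp
    obtain ⟨s2, hs2, e2⟩ := ih _ hc' s1 hs1 t ht
    obtain ⟨s3, hs3, e3⟩ := hbase (-1) (Or.inr rfl) s2 hs2 t ht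
    refine ⟨s3, hs3, ?_⟩
    have hnr : D.nMat F r c = D.nMat F (D.simple i) (-1) *
        (D.nMat F (D.reflectRoot i r) (((etaM m r : ℤ) : F) * c) * D.nMat F (D.simple i) 1) := by
      rw [← hcn c, ← mul_assoc, i1, one_mul]
    calc D.nMat F r c * D.hMat F s t
        = D.nMat F (D.simple i) (-1) * (D.nMat F (D.reflectRoot i r) (((etaM m r : ℤ) : F) * c) *
            (D.nMat F (D.simple i) 1 * D.hMat F s t)) := by
          rw [hnr]
          simp only [mul_assoc]
      _ = D.nMat F (D.simple i) (-1) * ((D.nMat F (D.reflectRoot i r) (((etaM m r : ℤ) : F) * c) *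
            D.hMat F s1 t) * D.nMat F (D.simple i) 1) := by
          rw [e1]
          simp only [mul_assoc]
      _ = (D.nMat F (D.simple i) (-1) * D.hMat F s2 t) *
            (D.nMat F (D.reflectRoot i r) (((etaM m r : ℤ) : F) * c) * D.nMat F (D.simple i) 1) := by
          rw [e2]
          simp only [mul_assoc]
      _ = D.hMat F s3 t * D.nMat F r c := by
          rw [e3, hnr]
          simp only [mul_assoc]

end

end Cfsg.Agent.Lib.Helper7.ChevBN
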