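import Cfsg.Agent.Lib.Helper7.ChevRel

set_option autoImplicit false
set_option maxRecDepth 1000000

namespace Cfsg.Agent.Lib.Helper7.RelE6
open Cfsg.Lie Cfsg.Agent.Lib.Helper7.ChevEngine Cfsg.Agent.Lib.Helper7.ChevTorus Cfsg.Agent.Lib.Helper7.ChevW0
  Cfsg.Agent.Lib.Helper7.ChevRel Cfsg.Agent.Lib.Helper7.W0All

theorem rcE6_0 : relCheck chevE6 56 36 [] = true := by decide +kernel
theorem rcE6_1 : relCheck chevE6 56 42 [(57, [(-1, 1, 1)])] = true := by decide +kernel
theorem rcE6_2 : relCheck chevE6 56 57 [] = true := by decide +kernel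

def bsE6 : List (ℕ × ℕ × List ℕ) := [(56, 36, []), (56, 42, [57]), (56, 57, [])]

theorem brE6 {F : Type*} [Field F] (hD : chevE6 ∈ [chevG2, chevB2, chevD4, chevF4, chevE6, chevE7, chevE8]) :
    ∀ bs ∈ bsE6, Rel F chevE6 hD bs.1 bs.2.1 bs.2.2 := by
  intro bs hbs
  simp only [bsE6, List.mem_cons, List.not_mem_nil, or_false] at hbs
  rcases hbs with rfl | rfl | rfl
  · exact rel_of_check chevE6 hD _ _ _ rcE6_0
  · exact rel_of_check chevE6 hD _ _ _ rcE6_1
  · exact rel_of_check chevE6 hD _ _ _ rcE6_2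

theorem spE6_0 : chevE6.simple 0 = 56 := by decide +kernel
theorem smE6_0 : chevE6.neg 56 = 15 := by decide +kernel
def ctE6_0p : List (ℕ × ℕ) := [(0, 0), (0, 0), (0, 0), (0, 0), (0, 0), (0, 0), (0, 0), (0, 0), (0, 0), (0, 0), (0, 0), (0, 0), (0, 0), (0, 0), (0, 0), (0, 0), (0, 0), (0, 0), (0, 0), (0, 0), (0, 0), (0, 0), (0, 0), (0, 0), (0, 0), (0, 0), (0, 0), (0, 0), (0, 0), (0, 0), (0, 0), (0, 0), (0, 0), (0, 0), (0, 0), (0, 0), (0, 0), (0, 86), (0, 5), (0, 21605), (0, 1350), (0, 84), (1, 0), (1, 4), (1, 69), (1, 1110), (0, 5514836), (0, 344677), (0, 21542), (0, 1346), (1, 66), (1, 1061), (1, 16982), (1, 16980), (1, 271686), (1, 4346981), (0, 0), (2, 0), (2, 4), (2, 69), (2, 1110), (2, 66), (2, 1061), (2, 16982), (2, 16980), (2, 271686), (2, 4346981), (0, 13865066376139830), (0, 866566648508739), (0, 13865066376139829), (0, 221841062018237268), (0, 3549456992291796290)]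
theorem ncE6_0p : normCheck chevE6 wtE6 bsE6 56 56 ctE6_0p = true := by decide +kernel
def ctE6_0m : List (ℕ × ℕ) := [(0, 0), (0, 0), (0, 0), (0, 0), (0, 0), (0, 0), (0, 0), (0, 0), (0, 0), (0, 0), (0, 0), (0, 0), (0, 0), (0, 0), (0, 0), (0, 0), (0, 0), (0, 0), (0, 0), (0, 0), (0, 0), (0, 0), (0, 0), (0, 0), (0, 0), (0, 0), (0, 0), (0, 0), (0, 0), (0, 0), (0, 0), (0, 0), (0, 0), (0, 0), (0, 0), (0, 0), (0, 1), (0, 342), (0, 21), (0, 87141), (0, 5446), (0, 340), (2, 1), (2, 20), (2, 325), (2, 5206), (0, 22292052), (0, 1393253), (0, 87078), (0, 5442), (2, 322), (2, 5157), (2, 82518), (2, 82516), (2, 1320262), (2, 21124197), (0, 0), (1, 1), (1, 20), (1, 325), (1, 5206), (1, 322), (1, 5157), (1, 82518), (1, 82516), (1, 1320262), (1, 21124197), (0, 85922660414067766), (0, 5370166275879235), (0, 85922660414067765), (0, 1374762566625084244), (0, 21996201066001347906)]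
theorem ncE6_0m : normCheck chevE6 wtE6 bsE6 56 15 ctE6_0m = true := by decide +kernel
theorem spE6_1 : chevE6.simple 1 = 46 := by decide +kernel
theorem smE6_1 : chevE6.neg 46 = 25 := by decide +kernel
def ctE6_1p : List (ℕ × ℕ) := [(0, 0), (0, 0), (0, 0), (0, 0), (0, 0), (0, 0), (0, 0), (0, 0), (0, 0), (0, 0), (0, 0), (0, 0), (0, 0), (0, 0), (0, 0), (0, 0), (0, 0), (0, 0), (0, 0), (0, 0), (0, 0), (0, 0), (0, 0), (0, 0), (0, 0), (0, 0), (0, 0), (0, 0), (0, 0), (0, 0), (0, 0), (0, 0), (0, 0), (0, 0), (0, 0), (0, 0), (0, 3228212), (0, 826422358), (0, 51651397), (1, 18007466821), (1, 1125466676), (1, 18007466822), (0, 92509675201300), (1, 284295439173), (1, 17768464948), (1, 284295439174), (0, 0), (2, 18007466821), (2, 1125466676), (2, 18007466822), (2, 284295439173), (2, 17768464948), (2, 284295439174), (0, 827597638), (0, 51724852), (0, 827597637), (0, 361605972532), (0, 5781854700084), (1, 4548727025989), (1, 284295439124), (1, 4548727025990), (2, 4548727025989), (2,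 284295439124), (2, 4548727025990), (0, 13241561414), (0, 827597588), (0, 13241561413), (0, 211864982582), (0, 13241561411), (0, 211864982581), (1, 72929373405748), (2, 72929373405748)]
theorem ncE6_1p : normCheck chevE6 wtE6 bsE6 46 46 ctE6_1p = true := by decide +kernel
def ctE6_1m : List (ℕ × ℕ) := [(0, 0), (0, 0), (0, 0), (0, 0), (0, 0), (0, 0), (0, 0), (0, 0), (0, 0), (0, 0), (0, 0), (0, 0), (0, 0), (0, 0), (0, 0), (0, 0), (0, 0), (0, 0), (0, 0), (0, 0), (0, 0), (0, 0), (0, 0), (0, 0), (0, 0), (0, 0), (0, 0), (0, 0), (0, 0), (0, 0), (0, 0), (0, 0), (0, 0), (0, 0), (0, 0), (0, 0), (0, 20005428), (0, 5121389654), (0, 320086853), (2, 86726943557), (2, 5420433972), (2, 86726943558), (0, 373984651911956), (2, 1383807066949), (2, 86487941684), (2, 1383807066950), (0, 0), (1, 86726943557), (1, 5420433972), (1, 86726943558), (1, 1383807066949), (1, 86487941684), (1, 1383807066950), (0, 5122564934), (0, 320160308), (0, 5122564933), (0, 1461117600308), (0, 23374040744500), (2,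 22140913070405), (2, 1383807066900), (2, 22140913070406), (1, 22140913070405), (1, 1383807066900), (1, 22140913070406), (0, 81961038150), (0, 5122564884), (0, 81961038149), (0, 1311376610358), (0, 81961038147), (0, 1311376610357), (2, 354404350116404), (1, 354404350116404)]
theorem ncE6_1m : normCheck chevE6 wtE6 bsE6 46 25 ctE6_1m = true := by decide +kernel
theorem spE6_2 : chevE6.simple 2 = 42 := by decide +kernel
theorem smE6_2 : chevE6.neg 42 = 29 := by decide +kernel
def ctE6_2p : List (ℕ × ℕ) := [(0, 0), (0, 0), (0, 0), (0, 0), (0, 0), (0, 0), (0, 0), (0, 0), (0, 0), (0, 0), (0, 0), (0, 0), (0, 0), (0, 0), (0, 0), (0, 0), (0, 0), (0, 0), (0, 0), (0, 0), (0, 0), (0, 0), (0, 0), (0, 0), (0, 0), (0, 0), (0, 0), (0, 0), (0, 0), (0, 0), (0, 0), (0, 0), (0, 0), (0, 0), (0, 0), (0, 0), (0, 49), (0, 12630), (0, 789), (1, 1073), (1, 17173), (1, 274774), (0, 0), (2, 1073), (2, 17173), (2, 274774), (0, 1411798065), (1, 16945), (1, 271125), (1, 4338006), (2, 16945), (2, 271125),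 (2, 4338006), (0, 54160415531846), (0, 3385025970740), (0, 54160415531845), (1, 298104219312931668), (2, 298104219312931668), (0, 5517669), (0, 344854), (0, 21553), (0, 88224101), (0, 5514006), (0, 344625), (1, 4346929), (1, 69550870), (1, 1112813925), (2, 4346929), (2, 69550870), (2, 1112813925), (0, 866643906478932), (0, 13866302503662914)]
theorem ncE6_2p : normCheck chevE6 wtE6 bsE6 42 42 ctE6_2p = true := by decide +kernel
def ctE6_2m : List (ℕ × ℕ) := [(0, 0), (0, 0), (0, 0), (0, 0), (0, 0), (0, 0), (0, 0), (0, 0), (0, 0), (0, 0), (0, 0), (0, 0), (0, 0), (0, 0), (0, 0), (0, 0), (0, 0), (0, 0), (0, 0), (0, 0), (0, 0), (0, 0), (0, 0), (0, 0), (0, 0), (0, 0), (0, 0), (0, 0), (0, 0), (0, 0), (0, 0), (0, 0), (0, 0), (0, 0), (0, 0), (0, 0), (0, 305), (0, 78166), (0, 4885), (2, 5169), (2, 82709), (2, 1323350), (0, 0), (1, 5169), (1, 82709), (1, 1323350), (0, 5706765361), (2, 82481), (2, 1319701), (2, 21115222), (1, 82481), (1, 1319701), (1, 21115222), (0, 335635392242502),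 (0, 20977212015156), (0, 335635392242501), (2, 1451025723919778644), (1, 1451025723919778644), (0, 22294885), (0, 1393430), (0, 87089), (0, 356659557), (0, 22291222), (0, 1393201), (2, 21124145), (2, 337986326), (2, 5407781221), (1, 21124145), (1, 337986326), (1, 5407781221), (0, 5370243533849428), (0, 85923896541590850)]
theorem ncE6_2m : normCheck chevE6 wtE6 bsE6 42 29 ctE6_2m = true := by decide +kernel
theorem spE6_3 : chevE6.simple 3 = 39 := by decide +kernel
theorem smE6_3 : chevE6.neg 39 = 32 := by decide +kernel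
def ctE6_3p : List (ℕ × ℕ) := [(0, 0), (0, 0), (0, 0), (0, 0), (0, 0), (0, 0), (0, 0), (0, 0), (0, 0), (0, 0), (0, 0), (0, 0), (0, 0), (0, 0), (0, 0), (0, 0), (0, 0), (0, 0), (0, 0), (0, 0), (0, 0), (0, 0), (0, 0), (0, 0), (0, 0), (0, 0), (0, 0), (0, 0), (0, 0), (0, 0), (0, 0), (0, 0), (0, 0), (0, 0), (0, 0), (0, 0), (0, 12611), (1, 4396355), (1, 70341686), (0, 0), (2, 4396355), (2, 70341686), (1, 72779350418245), (2, 72779350418245), (0, 3232822), (0, 202051), (1, 4337987), (2, 4337987), (0, 211564123174), (0, 13222757698), (0, 361365918769), (1, 69408067), (1, 1110529078), (2, 69408067), (2, 1110529078), (0, 211582985029), (0, 1412523331), (1, 1164469606691141), (2, 1164469606691141), (0, 51725078), (0, 3232817), (0, 22585369923), (1, 1110529073), (1, 17768465174), (2, 1110529073), (2, 17768465174), (0, 3385327759685), (0, 1411585078), (0, 88224067), (1, 284880364867), (2, 284880364867), (0, 54237435540802)]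
theorem ncE6_3p : normCheck chevE6 wtE6 bsE6 39 39 ctE6_3p = true := by decide +kernel
def ctE6_3m : List (ℕ × ℕ) := [(0, 0), (0, 0), (0, 0), (0, 0), (0, 0), (0, 0), (0, 0), (0, 0), (0, 0), (0, 0), (0, 0), (0, 0), (0, 0), (0, 0), (0, 0), (0, 0), (0, 0), (0, 0), (0, 0), (0, 0), (0, 0), (0, 0), (0, 0), (0, 0), (0, 0), (0, 0), (0, 0), (0, 0), (0, 0), (0, 0), (0, 0), (0, 0), (0, 0), (0, 0), (0, 0), (0, 0), (0, 78147), (2, 21173571), (2, 338777142), (0, 0), (1, 21173571), (1, 338777142), (2, 354254327128901), (1, 354254327128901), (0, 20010038), (0, 1250627), (2, 21115203), (1, 21115203), (0, 1311075750950), (0, 81942234434), (0, 1460877546545), (2, 337843523), (2, 5405496374), (1, 337843523), (1, 5405496374), (0, 1311094612805), (0, 5707490627), (2, 5668069234061637), (1, 5668069234061637), (0, 320160534), (0, 20010033), (0, 91304846659), (2, 5405496369), (2, 86487941910), (1, 5405496369), (1, 86487941910), (0, 20977513804101), (0, 5706552374), (0, 356659523), (2, 1384391992643),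 (1, 1384391992643), (0, 335712412251458)]
theorem ncE6_3m : normCheck chevE6 wtE6 bsE6 39 32 ctE6_3m = true := by decide +kernel
theorem spE6_4 : chevE6.simple 4 = 37 := by decide +kernel
theorem smE6_4 : chevE6.neg 37 = 34 := by decide +kernel
def ctE6_4p : List (ℕ × ℕ) := [(0, 0), (0, 0), (0, 0), (0, 0), (0, 0), (0, 0), (0, 0), (0, 0), (0, 0), (0, 0), (0, 0), (0, 0), (0, 0), (0, 0), (0, 0), (0, 0), (0, 0), (0, 0), (0, 0), (0, 0), (0, 0), (0, 0), (0, 0), (0, 0), (0, 0), (0, 0), (0, 0), (0, 0), (0, 0), (0, 0), (0, 0), (0, 0), (0, 0), (0, 0), (0, 0), (0, 0), (1, 18007471700), (0, 0), (2, 18007471700), (1, 17768396098), (2, 17768396098), (0, 3228500), (0, 827602516), (1, 284294337571), (2, 284294337571), (0, 51656003), (0, 54160415532628), (1, 1110524756), (2, 1110524756), (0, 51656002), (1, 17768396099), (2, 17768396099), (0, 826496035), (0, 92509639693361), (1, 284295444052), (2, 284295444052), (0, 211865920835), (0, 13241620052), (1, 4548709401137), (2, 4548709401137),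 (0, 826496049), (1, 284294337585), (2, 284294337585), (0, 13223936561), (0, 5781852480835), (1, 4548727084628), (2, 4548727084628), (0, 361365780052), (1, 72779633354051), (2, 72779633354051), (0, 22585361236), (0, 361365779778)]
theorem ncE6_4p : normCheck chevE6 wtE6 bsE6 37 37 ctE6_4p = true := by decide +kernel
def ctE6_4m : List (ℕ × ℕ) := [(0, 0), (0, 0), (0, 0), (0, 0), (0, 0), (0, 0), (0, 0), (0, 0), (0, 0), (0, 0), (0, 0), (0, 0), (0, 0), (0, 0), (0, 0), (0, 0), (0, 0), (0, 0), (0, 0), (0, 0), (0, 0), (0, 0), (0, 0), (0, 0), (0, 0), (0, 0), (0, 0), (0, 0), (0, 0), (0, 0), (0, 0), (0, 0), (0, 0), (0, 0), (0, 0), (0, 0), (2, 86726948436), (0, 0), (1, 86726948436), (2, 86487872834), (1, 86487872834), (0, 20005716), (0, 5122569812), (2, 1383805965347), (1, 1383805965347), (0, 320091459), (0, 335635392243284), (2, 5405492052), (1, 5405492052), (0, 320091458), (2, 86487872835), (1, 86487872835), (0, 5121463331), (0, 373984616404017), (2, 1383807071828), (1, 1383807071828),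 (0, 1311377548611), (0, 81961096788), (2, 22140895445553), (1, 22140895445553), (0, 5121463345), (2, 1383805965361), (1, 1383805965361), (0, 81943413297), (0, 23374038525251), (2, 22140913129044), (1, 22140913129044), (0, 1460877407828), (2, 354254610064707), (1, 354254610064707), (0, 91304837972), (0, 1460877407554)]
theorem ncE6_4m : normCheck chevE6 wtE6 bsE6 37 34 ctE6_4m = true := by decide +kernel
theorem spE6_5 : chevE6.simple 5 = 36 := by decide +kernel
theorem smE6_5 : chevE6.neg 36 = 35 := by decide +kernel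
def ctE6_5p : List (ℕ × ℕ) := [(0, 0), (0, 0), (0, 0), (0, 0), (0, 0), (0, 0), (0, 0), (0, 0), (0, 0), (0, 0), (0, 0), (0, 0), (0, 0), (0, 0), (0, 0), (0, 0), (0, 0), (0, 0), (0, 0), (0, 0), (0, 0), (0, 0), (0, 0), (0, 0), (0, 0), (0, 0), (0, 0), (0, 0), (0, 0), (0, 0), (0, 0), (0, 0), (0, 0), (0, 0), (0, 0), (0, 0), (0, 0), (1, 72779350419028), (2, 72779350419028), (0, 826496101), (1, 4548709401189), (2, 4548709401189), (0, 211582989908), (0, 13223936869), (1, 72779350418277), (2, 72779350418277), (0, 211582985812), (0, 13223936613), (1, 284294337637), (2, 284294337637), (0, 211582985061), (1, 4548709401445), (2, 4548709401445), (1, 72779350423124), (2, 72779350423124), (0, 23682467743814705), (0, 54165245093187), (0, 3385327818324), (0, 211582988645), (1, 1164469606691173), (2, 1164469606691173), (0, 3385327759717), (1, 72779350421861), (2, 72779350421861), (1, 1164469606749780), (2, 1164469606749780), (0, 1480154233988419), (1, 18631513707996483), (2, 18631513707996483),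 (0, 92509639624276), (0, 5781852476517), (0, 92509639623269)]
theorem ncE6_5p : normCheck chevE6 wtE6 bsE6 36 36 ctE6_5p = true := by decide +kernel
def ctE6_5m : List (ℕ × ℕ) := [(0, 0), (0, 0), (0, 0), (0, 0), (0, 0), (0, 0), (0, 0), (0, 0), (0, 0), (0, 0), (0, 0), (0, 0), (0, 0), (0, 0), (0, 0), (0, 0), (0, 0), (0, 0), (0, 0), (0, 0), (0, 0), (0, 0), (0, 0), (0, 0), (0, 0), (0, 0), (0, 0), (0, 0), (0, 0), (0, 0), (0, 0), (0, 0), (0, 0), (0, 0), (0, 0), (0, 0), (0, 0), (2, 354254327129684), (1, 354254327129684), (0, 5121463397), (2, 22140895445605), (1, 22140895445605), (0, 1311094617684), (0, 81943413605), (2, 354254327128933), (1, 354254327128933), (0, 1311094613588), (0, 81943413349), (2, 1383805965413), (1, 1383805965413), (0, 1311094612837), (2, 22140895445861), (1, 22140895445861), (2, 354254327133780), (1, 354254327133780), (0, 95740061781742641), (0, 335640221803843), (0, 20977513862740), (0, 1311094616421), (2, 5668069234061669), (1, 5668069234061669), (0, 20977513804133),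 (2, 354254327132517), (1, 354254327132517), (2, 5668069234120276), (1, 5668069234120276), (0, 5983753861358915), (2, 90689107745924419), (1, 90689107745924419), (0, 373984616334932), (0, 23374038520933), (0, 373984616333925)]
theorem ncE6_5m : normCheck chevE6 wtE6 bsE6 36 35 ctE6_5m = true := by decide +kernel

theorem normE6 {F : Type*} [Field F] (hD : chevE6 ∈ [chevG2, chevB2, chevD4, chevF4, chevE6, chevE7, chevE8])
    (i : ℕ) (hi : i < chevE6.rank) :
    (∀ r, chevE6.IsPosRoot r → r ≠ chevE6.simple i → ∀ u t : F,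
      xGL chevE6 hD (chevE6.simple i) u * xGL chevE6 hD r t * xGL chevE6 hD (chevE6.simple i) (-u) ∈
        Up F chevE6 (chevE6.simple i)) ∧
    (∀ r, chevE6.IsPosRoot r → r ≠ chevE6.simple i → ∀ u t : F,
      xGL chevE6 hD (chevE6.neg (chevE6.simple i)) u * xGL chevE6 hD r t *
        xGL chevE6 hD (chevE6.neg (chevE6.simple i)) (-u) ∈ Up F chevE6 (chevE6.simple i)) := by
  have hi' : i < 6 := hi
  interval_cases i
  · rw [spE6_0, smE6_0]
    exact ⟨norm_of_check chevE6 hD wtE6 woE6 bsE6 (brE6 hD) _ _ ctE6_0p ncE6_0p,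
      norm_of_check chevE6 hD wtE6 woE6 bsE6 (brE6 hD) _ _ ctE6_0m ncE6_0m⟩
  · rw [spE6_1, smE6_1]
    exact ⟨norm_of_check chevE6 hD wtE6 woE6 bsE6 (brE6 hD) _ _ ctE6_1p ncE6_1p,
      norm_of_check chevE6 hD wtE6 woE6 bsE6 (brE6 hD) _ _ ctE6_1m ncE6_1m⟩
  · rw [spE6_2, smE6_2]
    exact ⟨norm_of_check chevE6 hD wtE6 woE6 bsE6 (brE6 hD) _ _ ctE6_2p ncE6_2p,
      norm_of_check chevE6 hD wtE6 woE6 bsE6 (brE6 hD) _ _ ctE6_2m ncE6_2m⟩
  · rw [spE6_3, smE6_3]
    exact ⟨norm_of_check chevE6 hD wtE6 woE6 bsE6 (brE6 hD) _ _ ctE6_3p ncE6_3p,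
      norm_of_check chevE6 hD wtE6 woE6 bsE6 (brE6 hD) _ _ ctE6_3m ncE6_3m⟩
  · rw [spE6_4, smE6_4]
    exact ⟨norm_of_check chevE6 hD wtE6 woE6 bsE6 (brE6 hD) _ _ ctE6_4p ncE6_4p,
      norm_of_check chevE6 hD wtE6 woE6 bsE6 (brE6 hD) _ _ ctE6_4m ncE6_4m⟩
  · rw [spE6_5, smE6_5]
    exact ⟨norm_of_check chevE6 hD wtE6 woE6 bsE6 (brE6 hD) _ _ ctE6_5p ncE6_5p,
      norm_of_check chevE6 hD wtE6 woE6 bsE6 (brE6 hD) _ _ ctE6_5m ncE6_5m⟩

end Cfsg.Agent.Lib.Helper7.RelE6
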