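import Cfsg.Agent.Lib.Helper7.RelSmall
import Cfsg.Agent.Lib.Helper7.RelE6
import Cfsg.Agent.Lib.Helper7.RelE7
import Cfsg.Agent.Lib.Helper7.RelE8

set_option autoImplicit false

namespace Cfsg.Agent.Lib.Helper7.RelAll
open Cfsg.Lie Cfsg.Agent.Lib.Helper7.ChevTorus Cfsg.Agent.Lib.Helper7.ChevRel

theorem norm_all {F : Type*} [Field F] (D : ChevalleyDatum)
    (hD : D ∈ [chevG2, chevB2, chevD4, chevF4, chevE6, chevE7, chevE8]) (i : ℕ) (hi : i < D.rank) :
    (∀ r, D.IsPosRoot r → r ≠ D.simple i → ∀ u t : F,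
      xGL D hD (D.simple i) u * xGL D hD r t * xGL D hD (D.simple i) (-u) ∈ Up F D (D.simple i)) ∧
    (∀ r, D.IsPosRoot r → r ≠ D.simple i → ∀ u t : F,
      xGL D hD (D.neg (D.simple i)) u * xGL D hD r t * xGL D hD (D.neg (D.simple i)) (-u) ∈
        Up F D (D.simple i)) := by
  have hD' := hD
  simp only [List.mem_cons, List.not_mem_nil, or_false] at hD'
  rcases hD' with rfl | rfl | rfl | rfl | rfl | rfl | rfl
  · exact Cfsg.Agent.Lib.Helper7.RelSmall.normG2 hD i hi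
  · exact Cfsg.Agent.Lib.Helper7.RelSmall.normB2 hD i hi
  · exact Cfsg.Agent.Lib.Helper7.RelSmall.normD4 hD i hi
  · exact Cfsg.Agent.Lib.Helper7.RelSmall.normF4 hD i hi
  · exact Cfsg.Agent.Lib.Helper7.RelE6.normE6 hD i hi
  · exact Cfsg.Agent.Lib.Helper7.RelE7.normE7 hD i hi
  · exact Cfsg.Agent.Lib.Helper7.RelE8.normE8 hD i hi

end Cfsg.Agent.Lib.Helper7.RelAll
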