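import Mathlib

set_option autoImplicit false

namespace Cfsg.Agent.Lib.Helper7.Pack

def packZ (l : List ℤ) : ℕ := l.foldr (fun c acc => acc * 16 + (c + 8).toNat) 0

def digZ (N r : ℕ) : ℤ := ((N / 16 ^ r % 16 : ℕ) : ℤ) - 8

theorem packZ_cons (c : ℤ) (l : List ℤ) : packZ (c :: l) = packZ l * 16 + (c + 8).toNat := rfl

theorem digZ_packZ (l : List ℤ) (hl : ∀ c ∈ l, -8 ≤ c ∧ c < 8) :
    ∀ r, r < l.length → digZ (packZ l) r = l.getD r 0 := by
  induction l with
  | nil =>
    intro r hr
    simp at hr
  | cons c l ih =>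
    intro r hr
    have hc := hl c (by simp)
    have hd : (c + 8).toNat < 16 := by omega
    cases r with
    | zero =>
      unfold digZ
      rw [packZ_cons]
      simp only [pow_zero, Nat.div_one, List.getD_cons_zero]
      rw [Nat.mul_add_mod_of_lt hd]
      omega
    | succ r =>
      have hr' : r < l.length := by simpa using hr
      have ih' := ih (fun c hc => hl c (by simp [hc])) r hr'
      unfold digZ at ih' ⊢
      rw [packZ_cons, List.getD_cons_succ, ← ih']
      have e1 : (packZ l * 16 + (c + 8).toNat) / 16 ^ (r + 1) = packZ l / 16 ^ r := by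
        rw [pow_succ, mul_comm (16 ^ r) 16, ← Nat.div_div_eq_div_mul]
        congr 1
        omega
      rw [e1]

end Cfsg.Agent.Lib.Helper7.Pack
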