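import Cfsg.Agent.Lib.Helper7.ChevH
import Cfsg.Prelude.Def_ChevB2

set_option autoImplicit false
set_option maxRecDepth 1000000

namespace Cfsg.Agent.Lib.Helper7.HFundB2
open Cfsg.Lie Cfsg.Agent.Lib.Helper7.ChevEngine Cfsg.Agent.Lib.Helper7.ChevH

theorem hB2_0 : hCheck chevB2 (chevB2.simple 0) (chevB2.cartan 0) = true := by decide +kernel

theorem hB2_1 : hCheck chevB2 (chevB2.simple 1) (chevB2.cartan 1) = true := by decide +kernel

end Cfsg.Agent.Lib.Helper7.HFundB2
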