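import Cfsg.Agent.Lib.Helper7.ChevH
import Cfsg.Prelude.Def_ChevE6

set_option autoImplicit false
set_option maxRecDepth 1000000

namespace Cfsg.Agent.Lib.Helper7.HFundE6
open Cfsg.Lie Cfsg.Agent.Lib.Helper7.ChevEngine Cfsg.Agent.Lib.Helper7.ChevH

theorem hE6_0 : hCheck chevE6 (chevE6.simple 0) (chevE6.cartan 0) = true := by decide +kernel

theorem hE6_1 : hCheck chevE6 (chevE6.simple 1) (chevE6.cartan 1) = true := by decide +kernel

theorem hE6_2 : hCheck chevE6 (chevE6.simple 2) (chevE6.cartan 2) = true := by decide +kernel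

theorem hE6_3 : hCheck chevE6 (chevE6.simple 3) (chevE6.cartan 3) = true := by decide +kernel

theorem hE6_4 : hCheck chevE6 (chevE6.simple 4) (chevE6.cartan 4) = true := by decide +kernel

theorem hE6_5 : hCheck chevE6 (chevE6.simple 5) (chevE6.cartan 5) = true := by decide +kernel

end Cfsg.Agent.Lib.Helper7.HFundE6
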