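import Cfsg.Agent.Lib.Helper7.ChevH
import Cfsg.Prelude.Def_ChevE7

set_option autoImplicit false
set_option maxRecDepth 1000000

namespace Cfsg.Agent.Lib.Helper7.HFundE7
open Cfsg.Lie Cfsg.Agent.Lib.Helper7.ChevEngine Cfsg.Agent.Lib.Helper7.ChevH

theorem hE7_0 : hCheck chevE7 (chevE7.simple 0) (chevE7.cartan 0) = true := by decide +kernel

theorem hE7_1 : hCheck chevE7 (chevE7.simple 1) (chevE7.cartan 1) = true := by decide +kernel

theorem hE7_2 : hCheck chevE7 (chevE7.simple 2) (chevE7.cartan 2) = true := by decide +kernel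

theorem hE7_3 : hCheck chevE7 (chevE7.simple 3) (chevE7.cartan 3) = true := by decide +kernel

theorem hE7_4 : hCheck chevE7 (chevE7.simple 4) (chevE7.cartan 4) = true := by decide +kernel

theorem hE7_5 : hCheck chevE7 (chevE7.simple 5) (chevE7.cartan 5) = true := by decide +kernel

theorem hE7_6 : hCheck chevE7 (chevE7.simple 6) (chevE7.cartan 6) = true := by decide +kernel

end Cfsg.Agent.Lib.Helper7.HFundE7
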