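import Cfsg.Agent.Lib.Helper7.ChevH
import Cfsg.Prelude.Def_ChevE8

set_option autoImplicit false
set_option maxRecDepth 1000000

namespace Cfsg.Agent.Lib.Helper7.HFundE8c
open Cfsg.Lie Cfsg.Agent.Lib.Helper7.ChevEngine Cfsg.Agent.Lib.Helper7.ChevH

theorem hE8_6 : hCheck chevE8 (chevE8.simple 6) (chevE8.cartan 6) = true := by decide +kernel

theorem hE8_7 : hCheck chevE8 (chevE8.simple 7) (chevE8.cartan 7) = true := by decide +kernel

end Cfsg.Agent.Lib.Helper7.HFundE8c
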