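import Cfsg.Agent.Lib.Helper7.ChevH
import Cfsg.Prelude.Def_ChevF4

set_option autoImplicit false
set_option maxRecDepth 1000000

namespace Cfsg.Agent.Lib.Helper7.HFundF4
open Cfsg.Lie Cfsg.Agent.Lib.Helper7.ChevEngine Cfsg.Agent.Lib.Helper7.ChevH

theorem hF4_0 : hCheck chevF4 (chevF4.simple 0) (chevF4.cartan 0) = true := by decide +kernel

theorem hF4_1 : hCheck chevF4 (chevF4.simple 1) (chevF4.cartan 1) = true := by decide +kernel

theorem hF4_2 : hCheck chevF4 (chevF4.simple 2) (chevF4.cartan 2) = true := by decide +kernel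

theorem hF4_3 : hCheck chevF4 (chevF4.simple 3) (chevF4.cartan 3) = true := by decide +kernel

end Cfsg.Agent.Lib.Helper7.HFundF4
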