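import Cfsg.Agent.Lib.Helper7.ChevH
import Cfsg.Prelude.Def_ChevG2

set_option autoImplicit false
set_option maxRecDepth 1000000

namespace Cfsg.Agent.Lib.Helper7.HFundG2
open Cfsg.Lie Cfsg.Agent.Lib.Helper7.ChevEngine Cfsg.Agent.Lib.Helper7.ChevH

theorem hG2_0 : hCheck chevG2 (chevG2.simple 0) (chevG2.cartan 0) = true := by decide +kernel

theorem hG2_1 : hCheck chevG2 (chevG2.simple 1) (chevG2.cartan 1) = true := by decide +kernel

end Cfsg.Agent.Lib.Helper7.HFundG2
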