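import Cfsg.Agent.Lib.Helper7.HBaseAll
import Cfsg.Agent.S1032

set_option autoImplicit false

namespace Cfsg.Agent.Lib.Helper7.ChevTorus
open Cfsg.Lie Cfsg.Agent.Lib.Helper7.ChevEngine Cfsg.Agent.Lib.Helper7.ChevN Cfsg.Agent.Lib.Helper7.ChevH
  Cfsg.Agent.Lib.Helper7.ChevConjT Cfsg.Agent.Lib.Helper7.ChevConjU Cfsg.Agent.Lib.Helper7.ChevAdd
  Cfsg.Agent.Lib.Helper7.ChevHAll Cfsg.Agent.Lib.Helper7.HBaseAll

section
variable {F : Type*} [Field F]

theorem add_any (D : ChevalleyDatum) (hD : D ∈ [chevG2, chevB2, chevD4, chevF4, chevE6, chevE7, chevE8])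
    (r : ℕ) (a b : F) : D.x F r a * D.x F r b = D.x F r (a + b) := by
  by_cases hr : r < D.nroots
  · obtain ⟨hC, hA, -⟩ := all_of_mem D hD
    exact add_all D hC hA r hr a b
  · simp [ChevalleyDatum.x, hr]

def xGL (D : ChevalleyDatum) (hD : D ∈ [chevG2, chevB2, chevD4, chevF4, chevE6, chevE7, chevE8])
    (r : ℕ) (t : F) : GL D.Idx F :=
  ⟨D.x F r t, D.x F r (-t), by rw [add_any D hD, add_neg_cancel, x_zero],
    by rw [add_any D hD, neg_add_cancel, x_zero]⟩

theorem xGL_val (D : ChevalleyDatum) (hD : D ∈ [chevG2, chevB2, chevD4, chevF4, chevE6, chevE7, chevE8])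
    (r : ℕ) (t : F) : ((xGL D hD r t : GL D.Idx F) : Matrix D.Idx D.Idx F) = D.x F r t := rfl

theorem xGL_inv_val (D : ChevalleyDatum) (hD : D ∈ [chevG2, chevB2, chevD4, chevF4, chevE6, chevE7, chevE8])
    (r : ℕ) (t : F) : (((xGL D hD r t)⁻¹ : GL D.Idx F) : Matrix D.Idx D.Idx F) = D.x F r (-t) := rfl

def wordGL (D : ChevalleyDatum) (hD : D ∈ [chevG2, chevB2, chevD4, chevF4, chevE6, chevE7, chevE8])
    (w : List (ℕ × F)) : GL D.Idx F := (w.map fun p => xGL D hD p.1 p.2).prod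

theorem wordGL_val (D : ChevalleyDatum) (hD : D ∈ [chevG2, chevB2, chevD4, chevF4, chevE6, chevE7, chevE8])
    (w : List (ℕ × F)) : ((wordGL D hD w : GL D.Idx F) : Matrix D.Idx D.Idx F) = D.wordMat F w := by
  unfold wordGL ChevalleyDatum.wordMat
  induction w with
  | nil => simp
  | cons p w ih =>
    rw [List.map_cons, List.prod_cons, Units.val_mul, ih, List.map_cons, List.prod_cons, xGL_val]

theorem xGL_mem_group (D : ChevalleyDatum) (hD : D ∈ [chevG2, chevB2, chevD4, chevF4, chevE6, chevE7, chevE8])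
    (r : ℕ) (t : F) : xGL D hD r t ∈ D.group F := by
  by_cases hr : r < D.nroots
  · apply Subgroup.subset_closure
    refine ⟨⟨r, hr⟩, t, ?_⟩
    rw [xGL_val]
    simp [ChevalleyDatum.x, hr]
  · have : xGL D hD r t = 1 := by
      apply Units.ext
      rw [xGL_val]
      simp [ChevalleyDatum.x, hr]
    rw [this]
    exact one_mem _

theorem wordGL_mem_group (D : ChevalleyDatum) (hD : D ∈ [chevG2, chevB2, chevD4, chevF4, chevE6, chevE7, chevE8])
    (w : List (ℕ × F)) : wordGL D hD w ∈ D.group F := by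
  unfold wordGL
  apply Subgroup.list_prod_mem
  intro g hg
  rw [List.mem_map] at hg
  obtain ⟨p, -, rfl⟩ := hg
  exact xGL_mem_group D hD p.1 p.2

theorem mem_group_of_word (D : ChevalleyDatum) (hD : D ∈ [chevG2, chevB2, chevD4, chevF4, chevE6, chevE7, chevE8])
    (g : GL D.Idx F) (w : List (ℕ × F)) (hg : (g : Matrix D.Idx D.Idx F) = D.wordMat F w) : g ∈ D.group F := by
  have : g = wordGL D hD w := by
    apply Units.ext
    rw [hg, wordGL_val]
  rw [this]
  exact wordGL_mem_group D hD w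

def torusChi (D : ChevalleyDatum) (c : ℕ → Fˣ) : ℕ → Fˣ :=
  fun s => ∏ j ∈ Finset.range D.rank, c j ^ D.cartan j s

theorem torusChi_root (D : ChevalleyDatum) (hD : D ∈ [chevG2, chevB2, chevD4, chevF4, chevE6, chevE7, chevE8])
    (c : ℕ → Fˣ) : D.IsRootCharacter (torusChi D c) := by
  have hadd := Cfsg.Agent.S1032.add_all D hD
  constructor
  · intro r hr
    unfold torusChi
    rw [← Finset.prod_inv_distrib]
    apply Finset.prod_congr rfl
    intro j hj
    rw [Cfsg.Agent.S1032.cartan_neg D hadd j (Finset.mem_range.mp hj) r hr, zpow_neg]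
  · intro r s k hr hs hk
    unfold torusChi
    rw [← Finset.prod_mul_distrib]
    apply Finset.prod_congr rfl
    intro j hj
    rw [Cfsg.Agent.S1032.cartan_add D hadd j (Finset.mem_range.mp hj) r s k hr hs hk, zpow_add]

theorem charDiag_mul (D : ChevalleyDatum) (χ χ' : ℕ → Fˣ) :
    D.charDiag F χ * D.charDiag F χ' = D.charDiag F (fun s => χ s * χ' s) := by
  unfold ChevalleyDatum.charDiag
  rw [Matrix.diagonal_mul_diagonal]
  congr 1
  funext idx
  rcases idx with i | s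
  · simp
  · simp

theorem charDiag_one (D : ChevalleyDatum) : D.charDiag F (fun _ => (1 : Fˣ)) = 1 := by
  unfold ChevalleyDatum.charDiag
  rw [← Matrix.diagonal_one]
  congr 1
  funext idx
  rcases idx with i | s
  · simp
  · simp

theorem torusChi_mul (D : ChevalleyDatum) (c c' : ℕ → Fˣ) :
    torusChi D (fun j => c j * c' j) = fun s => torusChi D c s * torusChi D c' s := by
  funext s
  unfold torusChi
  rw [← Finset.prod_mul_distrib]
  apply Finset.prod_congr rfl
  intro j _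
  rw [mul_zpow]

theorem torusChi_inv (D : ChevalleyDatum) (c : ℕ → Fˣ) :
    torusChi D (fun j => (c j)⁻¹) = fun s => (torusChi D c s)⁻¹ := by
  funext s
  unfold torusChi
  rw [← Finset.prod_inv_distrib]
  apply Finset.prod_congr rfl
  intro j _
  rw [inv_zpow]

theorem torusChi_one (D : ChevalleyDatum) : torusChi (F := F) D (fun _ => 1) = fun _ => 1 := by
  funext s
  unfold torusChi
  simp

theorem charDiag_inv_mul (D : ChevalleyDatum) (χ : ℕ → Fˣ) :
    D.charDiag F (fun s => (χ s)⁻¹) * D.charDiag F χ = 1 := by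
  rw [charDiag_mul, ← charDiag_one]
  congr 1
  funext s
  simp

theorem charDiag_mul_inv (D : ChevalleyDatum) (χ : ℕ → Fˣ) :
    D.charDiag F χ * D.charDiag F (fun s => (χ s)⁻¹) = 1 := by
  rw [charDiag_mul, ← charDiag_one]
  congr 1
  funext s
  simp

theorem inv_val_of_charDiag (D : ChevalleyDatum) (g : GL D.Idx F) (χ : ℕ → Fˣ)
    (hg : (g : Matrix D.Idx D.Idx F) = D.charDiag F χ) :
    ((g⁻¹ : GL D.Idx F) : Matrix D.Idx D.Idx F) = D.charDiag F (fun s => (χ s)⁻¹) := by
  calc ((g⁻¹ : GL D.Idx F) : Matrix D.Idx D.Idx F)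
      = ((g⁻¹ : GL D.Idx F) : Matrix D.Idx D.Idx F) * (D.charDiag F χ * D.charDiag F (fun s => (χ s)⁻¹)) := by
        rw [charDiag_mul_inv, mul_one]
    _ = (((g⁻¹ : GL D.Idx F) : Matrix D.Idx D.Idx F) * (g : Matrix D.Idx D.Idx F)) *
          D.charDiag F (fun s => (χ s)⁻¹) := by rw [hg, mul_assoc]
    _ = D.charDiag F (fun s => (χ s)⁻¹) := by rw [Units.inv_mul, one_mul]

def torus (F : Type*) [Field F] (D : ChevalleyDatum) : Subgroup (GL D.Idx F) where
  carrier := {g | ∃ c : ℕ → Fˣ, (g : Matrix D.Idx D.Idx F) = D.charDiag F (torusChi D c)}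
  mul_mem' := by
    rintro g h ⟨c, hc⟩ ⟨c', hc'⟩
    refine ⟨fun j => c j * c' j, ?_⟩
    rw [Units.val_mul, hc, hc', charDiag_mul, torusChi_mul]
  one_mem' := by
    refine ⟨fun _ => 1, ?_⟩
    rw [torusChi_one, charDiag_one, Units.val_one]
  inv_mem' := by
    rintro g ⟨c, hc⟩
    refine ⟨fun j => (c j)⁻¹, ?_⟩
    rw [inv_val_of_charDiag D g _ hc, torusChi_inv]

theorem zpow_sum_range (t : F) (ht : t ≠ 0) (f : ℕ → ℤ) (l : ℕ) :
    t ^ (∑ k ∈ Finset.range l, f k) = ∏ k ∈ Finset.range l, t ^ f k := by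
  induction l with
  | zero => simp
  | succ l ih => rw [Finset.sum_range_succ, zpow_add₀ ht, ih, Finset.prod_range_succ]

theorem hMat_torus (D : ChevalleyDatum) (hD : D ∈ [chevG2, chevB2, chevD4, chevF4, chevE6, chevE7, chevE8])
    (r : ℕ) (hr : r < D.nroots) (t : F) (ht : t ≠ 0) :
    D.hMat F r t = D.charDiag F (torusChi D (fun k => (Units.mk0 t ht) ^ ((fnsOf D).cor r k))) := by
  obtain ⟨hC, hA, hB⟩ := all_of_mem D hD
  rw [(hQ_all (F := F) D hC hA hB r hr).1 t ht]
  unfold hDiag ChevalleyDatum.charDiag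
  congr 1
  funext idx
  rcases idx with i | s
  · rfl
  · simp only [Sum.elim_inr, torusChi, cartG]
    rw [zpow_sum_range t ht, Units.coe_prod]
    apply Finset.prod_congr rfl
    intro k _
    rw [← zpow_mul, Units.val_zpow_eq_zpow_val, Units.val_mk0]

theorem diagonalSubgroup_le_torus (D : ChevalleyDatum)
    (hD : D ∈ [chevG2, chevB2, chevD4, chevF4, chevE6, chevE7, chevE8]) :
    D.diagonalSubgroup F ≤ torus F D := by
  unfold ChevalleyDatum.diagonalSubgroup
  rw [Subgroup.closure_le]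
  rintro g ⟨r, t, hr, ht, hg⟩
  exact ⟨_, by rw [hg, hMat_torus D hD r hr t ht]⟩

theorem torus_conj_x (D : ChevalleyDatum) (hD : D ∈ [chevG2, chevB2, chevD4, chevF4, chevE6, chevE7, chevE8])
    (g : GL D.Idx F) (hg : g ∈ torus F D) :
    ∃ χ : ℕ → Fˣ, ∀ r < D.nroots, ∀ t : F,
      (g : Matrix D.Idx D.Idx F) * D.x F r t * ((g⁻¹ : GL D.Idx F) : Matrix D.Idx D.Idx F) =
        D.x F r ((χ r : F) * t) := by
  obtain ⟨c, hc⟩ := hg
  refine ⟨torusChi D c, ?_⟩
  intro r hr t
  rw [inv_val_of_charDiag D g _ hc, hc]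
  exact Cfsg.Agent.S2157.result D hD (torusChi D c) (torusChi_root D hD c) r hr t

end

end Cfsg.Agent.Lib.Helper7.ChevTorus
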