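import Cfsg.Agent.Lib.Helper7.Shift

set_option autoImplicit false

namespace Cfsg.Agent.Lib.Helper7.Tri2

open Finset Cfsg.Agent.Lib.Helper7.Shift
open scoped commutatorElement

variable {ι : Type*} [Fintype ι] [DecidableEq ι] {R : Type*} [CommRing R]

theorem diag_mul (b : ι → ℕ) (hb : Function.Injective b) {M N : Matrix ι ι R} (hM : Sh b 0 M) (hN : Sh b 0 N)
    (i : ι) : (M * N) i i = M i i * N i i := by
  rw [Matrix.mul_apply, Finset.sum_eq_single i]
  · intro k _ hk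
    by_contra hne
    have h1 : M i k ≠ 0 := left_ne_zero_of_mul hne
    have h2 : N k i ≠ 0 := right_ne_zero_of_mul hne
    have h3 := hM i k h1
    have h4 := hN k i h2
    exact hk (hb (by omega))
  · intro h
    exact absurd (Finset.mem_univ i) h

def TG (b : ι → ℕ) : Subgroup (Matrix ι ι R)ˣ where
  carrier := {g | Sh b 0 (g : Matrix ι ι R) ∧ Sh b 0 ((g⁻¹ : (Matrix ι ι R)ˣ) : Matrix ι ι R)}
  mul_mem' := by
    rintro g h ⟨hg1, hg2⟩ ⟨hh1, hh2⟩
    refine ⟨?_, ?_⟩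
    · rw [Units.val_mul]
      exact sh_mul b 0 0 hg1 hh1
    · rw [mul_inv_rev, Units.val_mul]
      exact sh_mul b 0 0 hh2 hg2
  one_mem' := by
    refine ⟨?_, ?_⟩
    · rw [Units.val_one]
      exact sh_one b
    · rw [inv_one, Units.val_one]
      exact sh_one b
  inv_mem' := by
    rintro g ⟨h1, h2⟩
    exact ⟨h2, by rw [inv_inv]; exact h1⟩

theorem mem_TG (b : ι → ℕ) (g : (Matrix ι ι R)ˣ) :
    g ∈ TG b ↔ Sh b 0 (g : Matrix ι ι R) ∧ Sh b 0 ((g⁻¹ : (Matrix ι ι R)ˣ) : Matrix ι ι R) := Iff.rfl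

theorem comm_mem_UL1 (b : ι → ℕ) (hb : Function.Injective b) (B : ℕ) (hB : ∀ i, b i < B)
    (g h : (Matrix ι ι R)ˣ) (hg : g ∈ TG b) (hh : h ∈ TG b) : ⁅g, h⁆ ∈ UL b B hB 1 le_rfl := by
  rw [mem_UL]
  have hgh : g * h ∈ TG b := mul_mem hg hh
  have hghg : g * h * g⁻¹ ∈ TG b := mul_mem hgh (inv_mem hg)
  have hc : g * h * g⁻¹ * h⁻¹ ∈ TG b := mul_mem hghg (inv_mem hh)
  rw [commutatorElement_def]
  intro i j hne
  by_cases hij : i = j
  · subst hij
    exfalso
    apply hne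
    rw [Matrix.sub_apply, Matrix.one_apply_eq, Units.val_mul, diag_mul b hb hghg.1 hh.2, Units.val_mul,
      diag_mul b hb hgh.1 hg.2, Units.val_mul, diag_mul b hb hg.1 hh.1]
    have e1 : (g : Matrix ι ι R) i i * ((g⁻¹ : (Matrix ι ι R)ˣ) : Matrix ι ι R) i i = 1 := by
      rw [← diag_mul b hb hg.1 hg.2, Units.mul_inv, Matrix.one_apply_eq]
    have e2 : (h : Matrix ι ι R) i i * ((h⁻¹ : (Matrix ι ι R)ˣ) : Matrix ι ι R) i i = 1 := by
      rw [← diag_mul b hb hh.1 hh.2, Units.mul_inv, Matrix.one_apply_eq]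
    linear_combination ((h : Matrix ι ι R) i i * ((h⁻¹ : (Matrix ι ι R)ˣ) : Matrix ι ι R) i i) * e1 + e2
  · have h1 : ((g * h * g⁻¹ * h⁻¹ : (Matrix ι ι R)ˣ) : Matrix ι ι R) i j ≠ 0 := by
      rwa [Matrix.sub_apply, Matrix.one_apply_ne hij, sub_zero] at hne
    have h2 := hc.1 i j h1
    have h3 : b j ≠ b i := fun e => hij (hb e).symm
    omega

theorem UL_le_TG (b : ι → ℕ) (B : ℕ) (hB : ∀ i, b i < B) : UL (R := R) b B hB 1 le_rfl ≤ TG b := by
  have key : ∀ g : (Matrix ι ι R)ˣ, g ∈ UL b B hB 1 le_rfl → Sh b 0 (g : Matrix ι ι R) := by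
    intro g hg
    rw [mem_UL] at hg
    have e : (g : Matrix ι ι R) = ((g : Matrix ι ι R) - 1) + 1 := by abel
    rw [e]
    exact sh_add b 0 (sh_mono b (Nat.zero_le 1) hg) (sh_one b)
  intro g hg
  exact ⟨key g hg, key g⁻¹ (inv_mem hg)⟩

theorem isSolvable_TG (b : ι → ℕ) (hb : Function.Injective b) (B : ℕ) (hB : ∀ i, b i < B) :
    Group.IsSolvable (TG (R := R) b) := by
  haveI : Group.IsNilpotent (UL (R := R) b B hB 1 le_rfl) := isNilpotent_of_le_UL b B hB _ le_rfl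
  apply Group.isSolvable_of_ker_le_range (Subgroup.inclusion (UL_le_TG (R := R) b B hB))
    (Abelianization.of (G := TG (R := R) b))
  rw [Abelianization.ker_of]
  have hle : commutator (TG (R := R) b) ≤ (UL (R := R) b B hB 1 le_rfl).subgroupOf (TG b) := by
    unfold commutator
    rw [Subgroup.commutator_le]
    intro g₁ _ g₂ _
    rw [Subgroup.mem_subgroupOf]
    exact comm_mem_UL1 b hb B hB g₁.1 g₂.1 g₁.2 g₂.2
  intro x hx
  have hx' := hle hx
  rw [Subgroup.mem_subgroupOf] at hx'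
  exact ⟨⟨x.1, hx'⟩, Subtype.ext rfl⟩

theorem isSolvable_of_le_TG (b : ι → ℕ) (hb : Function.Injective b) (B : ℕ) (hB : ∀ i, b i < B)
    (H : Subgroup (Matrix ι ι R)ˣ) (hH : H ≤ TG b) : Group.IsSolvable H := by
  haveI := isSolvable_TG (R := R) b hb B hB
  exact Group.isSolvable_of_isSolvable_injective (Subgroup.inclusion_injective hH)

theorem diag_sh_one (b : ι → ℕ) (d : ι → R) (h : Sh b 1 (Matrix.diagonal d - 1)) : Matrix.diagonal d = 1 := by
  ext i j
  by_cases hij : i = j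
  · subst hij
    by_contra hne
    have h1 : (Matrix.diagonal d - 1) i i ≠ 0 := by
      rw [Matrix.sub_apply]
      exact sub_ne_zero.mpr hne
    have := h i i h1
    omega
  · rw [Matrix.diagonal_apply_ne _ hij, Matrix.one_apply_ne hij]

theorem sh_diagonal (b : ι → ℕ) (d : ι → R) : Sh b 0 (Matrix.diagonal d) := by
  intro i j hne
  by_cases hij : i = j
  · subst hij
    exact le_rfl
  · exact absurd (Matrix.diagonal_apply_ne _ hij) hne

end Cfsg.Agent.Lib.Helper7.Tri2
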