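import Cfsg.Agent.Lib.Helper7.ChevTri
import Cfsg.Prelude.Def_ChevG2
import Cfsg.Prelude.Def_ChevB2
import Cfsg.Prelude.Def_ChevD4
import Cfsg.Prelude.Def_ChevF4
import Cfsg.Prelude.Def_ChevE6
import Cfsg.Prelude.Def_ChevE7
import Cfsg.Prelude.Def_ChevE8

set_option autoImplicit false
set_option maxRecDepth 1000000

namespace Cfsg.Agent.Lib.Helper7.TriAll
open Cfsg.Lie Cfsg.Agent.Lib.Helper7.ChevTri

theorem triG2 : triCheck chevG2 = true := by decide +kernel
theorem triB2 : triCheck chevB2 = true := by decide +kernel
theorem triD4 : triCheck chevD4 = true := by decide +kernel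
theorem triF4 : triCheck chevF4 = true := by decide +kernel
theorem triE6 : triCheck chevE6 = true := by decide +kernel
theorem triE7 : triCheck chevE7 = true := by decide +kernel
theorem triE8 : triCheck chevE8 = true := by decide +kernel

theorem tri_of_mem (D : ChevalleyDatum)
    (hD : D ∈ [chevG2, chevB2, chevD4, chevF4, chevE6, chevE7, chevE8]) : triCheck D = true := by
  simp only [List.mem_cons, List.not_mem_nil, or_false] at hD
  rcases hD with rfl | rfl | rfl | rfl | rfl | rfl | rfl
  · exact triG2
  · exact triB2
  · exact triD4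
  · exact triF4
  · exact triE6
  · exact triE7
  · exact triE8

end Cfsg.Agent.Lib.Helper7.TriAll
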