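import Cfsg.Agent.Lib.Helper7.ChevExch
import Cfsg.Agent.Lib.Helper7.RelAll
import Cfsg.Agent.S1036

set_option autoImplicit false
set_option maxHeartbeats 400000
set_option maxRecDepth 1000000

namespace Cfsg.Agent.Lib.Helper7.ChevBN3
open Cfsg.Lie Cfsg.Agent.Lib.Helper7.ChevEngine Cfsg.Agent.Lib.Helper7.ChevN
  Cfsg.Agent.Lib.Helper7.ChevConj
  Cfsg.Agent.Lib.Helper7.ChevConjT Cfsg.Agent.Lib.Helper7.ChevConjU Cfsg.Agent.Lib.Helper7.ChevAdd
  Cfsg.Agent.Lib.Helper7.ChevHAll Cfsg.Agent.Lib.Helper7.HBaseAll Cfsg.Agent.Lib.Helper7.ChevTorus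
  Cfsg.Agent.Lib.Helper7.ChevBN Cfsg.Agent.Lib.Helper7.ChevGen Cfsg.Agent.Lib.Helper7.ChevOrb
  Cfsg.Agent.Lib.Helper7.ChevW0 Cfsg.Agent.Lib.Helper7.ChevComm Cfsg.Agent.Lib.Helper7.ChevPerf
  Cfsg.Agent.Lib.Helper7.ChevRel Cfsg.Agent.Lib.Helper7.Shift Cfsg.Agent.Lib.Helper7.Tri2
  Cfsg.Agent.Lib.Helper7.ChevTri Cfsg.Agent.Lib.Helper7.ChevTriNeg Cfsg.Agent.Lib.Helper7.ChevNW
  Cfsg.Agent.Lib.Helper7.W0All Cfsg.Agent.Lib.Helper7.ChevExch Cfsg.Agent.Lib.Helper7.RelAll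

def negPosCheck (D : ChevalleyDatum) : Bool :=
  (List.range D.nroots).all fun r => !decide (D.IsNegRoot r) || decide (D.IsPosRoot (D.neg r))

theorem npG2 : negPosCheck chevG2 = true := by decide +kernel
theorem npB2 : negPosCheck chevB2 = true := by decide +kernel
theorem npD4 : negPosCheck chevD4 = true := by decide +kernel
theorem npF4 : negPosCheck chevF4 = true := by decide +kernel
theorem npE6 : negPosCheck chevE6 = true := by decide +kernel
theorem npE7 : negPosCheck chevE7 = true := by decide +kernel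
theorem npE8 : negPosCheck chevE8 = true := by decide +kernel

theorem neg_pos (D : ChevalleyDatum) (hD : D ∈ [chevG2, chevB2, chevD4, chevF4, chevE6, chevE7, chevE8])
    (r : ℕ) (hr : D.IsNegRoot r) : D.IsPosRoot (D.neg r) := by
  have h : negPosCheck D = true := by
    simp only [List.mem_cons, List.not_mem_nil, or_false] at hD
    rcases hD with rfl | rfl | rfl | rfl | rfl | rfl | rfl
    exacts [npG2, npB2, npD4, npF4, npE6, npE7, npE8]
  unfold negPosCheck at h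
  simp only [List.all_eq_true, List.mem_range, Bool.or_eq_true, Bool.not_eq_true', decide_eq_false_iff_not,
    decide_eq_true_eq] at h
  rcases h r hr.1 with h1 | h1
  · exact absurd hr h1
  · exact h1

section
variable {F : Type*} [Field F]

theorem xGL_zero (D : ChevalleyDatum) (hD : D ∈ [chevG2, chevB2, chevD4, chevF4, chevE6, chevE7, chevE8])
    (r : ℕ) : xGL (F := F) D hD r 0 = 1 := by
  apply Units.ext
  rw [xGL_val, x_zero, Units.val_one]

theorem xGL_mem_U (D : ChevalleyDatum) (hD : D ∈ [chevG2, chevB2, chevD4, chevF4, chevE6, chevE7, chevE8])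
    (r : ℕ) (hr : D.IsPosRoot r) (t : F) : xGL D hD r t ∈ D.posUnipotent F :=
  Subgroup.subset_closure ⟨r, t, hr, xGL_val D hD r t⟩

theorem U_le_B (D : ChevalleyDatum) : D.posUnipotent F ≤ D.borelSubgroup F := by
  unfold ChevalleyDatum.borelSubgroup
  exact le_sup_left

theorem H_le_B (D : ChevalleyDatum) : D.diagonalSubgroup F ≤ D.borelSubgroup F := by
  unfold ChevalleyDatum.borelSubgroup
  exact le_sup_right

theorem H_le_N (D : ChevalleyDatum) : D.diagonalSubgroup F ≤ D.monomialSubgroup F := by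
  unfold ChevalleyDatum.monomialSubgroup
  exact le_sup_left

theorem Up_le_U (D : ChevalleyDatum) (p : ℕ) : Up F D p ≤ D.posUnipotent F := by
  unfold Up ChevalleyDatum.posUnipotent
  apply Subgroup.closure_mono
  rintro g ⟨s, t, hs, -, hg⟩
  exact ⟨s, t, hs, hg⟩

theorem U_decomp (D : ChevalleyDatum) (hD : D ∈ [chevG2, chevB2, chevD4, chevF4, chevE6, chevE7, chevE8])
    (i : ℕ) (hi : i < D.rank) (u : GL D.Idx F) (hu : u ∈ D.posUnipotent F) :
    ∃ u' ∈ Up F D (D.simple i), ∃ t : F, u = u' * xGL D hD (D.simple i) t := by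
  have hgen := (norm_all (F := F) D hD i hi).1
  unfold ChevalleyDatum.posUnipotent at hu
  induction hu using Subgroup.closure_induction with
  | mem x hx =>
    obtain ⟨r, t, hr, hx⟩ := hx
    have hxe : x = xGL D hD r t := Units.ext (by rw [hx, xGL_val])
    by_cases hrp : r = D.simple i
    · exact ⟨1, one_mem _, t, by rw [hxe, hrp, one_mul]⟩
    · exact ⟨x, by rw [hxe]; exact xGL_mem_Up D hD _ r hr hrp t, 0, by rw [xGL_zero, mul_one]⟩
  | one => exact ⟨1, one_mem _, 0, by rw [xGL_zero, mul_one]⟩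
  | mul x y _ _ ihx ihy =>
    obtain ⟨u1, hu1, t1, rfl⟩ := ihx
    obtain ⟨u2, hu2, t2, rfl⟩ := ihy
    refine ⟨u1 * (xGL D hD (D.simple i) t1 * u2 * (xGL D hD (D.simple i) t1)⁻¹),
      mul_mem hu1 (conj_mem_Up D hD _ _ hgen t1 u2 hu2), t1 + t2, ?_⟩
    rw [← xGL_add]
    group
  | inv x _ ih =>
    obtain ⟨u1, hu1, t1, rfl⟩ := ih
    refine ⟨xGL D hD (D.simple i) (-t1) * u1⁻¹ * (xGL D hD (D.simple i) (-t1))⁻¹,
      conj_mem_Up D hD _ _ hgen (-t1) _ (inv_mem hu1), -t1, ?_⟩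
    rw [xGL_neg]
    group

theorem B_decomp (D : ChevalleyDatum) (hD : D ∈ [chevG2, chevB2, chevD4, chevF4, chevE6, chevE7, chevE8])
    (b : GL D.Idx F) (hb : b ∈ D.borelSubgroup F) :
    ∃ u ∈ D.posUnipotent F, ∃ h ∈ D.diagonalSubgroup F, b = u * h := by
  let T : Subgroup (GL D.Idx F) :=
    { carrier := {b | ∃ u ∈ D.posUnipotent F, ∃ h ∈ D.diagonalSubgroup F, b = u * h}
      mul_mem' := by
        rintro _ _ ⟨u1, hu1, h1, hh1, rfl⟩ ⟨u2, hu2, h2, hh2, rfl⟩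
        refine ⟨u1 * (h1 * u2 * h1⁻¹), mul_mem hu1 (Cfsg.Agent.S1036.conj_mem D hD h1
          (diagonalSubgroup_le_torus D hD hh1) u2 hu2), h1 * h2, mul_mem hh1 hh2, ?_⟩
        group
      one_mem' := ⟨1, one_mem _, 1, one_mem _, by rw [mul_one]⟩
      inv_mem' := by
        rintro _ ⟨u1, hu1, h1, hh1, rfl⟩
        refine ⟨h1⁻¹ * u1⁻¹ * h1⁻¹⁻¹, Cfsg.Agent.S1036.conj_mem D hD h1⁻¹
          (diagonalSubgroup_le_torus D hD (inv_mem hh1)) _ (inv_mem hu1), h1⁻¹, inv_mem hh1, ?_⟩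
        group }
  have hle : D.borelSubgroup F ≤ T := by
    unfold ChevalleyDatum.borelSubgroup
    apply sup_le
    · intro u hu
      exact ⟨u, hu, 1, one_mem _, by rw [mul_one]⟩
    · intro h hh
      exact ⟨1, one_mem _, h, hh, by rw [one_mul]⟩
  exact hle hb

theorem H_conj_x (D : ChevalleyDatum) (hD : D ∈ [chevG2, chevB2, chevD4, chevF4, chevE6, chevE7, chevE8])
    (h : GL D.Idx F) (hh : h ∈ D.diagonalSubgroup F) :
    ∃ χ : ℕ → F, ∀ r < D.nroots, ∀ t : F, h * xGL D hD r t * h⁻¹ = xGL D hD r (χ r * t) := by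
  obtain ⟨χ, hχ⟩ := torus_conj_x D hD h (diagonalSubgroup_le_torus D hD hh)
  refine ⟨fun r => (χ r : F), ?_⟩
  intro r hr t
  apply Units.ext
  rw [Units.val_mul, Units.val_mul, xGL_val, xGL_val]
  exact hχ r hr t

theorem B_decomp3 (D : ChevalleyDatum) (hD : D ∈ [chevG2, chevB2, chevD4, chevF4, chevE6, chevE7, chevE8])
    (i : ℕ) (hi : i < D.rank) (b : GL D.Idx F) (hb : b ∈ D.borelSubgroup F) :
    ∃ u' ∈ Up F D (D.simple i), ∃ h ∈ D.diagonalSubgroup F, ∃ t : F,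
      b = u' * h * xGL D hD (D.simple i) t := by
  obtain ⟨hC, -, -⟩ := all_of_mem D hD
  obtain ⟨u, hu, h, hh, rfl⟩ := B_decomp D hD b hb
  obtain ⟨u', hu', t, rfl⟩ := U_decomp D hD i hi u hu
  obtain ⟨χ, hχ⟩ := H_conj_x D hD h⁻¹ (inv_mem hh)
  refine ⟨u', hu', h, hh, χ (D.simple i) * t, ?_⟩
  rw [← hχ _ (simple_lt D hC i hi) t]
  group

theorem nI_conj_Up (D : ChevalleyDatum) (hD : D ∈ [chevG2, chevB2, chevD4, chevF4, chevE6, chevE7, chevE8])
    (i : ℕ) (hi : i < D.rank) (u : GL D.Idx F) (hu : u ∈ Up F D (D.simple i)) :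
    nI D hD i * u * (nI D hD i)⁻¹ ∈ D.posUnipotent F := by
  have sd := signData_of_mem D hD
  obtain ⟨hC, -, -⟩ := all_of_mem D hD
  obtain ⟨m, W, hn, -, hcj⟩ := hC.1 i hi
  unfold Up at hu
  induction hu using Subgroup.closure_induction with
  | mem x hx =>
    obtain ⟨s, t, hs, hsp, hx⟩ := hx
    have hxe : x = xGL D hD s t := Units.ext (by rw [hx, xGL_val])
    have e3 : nI D hD i * xGL D hD s t =
        xGL D hD (D.reflectRoot i s) (((etaM m s : ℤ) : F) * t) * nI D hD i := by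
      apply Units.ext
      rw [Units.val_mul, Units.val_mul, xGL_val, xGL_val, nI_val]
      exact conj_x D i m W hn hcj _ hs.1 _
    rw [hxe, e3, mul_inv_cancel_right]
    exact xGL_mem_U D hD _ (sd.refl_pos i hi s hs hsp) _
  | one =>
    rw [mul_one, mul_inv_cancel]
    exact one_mem _
  | mul x y _ _ ihx ihy =>
    rw [← conj_mul]
    exact mul_mem ihx ihy
  | inv x _ ih =>
    rw [← conj_inv]
    exact inv_mem ih

def RP (D : ChevalleyDatum) (hD : D ∈ [chevG2, chevB2, chevD4, chevF4, chevE6, chevE7, chevE8])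
    (g : GL D.Idx F) : Prop :=
  ∀ r < D.nroots, ∃ r' < D.nroots, ∃ c c' : F, (∀ t : F, g * xGL D hD r t * g⁻¹ = xGL D hD r' (c * t)) ∧
    (∀ t : F, g * xGL D hD (D.neg r) t * g⁻¹ = xGL D hD (D.neg r') (c' * t))

theorem rp_mul (D : ChevalleyDatum) (hD : D ∈ [chevG2, chevB2, chevD4, chevF4, chevE6, chevE7, chevE8])
    (g1 g2 : GL D.Idx F) (h1 : RP D hD g1) (h2 : RP D hD g2) : RP D hD (g1 * g2) := by
  intro r hr
  obtain ⟨r1, hr1, c1, c1', e1, e1'⟩ := h2 r hr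
  obtain ⟨r2, hr2, c2, c2', e2, e2'⟩ := h1 r1 hr1
  refine ⟨r2, hr2, c2 * c1, c2' * c1', ?_, ?_⟩
  · intro t
    have e : g1 * g2 * xGL D hD r t * (g1 * g2)⁻¹ = g1 * (g2 * xGL D hD r t * g2⁻¹) * g1⁻¹ := by group
    rw [e, e1, e2, mul_assoc]
  · intro t
    have e : g1 * g2 * xGL D hD (D.neg r) t * (g1 * g2)⁻¹ =
        g1 * (g2 * xGL D hD (D.neg r) t * g2⁻¹) * g1⁻¹ := by group
    rw [e, e1', e2', mul_assoc]

theorem rp_H (D : ChevalleyDatum) (hD : D ∈ [chevG2, chevB2, chevD4, chevF4, chevE6, chevE7, chevE8])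
    (h : GL D.Idx F) (hh : h ∈ D.diagonalSubgroup F) : RP D hD h := by
  obtain ⟨χ, hχ⟩ := H_conj_x D hD h hh
  intro r hr
  exact ⟨r, hr, χ r, χ (D.neg r), hχ r hr, hχ _ (neg_lt D hD r hr)⟩

theorem nI_inv_conj (D : ChevalleyDatum) (hD : D ∈ [chevG2, chevB2, chevD4, chevF4, chevE6, chevE7, chevE8])
    (i : ℕ) (hi : i < D.rank) (r : ℕ) (hr : r < D.nroots) :
    ∃ c : F, ∀ t : F, (nI D hD i)⁻¹ * xGL D hD r t * (nI D hD i)⁻¹⁻¹ = xGL D hD (D.reflectRoot i r) (c * t) := by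
  obtain ⟨hC, -, -⟩ := all_of_mem D hD
  obtain ⟨m, W, hn, -, hcj⟩ := hC.1 i hi
  obtain ⟨-, -, hw⟩ := refl_props D i m W hcj
  refine ⟨((etaM m (D.reflectRoot i r) : ℤ) : F), ?_⟩
  intro t
  have e3 : nI D hD i * xGL D hD (D.reflectRoot i r) (((etaM m (D.reflectRoot i r) : ℤ) : F) * t) =
      xGL D hD r t * nI D hD i := by
    apply Units.ext
    rw [Units.val_mul, Units.val_mul, xGL_val, xGL_val, nI_val]
    have h1 := conj_x (F := F) D i m W hn hcj _ (hw r hr).1 (((etaM m (D.reflectRoot i r) : ℤ) : F) * t)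
    rw [(hw r hr).2] at h1
    have h2 : ((etaM m (D.reflectRoot i r) : ℤ) : F) * (((etaM m (D.reflectRoot i r) : ℤ) : F) * t) = t := by
      rcases etaM_cases m (D.reflectRoot i r) with h | h <;> rw [h] <;> simp
    rw [h2] at h1
    exact h1
  rw [inv_inv, mul_assoc, ← e3, inv_mul_cancel_left]

theorem rp_nI_inv (D : ChevalleyDatum) (hD : D ∈ [chevG2, chevB2, chevD4, chevF4, chevE6, chevE7, chevE8])
    (i : ℕ) (hi : i < D.rank) : RP (F := F) D hD (nI D hD i)⁻¹ := by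
  obtain ⟨hC, -, -⟩ := all_of_mem D hD
  obtain ⟨m, W, hn, -, hcj⟩ := hC.1 i hi
  intro r hr
  obtain ⟨c, hc⟩ := nI_inv_conj (F := F) D hD i hi r hr
  obtain ⟨c', hc'⟩ := nI_inv_conj (F := F) D hD i hi (D.neg r) (neg_lt D hD r hr)
  rw [(neg_props D i m W hcj r hr).2.1] at hc'
  exact ⟨D.reflectRoot i r, refl_lt D hD i hi r hr, c, c', hc, hc'⟩

theorem rp_nW_inv (D : ChevalleyDatum) (hD : D ∈ [chevG2, chevB2, chevD4, chevF4, chevE6, chevE7, chevE8])
    (is : List ℕ) (his : ∀ i ∈ is, i < D.rank) : RP (F := F) D hD (nWordGL D hD is)⁻¹ := by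
  induction is with
  | nil =>
    rw [nWordGL_nil, inv_one]
    exact rp_H D hD 1 (one_mem _)
  | cons i is ih =>
    rw [nWordGL_cons, mul_inv_rev]
    exact rp_mul D hD _ _ (ih (fun j hj => his j (List.mem_cons_of_mem _ hj))) (rp_nI_inv D hD i (his i (by simp)))

theorem rp_N_inv (D : ChevalleyDatum) (hD : D ∈ [chevG2, chevB2, chevD4, chevF4, chevE6, chevE7, chevE8])
    (n : GL D.Idx F) (hn : n ∈ D.monomialSubgroup F) : RP D hD n⁻¹ := by
  obtain ⟨h, hh, is, his, rfl⟩ := mono_form D hD n hn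
  rw [mul_inv_rev]
  exact rp_mul D hD _ _ (rp_nW_inv D hD is his) (rp_H D hD _ (inv_mem hh))

theorem rank_one (D : ChevalleyDatum) (hD : D ∈ [chevG2, chevB2, chevD4, chevF4, chevE6, chevE7, chevE8])
    (i : ℕ) (hi : i < D.rank) (t : F) (ht : t ≠ 0) :
    ∃ h ∈ D.diagonalSubgroup F, xGL D hD (D.neg (D.simple i)) t =
      xGL D hD (D.simple i) t⁻¹ * h * nI D hD i * xGL D hD (D.simple i) t⁻¹ := by
  obtain ⟨hC, -, -⟩ := all_of_mem D hD
  have hc : -t⁻¹ ≠ 0 := neg_ne_zero.mpr (inv_ne_zero ht)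
  refine ⟨wordGL D hD (D.hWord (D.simple i) (-t⁻¹)), ?_, ?_⟩
  · apply Subgroup.subset_closure
    exact ⟨D.simple i, -t⁻¹, simple_lt D hC i hi, hc, wordGL_val D hD _⟩
  · have e1 : wordGL D hD (D.hWord (D.simple i) (-t⁻¹)) * nI D hD i =
        wordGL D hD (D.nWord (D.simple i) (-t⁻¹)) := by
      apply Units.ext
      rw [Units.val_mul, wordGL_val, wordGL_val, nI_val]
      change D.hMat F (D.simple i) (-t⁻¹) * D.nMat F (D.simple i) 1 = D.nMat F (D.simple i) (-t⁻¹)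
      rw [hMat_expand, mul_assoc, nMat_inv D hD (D.simple i) 1 one_ne_zero, mul_one]
    have e2 : wordGL D hD (D.nWord (D.simple i) (-t⁻¹)) =
        xGL D hD (D.simple i) (-t⁻¹) * xGL D hD (D.neg (D.simple i)) t * xGL D hD (D.simple i) (-t⁻¹) := by
      unfold wordGL ChevalleyDatum.nWord
      simp only [List.map_cons, List.map_nil, List.prod_cons, List.prod_nil, mul_one, inv_neg, inv_inv, neg_neg,
        mul_assoc]
    rw [mul_assoc (xGL D hD (D.simple i) t⁻¹), e1, e2, xGL_neg]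
    group

theorem nI_conj_xp (D : ChevalleyDatum) (hD : D ∈ [chevG2, chevB2, chevD4, chevF4, chevE6, chevE7, chevE8])
    (i : ℕ) (hi : i < D.rank) : ∃ η : F, η ≠ 0 ∧ ∀ t : F,
      nI D hD i * xGL D hD (D.simple i) t = xGL D hD (D.neg (D.simple i)) (η * t) * nI D hD i := by
  obtain ⟨hC, -, -⟩ := all_of_mem D hD
  obtain ⟨m, W, hn, -, hcj⟩ := hC.1 i hi
  refine ⟨((etaM m (D.simple i) : ℤ) : F), ?_, ?_⟩
  · rcases etaM_cases m (D.simple i) with h | h <;> rw [h] <;> simp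
  · intro t
    apply Units.ext
    rw [Units.val_mul, Units.val_mul, xGL_val, xGL_val, nI_val, ← refl_simple]
    exact conj_x D i m W hn hcj _ (simple_lt D hC i hi) _

theorem bn3 (D : ChevalleyDatum) (hD : D ∈ [chevG2, chevB2, chevD4, chevF4, chevE6, chevE7, chevE8])
    (i : ℕ) (hi : i < D.rank) (b : GL D.Idx F) (hb : b ∈ D.borelSubgroup F)
    (n : GL D.Idx F) (hn : n ∈ D.monomialSubgroup F) :
    (∃ b1 ∈ D.borelSubgroup F, ∃ b2 ∈ D.borelSubgroup F, nI D hD i * b * n = b1 * (nI D hD i * n) * b2) ∨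
    (∃ b1 ∈ D.borelSubgroup F, ∃ b2 ∈ D.borelSubgroup F, nI D hD i * b * n = b1 * n * b2) := by
  have sd := signData_of_mem D hD
  obtain ⟨hC, -, -⟩ := all_of_mem D hD
  have hp := simple_lt D hC i hi
  obtain ⟨u', hu', h, hh, t, rfl⟩ := B_decomp3 D hD i hi b hb
  have hb1 : nI D hD i * (u' * h) * (nI D hD i)⁻¹ ∈ D.borelSubgroup F := by
    have e : nI D hD i * (u' * h) * (nI D hD i)⁻¹ =
        (nI D hD i * u' * (nI D hD i)⁻¹) * (nI D hD i * h * (nI D hD i)⁻¹) := by group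
    rw [e]
    exact mul_mem (U_le_B D (nI_conj_Up D hD i hi u' hu')) (H_le_B D (nI_conj_H D hD i hi h hh))
  obtain ⟨r', hr', c, c', e1, e1'⟩ := rp_N_inv D hD n hn (D.simple i) hp
  rw [inv_inv] at e1 e1'
  by_cases hpos : D.IsPosRoot r'
  · left
    refine ⟨nI D hD i * (u' * h) * (nI D hD i)⁻¹, hb1, xGL D hD r' (c * t), U_le_B D (xGL_mem_U D hD r' hpos _), ?_⟩
    rw [← e1 t]
    group
  · have hneg : D.IsNegRoot r' := by
      rcases sd.pos_or_neg r' hr' with h1 | h1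
      · exact absurd h1 hpos
      · exact h1
    have hpos' : D.IsPosRoot (D.neg r') := neg_pos D hD r' hneg
    by_cases ht : t = 0
    · left
      refine ⟨nI D hD i * (u' * h) * (nI D hD i)⁻¹, hb1, 1, one_mem _, ?_⟩
      rw [ht, xGL_zero]
      group
    · right
      obtain ⟨η, hη, e2⟩ := nI_conj_xp (F := F) D hD i hi
      have ht' : η * t ≠ 0 := mul_ne_zero hη ht
      obtain ⟨hh1, hhh1, e3⟩ := rank_one D hD i hi (η * t) ht'
      obtain ⟨c2, e4⟩ := nI_inv_conj (F := F) D hD i hi (D.simple i) hp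
      rw [inv_inv, refl_simple] at e4
      refine ⟨nI D hD i * (u' * h) * (nI D hD i)⁻¹ * (xGL D hD (D.simple i) (η * t)⁻¹ * hh1 *
        (nI D hD i * nI D hD i)), ?_, xGL D hD (D.neg r') (c' * (c2 * (η * t)⁻¹)),
        U_le_B D (xGL_mem_U D hD _ hpos' _), ?_⟩
      · exact mul_mem hb1 (mul_mem (mul_mem (U_le_B D (xGL_mem_U D hD _ (posSimple D hD i hi) _))
          (H_le_B D hhh1)) (H_le_B D (nI_sq_mem D hD i hi)))
      · rw [← e1' (c2 * (η * t)⁻¹), ← e4 (η * t)⁻¹]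
        have e5 : nI D hD i * (u' * h * xGL D hD (D.simple i) t) * n =
            nI D hD i * (u' * h) * (nI D hD i)⁻¹ * (nI D hD i * xGL D hD (D.simple i) t) * n := by group
        rw [e5, e2 t, e3]
        group

end

end Cfsg.Agent.Lib.Helper7.ChevBN3
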