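import Cfsg.Agent.Lib.Helper7.ChevBN3
import Cfsg.Agent.S1043
import Cfsg.Prelude.Def_LieExceptional

set_option autoImplicit false
set_option maxHeartbeats 400000
set_option maxRecDepth 1000000

namespace Cfsg.Agent.Lib.Helper7.ChevBNP
open Cfsg.Lie Cfsg.Agent.Lib.Helper7.ChevEngine Cfsg.Agent.Lib.Helper7.ChevN
  Cfsg.Agent.Lib.Helper7.ChevConj
  Cfsg.Agent.Lib.Helper7.ChevConjT Cfsg.Agent.Lib.Helper7.ChevConjU Cfsg.Agent.Lib.Helper7.ChevAdd
  Cfsg.Agent.Lib.Helper7.ChevHAll Cfsg.Agent.Lib.Helper7.HBaseAll Cfsg.Agent.Lib.Helper7.ChevTorus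
  Cfsg.Agent.Lib.Helper7.ChevBN Cfsg.Agent.Lib.Helper7.ChevGen Cfsg.Agent.Lib.Helper7.ChevOrb
  Cfsg.Agent.Lib.Helper7.ChevW0 Cfsg.Agent.Lib.Helper7.ChevComm Cfsg.Agent.Lib.Helper7.ChevPerf
  Cfsg.Agent.Lib.Helper7.ChevRel Cfsg.Agent.Lib.Helper7.Shift Cfsg.Agent.Lib.Helper7.Tri2
  Cfsg.Agent.Lib.Helper7.ChevTri Cfsg.Agent.Lib.Helper7.ChevTriNeg Cfsg.Agent.Lib.Helper7.ChevNW
  Cfsg.Agent.Lib.Helper7.W0All Cfsg.Agent.Lib.Helper7.ChevExch Cfsg.Agent.Lib.Helper7.RelAll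
  Cfsg.Agent.Lib.Helper7.ChevBN3

section
variable {F : Type*} [Field F]

def bB (F : Type*) [Field F] (D : ChevalleyDatum) : Subgroup ↥(D.group F) :=
  (D.borelSubgroup F).subgroupOf (D.group F)

def bN (F : Type*) [Field F] (D : ChevalleyDatum) : Subgroup ↥(D.group F) :=
  (D.monomialSubgroup F).subgroupOf (D.group F)

def bS (F : Type*) [Field F] (D : ChevalleyDatum) : Set ↥(D.group F) :=
  {n : ↥(D.group F) | ∃ i < D.rank, ((n : GL D.Idx F) : Matrix D.Idx D.Idx F) = D.nMat F (D.simple i) 1}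

theorem mem_bS (D : ChevalleyDatum) (hD : D ∈ [chevG2, chevB2, chevD4, chevF4, chevE6, chevE7, chevE8])
    (s : ↥(D.group F)) (hs : s ∈ bS F D) : ∃ i < D.rank, (s : GL D.Idx F) = nI D hD i := by
  obtain ⟨i, hi, hs⟩ := hs
  exact ⟨i, hi, Units.ext (by rw [hs, nI_val])⟩

theorem bn_sup (D : ChevalleyDatum) (hD : D ∈ [chevG2, chevB2, chevD4, chevF4, chevE6, chevE7, chevE8]) :
    bB F D ⊔ bN F D = ⊤ := by
  obtain ⟨hBG, hNG, hsup⟩ := Cfsg.Agent.S1043.result (F := F) D hD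
  unfold bB bN
  rw [← Subgroup.subgroupOf_sup hBG hNG, hsup, Subgroup.subgroupOf_self]

theorem N_conj_H (D : ChevalleyDatum) (hD : D ∈ [chevG2, chevB2, chevD4, chevF4, chevE6, chevE7, chevE8])
    (n : GL D.Idx F) (hn : n ∈ D.monomialSubgroup F) (t : GL D.Idx F) (ht : t ∈ D.diagonalSubgroup F) :
    n * t * n⁻¹ ∈ D.diagonalSubgroup F := by
  obtain ⟨h0, hh0, is, his, rfl⟩ := mono_form D hD n hn
  have e : h0 * nWordGL D hD is * t * (h0 * nWordGL D hD is)⁻¹ =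
      h0 * (nWordGL D hD is * t * (nWordGL D hD is)⁻¹) * h0⁻¹ := by group
  rw [e]
  exact mul_mem (mul_mem hh0 (nW_conj_H D hD is his t ht)) (inv_mem hh0)

theorem bn_conj_mem (D : ChevalleyDatum) (hD : D ∈ [chevG2, chevB2, chevD4, chevF4, chevE6, chevE7, chevE8]) :
    ∀ n ∈ bN F D, ∀ t ∈ bB F D ⊓ bN F D, n * t * n⁻¹ ∈ bB F D := by
  rintro n hn t ⟨ht1, ht2⟩
  have hH : (t : GL D.Idx F) ∈ D.diagonalSubgroup F := by
    rw [← borel_inf_mono D hD]
    exact Subgroup.mem_inf.mpr ⟨ht1, ht2⟩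
  have h1 := N_conj_H D hD (n : GL D.Idx F) hn (t : GL D.Idx F) hH
  exact H_le_B D h1

theorem bn_subset (D : ChevalleyDatum) (hD : D ∈ [chevG2, chevB2, chevD4, chevF4, chevE6, chevE7, chevE8]) :
    bS F D ⊆ (bN F D : Set ↥(D.group F)) := by
  intro s hs
  obtain ⟨i, hi, e⟩ := mem_bS D hD s hs
  change (s : GL D.Idx F) ∈ D.monomialSubgroup F
  rw [e]
  exact nI_mem_mono D hD i hi

theorem bn_sq_mem (D : ChevalleyDatum) (hD : D ∈ [chevG2, chevB2, chevD4, chevF4, chevE6, chevE7, chevE8]) :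
    ∀ s ∈ bS F D, s * s ∈ bB F D := by
  intro s hs
  obtain ⟨i, hi, e⟩ := mem_bS D hD s hs
  change (s : GL D.Idx F) * (s : GL D.Idx F) ∈ D.borelSubgroup F
  rw [e]
  exact H_le_B D (nI_sq_mem D hD i hi)

theorem bn_inj (D : ChevalleyDatum) (hD : D ∈ [chevG2, chevB2, chevD4, chevF4, chevE6, chevE7, chevE8]) :
    ∀ s ∈ bS F D, ∀ s' ∈ bS F D, s⁻¹ * s' ∈ bB F D → s = s' := by
  intro s hs s' hs' hB
  have sd := signData_of_mem D hD
  obtain ⟨hC, -, -⟩ := all_of_mem D hD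
  obtain ⟨i, hi, hsv⟩ := hs
  obtain ⟨j, hj, hsv'⟩ := hs'
  have e : (s : GL D.Idx F) = nI D hD i := Units.ext (by rw [hsv, nI_val])
  have e' : (s' : GL D.Idx F) = nI D hD j := Units.ext (by rw [hsv', nI_val])
  have hB' : (nI D hD i)⁻¹ * nI D hD j ∈ D.borelSubgroup F := by
    rw [← e, ← e']
    exact hB
  have hH : (nI D hD i)⁻¹ * nI D hD j ∈ D.diagonalSubgroup F := by
    rw [← borel_inf_mono D hD]
    exact Subgroup.mem_inf.mpr ⟨hB', Subgroup.mul_mem _ (Subgroup.inv_mem _ (nI_mem_mono D hD i hi))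
      (nI_mem_mono D hD j hj)⟩
  have hH' := nI_conj_H D hD i hi _ hH
  have ew : nWordGL (F := F) D hD [j] =
      (nI D hD i * ((nI D hD i)⁻¹ * nI D hD j) * (nI D hD i)⁻¹) * nWordGL D hD [i] := by
    rw [nWordGL_cons, nWordGL_cons, nWordGL_nil, mul_one, mul_one]
    group
  have hperm := same_perm D hD [j] [i] (by simpa using hj) (by simpa using hi) _ hH' ew (D.simple i)
    (simple_lt D hC i hi)
  have h1 : D.reflectRoot j (D.simple i) = D.neg (D.simple i) := by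
    have : wAct D [j] (D.simple i) = wAct D [i] (D.simple i) := hperm
    rw [← refl_simple]
    exact this
  have hsimp : D.simple i = D.simple j := by
    by_contra hne
    have hp := sd.refl_pos j hj (D.simple i) (posSimple D hD i hi) hne
    rw [h1] at hp
    exact sd.not_both _ hp ((sd.neg_iff _ (simple_lt D hC i hi)).mp (posSimple D hD i hi))
  apply Subtype.ext
  apply Units.ext
  rw [hsv, hsv', hsimp]

theorem nW_mem_group (D : ChevalleyDatum) (hD : D ∈ [chevG2, chevB2, chevD4, chevF4, chevE6, chevE7, chevE8])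
    (is : List ℕ) (his : ∀ i ∈ is, i < D.rank) : nWordGL (F := F) D hD is ∈ D.group F :=
  (Cfsg.Agent.S1043.result (F := F) D hD).2.1 (nWordGL_mem D hD is his)

theorem nW_mem_closure (D : ChevalleyDatum) (hD : D ∈ [chevG2, chevB2, chevD4, chevF4, chevE6, chevE7, chevE8])
    (is : List ℕ) (his : ∀ i ∈ is, i < D.rank) :
    ∀ x : ↥(D.group F), (x : GL D.Idx F) = nWordGL D hD is → x ∈ Subgroup.closure (bS F D) := by
  induction is with
  | nil =>
    intro x hx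
    have : x = 1 := Subtype.ext (by rw [hx, nWordGL_nil]; rfl)
    rw [this]
    exact one_mem _
  | cons i is ih =>
    intro x hx
    have his' : ∀ j ∈ is, j < D.rank := fun j hj => his j (List.mem_cons_of_mem _ hj)
    have e : x = (⟨nI D hD i, nI_mem_group D hD i⟩ : ↥(D.group F)) *
        ⟨nWordGL D hD is, nW_mem_group D hD is his'⟩ := by
      apply Subtype.ext
      rw [hx, nWordGL_cons]
      rfl
    rw [e]
    apply mul_mem
    · apply Subgroup.subset_closure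
      exact ⟨i, his i (by simp), nI_val D hD i⟩
    · exact ih his' _ rfl

theorem bn_closure_sup (D : ChevalleyDatum) (hD : D ∈ [chevG2, chevB2, chevD4, chevF4, chevE6, chevE7, chevE8]) :
    Subgroup.closure (bS F D) ⊔ (bB F D ⊓ bN F D) = bN F D := by
  obtain ⟨hBG, hNG, -⟩ := Cfsg.Agent.S1043.result (F := F) D hD
  apply le_antisymm
  · apply sup_le
    · rw [Subgroup.closure_le]
      exact bn_subset D hD
    · exact inf_le_right
  · intro x hx
    obtain ⟨h, hh, is, his, e⟩ := mono_form D hD (x : GL D.Idx F) hx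
    have ex : x = (⟨h, hBG (H_le_B D hh)⟩ : ↥(D.group F)) * ⟨nWordGL D hD is, nW_mem_group D hD is his⟩ := by
      apply Subtype.ext
      rw [e]
      rfl
    rw [ex]
    apply mul_mem
    · apply Subgroup.mem_sup_right
      exact ⟨H_le_B D hh, H_le_N D hh⟩
    · apply Subgroup.mem_sup_left
      exact nW_mem_closure D hD is his _ rfl

theorem bn_mul_mem_union (D : ChevalleyDatum)
    (hD : D ∈ [chevG2, chevB2, chevD4, chevF4, chevE6, chevE7, chevE8]) :
    ∀ s ∈ bS F D, ∀ n ∈ bN F D, ∀ b ∈ bB F D,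
      s * b * n ∈ DoubleCoset.doubleCoset (s * n) (bB F D : Set ↥(D.group F)) (bB F D) ∪
        DoubleCoset.doubleCoset n (bB F D : Set ↥(D.group F)) (bB F D) := by
  intro s hs n hn b hb
  obtain ⟨hBG, hNG, -⟩ := Cfsg.Agent.S1043.result (F := F) D hD
  obtain ⟨i, hi, e⟩ := mem_bS D hD s hs
  rcases bn3 D hD i hi (b : GL D.Idx F) hb (n : GL D.Idx F) hn with
    ⟨b1, hb1, b2, hb2, e1⟩ | ⟨b1, hb1, b2, hb2, e1⟩
  · apply Set.mem_union_left
    rw [DoubleCoset.mem_doubleCoset]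
    refine ⟨⟨b1, hBG hb1⟩, hb1, ⟨b2, hBG hb2⟩, hb2, ?_⟩
    apply Subtype.ext
    change (s : GL D.Idx F) * (b : GL D.Idx F) * (n : GL D.Idx F) = b1 * ((s : GL D.Idx F) * (n : GL D.Idx F)) * b2
    rw [e]
    exact e1
  · apply Set.mem_union_right
    rw [DoubleCoset.mem_doubleCoset]
    refine ⟨⟨b1, hBG hb1⟩, hb1, ⟨b2, hBG hb2⟩, hb2, ?_⟩
    apply Subtype.ext
    change (s : GL D.Idx F) * (b : GL D.Idx F) * (n : GL D.Idx F) = b1 * (n : GL D.Idx F) * b2
    rw [e]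
    exact e1

theorem xGL_ne_one (D : ChevalleyDatum) (hD : D ∈ [chevG2, chevB2, chevD4, chevF4, chevE6, chevE7, chevE8])
    (r : ℕ) (hr : r < D.nroots) (hn : D.neg r < D.nroots) (hne : D.neg r ≠ r) (t : F) (ht : t ≠ 0) :
    xGL D hD r t ≠ 1 := by
  intro h
  have h1 : D.x F r t = 1 := by
    rw [← xGL_val D hD r t, h, Units.val_one]
  rw [x_eq] at h1
  unfold xx at h1
  rw [if_pos hr] at h1
  have h2 := congrFun (congrFun h1 (Sum.inr ⟨r, hr⟩)) (Sum.inr ⟨D.neg r, hn⟩)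
  rw [xM_inr_inr_neg _ _ _ _ _ _ _ hne rfl] at h2
  have hne' : (⟨r, hr⟩ : Fin D.nroots) ≠ ⟨D.neg r, hn⟩ := by
    intro h
    exact hne (congrArg Fin.val h).symm
  rw [if_neg hne', if_pos rfl, Matrix.one_apply_ne (by
    intro h
    exact hne' (Sum.inr.inj h))] at h2
  have : t ^ 2 = 0 := neg_eq_zero.mp h2
  exact ht (pow_eq_zero_iff (two_ne_zero)|>.mp this)

theorem bn_conj_ne (D : ChevalleyDatum) (hD : D ∈ [chevG2, chevB2, chevD4, chevF4, chevE6, chevE7, chevE8]) :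
    ∀ s ∈ bS F D, (fun b : ↥(D.group F) => s * b * s) '' (bB F D : Set ↥(D.group F)) ≠
      (bB F D : Set ↥(D.group F)) := by
  intro s hs heq
  have sd := signData_of_mem D hD
  obtain ⟨hC, -, -⟩ := all_of_mem D hD
  obtain ⟨i, hi, e⟩ := mem_bS D hD s hs
  have hp := simple_lt D hC i hi
  have hpos := posSimple D hD i hi
  have hneg : D.IsNegRoot (D.neg (D.simple i)) := (sd.neg_iff _ hp).mp hpos
  have hxB : xGL D hD (D.simple i) (1 : F) ∈ D.borelSubgroup F := U_le_B D (xGL_mem_U D hD _ hpos 1)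
  have hxG : xGL D hD (D.simple i) (1 : F) ∈ D.group F := xGL_mem_group D hD _ _
  have hmem : s * (⟨xGL D hD (D.simple i) 1, hxG⟩ : ↥(D.group F)) * s ∈ (bB F D : Set ↥(D.group F)) := by
    rw [← heq]
    exact Set.mem_image_of_mem _ hxB
  have hmem' : nI D hD i * xGL D hD (D.simple i) (1 : F) * nI D hD i ∈ D.borelSubgroup F := by
    rw [← e]
    exact hmem
  obtain ⟨η, hη, e2⟩ := nI_conj_xp (F := F) D hD i hi
  rw [e2 1, mul_assoc] at hmem'
  have h3 : xGL D hD (D.neg (D.simple i)) (η * 1) ∈ D.borelSubgroup F := by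
    have := mul_mem hmem' (inv_mem (H_le_B D (nI_sq_mem (F := F) D hD i hi)))
    rw [mul_inv_cancel_right] at this
    exact this
  have h4 : xGL D hD (D.neg (D.simple i)) (η * 1) ∈ D.negUnipotent F :=
    Subgroup.subset_closure ⟨D.neg (D.simple i), η * 1, hneg, xGL_val D hD _ _⟩
  have h5 := Cfsg.Agent.S1037.inter_bot D hD _ h3 h4
  have hpp := neg_pos D hD _ hneg
  refine xGL_ne_one D hD (D.neg (D.simple i)) hneg.1 hpp.1 ?_ (η * 1) (by rw [mul_one]; exact hη) h5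
  intro h
  rw [h] at hpp
  exact sd.not_both _ hpp hneg

def bnPair (F : Type*) [Field F] (D : ChevalleyDatum)
    (hD : D ∈ [chevG2, chevB2, chevD4, chevF4, chevE6, chevE7, chevE8]) : Cfsg.BNPair ↥(D.group F) where
  B := bB F D
  N := bN F D
  S := bS F D
  sup_eq_top := bn_sup D hD
  conj_mem := bn_conj_mem D hD
  subset := bn_subset D hD
  sq_mem := bn_sq_mem D hD
  inj := bn_inj D hD
  closure_sup := bn_closure_sup D hD
  mul_mem_union := bn_mul_mem_union D hD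
  conj_ne := bn_conj_ne D hD

end

end Cfsg.Agent.Lib.Helper7.ChevBNP
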