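import Cfsg.Agent.Lib.Helper7.ChevTri
import Cfsg.Prelude.Def_ChevG2
import Cfsg.Prelude.Def_ChevB2
import Cfsg.Prelude.Def_ChevD4
import Cfsg.Prelude.Def_ChevF4
import Cfsg.Prelude.Def_ChevE6
import Cfsg.Prelude.Def_ChevE7
import Cfsg.Prelude.Def_ChevE8

set_option autoImplicit false
set_option maxRecDepth 1000000

namespace Cfsg.Agent.Lib.Helper7.ChevTriNeg
open Cfsg.Lie Cfsg.Agent.Lib.Helper7.ChevEngine Cfsg.Agent.Lib.Helper7.Shift Cfsg.Agent.Lib.Helper7.ChevTri

def bneg (l n : ℕ) : Ix l n → ℕ := fun idx => l + n - 1 - bfun l n idx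

theorem bneg_lt (l n : ℕ) (i : Ix l n) : bneg l n i < l + n := by
  have := bfun_lt l n i
  unfold bneg
  omega

theorem bneg_le (l n : ℕ) (i j : Ix l n) (k : ℕ) (h : bfun l n i + k ≤ bfun l n j) :
    bneg l n j + k ≤ bneg l n i := by
  have h1 := bfun_lt l n i
  have h2 := bfun_lt l n j
  unfold bneg
  omega

def triCheckN (D : ChevalleyDatum) : Bool :=
  (List.range D.nroots).all fun r =>
    (!decide (D.IsNegRoot r) || decide (r < D.nroots / 2)) &&
    (decide (D.nroots / 2 ≤ r) || (decide (D.nroots / 2 ≤ D.neg r) &&
      (D.chain.getD r #[]).toList.all fun e => e.2.toList.all fun q => decide (q.1 < e.1)))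

theorem triN_neg (D : ChevalleyDatum) (h : triCheckN D = true) (r : ℕ) (hr : D.IsNegRoot r) :
    r < D.nroots / 2 := by
  unfold triCheckN at h
  simp only [List.all_eq_true, List.mem_range, Bool.and_eq_true, Bool.or_eq_true, Bool.not_eq_true',
    decide_eq_false_iff_not, decide_eq_true_eq] at h
  rcases (h r hr.1).1 with h1 | h1
  · exact absurd hr h1
  · exact h1

theorem triN_negIdx (D : ChevalleyDatum) (h : triCheckN D = true) (r : ℕ) (hr : r < D.nroots)
    (hr2 : r < D.nroots / 2) : D.nroots / 2 ≤ (fnsOf D).neg r := by
  unfold triCheckN at h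
  simp only [List.all_eq_true, List.mem_range, Bool.and_eq_true, Bool.or_eq_true, Bool.not_eq_true',
    decide_eq_false_iff_not, decide_eq_true_eq] at h
  rcases (h r hr).2 with h1 | h1
  · omega
  · exact h1.1

theorem triN_ch (D : ChevalleyDatum) (h : triCheckN D = true) (r : ℕ) (hr : r < D.nroots)
    (hr2 : r < D.nroots / 2) (s : ℕ) (x : ℕ × ℤ × ℕ) (hx : x ∈ (fnsOf D).ch r s) : x.1 < s := by
  unfold triCheckN at h
  simp only [List.all_eq_true, List.mem_range, Bool.and_eq_true, Bool.or_eq_true, Bool.not_eq_true',
    decide_eq_false_iff_not, decide_eq_true_eq] at h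
  rcases (h r hr).2 with h1 | h1
  · omega
  · have h2 := h1.2
    simp only [fnsOf, List.mem_flatMap, List.mem_filter, decide_eq_true_eq, List.mem_map] at hx
    obtain ⟨e, ⟨he, hes⟩, q, hq, rfl⟩ := hx
    have hq' : q.1 ∈ e.2.toList := by
      have := List.mem_zipIdx hq
      exact (List.mem_iff_getElem).mpr ⟨q.2 - 0, by omega, this.2.2.symm⟩
    have := h2 e he q.1 hq'
    simp only
    omega

theorem bfun_mono_root (l n : ℕ) (u s : Fin n) (h : u.val < s.val) :
    bfun l n (Sum.inr u) + 1 ≤ bfun l n (Sum.inr s) := by
  simp only [bfun, Sum.elim_inr]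
  split_ifs <;> omega

theorem xM_shN {F : Type*} [Field F] (D : ChevalleyDatum) (h : triCheckN D = true) (r : ℕ) (hr : r < D.nroots)
    (hr2 : r < D.nroots / 2) (t : F) :
    Sh (bneg D.rank D.nroots) 1 (xM D.rank D.nroots (fnsOf D) F r t - 1) := by
  intro row col hne
  apply bneg_le
  rw [Matrix.sub_apply] at hne
  rcases col with i | s
  · rcases row with i' | u
    · exfalso
      apply hne
      rw [xM_inl_inl, Matrix.one_apply]
      by_cases hi : i' = i
      · have : (Sum.inl i' : Ix D.rank D.nroots) = Sum.inl i := by rw [hi]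
        rw [if_pos hi, if_pos this, sub_self]
      · have : ¬ (Sum.inl i' : Ix D.rank D.nroots) = Sum.inl i := fun hh => hi (Sum.inl.inj hh)
        rw [if_neg hi, if_neg this, sub_self]
    · rw [xM_inr_inl, Matrix.one_apply_ne (by simp), sub_zero] at hne
      have hu : u.val = r := by
        by_contra hu
        rw [if_neg hu] at hne
        exact hne rfl
      have := i.isLt
      simp only [bfun, Sum.elim_inl, Sum.elim_inr]
      rw [if_pos (by omega)]
      omega
  · by_cases h1 : s.val = r
    · exfalso
      apply hne
      rcases row with i' | u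
      · rw [xM_inl_inr_r _ _ _ _ _ _ _ h1, Matrix.one_apply_ne (by simp), sub_self]
      · rw [xM_inr_inr_r _ _ _ _ _ _ _ h1, Matrix.one_apply]
        by_cases hu : u.val = r
        · have : (Sum.inr u : Ix D.rank D.nroots) = Sum.inr s := by
            rw [Fin.ext (hu.trans h1.symm)]
          rw [if_pos hu, if_pos this, sub_self]
        · have : ¬ (Sum.inr u : Ix D.rank D.nroots) = Sum.inr s := by
            intro hh
            have := Sum.inr.inj hh
            exact hu (by rw [this]; exact h1)
          rw [if_neg hu, if_neg this, sub_self]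
    · by_cases h2 : s.val = (fnsOf D).neg r
      · have hs : D.nroots / 2 ≤ s.val := by
          rw [h2]
          exact triN_negIdx D h r hr hr2
        rcases row with i' | u
        · have := i'.isLt
          simp only [bfun, Sum.elim_inl, Sum.elim_inr]
          rw [if_neg (by omega)]
          omega
        · rw [xM_inr_inr_neg _ _ _ _ _ _ _ h1 h2, Matrix.one_apply] at hne
          by_cases hu : u = s
          · exfalso
            apply hne
            have : (Sum.inr u : Ix D.rank D.nroots) = Sum.inr s := by rw [hu]
            rw [if_pos hu, if_pos this, sub_self]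
          · have : ¬ (Sum.inr u : Ix D.rank D.nroots) = Sum.inr s := fun hh => hu (Sum.inr.inj hh)
            rw [if_neg hu, if_neg this, sub_zero] at hne
            have hur : u.val = r := by
              by_contra hur
              rw [if_neg hur] at hne
              exact hne rfl
            apply bfun_mono_root
            omega
      · rcases row with i' | u
        · exfalso
          apply hne
          rw [xM_inl_inr_gen _ _ _ _ _ _ _ h1 h2, Matrix.one_apply_ne (by simp), sub_self]
        · rw [xM_inr_inr_gen _ _ _ _ _ _ _ h1 h2, Matrix.one_apply] at hne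
          have e1 : (if u = s then (1 : F) else 0) = if (Sum.inr u : Ix D.rank D.nroots) = Sum.inr s then 1 else 0 := by
            by_cases hu : u = s
            · have : (Sum.inr u : Ix D.rank D.nroots) = Sum.inr s := by rw [hu]
              rw [if_pos hu, if_pos this]
            · have : ¬ (Sum.inr u : Ix D.rank D.nroots) = Sum.inr s := fun hh => hu (Sum.inr.inj hh)
              rw [if_neg hu, if_neg this]
          rw [e1, add_sub_cancel_left] at hne
          have hex : ∃ x ∈ (fnsOf D).ch r s.val, x.1 = u.val := by
            by_contra hno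
            apply hne
            have : ((fnsOf D).ch r s.val).filter (fun x => decide (x.1 = u.val)) = [] := by
              rw [List.filter_eq_nil_iff]
              intro x hx hxu
              exact hno ⟨x, hx, by simpa using hxu⟩
            rw [this]
            rfl
          obtain ⟨x, hx, hxu⟩ := hex
          have hlt := triN_ch D h r hr hr2 s.val x hx
          rw [hxu] at hlt
          exact bfun_mono_root _ _ u s hlt

theorem negUnipotent_le_UL {F : Type*} [Field F] (D : ChevalleyDatum) (h : triCheckN D = true) :
    D.negUnipotent F ≤ UL (R := F) (bneg D.rank D.nroots) (D.rank + D.nroots) (bneg_lt D.rank D.nroots) 1 le_rfl := by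
  unfold ChevalleyDatum.negUnipotent
  rw [Subgroup.closure_le]
  rintro g ⟨r, t, hr, hg⟩
  change Sh (bneg D.rank D.nroots) 1 ((g : Matrix D.Idx D.Idx F) - 1)
  rw [hg, x_eq]
  unfold xx
  rw [if_pos hr.1]
  exact xM_shN D h r hr.1 (triN_neg D h r hr) t

theorem triNG2 : triCheckN chevG2 = true := by decide +kernel
theorem triNB2 : triCheckN chevB2 = true := by decide +kernel
theorem triND4 : triCheckN chevD4 = true := by decide +kernel
theorem triNF4 : triCheckN chevF4 = true := by decide +kernel
theorem triNE6 : triCheckN chevE6 = true := by decide +kernel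
theorem triNE7 : triCheckN chevE7 = true := by decide +kernel
theorem triNE8 : triCheckN chevE8 = true := by decide +kernel

theorem triN_of_mem (D : ChevalleyDatum)
    (hD : D ∈ [chevG2, chevB2, chevD4, chevF4, chevE6, chevE7, chevE8]) : triCheckN D = true := by
  simp only [List.mem_cons, List.not_mem_nil, or_false] at hD
  rcases hD with rfl | rfl | rfl | rfl | rfl | rfl | rfl
  exacts [triNG2, triNB2, triND4, triNF4, triNE6, triNE7, triNE8]

end Cfsg.Agent.Lib.Helper7.ChevTriNeg
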