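import Cfsg.Agent.Lib.Helper7.ChevNW

set_option autoImplicit false
set_option maxHeartbeats 400000
set_option maxRecDepth 1000000

namespace Cfsg.Agent.Lib.Helper7.ChevExch
open Cfsg.Lie Cfsg.Agent.Lib.Helper7.ChevEngine Cfsg.Agent.Lib.Helper7.ChevN
  Cfsg.Agent.Lib.Helper7.ChevConj
  Cfsg.Agent.Lib.Helper7.ChevConjT Cfsg.Agent.Lib.Helper7.ChevConjU Cfsg.Agent.Lib.Helper7.ChevAdd
  Cfsg.Agent.Lib.Helper7.ChevHAll Cfsg.Agent.Lib.Helper7.HBaseAll Cfsg.Agent.Lib.Helper7.ChevTorus
  Cfsg.Agent.Lib.Helper7.ChevBN Cfsg.Agent.Lib.Helper7.ChevGen Cfsg.Agent.Lib.Helper7.ChevOrb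
  Cfsg.Agent.Lib.Helper7.ChevW0 Cfsg.Agent.Lib.Helper7.ChevComm Cfsg.Agent.Lib.Helper7.ChevPerf
  Cfsg.Agent.Lib.Helper7.ChevRel Cfsg.Agent.Lib.Helper7.Shift Cfsg.Agent.Lib.Helper7.Tri2
  Cfsg.Agent.Lib.Helper7.ChevTri Cfsg.Agent.Lib.Helper7.ChevTriNeg Cfsg.Agent.Lib.Helper7.ChevNW
  Cfsg.Agent.Lib.Helper7.W0All

def signCheck (D : ChevalleyDatum) (Wtab : List ℕ) : Bool :=
  (List.range D.nroots).all fun r =>
    (decide (D.IsPosRoot r) != decide (D.IsNegRoot r)) &&
    (decide (D.IsPosRoot r) == decide (D.IsNegRoot (D.neg r))) &&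
    ((List.range D.rank).all fun i =>
      !decide (D.IsPosRoot r) || decide (r = D.simple i) || decide (D.IsPosRoot (wdig (Wtab.getD i 0) r)))

structure SignData (D : ChevalleyDatum) : Prop where
  pos_or_neg : ∀ r < D.nroots, D.IsPosRoot r ∨ D.IsNegRoot r
  not_both : ∀ r, D.IsPosRoot r → D.IsNegRoot r → False
  neg_iff : ∀ r < D.nroots, (D.IsPosRoot r ↔ D.IsNegRoot (D.neg r))
  refl_pos : ∀ i < D.rank, ∀ r, D.IsPosRoot r → r ≠ D.simple i → D.IsPosRoot (D.reflectRoot i r)

theorem signData_of_check (D : ChevalleyDatum) (Wtab : List ℕ) (hW : WtabOk D Wtab)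
    (h : signCheck D Wtab = true) : SignData D := by
  unfold signCheck at h
  simp only [List.all_eq_true, List.mem_range, Bool.and_eq_true, Bool.or_eq_true, Bool.not_eq_true',
    decide_eq_false_iff_not, decide_eq_true_eq, bne_iff_ne, ne_eq, beq_iff_eq, decide_eq_decide] at h
  constructor
  · intro r hr
    have h1 := (h r hr).1.1
    by_cases hp : D.IsPosRoot r
    · exact Or.inl hp
    · right
      by_contra hn
      apply h1
      exact iff_of_false hp hn
  · intro r hp hn
    exact (h r hp.1).1.1 (iff_of_true hp hn)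
  · intro r hr
    exact (h r hr).1.2
  · intro i hi r hp hne
    have h1 := (h r hp.1).2 i hi
    rw [hW i hi r hp.1]
    rcases h1 with (h1 | h1) | h1
    · exact absurd hp h1
    · exact absurd h1 hne
    · exact h1

theorem scG2 : signCheck chevG2 wtG2 = true := by decide +kernel
theorem scB2 : signCheck chevB2 wtB2 = true := by decide +kernel
theorem scD4 : signCheck chevD4 wtD4 = true := by decide +kernel
theorem scF4 : signCheck chevF4 wtF4 = true := by decide +kernel
theorem scE6 : signCheck chevE6 wtE6 = true := by decide +kernel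
theorem scE7 : signCheck chevE7 wtE7 = true := by decide +kernel
theorem scE8 : signCheck chevE8 wtE8 = true := by decide +kernel

theorem signData_of_mem (D : ChevalleyDatum)
    (hD : D ∈ [chevG2, chevB2, chevD4, chevF4, chevE6, chevE7, chevE8]) : SignData D := by
  simp only [List.mem_cons, List.not_mem_nil, or_false] at hD
  rcases hD with rfl | rfl | rfl | rfl | rfl | rfl | rfl
  · exact signData_of_check _ _ woG2 scG2
  · exact signData_of_check _ _ woB2 scB2
  · exact signData_of_check _ _ woD4 scD4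
  · exact signData_of_check _ _ woF4 scF4
  · exact signData_of_check _ _ woE6 scE6
  · exact signData_of_check _ _ woE7 scE7
  · exact signData_of_check _ _ woE8 scE8

theorem rank_pos (D : ChevalleyDatum) (hD : D ∈ [chevG2, chevB2, chevD4, chevF4, chevE6, chevE7, chevE8]) :
    0 < D.rank := by
  simp only [List.mem_cons, List.not_mem_nil, or_false] at hD
  rcases hD with rfl | rfl | rfl | rfl | rfl | rfl | rfl <;> decide

theorem neg_lt (D : ChevalleyDatum) (hD : D ∈ [chevG2, chevB2, chevD4, chevF4, chevE6, chevE7, chevE8])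
    (r : ℕ) (hr : r < D.nroots) : D.neg r < D.nroots := by
  obtain ⟨hC, -, -⟩ := all_of_mem D hD
  obtain ⟨m, W, -, -, hcj⟩ := hC.1 0 (rank_pos D hD)
  exact (neg_props D 0 m W hcj r hr).1

theorem refl_simple (D : ChevalleyDatum) (i : ℕ) : D.reflectRoot i (D.simple i) = D.neg (D.simple i) := by
  unfold ChevalleyDatum.reflectRoot
  simp

theorem refl_neg_simple (D : ChevalleyDatum) (hD : D ∈ [chevG2, chevB2, chevD4, chevF4, chevE6, chevE7, chevE8])
    (i : ℕ) (hi : i < D.rank) : D.reflectRoot i (D.neg (D.simple i)) = D.simple i := by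
  obtain ⟨hC, -, -⟩ := all_of_mem D hD
  obtain ⟨m, W, -, -, hcj⟩ := hC.1 i hi
  have h := ((refl_props D i m W hcj).2.2 (D.simple i) (simple_lt D hC i hi)).2
  rw [refl_simple] at h
  exact h

section
variable {F : Type*} [Field F]

theorem conj_word2 (D : ChevalleyDatum) (hD : D ∈ [chevG2, chevB2, chevD4, chevF4, chevE6, chevE7, chevE8])
    (is : List ℕ) (his : ∀ i ∈ is, i < D.rank) (r : ℕ) (hr : r < D.nroots) :
    wAct D is r < D.nroots ∧ wAct D is (D.neg r) = D.neg (wAct D is r) ∧ ∃ ε : F, (ε = 1 ∨ ε = -1) ∧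
      (∀ t : F, nWordGL D hD is * xGL D hD r t = xGL D hD (wAct D is r) (ε * t) * nWordGL D hD is) ∧
      (∀ t : F, nWordGL D hD is * xGL D hD (D.neg r) t =
        xGL D hD (D.neg (wAct D is r)) (ε * t) * nWordGL D hD is) := by
  induction is with
  | nil =>
    refine ⟨hr, rfl, 1, Or.inl rfl, ?_, ?_⟩
    · intro t
      rw [nWordGL_nil, one_mul, mul_one, one_mul]
      rfl
    · intro t
      rw [nWordGL_nil, one_mul, mul_one, one_mul]
      rfl
  | cons i is ih =>
    obtain ⟨hlt, hng, ε', hε', ih1, ih2⟩ := ih (fun j hj => his j (List.mem_cons_of_mem _ hj))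
    have hi : i < D.rank := his i (by simp)
    obtain ⟨hC, -, -⟩ := all_of_mem D hD
    obtain ⟨m, W, hn, -, hcj⟩ := hC.1 i hi
    obtain ⟨hnlt, hnr, hnη⟩ := neg_props D i m W hcj (wAct D is r) hlt
    refine ⟨by rw [wAct_cons]; exact refl_lt D hD i hi _ hlt, by rw [wAct_cons, wAct_cons, hng, hnr],
      ((etaM m (wAct D is r) : ℤ) : F) * ε', ?_, ?_, ?_⟩
    · rcases etaM_cases m (wAct D is r) with h1 | h1 <;> rcases hε' with rfl | rfl <;> rw [h1] <;> simp
    · intro t
      have e3 : nI D hD i * xGL D hD (wAct D is r) (ε' * t) =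
          xGL D hD (D.reflectRoot i (wAct D is r)) (((etaM m (wAct D is r) : ℤ) : F) * (ε' * t)) *
            nI D hD i := by
        apply Units.ext
        rw [Units.val_mul, Units.val_mul, xGL_val, xGL_val, nI_val]
        exact conj_x D i m W hn hcj _ hlt _
      rw [nWordGL_cons, wAct_cons, mul_assoc, ih1 t, ← mul_assoc, e3, mul_assoc, mul_assoc]
    · intro t
      have e3 : nI D hD i * xGL D hD (D.neg (wAct D is r)) (ε' * t) =
          xGL D hD (D.neg (D.reflectRoot i (wAct D is r))) (((etaM m (wAct D is r) : ℤ) : F) * (ε' * t)) *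
            nI D hD i := by
        apply Units.ext
        rw [Units.val_mul, Units.val_mul, xGL_val, xGL_val, nI_val, ← hnr, ← hnη]
        exact conj_x D i m W hn hcj _ hnlt _
      rw [nWordGL_cons, wAct_cons, mul_assoc, ih2 t, ← mul_assoc, e3, mul_assoc, mul_assoc]

theorem nI_expand (D : ChevalleyDatum) (hD : D ∈ [chevG2, chevB2, chevD4, chevF4, chevE6, chevE7, chevE8])
    (i : ℕ) : nI (F := F) D hD i =
      xGL D hD (D.simple i) 1 * xGL D hD (D.neg (D.simple i)) (-1) * xGL D hD (D.simple i) 1 := by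
  unfold nI wordGL ChevalleyDatum.nWord
  simp only [List.map_cons, List.map_nil, List.prod_cons, List.prod_nil, mul_one, inv_one, mul_assoc]

theorem nI_inv_expand (D : ChevalleyDatum) (hD : D ∈ [chevG2, chevB2, chevD4, chevF4, chevE6, chevE7, chevE8])
    (i : ℕ) : (nI (F := F) D hD i)⁻¹ =
      xGL D hD (D.simple i) (-1) * xGL D hD (D.neg (D.simple i)) 1 * xGL D hD (D.simple i) (-1) := by
  rw [nI_expand, mul_inv_rev, mul_inv_rev, ← xGL_neg, ← xGL_neg, neg_neg, mul_assoc]

theorem nW_conj_nI (D : ChevalleyDatum) (hD : D ∈ [chevG2, chevB2, chevD4, chevF4, chevE6, chevE7, chevE8])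
    (v : List ℕ) (hv : ∀ i ∈ v, i < D.rank) (k j : ℕ) (hk : k < D.rank) (hj : j < D.rank)
    (hw : wAct D v (D.simple k) = D.simple j) :
    ∃ h ∈ D.diagonalSubgroup F, nI D hD j * nWordGL D hD v * nI D hD k = h * nWordGL D hD v := by
  obtain ⟨hC, -, -⟩ := all_of_mem D hD
  obtain ⟨-, -, ε, hε, c1, c2⟩ := conj_word2 (F := F) D hD v hv (D.simple k) (simple_lt D hC k hk)
  rw [hw] at c1 c2
  have key : nWordGL D hD v * nI D hD k =
      xGL D hD (D.simple j) (ε * 1) * xGL D hD (D.neg (D.simple j)) (ε * -1) * xGL D hD (D.simple j) (ε * 1) *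
        nWordGL D hD v := by
    rw [nI_expand, ← mul_assoc, ← mul_assoc, c1, mul_assoc (xGL D hD (D.simple j) (ε * 1)), c2,
      ← mul_assoc, mul_assoc (xGL D hD (D.simple j) (ε * 1) * xGL D hD (D.neg (D.simple j)) (ε * -1)), c1,
      ← mul_assoc]
  rcases hε with rfl | rfl
  · refine ⟨nI D hD j * nI D hD j, nI_sq_mem D hD j hj, ?_⟩
    rw [mul_assoc, key, one_mul, one_mul, ← nI_expand, mul_assoc]
  · refine ⟨1, one_mem _, ?_⟩
    have e1 : (-1 : F) * 1 = -1 := by ring
    have e2 : (-1 : F) * -1 = 1 := by ring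
    rw [mul_assoc, key, e1, e2, ← nI_inv_expand, ← mul_assoc, mul_inv_cancel]

theorem exchange (D : ChevalleyDatum) (hD : D ∈ [chevG2, chevB2, chevD4, chevF4, chevE6, chevE7, chevE8])
    (v : List ℕ) (hv : ∀ i ∈ v, i < D.rank) (k : ℕ) (hk : k < D.rank)
    (hneg : D.IsNegRoot (wAct D v (D.simple k))) :
    ∃ v1 j v2, v = v1 ++ j :: v2 ∧ wAct D v2 (D.simple k) = D.simple j := by
  have sd := signData_of_mem D hD
  obtain ⟨hC, -, -⟩ := all_of_mem D hD
  induction v with
  | nil => exact absurd hneg (fun h => sd.not_both _ (posSimple D hD k hk) h)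
  | cons i v ih =>
    have hv' : ∀ j ∈ v, j < D.rank := fun j hj => hv j (List.mem_cons_of_mem _ hj)
    have hlt := wAct_lt D hD v hv' (D.simple k) (simple_lt D hC k hk)
    by_cases hq : D.IsNegRoot (wAct D v (D.simple k))
    · obtain ⟨v1, j, v2, e, hw⟩ := ih hv' hq
      exact ⟨i :: v1, j, v2, by rw [e, List.cons_append], hw⟩
    · have hp : D.IsPosRoot (wAct D v (D.simple k)) := by
        rcases sd.pos_or_neg _ hlt with h | h
        · exact h
        · exact absurd h hq
      refine ⟨[], i, v, rfl, ?_⟩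
      by_contra hne
      rw [wAct_cons] at hneg
      exact sd.not_both _ (sd.refl_pos i (hv i (by simp)) _ hp hne) hneg

theorem reduce (D : ChevalleyDatum) (hD : D ∈ [chevG2, chevB2, chevD4, chevF4, chevE6, chevE7, chevE8]) :
    ∀ k, ∀ is : List ℕ, is.length = k → (∀ i ∈ is, i < D.rank) → (∀ r < D.nroots, wAct D is r = r) →
      nWordGL (F := F) D hD is ∈ D.diagonalSubgroup F := by
  have sd := signData_of_mem D hD
  obtain ⟨hC, -, -⟩ := all_of_mem D hD
  intro k
  induction k using Nat.strong_induction_on with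
  | _ k ih =>
    intro is hlen his hfix
    rcases List.eq_nil_or_concat is with rfl | ⟨L, b, e0⟩
    · rw [nWordGL_nil]
      exact one_mem _
    · rw [List.concat_eq_append] at e0
      subst e0
      have hb : b < D.rank := his b (by simp)
      have hL : ∀ i ∈ L, i < D.rank := fun i hi => his i (List.mem_append_left _ hi)
      have hp := simple_lt D hC b hb
      have hnp := neg_lt D hD _ hp
      have h1 := hfix _ hnp
      rw [wAct_append] at h1
      have h2 : wAct D [b] (D.neg (D.simple b)) = D.simple b := by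
        change D.reflectRoot b (D.neg (D.simple b)) = D.simple b
        exact refl_neg_simple D hD b hb
      rw [h2] at h1
      have hneg : D.IsNegRoot (wAct D L (D.simple b)) := by
        rw [h1]
        exact (sd.neg_iff _ hp).mp (posSimple D hD b hb)
      obtain ⟨v1, j, v2, e, hw⟩ := exchange D hD L hL b hb hneg
      have hv1 : ∀ i ∈ v1, i < D.rank := fun i hi => hL i (by rw [e]; exact List.mem_append_left _ hi)
      have hj : j < D.rank := hL j (by rw [e]; simp)
      have hv2 : ∀ i ∈ v2, i < D.rank := fun i hi => hL i (by rw [e]; simp [hi])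
      obtain ⟨h, hh, eh⟩ := nW_conj_nI (F := F) D hD v2 hv2 b j hb hj hw
      have e1 : nWordGL (F := F) D hD (L ++ [b]) =
          (nWordGL D hD v1 * h * (nWordGL D hD v1)⁻¹) * nWordGL D hD (v1 ++ v2) := by
        have e2 : nWordGL (F := F) D hD (L ++ [b]) =
            nWordGL D hD v1 * (nI D hD j * nWordGL D hD v2 * nI D hD b) := by
          rw [e, nWordGL_append, nWordGL_append, nWordGL_cons, nWordGL_cons, nWordGL_nil, mul_one]
          simp only [mul_assoc]
        rw [e2, eh, nWordGL_append]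
        group
      have hh' := nW_conj_H D hD v1 hv1 h hh
      have his' : ∀ i ∈ v1 ++ v2, i < D.rank := by
        intro i hi
        rcases List.mem_append.mp hi with h | h
        · exact hv1 i h
        · exact hv2 i h
      have hfix' : ∀ r < D.nroots, wAct D (v1 ++ v2) r = r := by
        intro r hr
        rw [← same_perm D hD (L ++ [b]) (v1 ++ v2) his his' _ hh' e1 r hr]
        exact hfix r hr
      have hlen' : (v1 ++ v2).length < k := by
        rw [← hlen, e]
        simp only [List.length_append, List.length_cons, List.length_nil]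
        omega
      rw [e1]
      exact mul_mem hh' (ih _ hlen' (v1 ++ v2) rfl his' hfix')

theorem borel_inf_mono (D : ChevalleyDatum) (hD : D ∈ [chevG2, chevB2, chevD4, chevF4, chevE6, chevE7, chevE8]) :
    D.borelSubgroup F ⊓ D.monomialSubgroup F = D.diagonalSubgroup F := by
  apply le_antisymm
  · rintro g ⟨hB, hN⟩
    obtain ⟨h, hh, is, his, rfl⟩ := mono_form D hD g hN
    have h1 : h * nWordGL D hD is ∈ TG (R := F) (bfun D.rank D.nroots) :=
      Cfsg.Agent.S1037.borel_le_TG D hD hB
    have h2 : h ∈ TG (R := F) (bfun D.rank D.nroots) :=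
      Cfsg.Agent.S1050.torus_le_TG D (diagonalSubgroup_le_torus D hD hh)
    have h3 : nWordGL D hD is ∈ TG (R := F) (bfun D.rank D.nroots) := by
      have := mul_mem (inv_mem h2) h1
      rw [inv_mul_cancel_left] at this
      exact this
    exact mul_mem hh (reduce D hD _ is rfl his (perm_of_TG D hD is his h3))
  · apply le_inf
    · unfold ChevalleyDatum.borelSubgroup
      exact le_sup_right
    · unfold ChevalleyDatum.monomialSubgroup
      exact le_sup_left

end

end Cfsg.Agent.Lib.Helper7.ChevExch
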