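import Cfsg.Agent.Lib.Helper7.ChevBNP
import Cfsg.Agent.Lib.Helper2.BNPar
import Cfsg.Agent.S1037
import Cfsg.Agent.S1040

set_option autoImplicit false
set_option maxHeartbeats 400000
set_option maxRecDepth 1000000

namespace Cfsg.Agent.Lib.Helper7.ChevBruhat
open Cfsg.Lie Cfsg.Agent.Lib.Helper7.ChevEngine Cfsg.Agent.Lib.Helper7.ChevN
  Cfsg.Agent.Lib.Helper7.ChevConj
  Cfsg.Agent.Lib.Helper7.ChevConjT Cfsg.Agent.Lib.Helper7.ChevConjU Cfsg.Agent.Lib.Helper7.ChevAdd
  Cfsg.Agent.Lib.Helper7.ChevHAll Cfsg.Agent.Lib.Helper7.HBaseAll Cfsg.Agent.Lib.Helper7.ChevTorus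
  Cfsg.Agent.Lib.Helper7.ChevBN Cfsg.Agent.Lib.Helper7.ChevGen Cfsg.Agent.Lib.Helper7.ChevOrb
  Cfsg.Agent.Lib.Helper7.ChevW0 Cfsg.Agent.Lib.Helper7.ChevComm Cfsg.Agent.Lib.Helper7.ChevPerf
  Cfsg.Agent.Lib.Helper7.ChevRel Cfsg.Agent.Lib.Helper7.Shift Cfsg.Agent.Lib.Helper7.Tri2
  Cfsg.Agent.Lib.Helper7.ChevTri Cfsg.Agent.Lib.Helper7.ChevTriNeg Cfsg.Agent.Lib.Helper7.ChevNW
  Cfsg.Agent.Lib.Helper7.W0All Cfsg.Agent.Lib.Helper7.ChevExch Cfsg.Agent.Lib.Helper7.RelAll
  Cfsg.Agent.Lib.Helper7.ChevBN3 Cfsg.Agent.Lib.Helper7.ChevBNP Cfsg.Agent.Lib.Helper2.BN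

section
variable {F : Type*} [Field F]

theorem refl_refl (D : ChevalleyDatum) (hD : D ∈ [chevG2, chevB2, chevD4, chevF4, chevE6, chevE7, chevE8])
    (i : ℕ) (hi : i < D.rank) (u : ℕ) (hu : u < D.nroots) : D.reflectRoot i (D.reflectRoot i u) = u := by
  obtain ⟨hC, -, -⟩ := all_of_mem D hD
  obtain ⟨m, W, -, -, hcj⟩ := hC.1 i hi
  exact ((refl_props D i m W hcj).2.2 u hu).2

theorem bad_step (D : ChevalleyDatum) (hD : D ∈ [chevG2, chevB2, chevD4, chevF4, chevE6, chevE7, chevE8])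
    (L : List ℕ) (hL : ∀ i ∈ L, i < D.rank) (b : ℕ) (hb : b < D.rank)
    (hneg : D.IsNegRoot (wAct D L (D.simple b))) :
    ∃ v : List ℕ, (∀ i ∈ v, i < D.rank) ∧ v.length + 1 = L.length ∧
      ∃ h ∈ D.diagonalSubgroup F, nWordGL (F := F) D hD (L ++ [b]) = h * nWordGL D hD v := by
  obtain ⟨v1, j, v2, e, hw⟩ := exchange D hD L hL b hb hneg
  have hv1 : ∀ i ∈ v1, i < D.rank := fun i hi => hL i (by rw [e]; exact List.mem_append_left _ hi)
  have hj : j < D.rank := hL j (by rw [e]; simp)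
  have hv2 : ∀ i ∈ v2, i < D.rank := fun i hi => hL i (by rw [e]; simp [hi])
  obtain ⟨h, hh, eh⟩ := nW_conj_nI (F := F) D hD v2 hv2 b j hb hj hw
  refine ⟨v1 ++ v2, ?_, ?_, nWordGL D hD v1 * h * (nWordGL D hD v1)⁻¹, nW_conj_H D hD v1 hv1 h hh, ?_⟩
  · intro i hi
    rcases List.mem_append.mp hi with h | h
    · exact hv1 i h
    · exact hv2 i h
  · rw [e]
    simp only [List.length_append, List.length_cons]
    omega
  · have e2 : nWordGL (F := F) D hD (L ++ [b]) =
        nWordGL D hD v1 * (nI D hD j * nWordGL D hD v2 * nI D hD b) := by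
      rw [e, nWordGL_append, nWordGL_append, nWordGL_cons, nWordGL_cons, nWordGL_nil, mul_one]
      simp only [mul_assoc]
    rw [e2, eh, nWordGL_append]
    group

def Vw (F : Type*) [Field F] (D : ChevalleyDatum) (is : List ℕ) : Subgroup (GL D.Idx F) :=
  Subgroup.closure {g : GL D.Idx F | ∃ (r : ℕ) (t : F), D.IsPosRoot r ∧ D.IsNegRoot (wAct D is r) ∧
    (g : Matrix D.Idx D.Idx F) = D.x F r t}

theorem xGL_mem_Vw (D : ChevalleyDatum) (hD : D ∈ [chevG2, chevB2, chevD4, chevF4, chevE6, chevE7, chevE8])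
    (is : List ℕ) (r : ℕ) (hr : D.IsPosRoot r) (hn : D.IsNegRoot (wAct D is r)) (t : F) :
    xGL D hD r t ∈ Vw F D is :=
  Subgroup.subset_closure ⟨r, t, hr, hn, xGL_val D hD r t⟩

theorem Vw_le_U (D : ChevalleyDatum) (is : List ℕ) : Vw F D is ≤ D.posUnipotent F := by
  unfold Vw ChevalleyDatum.posUnipotent
  apply Subgroup.closure_mono
  rintro g ⟨r, t, hr, -, hg⟩
  exact ⟨r, t, hr, hg⟩

theorem Vw_congr (D : ChevalleyDatum) (is is' : List ℕ) (h : ∀ r < D.nroots, wAct D is r = wAct D is' r) :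
    Vw F D is = Vw F D is' := by
  unfold Vw
  congr 1
  ext g
  constructor
  · rintro ⟨r, t, hr, hn, hg⟩
    exact ⟨r, t, hr, by rw [← h r hr.1]; exact hn, hg⟩
  · rintro ⟨r, t, hr, hn, hg⟩
    exact ⟨r, t, hr, by rw [h r hr.1]; exact hn, hg⟩

theorem Vw_step (D : ChevalleyDatum) (hD : D ∈ [chevG2, chevB2, chevD4, chevF4, chevE6, chevE7, chevE8])
    (is : List ℕ) (i : ℕ) (hi : i < D.rank)
    (hpos : D.IsPosRoot (wAct D is (D.simple i))) (u : GL D.Idx F) (hu : u ∈ Vw F D is) :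
    (nI D hD i)⁻¹ * u * nI D hD i ∈ Vw F D (is ++ [i]) := by
  have sd := signData_of_mem D hD
  have key : Vw F D is ≤ (Vw F D (is ++ [i])).comap (MulAut.conj (nI (F := F) D hD i)⁻¹).toMonoidHom := by
    show Subgroup.closure _ ≤ _
    rw [Subgroup.closure_le]
    rintro g ⟨r, t, hr, hn, hg⟩
    have hg' : g = xGL D hD r t := Units.ext (by rw [hg, xGL_val])
    subst hg'
    show MulAut.conj (nI D hD i)⁻¹ (xGL D hD r t) ∈ Vw F D (is ++ [i])
    rw [MulAut.conj_apply]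
    obtain ⟨c, hc⟩ := nI_inv_conj (F := F) D hD i hi r hr.1
    rw [hc t]
    have hne : r ≠ D.simple i := by
      rintro rfl
      exact sd.not_both _ hpos hn
    apply xGL_mem_Vw D hD
    · exact sd.refl_pos i hi r hr hne
    · rw [wAct_append]
      show D.IsNegRoot (wAct D is (D.reflectRoot i (D.reflectRoot i r)))
      rw [refl_refl D hD i hi r hr.1]
      exact hn
  have h1 := key hu
  rw [Subgroup.mem_comap] at h1
  have h2 : (MulAut.conj (nI (F := F) D hD i)⁻¹).toMonoidHom u = (nI D hD i)⁻¹ * u * nI D hD i := by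
    show MulAut.conj (nI (F := F) D hD i)⁻¹ u = _
    rw [MulAut.conj_apply, inv_inv]
  rw [h2] at h1
  exact h1

theorem Vw_simple (D : ChevalleyDatum) (hD : D ∈ [chevG2, chevB2, chevD4, chevF4, chevE6, chevE7, chevE8])
    (is : List ℕ) (his : ∀ i ∈ is, i < D.rank) (i : ℕ) (hi : i < D.rank)
    (hpos : D.IsPosRoot (wAct D is (D.simple i))) (t : F) :
    xGL D hD (D.simple i) t ∈ Vw F D (is ++ [i]) := by
  have sd := signData_of_mem D hD
  obtain ⟨hC, -, -⟩ := all_of_mem D hD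
  apply xGL_mem_Vw D hD _ _ (posSimple D hD i hi)
  rw [wAct_append]
  show D.IsNegRoot (wAct D is (D.reflectRoot i (D.simple i)))
  rw [refl_simple, (conj_word2 (F := F) D hD is his (D.simple i) (simple_lt D hC i hi)).2.1]
  exact (sd.neg_iff _ hpos.1).mp hpos

theorem bruhat_word (D : ChevalleyDatum) (hD : D ∈ [chevG2, chevB2, chevD4, chevF4, chevE6, chevE7, chevE8]) :
    ∀ k, ∀ is : List ℕ, is.length = k → (∀ i ∈ is, i < D.rank) →
    ∀ b ∈ D.borelSubgroup F, ∃ b' ∈ D.borelSubgroup F, ∃ u ∈ Vw F D is,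
      nWordGL D hD is * b = b' * nWordGL D hD is * u := by
  have sd := signData_of_mem D hD
  obtain ⟨hC, -, -⟩ := all_of_mem D hD
  intro k
  induction k using Nat.strong_induction_on with
  | _ k ih =>
    intro is hlen his b hb
    rcases List.eq_nil_or_concat is with rfl | ⟨L, i, e0⟩
    · exact ⟨b, hb, 1, one_mem _, by rw [nWordGL_nil, one_mul, mul_one, mul_one]⟩
    · rw [List.concat_eq_append] at e0
      subst e0
      have hi : i < D.rank := his i (by simp)
      have hL : ∀ j ∈ L, j < D.rank := fun j hj => his j (List.mem_append_left _ hj)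
      have hLlen : L.length < k := by
        rw [← hlen]
        simp
      have hlt := wAct_lt D hD L hL (D.simple i) (simple_lt D hC i hi)
      rcases sd.pos_or_neg _ hlt with hpos | hneg
      · obtain ⟨u1, hu1, h1, hh1, t, eb⟩ := B_decomp3 D hD i hi b hb
        have hb3 : nI D hD i * (u1 * h1) * (nI D hD i)⁻¹ ∈ D.borelSubgroup F := by
          have e : nI D hD i * (u1 * h1) * (nI D hD i)⁻¹ =
              (nI D hD i * u1 * (nI D hD i)⁻¹) * (nI D hD i * h1 * (nI D hD i)⁻¹) := by group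
          rw [e]
          exact mul_mem (U_le_B D (nI_conj_Up D hD i hi u1 hu1)) (H_le_B D (nI_conj_H D hD i hi h1 hh1))
        obtain ⟨b', hb', u'', hu'', e1⟩ := ih L.length hLlen L rfl hL _ hb3
        refine ⟨b', hb', (nI D hD i)⁻¹ * u'' * nI D hD i * xGL D hD (D.simple i) t, ?_, ?_⟩
        · exact mul_mem (Vw_step D hD L i hi hpos u'' hu'') (Vw_simple D hD L hL i hi hpos t)
        · rw [nWordGL_append, nWordGL_cons, nWordGL_nil, mul_one, eb]
          have e2 : nWordGL D hD L * nI D hD i * (u1 * h1 * xGL D hD (D.simple i) t) =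
              (nWordGL D hD L * (nI D hD i * (u1 * h1) * (nI D hD i)⁻¹)) * nI D hD i *
                xGL D hD (D.simple i) t := by group
          rw [e2, e1]
          group
      · obtain ⟨v, hv, hvlen, h0, hh0, e0⟩ := bad_step (F := F) D hD L hL i hi hneg
        have hvk : v.length < k := by
          rw [← hlen]
          simp only [List.length_append, List.length_cons, List.length_nil]
          omega
        obtain ⟨b', hb', u, hu, e1⟩ := ih v.length hvk v rfl hv b hb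
        refine ⟨h0 * b' * h0⁻¹, ?_, u, ?_, ?_⟩
        · exact mul_mem (mul_mem (H_le_B D hh0) hb') (inv_mem (H_le_B D hh0))
        · rw [Vw_congr D (L ++ [i]) v (fun r hr => same_perm D hD (L ++ [i]) v his hv h0 hh0 e0 r hr)]
          exact hu
        · rw [e0, mul_assoc, e1]
          group

def Un (F : Type*) [Field F] (D : ChevalleyDatum) (n : GL D.Idx F) : Subgroup (GL D.Idx F) :=
  Subgroup.closure {x : GL D.Idx F | ∃ (r : ℕ) (t : F), D.IsPosRoot r ∧
    (D.rootSubgroup F r).map (MulAut.conj n).toMonoidHom ≤ D.negUnipotent F ∧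
    (x : Matrix D.Idx D.Idx F) = D.x F r t}

theorem Un_le_U (D : ChevalleyDatum) (n : GL D.Idx F) : Un F D n ≤ D.posUnipotent F := by
  unfold Un ChevalleyDatum.posUnipotent
  apply Subgroup.closure_mono
  rintro g ⟨r, t, hr, -, hg⟩
  exact ⟨r, t, hr, hg⟩

theorem Un_conj (D : ChevalleyDatum) (n : GL D.Idx F) (x : GL D.Idx F) (hx : x ∈ Un F D n) :
    n * x * n⁻¹ ∈ D.negUnipotent F := by
  have key : Un F D n ≤ (D.negUnipotent F).comap (MulAut.conj n).toMonoidHom := by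
    show Subgroup.closure _ ≤ _
    rw [Subgroup.closure_le]
    rintro g ⟨r, t, -, hle, hg⟩
    exact hle (Subgroup.mem_map_of_mem _ (Subgroup.subset_closure ⟨t, hg⟩))
  exact key hx

theorem Vw_le_Un (D : ChevalleyDatum) (hD : D ∈ [chevG2, chevB2, chevD4, chevF4, chevE6, chevE7, chevE8])
    (is : List ℕ) (his : ∀ i ∈ is, i < D.rank) (h : GL D.Idx F) (hh : h ∈ D.diagonalSubgroup F) :
    Vw F D is ≤ Un F D (h * nWordGL D hD is) := by
  unfold Vw Un
  apply Subgroup.closure_mono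
  rintro g ⟨r, t, hr, hn, hg⟩
  refine ⟨r, t, hr, ?_, hg⟩
  unfold ChevalleyDatum.rootSubgroup
  rw [MonoidHom.map_closure, Subgroup.closure_le]
  rintro _ ⟨x, ⟨t', hx⟩, rfl⟩
  have hx' : x = xGL D hD r t' := Units.ext (by rw [hx, xGL_val])
  subst hx'
  show MulAut.conj (h * nWordGL D hD is) (xGL D hD r t') ∈ D.negUnipotent F
  rw [MulAut.conj_apply]
  obtain ⟨hlt, -, ε, -, hc, -⟩ := conj_word2 (F := F) D hD is his r hr.1
  obtain ⟨χ, hχ⟩ := H_conj_x D hD h hh
  have e : h * nWordGL D hD is * xGL D hD r t' * (h * nWordGL D hD is)⁻¹ =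
      h * (nWordGL D hD is * xGL D hD r t' * (nWordGL D hD is)⁻¹) * h⁻¹ := by group
  rw [e, hc t', mul_inv_cancel_right, hχ _ hlt]
  exact Subgroup.subset_closure ⟨_, _, hn, xGL_val D hD _ _⟩

theorem bruhat_exists (D : ChevalleyDatum) (hD : D ∈ [chevG2, chevB2, chevD4, chevF4, chevE6, chevE7, chevE8])
    (g : GL D.Idx F) (hg : g ∈ D.group F) :
    ∃ b ∈ D.borelSubgroup F, ∃ n ∈ D.monomialSubgroup F, ∃ u ∈ Un F D n, g = b * n * u := by
  obtain ⟨n0, hn0, hgn⟩ := bruhat (bnPair F D hD) ⟨g, hg⟩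
  rw [DoubleCoset.mem_doubleCoset] at hgn
  obtain ⟨b1, hb1, b2, hb2, e⟩ := hgn
  have hn0' : (n0 : GL D.Idx F) ∈ D.monomialSubgroup F := hn0
  have hb1' : (b1 : GL D.Idx F) ∈ D.borelSubgroup F := hb1
  have hb2' : (b2 : GL D.Idx F) ∈ D.borelSubgroup F := hb2
  have e' : g = (b1 : GL D.Idx F) * (n0 : GL D.Idx F) * (b2 : GL D.Idx F) := congrArg Subtype.val e
  obtain ⟨h, hh, is, his, en⟩ := mono_form D hD _ hn0'
  obtain ⟨b', hb', u, hu, e1⟩ := bruhat_word D hD is.length is rfl his _ hb2'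
  refine ⟨(b1 : GL D.Idx F) * (h * b' * h⁻¹), ?_, (n0 : GL D.Idx F), hn0', u, ?_, ?_⟩
  · exact mul_mem hb1' (mul_mem (mul_mem (H_le_B D hh) hb') (inv_mem (H_le_B D hh)))
  · rw [en]
    exact Vw_le_Un D hD is his h hh hu
  · rw [e', en, mul_assoc ((b1 : GL D.Idx F)), mul_assoc h, e1]
    group

theorem borel_inf_neg (D : ChevalleyDatum) (hD : D ∈ [chevG2, chevB2, chevD4, chevF4, chevE6, chevE7, chevE8]) :
    D.borelSubgroup F ⊓ D.negUnipotent F = ⊥ := by
  rw [eq_bot_iff]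
  rintro g ⟨hB, hV⟩
  have h1 := (Cfsg.Agent.S1037.borel_le_TG D hD hB).1
  have h2 : Sh (bneg D.rank D.nroots) 1 ((g : Matrix D.Idx D.Idx F) - 1) :=
    negUnipotent_le_UL D (triN_of_mem D hD) hV
  rw [Subgroup.mem_bot]
  apply Units.ext
  ext i j
  by_contra hne
  have h3 : ((g : Matrix D.Idx D.Idx F) - 1) i j ≠ 0 := by
    rw [Matrix.sub_apply]
    exact sub_ne_zero.mpr hne
  have h4 := h2 i j h3
  have hij : i ≠ j := by
    rintro rfl
    omega
  have h5 : (g : Matrix D.Idx D.Idx F) i j ≠ 0 := by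
    intro h0
    apply hne
    rw [h0, Units.val_one, Matrix.one_apply_ne hij]
  have h6 := h1 i j h5
  have h7 := bfun_lt D.rank D.nroots i
  have h8 := bfun_lt D.rank D.nroots j
  unfold bneg at h4
  omega

theorem cell_inj (D : ChevalleyDatum) (hD : D ∈ [chevG2, chevB2, chevD4, chevF4, chevE6, chevE7, chevE8])
    (b b' n n' u u' : GL D.Idx F) (hb : b ∈ D.borelSubgroup F) (hb' : b' ∈ D.borelSubgroup F)
    (hn : n ∈ D.monomialSubgroup F) (hn' : n' ∈ D.monomialSubgroup F)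
    (huB : u ∈ D.borelSubgroup F) (huB' : u' ∈ D.borelSubgroup F) (e : b * n * u = b' * n' * u') :
    n⁻¹ * n' ∈ D.diagonalSubgroup F := by
  obtain ⟨hBG, hNG, -⟩ := Cfsg.Agent.S1043.result (F := F) D hD
  have h1 : (⟨b * n * u, mul_mem (mul_mem (hBG hb) (hNG hn)) (hBG huB)⟩ : ↥(D.group F)) ∈
      C (bnPair F D hD) (π (bnPair F D hD) ⟨⟨n, hNG hn⟩, hn⟩) :=
    ⟨⟨⟨n, hNG hn⟩, hn⟩, rfl, ⟨b, hBG hb⟩, hb, ⟨u, hBG huB⟩, huB, rfl⟩
  have h2 : (⟨b * n * u, mul_mem (mul_mem (hBG hb) (hNG hn)) (hBG huB)⟩ : ↥(D.group F)) ∈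
      C (bnPair F D hD) (π (bnPair F D hD) ⟨⟨n', hNG hn'⟩, hn'⟩) :=
    ⟨⟨⟨n', hNG hn'⟩, hn'⟩, rfl, ⟨b', hBG hb'⟩, hb', ⟨u', hBG huB'⟩, huB', Subtype.ext e⟩
  have h3 := C_disjoint (bnPair F D hD) h1 h2
  rw [π_eq_iff] at h3
  have h4 : n⁻¹ * n' ∈ D.borelSubgroup F := h3
  rw [← borel_inf_mono D hD]
  exact Subgroup.mem_inf.mpr ⟨h4, mul_mem (inv_mem hn) hn'⟩

theorem bruhat_unique (D : ChevalleyDatum) (hD : D ∈ [chevG2, chevB2, chevD4, chevF4, chevE6, chevE7, chevE8])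
    (b b' n n' u u' : GL D.Idx F) (hb : b ∈ D.borelSubgroup F) (hb' : b' ∈ D.borelSubgroup F)
    (hn : n ∈ D.monomialSubgroup F) (hn' : n' ∈ D.monomialSubgroup F)
    (hu : u ∈ Un F D n) (hu' : u' ∈ Un F D n') (e : b * n * u = b' * n' * u') :
    n⁻¹ * n' ∈ D.diagonalSubgroup F ∧ (n = n' → b = b' ∧ u = u') := by
  constructor
  · exact cell_inj D hD b b' n n' u u' hb hb' hn hn' (U_le_B D (Un_le_U D n hu)) (U_le_B D (Un_le_U D n' hu')) e
  · rintro rfl
    have h1 : n * (u * u'⁻¹) * n⁻¹ ∈ D.negUnipotent F := Un_conj D n _ (mul_mem hu (inv_mem hu'))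
    have hu_eq : u = (b * n)⁻¹ * (b' * n * u') := by
      rw [← e]
      group
    have h2 : n * (u * u'⁻¹) * n⁻¹ = b⁻¹ * b' := by
      rw [hu_eq]
      group
    have h3 : b⁻¹ * b' ∈ D.borelSubgroup F ⊓ D.negUnipotent F :=
      Subgroup.mem_inf.mpr ⟨mul_mem (inv_mem hb) hb', h2 ▸ h1⟩
    rw [borel_inf_neg D hD, Subgroup.mem_bot] at h3
    have hbb : b = b' := inv_mul_eq_one.mp h3
    refine ⟨hbb, ?_⟩
    subst hbb
    exact mul_left_cancel e

def GoodW (D : ChevalleyDatum) (is : List ℕ) : Prop :=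
  ∀ L i R, is = L ++ i :: R → i < D.rank ∧ D.IsPosRoot (wAct D L (D.simple i))

theorem goodW_nil (D : ChevalleyDatum) : GoodW D [] := by
  intro L i R h
  simp at h

theorem goodW_prefix (D : ChevalleyDatum) (L R : List ℕ) (h : GoodW D (L ++ R)) : GoodW D L := by
  intro L1 i R1 e
  exact h L1 i (R1 ++ R) (by rw [e]; simp)

theorem goodW_last (D : ChevalleyDatum) (L : List ℕ) (i : ℕ) (h : GoodW D (L ++ [i])) :
    i < D.rank ∧ D.IsPosRoot (wAct D L (D.simple i)) := h L i [] rfl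

theorem goodW_valid (D : ChevalleyDatum) (is : List ℕ) (h : GoodW D is) : ∀ i ∈ is, i < D.rank := by
  intro i hi
  obtain ⟨L, R, e⟩ := List.append_of_mem hi
  exact (h L i R e).1

theorem goodW_snoc (D : ChevalleyDatum) (L : List ℕ) (i : ℕ) (h : GoodW D L) (hi : i < D.rank)
    (hp : D.IsPosRoot (wAct D L (D.simple i))) : GoodW D (L ++ [i]) := by
  intro L1 j R1 e
  rcases List.eq_nil_or_concat R1 with rfl | ⟨R2, k, e2⟩
  · have e3 := List.append_inj' e (by simp)
    obtain ⟨e4, e5⟩ := e3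
    have e6 : i = j := by simpa using e5
    subst e6
    subst e4
    exact ⟨hi, hp⟩
  · rw [List.concat_eq_append] at e2
    subst e2
    have e3 : L ++ [i] = (L1 ++ j :: R2) ++ [k] := by rw [e]; simp
    have e4 := (List.append_inj' e3 (by simp)).1
    exact h L1 j R2 e4

theorem good_exists (D : ChevalleyDatum) (hD : D ∈ [chevG2, chevB2, chevD4, chevF4, chevE6, chevE7, chevE8]) :
    ∀ k, ∀ is : List ℕ, is.length = k → (∀ i ∈ is, i < D.rank) →
    ∃ is' : List ℕ, GoodW D is' ∧ is'.length ≤ k ∧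
      ∃ h ∈ D.diagonalSubgroup F, nWordGL (F := F) D hD is = h * nWordGL D hD is' := by
  have sd := signData_of_mem D hD
  obtain ⟨hC, -, -⟩ := all_of_mem D hD
  intro k
  induction k using Nat.strong_induction_on with
  | _ k ih =>
    intro is hlen his
    rcases List.eq_nil_or_concat is with rfl | ⟨L, i, e0⟩
    · exact ⟨[], goodW_nil D, Nat.zero_le _, 1, one_mem _, by rw [one_mul]⟩
    · rw [List.concat_eq_append] at e0
      subst e0
      have hi : i < D.rank := his i (by simp)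
      have hL : ∀ j ∈ L, j < D.rank := fun j hj => his j (List.mem_append_left _ hj)
      have hLlen : L.length < k := by
        rw [← hlen]
        simp
      obtain ⟨L', hgood, hlen', h, hh, e1⟩ := ih L.length hLlen L rfl hL
      have hL' := goodW_valid D L' hgood
      have hlt := wAct_lt D hD L' hL' (D.simple i) (simple_lt D hC i hi)
      rcases sd.pos_or_neg _ hlt with hpos | hneg
      · refine ⟨L' ++ [i], goodW_snoc D L' i hgood hi hpos, ?_, h, hh, ?_⟩
        · rw [← hlen]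
          simp only [List.length_append, List.length_cons, List.length_nil]
          omega
        · rw [nWordGL_append, e1, nWordGL_append, mul_assoc]
      · obtain ⟨v, hv, hvlen, h0, hh0, e0⟩ := bad_step (F := F) D hD L' hL' i hi hneg
        have hvk : v.length < k := by
          rw [← hlen]
          simp only [List.length_append, List.length_cons, List.length_nil]
          omega
        obtain ⟨v', hgood', hlen'', h1, hh1, e2⟩ := ih v.length hvk v rfl hv
        refine ⟨v', hgood', by omega, h * h0 * h1, mul_mem (mul_mem hh hh0) hh1, ?_⟩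
        rw [nWordGL_append, e1, mul_assoc h, ← nWordGL_append, e0, e2]
        group

end

end Cfsg.Agent.Lib.Helper7.ChevBruhat
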