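import Cfsg.Agent.Lib.Helper7.ChevBruhat

set_option autoImplicit false
set_option maxHeartbeats 400000
set_option maxRecDepth 1000000

namespace Cfsg.Agent.Lib.Helper7.ChevCell
open Cfsg.Lie Cfsg.Agent.Lib.Helper7.ChevEngine Cfsg.Agent.Lib.Helper7.ChevN
  Cfsg.Agent.Lib.Helper7.ChevConj
  Cfsg.Agent.Lib.Helper7.ChevConjT Cfsg.Agent.Lib.Helper7.ChevConjU Cfsg.Agent.Lib.Helper7.ChevAdd
  Cfsg.Agent.Lib.Helper7.ChevHAll Cfsg.Agent.Lib.Helper7.HBaseAll Cfsg.Agent.Lib.Helper7.ChevTorus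
  Cfsg.Agent.Lib.Helper7.ChevBN Cfsg.Agent.Lib.Helper7.ChevGen Cfsg.Agent.Lib.Helper7.ChevOrb
  Cfsg.Agent.Lib.Helper7.ChevW0 Cfsg.Agent.Lib.Helper7.ChevComm Cfsg.Agent.Lib.Helper7.ChevPerf
  Cfsg.Agent.Lib.Helper7.ChevRel Cfsg.Agent.Lib.Helper7.Shift Cfsg.Agent.Lib.Helper7.Tri2
  Cfsg.Agent.Lib.Helper7.ChevTri Cfsg.Agent.Lib.Helper7.ChevTriNeg Cfsg.Agent.Lib.Helper7.ChevNW
  Cfsg.Agent.Lib.Helper7.W0All Cfsg.Agent.Lib.Helper7.ChevExch Cfsg.Agent.Lib.Helper7.RelAll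
  Cfsg.Agent.Lib.Helper7.ChevBN3 Cfsg.Agent.Lib.Helper7.ChevBNP Cfsg.Agent.Lib.Helper7.ChevBruhat

section
variable {F : Type*} [Field F]

def Cell (D : ChevalleyDatum) (n : GL D.Idx F) : Set (GL D.Idx F) :=
  {g | ∃ b ∈ D.borelSubgroup F, ∃ b' ∈ D.borelSubgroup F, g = b * n * b'}

theorem nB_good (D : ChevalleyDatum) (hD : D ∈ [chevG2, chevB2, chevD4, chevF4, chevE6, chevE7, chevE8])
    (L : List ℕ) (hL : ∀ i ∈ L, i < D.rank) (i : ℕ) (hi : i < D.rank)
    (hpos : D.IsPosRoot (wAct D L (D.simple i))) (c : GL D.Idx F) (hc : c ∈ D.borelSubgroup F) :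
    ∃ b1 ∈ D.borelSubgroup F, ∃ b2 ∈ D.borelSubgroup F,
      nWordGL D hD L * c * nI D hD i = b1 * (nWordGL D hD L * nI D hD i) * b2 := by
  obtain ⟨hC, -, -⟩ := all_of_mem D hD
  obtain ⟨u', hu', h, hh, t, ec⟩ := B_decomp3 D hD i hi c⁻¹ (inv_mem hc)
  have ec' : c = xGL D hD (D.simple i) (-t) * (h⁻¹ * u'⁻¹) := by
    have e0 : c = (u' * h * xGL D hD (D.simple i) t)⁻¹ := by rw [← ec, inv_inv]
    rw [e0, xGL_neg]
    group
  obtain ⟨hlt, -, ε, -, hcj, -⟩ := conj_word2 (F := F) D hD L hL (D.simple i) (simple_lt D hC i hi)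
  refine ⟨xGL D hD (wAct D L (D.simple i)) (ε * -t), U_le_B D (xGL_mem_U D hD _ hpos _),
    (nI D hD i)⁻¹ * (h⁻¹ * u'⁻¹) * nI D hD i, ?_, ?_⟩
  · have e1 : (nI D hD i)⁻¹ * (h⁻¹ * u'⁻¹) * nI D hD i =
        ((nI D hD i)⁻¹ * h⁻¹ * nI D hD i) *
          ((nI D hD i * nI D hD i)⁻¹ * (nI D hD i * u'⁻¹ * (nI D hD i)⁻¹) * (nI D hD i * nI D hD i)) := by
      group
    rw [e1]
    have hsq := H_le_B D (nI_sq_mem (F := F) D hD i hi)
    exact mul_mem (H_le_B D (nI_inv_conj_H D hD i hi h⁻¹ (inv_mem hh)))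
      (mul_mem (mul_mem (inv_mem hsq) (U_le_B D (nI_conj_Up D hD i hi u'⁻¹ (inv_mem hu')))) hsq)
  · rw [ec', ← mul_assoc (nWordGL D hD L), hcj (-t)]
    group

theorem cell_step_mem (D : ChevalleyDatum) (hD : D ∈ [chevG2, chevB2, chevD4, chevF4, chevE6, chevE7, chevE8])
    (L : List ℕ) (hL : ∀ i ∈ L, i < D.rank) (i : ℕ) (hi : i < D.rank)
    (hpos : D.IsPosRoot (wAct D L (D.simple i))) (g : GL D.Idx F) (hg : g ∈ Cell D (nWordGL D hD L)) (t : F) :
    g * nI D hD i * xGL D hD (D.simple i) t ∈ Cell D (nWordGL D hD (L ++ [i])) := by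
  obtain ⟨b1, hb1, b2, hb2, rfl⟩ := hg
  obtain ⟨c1, hc1, c2, hc2, e⟩ := nB_good D hD L hL i hi hpos b2 hb2
  refine ⟨b1 * c1, mul_mem hb1 hc1, c2 * xGL D hD (D.simple i) t,
    mul_mem hc2 (U_le_B D (xGL_mem_U D hD _ (posSimple D hD i hi) t)), ?_⟩
  rw [nWordGL_append, nWordGL_cons, nWordGL_nil, mul_one]
  have e1 : b1 * nWordGL D hD L * b2 * nI D hD i * xGL D hD (D.simple i) t =
      b1 * (nWordGL D hD L * b2 * nI D hD i) * xGL D hD (D.simple i) t := by group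
  rw [e1, e]
  group

theorem cell_step_surj (D : ChevalleyDatum) (hD : D ∈ [chevG2, chevB2, chevD4, chevF4, chevE6, chevE7, chevE8])
    (L : List ℕ) (i : ℕ) (hi : i < D.rank)
    (g : GL D.Idx F) (hg : g ∈ Cell D (nWordGL D hD (L ++ [i]))) :
    ∃ g' ∈ Cell D (nWordGL (F := F) D hD L), ∃ t : F, g = g' * nI D hD i * xGL D hD (D.simple i) t := by
  obtain ⟨b1, hb1, b2, hb2, rfl⟩ := hg
  obtain ⟨u1, hu1, h1, hh1, t, eb⟩ := B_decomp3 D hD i hi b2 hb2
  have hb3 : nI D hD i * (u1 * h1) * (nI D hD i)⁻¹ ∈ D.borelSubgroup F := by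
    have e : nI D hD i * (u1 * h1) * (nI D hD i)⁻¹ =
        (nI D hD i * u1 * (nI D hD i)⁻¹) * (nI D hD i * h1 * (nI D hD i)⁻¹) := by group
    rw [e]
    exact mul_mem (U_le_B D (nI_conj_Up D hD i hi u1 hu1)) (H_le_B D (nI_conj_H D hD i hi h1 hh1))
  refine ⟨b1 * nWordGL D hD L * (nI D hD i * (u1 * h1) * (nI D hD i)⁻¹), ⟨b1, hb1, _, hb3, rfl⟩, t, ?_⟩
  rw [nWordGL_append, nWordGL_cons, nWordGL_nil, mul_one, eb]
  group

theorem nI_not_mem_H (D : ChevalleyDatum) (hD : D ∈ [chevG2, chevB2, chevD4, chevF4, chevE6, chevE7, chevE8])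
    (i : ℕ) (hi : i < D.rank) : nI (F := F) D hD i ∉ D.diagonalSubgroup F := by
  intro hmem
  have sd := signData_of_mem D hD
  obtain ⟨hC, -, -⟩ := all_of_mem D hD
  have h1 : nWordGL (F := F) D hD [i] ∈ TG (R := F) (bfun D.rank D.nroots) := by
    rw [nWordGL_cons, nWordGL_nil, mul_one]
    exact Cfsg.Agent.S1037.borel_le_TG D hD (H_le_B D hmem)
  have h2 := perm_of_TG D hD [i] (by simpa using hi) h1 (D.simple i) (simple_lt D hC i hi)
  have h3 : wAct D [i] (D.simple i) = D.neg (D.simple i) := by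
    show D.reflectRoot i (D.simple i) = _
    exact refl_simple D i
  rw [h3] at h2
  have hp := posSimple D hD i hi
  have hn := (sd.neg_iff _ hp.1).mp hp
  rw [h2] at hn
  exact sd.not_both _ hp hn

theorem cell_step_inj (D : ChevalleyDatum) (hD : D ∈ [chevG2, chevB2, chevD4, chevF4, chevE6, chevE7, chevE8])
    (L : List ℕ) (hL : ∀ i ∈ L, i < D.rank) (i : ℕ) (hi : i < D.rank)
    (hpos : D.IsPosRoot (wAct D L (D.simple i))) (g1 g2 : GL D.Idx F)
    (hg1 : g1 ∈ Cell D (nWordGL D hD L)) (hg2 : g2 ∈ Cell D (nWordGL D hD L)) (t1 t2 : F)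
    (e : g1 * nI D hD i * xGL D hD (D.simple i) t1 = g2 * nI D hD i * xGL D hD (D.simple i) t2) :
    t1 = t2 := by
  by_contra hne
  obtain ⟨η, hη, hcx⟩ := nI_conj_xp (F := F) D hD i hi
  have hx : xGL D hD (D.simple i) t1 * (xGL D hD (D.simple i) t2)⁻¹ = xGL D hD (D.simple i) (t1 - t2) := by
    rw [← xGL_neg, xGL_add, sub_eq_add_neg]
  have e0 : g2 = g1 * nI D hD i * xGL D hD (D.simple i) t1 * (xGL D hD (D.simple i) t2)⁻¹ * (nI D hD i)⁻¹ :=
    eq_mul_inv_of_mul_eq (eq_mul_inv_of_mul_eq e.symm)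
  have e1 : g2 = g1 * xGL D hD (D.neg (D.simple i)) (η * (t1 - t2)) := by
    have e00 : g1 * nI D hD i * xGL D hD (D.simple i) t1 * (xGL D hD (D.simple i) t2)⁻¹ * (nI D hD i)⁻¹ =
        g1 * (nI D hD i * (xGL D hD (D.simple i) t1 * (xGL D hD (D.simple i) t2)⁻¹)) * (nI D hD i)⁻¹ := by
      group
    rw [e0, e00, hx, hcx]
    group
  have hc : η * (t1 - t2) ≠ 0 := mul_ne_zero hη (sub_ne_zero.mpr hne)
  obtain ⟨h, hh, er⟩ := rank_one D hD i hi (η * (t1 - t2)) hc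
  obtain ⟨b1, hb1, b2, hb2, rfl⟩ := hg1
  obtain ⟨b3, hb3, b4, hb4, e2⟩ := hg2
  have hxB : xGL D hD (D.simple i) (η * (t1 - t2))⁻¹ ∈ D.borelSubgroup F :=
    U_le_B D (xGL_mem_U D hD _ (posSimple D hD i hi) _)
  obtain ⟨c1, hc1, c2, hc2, e3⟩ := nB_good D hD L hL i hi hpos
    (b2 * xGL D hD (D.simple i) (η * (t1 - t2))⁻¹ * h) (mul_mem (mul_mem hb2 hxB) (H_le_B D hh))
  have e4 : b3 * nWordGL D hD L * b4 =
      (b1 * c1) * (nWordGL D hD L * nI D hD i) * (c2 * xGL D hD (D.simple i) (η * (t1 - t2))⁻¹) := by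
    rw [← e2, e1, er]
    have e5 : b1 * nWordGL D hD L * b2 * (xGL D hD (D.simple i) (η * (t1 - t2))⁻¹ * h * nI D hD i *
          xGL D hD (D.simple i) (η * (t1 - t2))⁻¹) =
        b1 * (nWordGL D hD L * (b2 * xGL D hD (D.simple i) (η * (t1 - t2))⁻¹ * h) * nI D hD i) *
          xGL D hD (D.simple i) (η * (t1 - t2))⁻¹ := by group
    rw [e5, e3]
    group
  have h5 := cell_inj D hD b3 (b1 * c1) (nWordGL D hD L) (nWordGL D hD L * nI D hD i) b4
    (c2 * xGL D hD (D.simple i) (η * (t1 - t2))⁻¹) hb3 (mul_mem hb1 hc1) (nWordGL_mem D hD L hL)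
    (mul_mem (nWordGL_mem D hD L hL) (nI_mem_mono D hD i hi)) hb4 (mul_mem hc2 hxB) e4
  rw [inv_mul_cancel_left] at h5
  exact nI_not_mem_H D hD i hi h5

theorem cell_card_step [Fintype F] (D : ChevalleyDatum)
    (hD : D ∈ [chevG2, chevB2, chevD4, chevF4, chevE6, chevE7, chevE8])
    (L : List ℕ) (hL : ∀ i ∈ L, i < D.rank) (i : ℕ) (hi : i < D.rank)
    (hpos : D.IsPosRoot (wAct D L (D.simple i))) :
    (Cell D (nWordGL (F := F) D hD (L ++ [i]))).ncard =
      Fintype.card F * (Cell D (nWordGL (F := F) D hD L)).ncard := by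
  classical
  have himg : Cell D (nWordGL (F := F) D hD (L ++ [i])) =
      (fun p : F × GL D.Idx F => p.2 * nI D hD i * xGL D hD (D.simple i) p.1) ''
        (Set.univ ×ˢ Cell D (nWordGL (F := F) D hD L)) := by
    ext g
    constructor
    · intro hg
      obtain ⟨g', hg', t, rfl⟩ := cell_step_surj D hD L i hi g hg
      exact ⟨(t, g'), ⟨Set.mem_univ _, hg'⟩, rfl⟩
    · rintro ⟨⟨t, g'⟩, ⟨-, hg'⟩, rfl⟩
      exact cell_step_mem D hD L hL i hi hpos g' hg' t
  have hinj : Set.InjOn (fun p : F × GL D.Idx F => p.2 * nI D hD i * xGL D hD (D.simple i) p.1)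
      (Set.univ ×ˢ Cell D (nWordGL (F := F) D hD L)) := by
    rintro ⟨t1, g1⟩ ⟨-, hg1⟩ ⟨t2, g2⟩ ⟨-, hg2⟩ e
    have ht := cell_step_inj D hD L hL i hi hpos g1 g2 hg1 hg2 t1 t2 e
    subst ht
    have hgg : g1 = g2 := mul_right_cancel (mul_right_cancel e)
    rw [hgg]
  rw [himg, Set.InjOn.ncard_image hinj, Set.ncard_prod, Set.ncard_univ, Nat.card_eq_fintype_card]

theorem cell_one (D : ChevalleyDatum) : Cell D (1 : GL D.Idx F) = (D.borelSubgroup F : Set (GL D.Idx F)) := by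
  ext g
  constructor
  · rintro ⟨b, hb, b', hb', rfl⟩
    rw [mul_one]
    exact mul_mem hb hb'
  · intro hg
    exact ⟨g, hg, 1, one_mem _, by rw [mul_one, mul_one]⟩

theorem cell_card_good [Fintype F] (D : ChevalleyDatum)
    (hD : D ∈ [chevG2, chevB2, chevD4, chevF4, chevE6, chevE7, chevE8]) :
    ∀ is : List ℕ, GoodW D is →
    (Cell D (nWordGL (F := F) D hD is)).ncard = Fintype.card F ^ is.length * Nat.card (D.borelSubgroup F) := by
  intro is
  induction is using List.reverseRecOn with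
  | nil =>
    intro _
    rw [nWordGL_nil, cell_one, List.length_nil, pow_zero, one_mul]
    exact (Nat.card_coe_set_eq _).symm
  | append_singleton L i ih =>
    intro hg
    obtain ⟨hi, hpos⟩ := goodW_last D L i hg
    have hgL := goodW_prefix D L [i] hg
    rw [cell_card_step D hD L (goodW_valid D L hgL) i hi hpos, ih hgL, List.length_append,
      List.length_singleton, pow_succ]
    ring

theorem top_cell_card [Fintype F] (D : ChevalleyDatum)
    (hD : D ∈ [chevG2, chevB2, chevD4, chevF4, chevE6, chevE7, chevE8])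
    (is : List ℕ) (his : ∀ i ∈ is, i < D.rank) (hw0 : ∀ r, D.IsPosRoot r → D.IsNegRoot (wAct D is r)) :
    (Cell D (nWordGL (F := F) D hD is)).ncard =
      Nat.card (D.borelSubgroup F) * Nat.card (D.posUnipotent F) := by
  classical
  have hUV : D.posUnipotent F ≤ Vw F D is := by
    unfold Vw ChevalleyDatum.posUnipotent
    apply Subgroup.closure_mono
    rintro g ⟨r, t, hr, hg⟩
    exact ⟨r, t, hr, hw0 r hr, hg⟩
  have hVU : Vw F D is ≤ Un F D (nWordGL D hD is) := by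
    have := Vw_le_Un D hD is his (1 : GL D.Idx F) (one_mem _)
    rw [one_mul] at this
    exact this
  have himg : Cell D (nWordGL (F := F) D hD is) =
      (fun p : GL D.Idx F × GL D.Idx F => p.1 * nWordGL D hD is * p.2) ''
        ((D.borelSubgroup F : Set (GL D.Idx F)) ×ˢ (D.posUnipotent F : Set (GL D.Idx F))) := by
    ext g
    constructor
    · rintro ⟨b1, hb1, b2, hb2, rfl⟩
      obtain ⟨b', hb', u, hu, e1⟩ := bruhat_word D hD is.length is rfl his b2 hb2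
      refine ⟨(b1 * b', u), ⟨mul_mem hb1 hb', Vw_le_U D is hu⟩, ?_⟩
      show b1 * b' * nWordGL D hD is * u = b1 * nWordGL D hD is * b2
      rw [mul_assoc b1 (nWordGL D hD is), e1]
      group
    · rintro ⟨⟨b, u⟩, ⟨hb, hu⟩, rfl⟩
      exact ⟨b, hb, u, U_le_B D hu, rfl⟩
  have hinj : Set.InjOn (fun p : GL D.Idx F × GL D.Idx F => p.1 * nWordGL D hD is * p.2)
      ((D.borelSubgroup F : Set (GL D.Idx F)) ×ˢ (D.posUnipotent F : Set (GL D.Idx F))) := by
    rintro ⟨b, u⟩ ⟨hb, hu⟩ ⟨b', u'⟩ ⟨hb', hu'⟩ e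
    obtain ⟨e1, e2⟩ := (bruhat_unique D hD b b' (nWordGL D hD is) (nWordGL D hD is) u u' hb hb'
      (nWordGL_mem D hD is his) (nWordGL_mem D hD is his) (hVU (hUV hu)) (hVU (hUV hu')) e).2 rfl
    rw [e1, e2]
  rw [himg, Set.InjOn.ncard_image hinj, Set.ncard_prod]
  rfl

def goodCheck (D : ChevalleyDatum) (Wtab : List ℕ) (is : List ℕ) : Bool :=
  is.all (fun i => decide (i < D.rank)) &&
  (List.range is.length).all fun k =>
    decide (D.IsPosRoot (wActP Wtab (is.take k) (D.simple (is.getD k 0))))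

theorem good_of_check (D : ChevalleyDatum) (hD : D ∈ [chevG2, chevB2, chevD4, chevF4, chevE6, chevE7, chevE8])
    (Wtab : List ℕ) (hW : WtabOk D Wtab) (is : List ℕ) (h : goodCheck D Wtab is = true) : GoodW D is := by
  obtain ⟨hC, -, -⟩ := all_of_mem D hD
  unfold goodCheck at h
  simp only [Bool.and_eq_true, List.all_eq_true, decide_eq_true_eq, List.mem_range] at h
  obtain ⟨his, hall⟩ := h
  intro L i R e
  have hi : i < D.rank := his i (by rw [e]; simp)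
  have hL : ∀ j ∈ L, j < D.rank := fun j hj => his j (by rw [e]; exact List.mem_append_left _ hj)
  refine ⟨hi, ?_⟩
  have hk : L.length < is.length := by
    rw [e]
    simp
  have h1 := hall L.length hk
  have e1 : is.take L.length = L := by
    rw [e]
    simp
  have e2 : is.getD L.length 0 = i := by
    rw [e]
    simp
  rw [e1, e2] at h1
  rw [(wAct_eq D hD Wtab hW L hL (D.simple i) (simple_lt D hC i hi)).1]
  exact h1

theorem gcG2 : goodCheck chevG2 wtG2 wdG2 = true := by decide +kernel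
theorem gcB2 : goodCheck chevB2 wtB2 wdB2 = true := by decide +kernel
theorem gcD4 : goodCheck chevD4 wtD4 wdD4 = true := by decide +kernel
theorem gcF4 : goodCheck chevF4 wtF4 wdF4 = true := by decide +kernel
theorem gcE6 : goodCheck chevE6 wtE6 wdE6 = true := by decide +kernel
theorem gcE7 : goodCheck chevE7 wtE7 wdE7 = true := by decide +kernel
theorem gcE8 : goodCheck chevE8 wtE8 wdE8 = true := by decide +kernel

theorem w0_neg (D : ChevalleyDatum) (hD : D ∈ [chevG2, chevB2, chevD4, chevF4, chevE6, chevE7, chevE8])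
    (Wtab : List ℕ) (hW : WtabOk D Wtab) (is : List ℕ) (hchk : w0Check D Wtab is = true) :
    (∀ i ∈ is, i < D.rank) ∧ ∀ r, D.IsPosRoot r → D.IsNegRoot (wAct D is r) := by
  unfold w0Check at hchk
  simp only [Bool.and_eq_true, List.all_eq_true, decide_eq_true_eq, List.mem_range, Bool.or_eq_true,
    Bool.not_eq_true', decide_eq_false_iff_not] at hchk
  obtain ⟨his, hall⟩ := hchk
  refine ⟨his, ?_⟩
  intro r hr
  rw [(wAct_eq D hD Wtab hW is his r hr.1).1]
  rcases (hall r hr.1).1.1 with h1 | h1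
  · exact absurd hr h1
  · exact h1

theorem exists_long (D : ChevalleyDatum) (hD : D ∈ [chevG2, chevB2, chevD4, chevF4, chevE6, chevE7, chevE8]) :
    ∃ is : List ℕ, GoodW D is ∧ is.length = D.nroots / 2 ∧
      ∀ r, D.IsPosRoot r → D.IsNegRoot (wAct D is r) := by
  have hD' := hD
  simp only [List.mem_cons, List.not_mem_nil, or_false] at hD'
  rcases hD' with rfl | rfl | rfl | rfl | rfl | rfl | rfl
  · exact ⟨wdG2, good_of_check _ hD wtG2 woG2 _ gcG2, by decide, (w0_neg _ hD wtG2 woG2 _ wcG2).2⟩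
  · exact ⟨wdB2, good_of_check _ hD wtB2 woB2 _ gcB2, by decide, (w0_neg _ hD wtB2 woB2 _ wcB2).2⟩
  · exact ⟨wdD4, good_of_check _ hD wtD4 woD4 _ gcD4, by decide, (w0_neg _ hD wtD4 woD4 _ wcD4).2⟩
  · exact ⟨wdF4, good_of_check _ hD wtF4 woF4 _ gcF4, by decide, (w0_neg _ hD wtF4 woF4 _ wcF4).2⟩
  · exact ⟨wdE6, good_of_check _ hD wtE6 woE6 _ gcE6, by decide, (w0_neg _ hD wtE6 woE6 _ wcE6).2⟩
  · exact ⟨wdE7, good_of_check _ hD wtE7 woE7 _ gcE7, by decide, (w0_neg _ hD wtE7 woE7 _ wcE7).2⟩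
  · exact ⟨wdE8, good_of_check _ hD wtE8 woE8 _ gcE8, by decide, (w0_neg _ hD wtE8 woE8 _ wcE8).2⟩

theorem card_posUnipotent [Fintype F] (D : ChevalleyDatum)
    (hD : D ∈ [chevG2, chevB2, chevD4, chevF4, chevE6, chevE7, chevE8]) :
    Nat.card (D.posUnipotent F) = Fintype.card F ^ (D.nroots / 2) := by
  classical
  obtain ⟨is, hgood, hlen, hw0⟩ := exists_long D hD
  have h1 := cell_card_good (F := F) D hD is hgood
  have h2 := top_cell_card (F := F) D hD is (goodW_valid D is hgood) hw0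
  rw [h1, hlen] at h2
  have hpos : 0 < Nat.card (D.borelSubgroup F) := Nat.card_pos
  have h3 : Nat.card (D.borelSubgroup F) * Fintype.card F ^ (D.nroots / 2) =
      Nat.card (D.borelSubgroup F) * Nat.card (D.posUnipotent F) := by
    rw [← h2, mul_comm]
  exact (Nat.eq_of_mul_eq_mul_left hpos h3).symm

end

end Cfsg.Agent.Lib.Helper7.ChevCell
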