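import Cfsg.Agent.Lib.Helper7.ChevBN

set_option autoImplicit false

namespace Cfsg.Agent.Lib.Helper7.ChevW0
open Cfsg.Lie Cfsg.Agent.Lib.Helper7.ChevEngine Cfsg.Agent.Lib.Helper7.ChevN
  Cfsg.Agent.Lib.Helper7.ChevConjT Cfsg.Agent.Lib.Helper7.ChevConjU Cfsg.Agent.Lib.Helper7.ChevAdd
  Cfsg.Agent.Lib.Helper7.ChevHAll Cfsg.Agent.Lib.Helper7.HBaseAll Cfsg.Agent.Lib.Helper7.ChevTorus
  Cfsg.Agent.Lib.Helper7.ChevBN

theorem wdig_of_conj (D : ChevalleyDatum) (i m W : ℕ) (h : conjCheck D i m W = true) :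
    ∀ u < D.nroots, D.reflectRoot i u = wdig W u := by
  unfold conjCheck at h
  simp only [Bool.and_eq_true, decide_eq_true_eq, List.all_eq_true, List.mem_range] at h
  obtain ⟨⟨⟨⟨-, -⟩, -⟩, hwt⟩, -⟩ := h
  intro u hu
  exact (hwt u hu).1.1

def wActP (Wtab : List ℕ) (is : List ℕ) (r : ℕ) : ℕ :=
  is.foldr (fun i acc => wdig (Wtab.getD i 0) acc) r

def wAct (D : ChevalleyDatum) (is : List ℕ) (r : ℕ) : ℕ :=
  is.foldr (fun i acc => D.reflectRoot i acc) r

def WtabOk (D : ChevalleyDatum) (Wtab : List ℕ) : Prop :=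
  ∀ i < D.rank, ∀ u < D.nroots, D.reflectRoot i u = wdig (Wtab.getD i 0) u

def w0Check (D : ChevalleyDatum) (Wtab : List ℕ) (is : List ℕ) : Bool :=
  is.all (fun i => decide (i < D.rank)) &&
  (List.range D.nroots).all fun r =>
    (!decide (D.IsPosRoot r) || decide (D.IsNegRoot (wActP Wtab is r))) &&
    (!decide (D.IsNegRoot r) || decide (D.IsPosRoot (wActP Wtab is r))) &&
    decide (wActP Wtab is (wActP Wtab is r) = r)

theorem refl_lt (D : ChevalleyDatum) (hD : D ∈ [chevG2, chevB2, chevD4, chevF4, chevE6, chevE7, chevE8])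
    (i : ℕ) (hi : i < D.rank) (u : ℕ) (hu : u < D.nroots) : D.reflectRoot i u < D.nroots := by
  obtain ⟨hC, -, -⟩ := all_of_mem D hD
  obtain ⟨m, W, -, -, hcj⟩ := hC.1 i hi
  exact ((refl_props D i m W hcj).2.2 u hu).1

theorem wAct_eq (D : ChevalleyDatum) (hD : D ∈ [chevG2, chevB2, chevD4, chevF4, chevE6, chevE7, chevE8])
    (Wtab : List ℕ) (hW : WtabOk D Wtab) (is : List ℕ) (his : ∀ i ∈ is, i < D.rank) (r : ℕ) (hr : r < D.nroots) :
    wAct D is r = wActP Wtab is r ∧ wAct D is r < D.nroots := by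
  induction is with
  | nil => exact ⟨rfl, hr⟩
  | cons i is ih =>
    obtain ⟨e, hlt⟩ := ih (fun j hj => his j (List.mem_cons_of_mem _ hj))
    have hi : i < D.rank := his i (by simp)
    have e1 : wAct D (i :: is) r = D.reflectRoot i (wAct D is r) := rfl
    have e2 : wActP Wtab (i :: is) r = wdig (Wtab.getD i 0) (wActP Wtab is r) := rfl
    rw [e1, e2, ← e]
    exact ⟨hW i hi _ hlt, refl_lt D hD i hi _ hlt⟩

section
variable {F : Type*} [Field F]

def nWordGL (D : ChevalleyDatum) (hD : D ∈ [chevG2, chevB2, chevD4, chevF4, chevE6, chevE7, chevE8])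
    (is : List ℕ) : GL D.Idx F :=
  (is.map fun i => wordGL D hD (D.nWord (D.simple i) (1 : F))).prod

theorem nWordGL_mem (D : ChevalleyDatum) (hD : D ∈ [chevG2, chevB2, chevD4, chevF4, chevE6, chevE7, chevE8])
    (is : List ℕ) (his : ∀ i ∈ is, i < D.rank) : nWordGL (F := F) D hD is ∈ D.monomialSubgroup F := by
  obtain ⟨hC, -, -⟩ := all_of_mem D hD
  unfold nWordGL
  apply Subgroup.list_prod_mem
  intro g hg
  rw [List.mem_map] at hg
  obtain ⟨i, hi, rfl⟩ := hg
  apply Subgroup.mem_sup_right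
  apply Subgroup.subset_closure
  exact ⟨D.simple i, simple_lt D hC i (his i hi), wordGL_val D hD _⟩

theorem conj_word (D : ChevalleyDatum) (hD : D ∈ [chevG2, chevB2, chevD4, chevF4, chevE6, chevE7, chevE8])
    (is : List ℕ) (his : ∀ i ∈ is, i < D.rank) (r : ℕ) (hr : r < D.nroots) :
    wAct D is r < D.nroots ∧ ∃ ε : F, (ε = 1 ∨ ε = -1) ∧ ∀ t : F,
      nWordGL D hD is * xGL D hD r t = xGL D hD (wAct D is r) (ε * t) * nWordGL D hD is := by
  induction is with
  | nil =>
    refine ⟨hr, 1, Or.inl rfl, ?_⟩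
    intro t
    have e1 : nWordGL (F := F) D hD [] = 1 := rfl
    have e2 : wAct D [] r = r := rfl
    rw [e1, e2, one_mul, mul_one, one_mul]
  | cons i is ih =>
    obtain ⟨hlt, ε', hε', ih'⟩ := ih (fun j hj => his j (List.mem_cons_of_mem _ hj))
    have hi : i < D.rank := his i (by simp)
    obtain ⟨hC, -, -⟩ := all_of_mem D hD
    obtain ⟨m, W, hn, -, hcj⟩ := hC.1 i hi
    have e1 : nWordGL (F := F) D hD (i :: is) =
        wordGL D hD (D.nWord (D.simple i) (1 : F)) * nWordGL D hD is := by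
      unfold nWordGL
      rw [List.map_cons, List.prod_cons]
    have e2 : wAct D (i :: is) r = D.reflectRoot i (wAct D is r) := rfl
    refine ⟨by rw [e2]; exact refl_lt D hD i hi _ hlt, ((etaM m (wAct D is r) : ℤ) : F) * ε', ?_, ?_⟩
    · rcases etaM_cases m (wAct D is r) with h1 | h1 <;> rcases hε' with rfl | rfl <;> rw [h1] <;> simp
    · intro t
      have e3 : wordGL D hD (D.nWord (D.simple i) (1 : F)) * xGL D hD (wAct D is r) (ε' * t) =
          xGL D hD (D.reflectRoot i (wAct D is r)) (((etaM m (wAct D is r) : ℤ) : F) * (ε' * t)) *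
            wordGL D hD (D.nWord (D.simple i) (1 : F)) := by
        apply Units.ext
        rw [Units.val_mul, Units.val_mul, xGL_val, xGL_val, wordGL_val]
        exact conj_x D i m W hn hcj _ hlt _
      rw [e1, e2, mul_assoc, ih' t, ← mul_assoc, e3, mul_assoc, mul_assoc]

theorem exists_w0 (D : ChevalleyDatum) (hD : D ∈ [chevG2, chevB2, chevD4, chevF4, chevE6, chevE7, chevE8])
    (Wtab : List ℕ) (hW : WtabOk D Wtab) (is : List ℕ) (hchk : w0Check D Wtab is = true) :
    ∃ n ∈ D.monomialSubgroup F,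
      (D.posUnipotent F).map (MulAut.conj n).toMonoidHom = D.negUnipotent F := by
  unfold w0Check at hchk
  simp only [Bool.and_eq_true, List.all_eq_true, decide_eq_true_eq, List.mem_range, Bool.or_eq_true,
    Bool.not_eq_true', decide_eq_false_iff_not] at hchk
  obtain ⟨his, hall⟩ := hchk
  refine ⟨nWordGL D hD is, nWordGL_mem D hD is his, ?_⟩
  unfold ChevalleyDatum.posUnipotent ChevalleyDatum.negUnipotent
  rw [MonoidHom.map_closure]
  apply le_antisymm
  · rw [Subgroup.closure_le]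
    rintro _ ⟨g, ⟨r, t, hr, hg⟩, rfl⟩
    obtain ⟨hlt, ε, -, hc⟩ := conj_word (F := F) D hD is his r hr.1
    have hg' : g = xGL D hD r t := Units.ext (by rw [hg, xGL_val])
    apply Subgroup.subset_closure
    refine ⟨wAct D is r, ε * t, ?_, ?_⟩
    · rw [(wAct_eq D hD Wtab hW is his r hr.1).1]
      rcases (hall r hr.1).1.1 with h1 | h1
      · exact absurd hr h1
      · exact h1
    · change ((nWordGL D hD is * g * (nWordGL D hD is)⁻¹ : GL D.Idx F) : Matrix D.Idx D.Idx F) = _
      rw [hg', hc t, mul_inv_cancel_right, xGL_val]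
  · rw [Subgroup.closure_le]
    rintro g ⟨s, t, hs, hg⟩
    have hg' : g = xGL D hD s t := Units.ext (by rw [hg, xGL_val])
    have e1 := (wAct_eq D hD Wtab hW is his s hs.1)
    have hpos : D.IsPosRoot (wAct D is s) := by
      rw [e1.1]
      rcases (hall s hs.1).1.2 with h1 | h1
      · exact absurd hs h1
      · exact h1
    have e2 := (wAct_eq D hD Wtab hW is his (wAct D is s) e1.2)
    have hinv : wAct D is (wAct D is s) = s := by
      rw [e2.1, e1.1]
      exact (hall s hs.1).2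
    obtain ⟨-, ε, hε, hc⟩ := conj_word (F := F) D hD is his (wAct D is s) e1.2
    have hεε : ε * (ε * t) = t := by
      rcases hε with rfl | rfl <;> simp
    apply Subgroup.subset_closure
    refine ⟨xGL D hD (wAct D is s) (ε * t), ⟨wAct D is s, ε * t, hpos, xGL_val D hD _ _⟩, ?_⟩
    change nWordGL D hD is * xGL D hD (wAct D is s) (ε * t) * (nWordGL D hD is)⁻¹ = g
    rw [hc (ε * t), mul_inv_cancel_right, hinv, hεε, hg']

end

end Cfsg.Agent.Lib.Helper7.ChevW0
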