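import Cfsg.Agent.Lib.Helper7.ChevOrb
import Cfsg.Agent.Lib.Helper7.ChevW0

set_option autoImplicit false

namespace Cfsg.Agent.Lib.Helper7.ChevComm
open Cfsg.Lie Cfsg.Agent.Lib.Helper7.ChevEngine Cfsg.Agent.Lib.Helper7.ChevN
  Cfsg.Agent.Lib.Helper7.ChevConjT Cfsg.Agent.Lib.Helper7.ChevConjU Cfsg.Agent.Lib.Helper7.ChevAdd
  Cfsg.Agent.Lib.Helper7.ChevHAll Cfsg.Agent.Lib.Helper7.HBaseAll Cfsg.Agent.Lib.Helper7.ChevTorus
  Cfsg.Agent.Lib.Helper7.ChevBN Cfsg.Agent.Lib.Helper7.ChevGen Cfsg.Agent.Lib.Helper7.ChevOrb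
  Cfsg.Agent.Lib.Helper7.ChevW0

def commWordL (a b : ℕ) : List (ℕ × Poly) :=
  [(a, [(-1, 1, 0)]), (b, [(-1, 0, 1)]), (a, [(1, 1, 0)]), (b, [(1, 0, 1)])]

def commWordR (c : ℕ) (κ : ℤ) : List (ℕ × Poly) := [(c, [(κ, 1, 1)])]

def commCheck (D : ChevalleyDatum) (a b c : ℕ) (κ : ℤ) : Bool :=
  (List.range (D.rank + D.nroots)).all fun k =>
    eqCheck D.rank D.nroots (fnsOf D) false (commWordL a b) (commWordR c κ) k

theorem comm_of_check {F : Type*} [Field F] (D : ChevalleyDatum) (a b c : ℕ) (κ : ℤ)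
    (h : commCheck D a b c κ = true) (t u : F) :
    D.x F a (-t) * D.x F b (-u) * D.x F a t * D.x F b u = D.x F c ((κ : F) * t * u) := by
  have h1 := eqCheck_sound D.rank D.nroots (fnsOf D) false t u (fun hf => by simp at hf) (commWordL a b)
    (commWordR c κ)
    (fun k hk => by
      unfold commCheck at h
      rw [List.all_eq_true] at h
      exact h k (List.mem_range.mpr hk))
  simp only [wM, commWordL, commWordR, List.map_cons, List.map_nil, List.prod_cons, List.prod_nil, mul_one,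
    eval_cons, eval_nil, evalM, Int.cast_one, Int.cast_neg, one_mul, pow_one, pow_zero, add_zero, neg_mul] at h1
  rw [x_eq, x_eq, x_eq, x_eq, x_eq, mul_assoc, mul_assoc]
  exact h1

section
variable {F : Type*} [Field F]

theorem conj_mem (D : ChevalleyDatum) (hD : D ∈ [chevG2, chevB2, chevD4, chevF4, chevE6, chevE7, chevE8])
    (K : Subgroup (GL D.Idx F)) (hN : D.monomialSubgroup F ≤ K) (p : ℕ) (hp : p < D.nroots)
    (is : List ℕ) (his : ∀ i ∈ is, i < D.rank) (hpK : ∀ t : F, xGL D hD p t ∈ K) (t : F) :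
    xGL D hD (wAct D is p) t ∈ K := by
  obtain ⟨-, ε, hε, hc⟩ := conj_word (F := F) D hD is his p hp
  have hn : nWordGL (F := F) D hD is ∈ K := hN (nWordGL_mem D hD is his)
  have e1 : ε * (ε * t) = t := by
    rcases hε with rfl | rfl <;> simp
  have e2 := hc (ε * t)
  rw [e1] at e2
  rw [← mul_inv_eq_of_eq_mul e2]
  exact mul_mem (mul_mem hn (hpK _)) (inv_mem hn)

theorem long_mem (D : ChevalleyDatum) (hD : D ∈ [chevG2, chevB2, chevD4, chevF4, chevE6, chevE7, chevE8])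
    (K : Subgroup (GL D.Idx F)) (hN : D.monomialSubgroup F ≤ K) (p a b c : ℕ) (κ : ℤ) (hκ : (κ : F) ≠ 0)
    (wa wb : List ℕ) (hwa : ∀ i ∈ wa, i < D.rank) (hwb : ∀ i ∈ wb, i < D.rank) (hp : p < D.nroots)
    (ha : wAct D wa p = a) (hb : wAct D wb p = b) (hchk : commCheck D a b c κ = true)
    (hpK : ∀ t : F, xGL D hD p t ∈ K) (s : F) : xGL D hD c s ∈ K := by
  have hA : ∀ t : F, xGL D hD a t ∈ K := by
    intro t
    rw [← ha]
    exact conj_mem D hD K hN p hp wa hwa hpK t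
  have hB : ∀ t : F, xGL D hD b t ∈ K := by
    intro t
    rw [← hb]
    exact conj_mem D hD K hN p hp wb hwb hpK t
  have e : xGL D hD c s = xGL D hD a (-(s / (κ : F))) * xGL D hD b (-1) * xGL D hD a (s / (κ : F)) *
      xGL D hD b 1 := by
    apply Units.ext
    rw [Units.val_mul, Units.val_mul, Units.val_mul, xGL_val, xGL_val, xGL_val, xGL_val, xGL_val,
      comm_of_check D a b c κ hchk, mul_one, mul_div_cancel₀ _ hκ]
  rw [e]
  exact mul_mem (mul_mem (mul_mem (hA _) (hB _)) (hA _)) (hB _)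

end

end Cfsg.Agent.Lib.Helper7.ChevComm
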