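import Cfsg.Agent.Lib.Helper7.ChevNW

set_option autoImplicit false
set_option maxHeartbeats 400000

namespace Cfsg.Agent.Lib.Helper7.ChevCommF
open Cfsg.Lie Cfsg.Agent.Lib.Helper7.ChevEngine Cfsg.Agent.Lib.Helper7.ChevN
  Cfsg.Agent.Lib.Helper7.ChevConj
  Cfsg.Agent.Lib.Helper7.ChevConjT Cfsg.Agent.Lib.Helper7.ChevConjU Cfsg.Agent.Lib.Helper7.ChevAdd
  Cfsg.Agent.Lib.Helper7.ChevHAll Cfsg.Agent.Lib.Helper7.HBaseAll Cfsg.Agent.Lib.Helper7.ChevTorus
  Cfsg.Agent.Lib.Helper7.ChevBN Cfsg.Agent.Lib.Helper7.ChevGen Cfsg.Agent.Lib.Helper7.ChevOrb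
  Cfsg.Agent.Lib.Helper7.ChevW0 Cfsg.Agent.Lib.Helper7.ChevComm Cfsg.Agent.Lib.Helper7.ChevPerf
  Cfsg.Agent.Lib.Helper7.ChevRel Cfsg.Agent.Lib.Helper7.Shift Cfsg.Agent.Lib.Helper7.Tri2
  Cfsg.Agent.Lib.Helper7.ChevTri Cfsg.Agent.Lib.Helper7.ChevTriNeg Cfsg.Agent.Lib.Helper7.ChevNW

def pdig (W u : ℕ) : ℕ := (W >>> (8 * u)) % 256

def cwPoly (D : ChevalleyDatum) (r s : ℕ) : List (ℕ × Poly) :=
  (D.commTerms r s).map fun c => (c.1, [(c.2.1 * (-1) ^ c.2.2.1, c.2.2.1, c.2.2.2)])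

def baseCheck (D : ChevalleyDatum) (r s : ℕ) : Bool :=
  (List.range (D.rank + D.nroots)).all fun k =>
    eqCheck D.rank D.nroots (fnsOf D) false [(s, [(1, 0, 1)]), (r, [(1, 1, 0)])]
      ((r, [(1, 1, 0)]) :: (s, [(1, 0, 1)]) :: cwPoly D r s) k

def trTerms (D : ChevalleyDatum) (i m r s : ℕ) (L : List (ℕ × ℤ × ℕ × ℕ)) : List (ℕ × ℤ × ℕ × ℕ) :=
  L.map fun c => (D.reflectRoot i c.1, etaM m c.1 * c.2.1 * etaM m r ^ c.2.2.1 * etaM m s ^ c.2.2.2,
    c.2.2.1, c.2.2.2)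

def stepCheck (D : ChevalleyDatum) (i m r s : ℕ) : Bool :=
  (D.commTerms r s).all (fun c => decide (c.1 < D.nroots)) &&
  decide (D.commTerms (D.reflectRoot i r) (D.reflectRoot i s) = trTerms D i m r s (D.commTerms r s))

def pairOk (D : ChevalleyDatum) (ms : List ℕ) (base : List (ℕ × ℕ)) (LV PI : ℕ) (r s : ℕ) : Bool :=
  decide (s = r) || decide (s = D.neg r) || base.contains (r, s) ||
  (decide (pdig PI (r * D.nroots + s) < D.rank) &&
   decide (D.reflectRoot (pdig PI (r * D.nroots + s)) r < D.nroots) &&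
   decide (D.reflectRoot (pdig PI (r * D.nroots + s)) s < D.nroots) &&
   decide (D.reflectRoot (pdig PI (r * D.nroots + s)) s ≠ D.reflectRoot (pdig PI (r * D.nroots + s)) r) &&
   decide (D.reflectRoot (pdig PI (r * D.nroots + s)) s ≠
     D.neg (D.reflectRoot (pdig PI (r * D.nroots + s)) r)) &&
   decide (pdig LV (D.reflectRoot (pdig PI (r * D.nroots + s)) r * D.nroots +
     D.reflectRoot (pdig PI (r * D.nroots + s)) s) < pdig LV (r * D.nroots + s)) &&
   stepCheck D (pdig PI (r * D.nroots + s)) (ms.getD (pdig PI (r * D.nroots + s)) 0) r s)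

def pairCheck (D : ChevalleyDatum) (ms : List ℕ) (base : List (ℕ × ℕ)) (LV PI : ℕ) (lo len : ℕ) : Bool :=
  (List.range' lo len).all fun r => (List.range D.nroots).all fun s => pairOk D ms base LV PI r s

section
variable {F : Type*} [Field F]

def CF (F : Type*) [Field F] (D : ChevalleyDatum)
    (hD : D ∈ [chevG2, chevB2, chevD4, chevF4, chevE6, chevE7, chevE8]) (r s : ℕ) : Prop :=
  ∀ t u : F, xGL D hD s u * xGL D hD r t =
    xGL D hD r t * xGL D hD s u * wordGL D hD (D.commWord F r s t u)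

theorem cwPoly_eval (D : ChevalleyDatum) (r s : ℕ) (t u : F) :
    (cwPoly D r s).map (fun x => (x.1, eval t u x.2)) = D.commWord F r s t u := by
  unfold cwPoly ChevalleyDatum.commWord
  rw [List.map_map]
  apply List.map_congr_left
  intro c _
  simp only [Function.comp_apply, eval_cons, eval_nil, evalM, add_zero]
  congr 1
  push_cast
  rw [neg_pow t]
  ring

theorem base_sound (D : ChevalleyDatum) (hD : D ∈ [chevG2, chevB2, chevD4, chevF4, chevE6, chevE7, chevE8])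
    (r s : ℕ) (h : baseCheck D r s = true) : CF F D hD r s := by
  intro t u
  have h1 := eqCheck_sound D.rank D.nroots (fnsOf D) false t u (fun hf => by simp at hf)
    [(s, [(1, 0, 1)]), (r, [(1, 1, 0)])] ((r, [(1, 1, 0)]) :: (s, [(1, 0, 1)]) :: cwPoly D r s)
    (fun k hk => by
      unfold baseCheck at h
      rw [List.all_eq_true] at h
      exact h k (List.mem_range.mpr hk))
  apply Units.ext
  rw [Units.val_mul, Units.val_mul, Units.val_mul, xGL_val, xGL_val, wordGL_val, wordMat_eq, x_eq, x_eq,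
    ← cwPoly_eval]
  simp only [wM, List.map_cons, List.map_nil, List.prod_cons, List.prod_nil, mul_one,
    eval_cons, eval_nil, evalM, Int.cast_one, one_mul, pow_one, pow_zero, add_zero] at h1
  rw [mul_assoc]
  exact h1

theorem conj_one (D : ChevalleyDatum) (hD : D ∈ [chevG2, chevB2, chevD4, chevF4, chevE6, chevE7, chevE8])
    (i m W : ℕ) (hn : nCheck D i m = true) (hc : conjCheck D i m W = true) (c : ℕ) (hcl : c < D.nroots)
    (v : F) : nI D hD i * xGL D hD c v * (nI D hD i)⁻¹ = xGL D hD (D.reflectRoot i c) (((etaM m c : ℤ) : F) * v) := by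
  rw [mul_inv_eq_iff_eq_mul]
  apply Units.ext
  rw [Units.val_mul, Units.val_mul, xGL_val, xGL_val, nI_val]
  exact conj_x D i m W hn hc c hcl v

theorem eta_sq (m c : ℕ) : ((etaM m c : ℤ) : F) * ((etaM m c : ℤ) : F) = 1 := by
  rcases etaM_cases m c with h | h <;> rw [h] <;> simp

theorem word_tr (D : ChevalleyDatum) (hD : D ∈ [chevG2, chevB2, chevD4, chevF4, chevE6, chevE7, chevE8])
    (i m W : ℕ) (hn : nCheck D i m = true) (hc : conjCheck D i m W = true) (r s : ℕ) (t u : F)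
    (L : List (ℕ × ℤ × ℕ × ℕ)) (hL : ∀ c ∈ L, c.1 < D.nroots) :
    wordGL D hD ((trTerms D i m r s L).map fun c =>
      (c.1, ((c.2.1 : ℤ) : F) * (-(((etaM m r : ℤ) : F) * t)) ^ c.2.2.1 * (((etaM m s : ℤ) : F) * u) ^ c.2.2.2)) =
    nI D hD i * wordGL D hD (L.map fun c => (c.1, ((c.2.1 : ℤ) : F) * (-t) ^ c.2.2.1 * u ^ c.2.2.2)) *
      (nI D hD i)⁻¹ := by
  induction L with
  | nil =>
    simp only [trTerms, List.map_nil]
    rw [wordGL_nil, mul_one, mul_inv_cancel]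
  | cons c L ih =>
    have ih' := ih (fun c' hc' => hL c' (List.mem_cons_of_mem _ hc'))
    have hcl := hL c (by simp)
    unfold trTerms at ih' ⊢
    rw [List.map_cons, List.map_cons, List.map_cons, wordGL_cons, wordGL_cons, ih']
    have e1 := conj_one (F := F) D hD i m W hn hc c.1 hcl (((c.2.1 : ℤ) : F) * (-t) ^ c.2.2.1 * u ^ c.2.2.2)
    have hx := eta_sq (F := F) m r
    have hy := eta_sq (F := F) m s
    have hxa : ((etaM m r : ℤ) : F) ^ c.2.2.1 * ((etaM m r : ℤ) : F) ^ c.2.2.1 = 1 := by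
      rw [← mul_pow, hx, one_pow]
    have hyb : ((etaM m s : ℤ) : F) ^ c.2.2.2 * ((etaM m s : ℤ) : F) ^ c.2.2.2 = 1 := by
      rw [← mul_pow, hy, one_pow]
    have e2 : (((etaM m c.1 * c.2.1 * etaM m r ^ c.2.2.1 * etaM m s ^ c.2.2.2 : ℤ) : F) *
        (-(((etaM m r : ℤ) : F) * t)) ^ c.2.2.1 * (((etaM m s : ℤ) : F) * u) ^ c.2.2.2) =
        ((etaM m c.1 : ℤ) : F) * (((c.2.1 : ℤ) : F) * (-t) ^ c.2.2.1 * u ^ c.2.2.2) := by
      push_cast
      rw [neg_pow (((etaM m r : ℤ) : F) * t), neg_pow t, mul_pow, mul_pow]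
      linear_combination (((etaM m c.1 : ℤ) : F) * ((c.2.1 : ℤ) : F) * (-1) ^ c.2.2.1 * t ^ c.2.2.1 * u ^ c.2.2.2 *
        (((etaM m s : ℤ) : F) ^ c.2.2.2 * ((etaM m s : ℤ) : F) ^ c.2.2.2)) * hxa +
        (((etaM m c.1 : ℤ) : F) * ((c.2.1 : ℤ) : F) * (-1) ^ c.2.2.1 * t ^ c.2.2.1 * u ^ c.2.2.2) * hyb
    show xGL D hD (D.reflectRoot i c.1) (((etaM m c.1 * c.2.1 * etaM m r ^ c.2.2.1 * etaM m s ^ c.2.2.2 : ℤ) : F) *
        (-(((etaM m r : ℤ) : F) * t)) ^ c.2.2.1 * (((etaM m s : ℤ) : F) * u) ^ c.2.2.2) * _ = _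
    rw [e2, ← e1]
    group

theorem step (D : ChevalleyDatum) (hD : D ∈ [chevG2, chevB2, chevD4, chevF4, chevE6, chevE7, chevE8])
    (i m W : ℕ) (hn : nCheck D i m = true) (hc : conjCheck D i m W = true)
    (r s : ℕ) (hr : r < D.nroots) (hs : s < D.nroots) (h : stepCheck D i m r s = true)
    (ih : CF F D hD (D.reflectRoot i r) (D.reflectRoot i s)) : CF F D hD r s := by
  unfold stepCheck at h
  simp only [Bool.and_eq_true, List.all_eq_true, decide_eq_true_eq] at h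
  obtain ⟨hL, hT⟩ := h
  intro t u
  have e := ih (((etaM m r : ℤ) : F) * t) (((etaM m s : ℤ) : F) * u)
  have hw : wordGL D hD (D.commWord F (D.reflectRoot i r) (D.reflectRoot i s) (((etaM m r : ℤ) : F) * t)
      (((etaM m s : ℤ) : F) * u)) = nI D hD i * wordGL D hD (D.commWord F r s t u) * (nI D hD i)⁻¹ := by
    unfold ChevalleyDatum.commWord
    rw [hT]
    exact word_tr D hD i m W hn hc r s t u _ hL
  rw [hw, ← conj_one D hD i m W hn hc r hr t, ← conj_one D hD i m W hn hc s hs u] at e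
  have e' : nI D hD i * (xGL D hD s u * xGL D hD r t) * (nI D hD i)⁻¹ =
      nI D hD i * (xGL D hD r t * xGL D hD s u * wordGL D hD (D.commWord F r s t u)) * (nI D hD i)⁻¹ := by
    calc nI D hD i * (xGL D hD s u * xGL D hD r t) * (nI D hD i)⁻¹
        = nI D hD i * xGL D hD s u * (nI D hD i)⁻¹ * (nI D hD i * xGL D hD r t * (nI D hD i)⁻¹) := by group
      _ = _ := e
      _ = _ := by group
  exact mul_left_cancel (mul_right_cancel e')

theorem cf_of_check (D : ChevalleyDatum) (hD : D ∈ [chevG2, chevB2, chevD4, chevF4, chevE6, chevE7, chevE8])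
    (ms : List ℕ)
    (hms : ∀ i < D.rank, nCheck D i (ms.getD i 0) = true ∧ ∃ W, conjCheck D i (ms.getD i 0) W = true)
    (base : List (ℕ × ℕ)) (hbase : ∀ p ∈ base, baseCheck D p.1 p.2 = true)
    (LV PI : ℕ) (h : ∀ r < D.nroots, ∀ s < D.nroots, pairOk D ms base LV PI r s = true) :
    ∀ r < D.nroots, ∀ s < D.nroots, s ≠ r → s ≠ D.neg r → CF F D hD r s := by
  have key : ∀ k, ∀ r < D.nroots, ∀ s < D.nroots, s ≠ r → s ≠ D.neg r →
      pdig LV (r * D.nroots + s) = k → CF F D hD r s := by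
    intro k
    induction k using Nat.strong_induction_on with
    | _ k ih =>
      intro r hr s hs hsr hsn hk
      have h1 := h r hr s hs
      unfold pairOk at h1
      simp only [Bool.or_eq_true, Bool.and_eq_true, decide_eq_true_eq] at h1
      rcases h1 with ((h1 | h1) | h1) | h1
      · exact absurd h1 hsr
      · exact absurd h1 hsn
      · exact base_sound D hD r s (hbase (r, s) (List.contains_iff_mem.mp h1))
      · obtain ⟨⟨⟨⟨⟨⟨hi, hr'⟩, hs'⟩, hne⟩, hnn⟩, hlv⟩, hst⟩ := h1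
        obtain ⟨hn, W, hc⟩ := hms _ hi
        apply step D hD _ _ W hn hc r s hr hs hst
        exact ih _ (hk ▸ hlv) _ hr' _ hs' hne hnn rfl
  intro r hr s hs hsr hsn
  exact key _ r hr s hs hsr hsn rfl

theorem pair_of_check (D : ChevalleyDatum) (ms : List ℕ) (base : List (ℕ × ℕ)) (LV PI : ℕ) (lo len : ℕ)
    (h : pairCheck D ms base LV PI lo len = true) (r : ℕ) (h1 : lo ≤ r) (h2 : r < lo + len) (s : ℕ)
    (hs : s < D.nroots) : pairOk D ms base LV PI r s = true := by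
  unfold pairCheck at h
  rw [List.all_eq_true] at h
  have h3 := h r (by rw [List.mem_range'_1]; exact ⟨h1, h2⟩)
  rw [List.all_eq_true] at h3
  exact h3 s (List.mem_range.mpr hs)

theorem formula (D : ChevalleyDatum) (hD : D ∈ [chevG2, chevB2, chevD4, chevF4, chevE6, chevE7, chevE8])
    (r s : ℕ) (h : CF F D hD r s) (t u : F) :
    D.x F s u * D.x F r t = D.x F r t * D.x F s u * D.wordMat F (D.commWord F r s t u) := by
  have e := congrArg Units.val (h t u)
  rw [Units.val_mul, Units.val_mul, Units.val_mul, xGL_val, xGL_val, wordGL_val] at e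
  exact e

end

end Cfsg.Agent.Lib.Helper7.ChevCommF
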