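import Cfsg.Agent.Lib.Helper7.ChevCommF

set_option autoImplicit false
set_option maxHeartbeats 400000

namespace Cfsg.Agent.Lib.Helper7.ChevCommFast
open Cfsg.Lie Cfsg.Agent.Lib.Helper7.ChevEngine Cfsg.Agent.Lib.Helper7.ChevN
  Cfsg.Agent.Lib.Helper7.ChevConj
  Cfsg.Agent.Lib.Helper7.ChevConjT Cfsg.Agent.Lib.Helper7.ChevConjU Cfsg.Agent.Lib.Helper7.ChevAdd
  Cfsg.Agent.Lib.Helper7.ChevHAll Cfsg.Agent.Lib.Helper7.HBaseAll Cfsg.Agent.Lib.Helper7.ChevTorus
  Cfsg.Agent.Lib.Helper7.ChevBN Cfsg.Agent.Lib.Helper7.ChevGen Cfsg.Agent.Lib.Helper7.ChevOrb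
  Cfsg.Agent.Lib.Helper7.ChevW0 Cfsg.Agent.Lib.Helper7.ChevComm Cfsg.Agent.Lib.Helper7.ChevPerf
  Cfsg.Agent.Lib.Helper7.ChevRel Cfsg.Agent.Lib.Helper7.Shift Cfsg.Agent.Lib.Helper7.Tri2
  Cfsg.Agent.Lib.Helper7.ChevTri Cfsg.Agent.Lib.Helper7.ChevTriNeg Cfsg.Agent.Lib.Helper7.ChevNW
  Cfsg.Agent.Lib.Helper7.ChevCommF

def frc {α : Type} (e : ℕ) (f : ℕ → α) : α :=
  match e with
  | 0 => f 0
  | k + 1 => f (k + 1)

theorem frc_eq {α : Type} (e : ℕ) (f : ℕ → α) : frc e f = f e := by
  cases e <;> rfl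

def ceDec (e : ℕ) : List (ℕ × ℤ) :=
  if e % 256 = 0 then []
  else if e % 256 = 1 then [((e >>> 8) % 256, (((e >>> 16) % 256 : ℕ) : ℤ) - 128)]
  else [((e >>> 8) % 256, (((e >>> 16) % 256 : ℕ) : ℤ) - 128),
    ((e >>> 24) % 256, (((e >>> 32) % 256 : ℕ) : ℤ) - 128)]

theorem ceDec_len (e : ℕ) : (ceDec e).length ≤ 2 := by
  unfold ceDec
  split_ifs <;> simp

def ceFast (CH n r s : ℕ) : List (ℕ × ℤ) := frc ((CH >>> (40 * (r * n + s))) % 1099511627776) ceDec

theorem ceFast_len (CH n r s : ℕ) : (ceFast CH n r s).length ≤ 2 := by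
  unfold ceFast
  rw [frc_eq]
  exact ceDec_len _

def entOf (row : List (ℕ × Array (ℕ × ℤ))) (s : ℕ) : List (ℕ × ℤ) :=
  match row.find? (fun e => e.1 = s) with
  | none => []
  | some e => e.2.toList

def rowAgree (CH n r : ℕ) (row : List (ℕ × Array (ℕ × ℤ))) : Bool :=
  (List.range n).all fun s => decide (entOf row s = ceFast CH n r s) &&
    (ceFast CH n r s).all (fun c => decide (c.1 < n))

def chAgree (CH n : ℕ) : List (Array (ℕ × Array (ℕ × ℤ))) → ℕ → Bool
  | [], _ => true
  | row :: rest, r => rowAgree CH n r row.toList && chAgree CH n rest (r + 1)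

def chCheck (D : ChevalleyDatum) (CH : ℕ) : Bool :=
  decide (D.chain.size = D.nroots) && chAgree CH D.nroots D.chain.toList 0

theorem chAgree_spec (CH n : ℕ) (L : List (Array (ℕ × Array (ℕ × ℤ)))) (k : ℕ)
    (h : chAgree CH n L k = true) (j : ℕ) (hj : j < L.length) :
    rowAgree CH n (k + j) (L[j]).toList = true := by
  induction L generalizing k j with
  | nil => simp at hj
  | cons row rest ih =>
    unfold chAgree at h
    rw [Bool.and_eq_true] at h
    cases j with
    | zero => exact h.1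
    | succ j =>
      have h2 := ih (k + 1) h.2 j (by simpa using hj)
      have e : k + (j + 1) = k + 1 + j := by omega
      rw [e]
      exact h2

theorem chainEntry_eq (D : ChevalleyDatum) (CH : ℕ) (h : chCheck D CH = true) (r s : ℕ)
    (hr : r < D.nroots) (hs : s < D.nroots) :
    D.chainEntry r s = ceFast CH D.nroots r s ∧ ∀ c ∈ ceFast CH D.nroots r s, c.1 < D.nroots := by
  unfold chCheck at h
  rw [Bool.and_eq_true, decide_eq_true_eq] at h
  obtain ⟨hsz, hag⟩ := h
  have hr' : r < D.chain.toList.length := by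
    rw [Array.length_toList, hsz]
    exact hr
  have h1 := chAgree_spec CH D.nroots D.chain.toList 0 hag r hr'
  rw [Nat.zero_add] at h1
  unfold rowAgree at h1
  rw [List.all_eq_true] at h1
  have h2 := h1 s (List.mem_range.mpr hs)
  rw [Bool.and_eq_true, decide_eq_true_eq, List.all_eq_true] at h2
  refine ⟨?_, fun c hc => by simpa using h2.2 c hc⟩
  rw [← h2.1]
  have e : D.chain.getD r #[] = D.chain.toList[r] := by
    have hr2 : r < D.chain.size := by rw [hsz]; exact hr
    simp [Array.getD, hr2]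
  unfold ChevalleyDatum.chainEntry entOf
  rw [e]
  rfl

def ct2 (E1 E2 : List (ℕ × ℤ)) : List (ℕ × ℤ × ℕ × ℕ) :=
  ([ ((E1[0]?).map Prod.fst, ((E1[0]?).map Prod.snd).getD 0, 1, 1),
     ((E1[1]?).map Prod.fst, ((E1[1]?).map Prod.snd).getD 0, 2, 1),
     ((E2[1]?).map Prod.fst, ((E2[1]?).map Prod.snd).getD 0, 1, 2) ] :
     List (Option ℕ × ℤ × ℕ × ℕ)).filterMap fun c => c.1.map fun k => (k, c.2)

theorem fm7 (a b c : Option ℕ × ℤ × ℕ × ℕ) (x4 x5 x6 x7 : ℤ × ℕ × ℕ) :
    List.filterMap (fun c : Option ℕ × ℤ × ℕ × ℕ => c.1.map fun k => (k, c.2))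
      [a, b, c, (none, x4), (none, x5), (none, x6), (none, x7)] =
    List.filterMap (fun c : Option ℕ × ℤ × ℕ × ℕ => c.1.map fun k => (k, c.2)) [a, b, c] := by
  rw [show [a, b, c, (none, x4), (none, x5), (none, x6), (none, x7)] =
    [a, b, c] ++ [(none, x4), (none, x5), (none, x6), (none, x7)] from rfl, List.filterMap_append]
  simp

theorem commTerms_eq (D : ChevalleyDatum) (r s : ℕ) (h1 : (D.chainEntry r s).length ≤ 2)
    (h2 : (D.chainEntry s r).length ≤ 2) :
    D.commTerms r s = ct2 (D.chainEntry r s) (D.chainEntry s r) := by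
  have h3 : (D.chainEntry r s)[2]? = none := List.getElem?_eq_none (by omega)
  have h4 : (D.chainEntry s r)[2]? = none := List.getElem?_eq_none (by omega)
  simp [ChevalleyDatum.commTerms, ChevalleyDatum.chainRoot, ChevalleyDatum.chainM, h3, h4, ct2]
  exact fm7 _ _ _ _ _ _ _

def ctF (CH n r s : ℕ) : List (ℕ × ℤ × ℕ × ℕ) := ct2 (ceFast CH n r s) (ceFast CH n s r)

theorem ct2_range (n : ℕ) (E1 E2 : List (ℕ × ℤ)) (h1 : ∀ c ∈ E1, c.1 < n) (h2 : ∀ c ∈ E2, c.1 < n) :
    ∀ c ∈ ct2 E1 E2, c.1 < n := by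
  intro c hc
  unfold ct2 at hc
  rw [List.mem_filterMap] at hc
  obtain ⟨a, ha, hac⟩ := hc
  simp only [List.mem_cons, List.not_mem_nil, or_false] at ha
  rcases ha with rfl | rfl | rfl
  · cases h : E1[0]? with
    | none => rw [h] at hac; simp at hac
    | some x =>
      rw [h] at hac
      simp only [Option.map_some, Option.some.injEq] at hac
      rw [← hac]
      exact h1 x (List.mem_of_getElem? h)
  · cases h : E1[1]? with
    | none => rw [h] at hac; simp at hac
    | some x =>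
      rw [h] at hac
      simp only [Option.map_some, Option.some.injEq] at hac
      rw [← hac]
      exact h1 x (List.mem_of_getElem? h)
  · cases h : E2[1]? with
    | none => rw [h] at hac; simp at hac
    | some x =>
      rw [h] at hac
      simp only [Option.map_some, Option.some.injEq] at hac
      rw [← hac]
      exact h2 x (List.mem_of_getElem? h)

theorem commTerms_fast (D : ChevalleyDatum) (CH : ℕ) (h : chCheck D CH = true) (r s : ℕ)
    (hr : r < D.nroots) (hs : s < D.nroots) :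
    D.commTerms r s = ctF CH D.nroots r s ∧ ∀ c ∈ ctF CH D.nroots r s, c.1 < D.nroots := by
  obtain ⟨e1, g1⟩ := chainEntry_eq D CH h r s hr hs
  obtain ⟨e2, g2⟩ := chainEntry_eq D CH h s r hs hr
  refine ⟨?_, ct2_range _ _ _ g1 g2⟩
  rw [commTerms_eq D r s (by rw [e1]; exact ceFast_len _ _ _ _) (by rw [e2]; exact ceFast_len _ _ _ _), e1, e2]
  rfl

def trF (W m r s : ℕ) (L : List (ℕ × ℤ × ℕ × ℕ)) : List (ℕ × ℤ × ℕ × ℕ) :=
  L.map fun c => (wdig W c.1, etaM m c.1 * c.2.1 * etaM m r ^ c.2.2.1 * etaM m s ^ c.2.2.2,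
    c.2.2.1, c.2.2.2)

def pairOkF3 (n CH LV r s r' s' W m : ℕ) : Bool :=
  decide (pdig LV (r' * n + s') < pdig LV (r * n + s)) &&
  decide (ctF CH n r' s' = trF W m r s (ctF CH n r s))

def pairOkF2 (n rank : ℕ) (ms Wtab : List ℕ) (CH LV r s i : ℕ) : Bool :=
  decide (i < rank) &&
  pairOkF3 n CH LV r s (wdig (Wtab.getD i 0) r) (wdig (Wtab.getD i 0) s) (Wtab.getD i 0) (ms.getD i 0)

def pairOkF (D : ChevalleyDatum) (ms Wtab : List ℕ) (base : List (ℕ × ℕ)) (CH LV PI : ℕ) (r s : ℕ) : Bool :=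
  decide (s = r) || (decide (pdig LV (r * D.nroots + s) = 0) && base.contains (r, s)) ||
  (decide (pdig PI (r * D.nroots + s) = 255) && decide (s = D.neg r)) ||
  frc (pdig PI (r * D.nroots + s)) (pairOkF2 D.nroots D.rank ms Wtab CH LV r s)

def pairCheckF (D : ChevalleyDatum) (ms Wtab : List ℕ) (base : List (ℕ × ℕ)) (CH LV PI : ℕ) (lo len : ℕ) : Bool :=
  (List.range' lo len).all fun r => (List.range D.nroots).all fun s => pairOkF D ms Wtab base CH LV PI r s

section
variable {F : Type*} [Field F]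

theorem cf_of_checkF (D : ChevalleyDatum) (hD : D ∈ [chevG2, chevB2, chevD4, chevF4, chevE6, chevE7, chevE8])
    (ms : List ℕ)
    (hms : ∀ i < D.rank, nCheck D i (ms.getD i 0) = true ∧ ∃ W, conjCheck D i (ms.getD i 0) W = true)
    (Wtab : List ℕ) (hW : WtabOk D Wtab) (CH : ℕ) (hCH : chCheck D CH = true)
    (base : List (ℕ × ℕ)) (hbase : ∀ p ∈ base, baseCheck D p.1 p.2 = true)
    (LV PI : ℕ) (h : ∀ r < D.nroots, ∀ s < D.nroots, pairOkF D ms Wtab base CH LV PI r s = true) :
    ∀ r < D.nroots, ∀ s < D.nroots, s ≠ r → s ≠ D.neg r → CF F D hD r s := by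
  have key : ∀ k, ∀ r < D.nroots, ∀ s < D.nroots, s ≠ r → s ≠ D.neg r →
      pdig LV (r * D.nroots + s) = k → CF F D hD r s := by
    intro k
    induction k using Nat.strong_induction_on with
    | _ k ih =>
      intro r hr s hs hsr hsn hk
      have h1 := h r hr s hs
      unfold pairOkF at h1
      rw [frc_eq] at h1
      unfold pairOkF2 pairOkF3 at h1
      simp only [Bool.or_eq_true, Bool.and_eq_true, decide_eq_true_eq, List.all_eq_true] at h1
      rcases h1 with ((h1 | h1) | h1) | h1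
      · exact absurd h1 hsr
      · exact base_sound D hD r s (hbase (r, s) (List.contains_iff_mem.mp h1.2))
      · exact absurd h1.2 hsn
      · obtain ⟨hi, hlv, htr⟩ := h1
        obtain ⟨hn, W, hc⟩ := hms _ hi
        obtain ⟨-, -, hrp⟩ := refl_props D _ _ W hc
        have er := hW _ hi r hr
        have es := hW _ hi s hs
        have hr' := (hrp r hr).1
        have hs' := (hrp s hs).1
        obtain ⟨hct, hall⟩ := commTerms_fast D CH hCH r s hr hs
        obtain ⟨hct', -⟩ := commTerms_fast D CH hCH _ _ hr' hs'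
        rw [← er, ← es] at hlv htr
        have hst : stepCheck D (pdig PI (r * D.nroots + s)) (ms.getD (pdig PI (r * D.nroots + s)) 0) r s = true := by
          unfold stepCheck
          rw [Bool.and_eq_true, List.all_eq_true, decide_eq_true_eq, hct, hct', htr]
          refine ⟨fun c hc' => by rw [decide_eq_true_eq]; exact hall c hc', ?_⟩
          unfold trF trTerms
          apply List.map_congr_left
          intro c hc'
          rw [hW _ hi c.1 (hall c hc')]
        apply step D hD _ _ W hn hc r s hr hs hst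
        apply ih _ (hk ▸ hlv) _ hr' _ hs' _ _ rfl
        · intro he
          apply hsr
          rw [← (hrp s hs).2, he, (hrp r hr).2]
        · intro he
          apply hsn
          obtain ⟨hnl, hne, -⟩ := neg_props D _ _ W hc r hr
          rw [← (hrp s hs).2, he, ← hne, (hrp _ hnl).2]
  intro r hr s hs hsr hsn
  exact key _ r hr s hs hsr hsn rfl

theorem pair_of_checkF (D : ChevalleyDatum) (ms Wtab : List ℕ) (base : List (ℕ × ℕ)) (CH LV PI : ℕ) (lo len : ℕ)
    (h : pairCheckF D ms Wtab base CH LV PI lo len = true) (r : ℕ) (h1 : lo ≤ r) (h2 : r < lo + len) (s : ℕ)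
    (hs : s < D.nroots) : pairOkF D ms Wtab base CH LV PI r s = true := by
  unfold pairCheckF at h
  rw [List.all_eq_true] at h
  have h3 := h r (by rw [List.mem_range'_1]; exact ⟨h1, h2⟩)
  rw [List.all_eq_true] at h3
  exact h3 s (List.mem_range.mpr hs)

end

end Cfsg.Agent.Lib.Helper7.ChevCommFast
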