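import Cfsg.Agent.Lib.Helper7.ChevCommFast

set_option autoImplicit false
set_option maxHeartbeats 400000

namespace Cfsg.Agent.Lib.Helper7.ChevCommSL
open Cfsg.Lie Cfsg.Agent.Lib.Helper7.ChevEngine Cfsg.Agent.Lib.Helper7.ChevN
  Cfsg.Agent.Lib.Helper7.ChevConj
  Cfsg.Agent.Lib.Helper7.ChevConjT Cfsg.Agent.Lib.Helper7.ChevConjU Cfsg.Agent.Lib.Helper7.ChevAdd
  Cfsg.Agent.Lib.Helper7.ChevHAll Cfsg.Agent.Lib.Helper7.HBaseAll Cfsg.Agent.Lib.Helper7.ChevTorus
  Cfsg.Agent.Lib.Helper7.ChevBN Cfsg.Agent.Lib.Helper7.ChevGen Cfsg.Agent.Lib.Helper7.ChevOrb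
  Cfsg.Agent.Lib.Helper7.ChevW0 Cfsg.Agent.Lib.Helper7.ChevComm Cfsg.Agent.Lib.Helper7.ChevPerf
  Cfsg.Agent.Lib.Helper7.ChevRel Cfsg.Agent.Lib.Helper7.Shift Cfsg.Agent.Lib.Helper7.Tri2
  Cfsg.Agent.Lib.Helper7.ChevTri Cfsg.Agent.Lib.Helper7.ChevTriNeg Cfsg.Agent.Lib.Helper7.ChevNW
  Cfsg.Agent.Lib.Helper7.ChevCommF Cfsg.Agent.Lib.Helper7.ChevCommFast

def ent (CH n r s : ℕ) : ℕ := (CH >>> (16 * (r * n + s))) % 65536

def sg (k : ℕ) : ℤ := if k % 2 = 0 then 1 else -1

def ceDec1 (e : ℕ) : List (ℕ × ℤ) :=
  if e % 256 = 0 then [] else [(e % 256 - 1, sg (e / 256))]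

def canonF (n s e : ℕ) : Option (ℕ × List (ℕ × ℤ)) :=
  if e % 256 = 0 then none else if e % 256 ≤ n then some (s, ceDec1 e) else some (s, [])

def rowCanon (CH n r : ℕ) : List (ℕ × List (ℕ × ℤ)) :=
  (List.range n).filterMap fun s => frc (ent CH n r s) (canonF n s)

def chAgree1 (CH n : ℕ) : List (Array (ℕ × Array (ℕ × ℤ))) → ℕ → Bool
  | [], _ => true
  | row :: rest, r => decide (row.toList.map (fun e => (e.1, e.2.toList)) = rowCanon CH n r) &&
      chAgree1 CH n rest (r + 1)

def chCheck1 (D : ChevalleyDatum) (CH : ℕ) : Bool :=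
  decide (D.nroots ≤ 255) && decide (D.chain.size = D.nroots) && chAgree1 CH D.nroots D.chain.toList 0

theorem chAgree1_spec (CH n : ℕ) (L : List (Array (ℕ × Array (ℕ × ℤ)))) (k : ℕ)
    (h : chAgree1 CH n L k = true) (j : ℕ) (hj : j < L.length) :
    (L[j]).toList.map (fun e => (e.1, e.2.toList)) = rowCanon CH n (k + j) := by
  induction L generalizing k j with
  | nil => simp at hj
  | cons row rest ih =>
    unfold chAgree1 at h
    rw [Bool.and_eq_true, decide_eq_true_eq] at h
    cases j with
    | zero => exact h.1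
    | succ j =>
      have h2 := ih (k + 1) h.2 j (by simpa using hj)
      have e : k + (j + 1) = k + 1 + j := by omega
      rw [e]
      exact h2

theorem find_filterMap_range {β : Type} (F : ℕ → Option (ℕ × β)) (hF : ∀ s x, F s = some x → x.1 = s) (n s : ℕ)
    (hs : s < n) : ((List.range n).filterMap F).find? (fun x => decide (x.1 = s)) = F s := by
  induction n with
  | zero => omega
  | succ n ih =>
    rw [List.range_succ, List.filterMap_append, List.find?_append]
    rcases Nat.lt_succ_iff_lt_or_eq.mp hs with h | h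
    · rw [ih h]
      cases hFs : F s with
      | some x => rfl
      | none =>
        rw [Option.none_or]
        cases hFn : F n with
        | none => simp [hFn]
        | some y =>
          have hy := hF n y hFn
          simp [hFn, hy]
          omega
    · subst h
      have h1 : ((List.range s).filterMap F).find? (fun x => decide (x.1 = s)) = none := by
        rw [List.find?_eq_none]
        intro x hx
        rw [List.mem_filterMap] at hx
        obtain ⟨a, ha, hax⟩ := hx
        have := hF a x hax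
        rw [List.mem_range] at ha
        simp
        omega
      rw [h1, Option.none_or]
      cases hFn : F s with
      | none => simp [hFn]
      | some y =>
        have hy := hF s y hFn
        simp [hFn, hy]

theorem chainEntry_eq1 (D : ChevalleyDatum) (CH : ℕ) (h : chCheck1 D CH = true) (r s : ℕ)
    (hr : r < D.nroots) (hs : s < D.nroots) :
    D.chainEntry r s = (if ent CH D.nroots r s % 256 ≤ D.nroots then ceDec1 (ent CH D.nroots r s) else []) := by
  unfold chCheck1 at h
  simp only [Bool.and_eq_true, decide_eq_true_eq] at h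
  obtain ⟨⟨-, hsz⟩, hag⟩ := h
  have hr' : r < D.chain.toList.length := by
    rw [Array.length_toList, hsz]
    exact hr
  have h1 := chAgree1_spec CH D.nroots D.chain.toList 0 hag r hr'
  rw [Nat.zero_add] at h1
  have e : D.chain.getD r #[] = D.chain.toList[r] := by
    have hr2 : r < D.chain.size := by rw [hsz]; exact hr
    simp [Array.getD, hr2]
  have hfind := find_filterMap_range (fun s => frc (ent CH D.nroots r s) (canonF D.nroots s))
    (by
      intro s x hx
      rw [frc_eq] at hx
      unfold canonF at hx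
      split_ifs at hx
      · rw [← Option.some.inj hx]
      · rw [← Option.some.inj hx]) D.nroots s hs
  have h2 : (D.chain.toList[r].toList.find? (fun e => decide (e.1 = s))).map (fun e => (e.1, e.2.toList)) =
      frc (ent CH D.nroots r s) (canonF D.nroots s) := by
    rw [← hfind]
    change _ = (rowCanon CH D.nroots r).find? _
    rw [← h1, List.find?_map]
    rfl
  rw [frc_eq] at h2
  unfold ChevalleyDatum.chainEntry
  rw [e]
  unfold canonF at h2
  cases hf : D.chain.toList[r].toList.find? (fun e => decide (e.1 = s)) with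
  | none =>
    rw [hf] at h2
    split_ifs at h2 with g1 g2
    · rw [if_pos (by omega)]
      unfold ceDec1
      rw [if_pos g1]
    · simp at h2
    · simp at h2
  | some x =>
    rw [hf] at h2
    split_ifs at h2 with g1 g2
    · simp at h2
    · rw [if_pos g2]
      simp only [Option.map_some, Option.some.injEq, Prod.mk.injEq] at h2
      exact h2.2
    · rw [if_neg g2]
      simp only [Option.map_some, Option.some.injEq, Prod.mk.injEq] at h2
      exact h2.2

theorem ceDec1_len (e : ℕ) : (ceDec1 e).length ≤ 1 := by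
  unfold ceDec1
  split_ifs <;> simp

theorem chainEntry_len1 (D : ChevalleyDatum) (CH : ℕ) (h : chCheck1 D CH = true) (r s : ℕ)
    (hr : r < D.nroots) (hs : s < D.nroots) : (D.chainEntry r s).length ≤ 1 := by
  rw [chainEntry_eq1 D CH h r s hr hs]
  split_ifs
  · exact ceDec1_len _
  · simp

theorem ct2_single (E1 E2 : List (ℕ × ℤ)) (h1 : E1.length ≤ 1) (h2 : E2.length ≤ 1) :
    ct2 E1 E2 = E1.map fun x => (x.1, x.2, 1, 1) := by
  have h4 : E2[1]? = none := List.getElem?_eq_none (by omega)
  have h3 : E1[1]? = none := List.getElem?_eq_none (by omega)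
  unfold ct2
  rw [h3, h4]
  match E1, h1 with
  | [], _ => simp
  | [x], _ => simp

def ctS (n e : ℕ) : List (ℕ × ℤ × ℕ × ℕ) :=
  if e % 256 = 0 then [] else if e % 256 ≤ n then [(e % 256 - 1, sg (e / 256), 1, 1)] else []

theorem commTerms_sl (D : ChevalleyDatum) (CH : ℕ) (h : chCheck1 D CH = true) (r s : ℕ)
    (hr : r < D.nroots) (hs : s < D.nroots) : D.commTerms r s = ctS D.nroots (ent CH D.nroots r s) := by
  have l1 := chainEntry_len1 D CH h r s hr hs
  have l2 := chainEntry_len1 D CH h s r hs hr
  rw [commTerms_eq D r s (by omega) (by omega), ct2_single _ _ l1 l2, chainEntry_eq1 D CH h r s hr hs]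
  unfold ctS ceDec1
  split_ifs <;> simp_all

def bitN (m c : ℕ) : ℕ := (m >>> c) % 2

theorem etaM_eq_sg (m c : ℕ) : etaM m c = sg (bitN m c) := by
  unfold etaM sg bitN
  rw [Nat.testBit_eq_decide_div_mod_eq, Nat.shiftRight_eq_div_pow]
  by_cases h : m / 2 ^ c % 2 = 1
  · simp [h]
  · have h0 : m / 2 ^ c % 2 = 0 := by omega
    simp [h0]

theorem sg_add (a b : ℕ) : sg (a + b) = sg a * sg b := by
  unfold sg
  rcases Nat.mod_two_eq_zero_or_one a with ha | ha <;> rcases Nat.mod_two_eq_zero_or_one b with hb | hb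
  · have : (a + b) % 2 = 0 := by omega
    simp [ha, hb, this]
  · have : (a + b) % 2 = 1 := by omega
    simp [ha, hb, this]
  · have : (a + b) % 2 = 1 := by omega
    simp [ha, hb, this]
  · have : (a + b) % 2 = 0 := by omega
    simp [ha, hb, this]

theorem sg_mod (a : ℕ) : sg (a % 2) = sg a := by
  unfold sg
  rw [Nat.mod_mod]

def trE (n W m r s e : ℕ) : ℕ :=
  if e % 256 = 0 then 0
  else if n < e % 256 then 0
  else (wdig W (e % 256 - 1) + 1) + 256 * ((e / 256 + bitN m (e % 256 - 1) + bitN m r + bitN m s) % 2)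

def pairOkS3 (n CH LV r s r' s' W m : ℕ) : Bool :=
  decide (pdig LV (r' * n + s') < pdig LV (r * n + s)) &&
  decide (ent CH n r' s' = frc (ent CH n r s) (trE n W m r s))

def pairOkS2 (n rank : ℕ) (ms Wtab : List ℕ) (CH LV r s i : ℕ) : Bool :=
  decide (i < rank) &&
  frc (Wtab.getD i 0) fun W => frc (wdig W r) fun r' => frc (wdig W s) fun s' =>
    pairOkS3 n CH LV r s r' s' W (ms.getD i 0)

def pairOkS (D : ChevalleyDatum) (ms Wtab : List ℕ) (base : List (ℕ × ℕ)) (CH LV PI : ℕ) (r s : ℕ) : Bool :=
  decide (s = r) || (decide (pdig LV (r * D.nroots + s) = 0) && base.contains (r, s)) ||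
  (decide (pdig PI (r * D.nroots + s) = 255) && decide (s = D.neg r)) ||
  frc (pdig PI (r * D.nroots + s)) (pairOkS2 D.nroots D.rank ms Wtab CH LV r s)

def pairCheckS (D : ChevalleyDatum) (ms Wtab : List ℕ) (base : List (ℕ × ℕ)) (CH LV PI : ℕ) (lo len : ℕ) : Bool :=
  (List.range' lo len).all fun r => (List.range D.nroots).all fun s => pairOkS D ms Wtab base CH LV PI r s

theorem step_of_arith (D : ChevalleyDatum) (CH : ℕ) (hCH : chCheck1 D CH = true) (i m W : ℕ)
    (hc : conjCheck D i m W = true) (W' : ℕ) (hW : ∀ u < D.nroots, D.reflectRoot i u = wdig W' u)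
    (r s : ℕ) (hr : r < D.nroots) (hs : s < D.nroots)
    (htr : ent CH D.nroots (D.reflectRoot i r) (D.reflectRoot i s) = trE D.nroots W' m r s (ent CH D.nroots r s)) :
    stepCheck D i m r s = true := by
  obtain ⟨-, -, hrp⟩ := refl_props D _ _ W hc
  have hn : D.nroots ≤ 255 := by
    unfold chCheck1 at hCH
    simp only [Bool.and_eq_true, decide_eq_true_eq] at hCH
    exact hCH.1.1
  have hct := commTerms_sl D CH hCH r s hr hs
  have hct' := commTerms_sl D CH hCH _ _ (hrp r hr).1 (hrp s hs).1
  unfold stepCheck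
  rw [Bool.and_eq_true, List.all_eq_true, decide_eq_true_eq, hct, hct', htr]
  by_cases h0 : ent CH D.nroots r s % 256 = 0
  · have ht : trE D.nroots W' m r s (ent CH D.nroots r s) = 0 := by
      unfold trE
      rw [if_pos h0]
    have hL : ctS D.nroots (ent CH D.nroots r s) = [] := by
      unfold ctS
      rw [if_pos h0]
    have hR : ctS D.nroots 0 = [] := by
      unfold ctS
      rw [if_pos (by norm_num)]
    rw [ht, hL, hR]
    simp [trTerms]
  · by_cases h1 : ent CH D.nroots r s % 256 ≤ D.nroots
    · have hcl : ent CH D.nroots r s % 256 - 1 < D.nroots := by omega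
      have hw := hW _ hcl
      have hwl := (hrp _ hcl).1
      rw [hw] at hwl
      have hb2 : (ent CH D.nroots r s / 256 + bitN m (ent CH D.nroots r s % 256 - 1) + bitN m r + bitN m s) % 2 < 2 :=
        Nat.mod_lt _ (by norm_num)
      have ht : trE D.nroots W' m r s (ent CH D.nroots r s) = wdig W' (ent CH D.nroots r s % 256 - 1) + 1 +
          256 * ((ent CH D.nroots r s / 256 + bitN m (ent CH D.nroots r s % 256 - 1) + bitN m r + bitN m s) % 2) := by
        unfold trE
        rw [if_neg h0, if_neg (by omega)]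
      have hL : ctS D.nroots (ent CH D.nroots r s) =
          [(ent CH D.nroots r s % 256 - 1, sg (ent CH D.nroots r s / 256), 1, 1)] := by
        unfold ctS
        rw [if_neg h0, if_pos h1]
      have hR : ctS D.nroots (wdig W' (ent CH D.nroots r s % 256 - 1) + 1 +
          256 * ((ent CH D.nroots r s / 256 + bitN m (ent CH D.nroots r s % 256 - 1) + bitN m r + bitN m s) % 2)) =
          [(wdig W' (ent CH D.nroots r s % 256 - 1),
            sg ((ent CH D.nroots r s / 256 + bitN m (ent CH D.nroots r s % 256 - 1) + bitN m r + bitN m s) % 2), 1, 1)] := by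
        unfold ctS
        have e1 : (wdig W' (ent CH D.nroots r s % 256 - 1) + 1 + 256 *
            ((ent CH D.nroots r s / 256 + bitN m (ent CH D.nroots r s % 256 - 1) + bitN m r + bitN m s) % 2)) % 256 =
            wdig W' (ent CH D.nroots r s % 256 - 1) + 1 := by omega
        have e2 : (wdig W' (ent CH D.nroots r s % 256 - 1) + 1 + 256 *
            ((ent CH D.nroots r s / 256 + bitN m (ent CH D.nroots r s % 256 - 1) + bitN m r + bitN m s) % 2)) / 256 =
            (ent CH D.nroots r s / 256 + bitN m (ent CH D.nroots r s % 256 - 1) + bitN m r + bitN m s) % 2 := by omega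
        rw [e1, e2, if_neg (by omega), if_pos (by omega)]
        rfl
      rw [ht, hL, hR]
      refine ⟨?_, ?_⟩
      · intro x hx
        rw [List.mem_singleton] at hx
        rw [hx, decide_eq_true_eq]
        exact hcl
      · unfold trTerms
        rw [List.map_cons, List.map_nil, hw]
        congr 1
        refine Prod.ext rfl (Prod.ext ?_ rfl)
        show sg _ = etaM m _ * sg (ent CH D.nroots r s / 256) * etaM m r ^ 1 * etaM m s ^ 1
        rw [sg_mod, sg_add, sg_add, sg_add, etaM_eq_sg, etaM_eq_sg, etaM_eq_sg, pow_one, pow_one]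
        ring
    · have ht : trE D.nroots W' m r s (ent CH D.nroots r s) = 0 := by
        unfold trE
        rw [if_neg h0, if_pos (by omega)]
      have hL : ctS D.nroots (ent CH D.nroots r s) = [] := by
        unfold ctS
        rw [if_neg h0, if_neg h1]
      have hR : ctS D.nroots 0 = [] := by
        unfold ctS
        rw [if_pos (by norm_num)]
      rw [ht, hL, hR]
      simp [trTerms]

section
variable {F : Type*} [Field F]

theorem cf_of_checkS (D : ChevalleyDatum) (hD : D ∈ [chevG2, chevB2, chevD4, chevF4, chevE6, chevE7, chevE8])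
    (ms : List ℕ)
    (hms : ∀ i < D.rank, nCheck D i (ms.getD i 0) = true ∧ ∃ W, conjCheck D i (ms.getD i 0) W = true)
    (Wtab : List ℕ) (hW : WtabOk D Wtab) (CH : ℕ) (hCH : chCheck1 D CH = true)
    (base : List (ℕ × ℕ)) (hbase : ∀ p ∈ base, baseCheck D p.1 p.2 = true)
    (LV PI : ℕ) (h : ∀ r < D.nroots, ∀ s < D.nroots, pairOkS D ms Wtab base CH LV PI r s = true) :
    ∀ r < D.nroots, ∀ s < D.nroots, s ≠ r → s ≠ D.neg r → CF F D hD r s := by
  have key : ∀ k, ∀ r < D.nroots, ∀ s < D.nroots, s ≠ r → s ≠ D.neg r →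
      pdig LV (r * D.nroots + s) = k → CF F D hD r s := by
    intro k
    induction k using Nat.strong_induction_on with
    | _ k ih =>
      intro r hr s hs hsr hsn hk
      have h1 := h r hr s hs
      unfold pairOkS at h1
      rw [frc_eq] at h1
      unfold pairOkS2 at h1
      rw [frc_eq, frc_eq, frc_eq] at h1
      unfold pairOkS3 at h1
      rw [frc_eq] at h1
      simp only [Bool.or_eq_true, Bool.and_eq_true, decide_eq_true_eq] at h1
      rcases h1 with ((h1 | h1) | h1) | h1
      · exact absurd h1 hsr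
      · exact base_sound D hD r s (hbase (r, s) (List.contains_iff_mem.mp h1.2))
      · exact absurd h1.2 hsn
      · obtain ⟨hi, hlv, htr⟩ := h1
        obtain ⟨hn, W, hc⟩ := hms _ hi
        obtain ⟨-, -, hrp⟩ := refl_props D _ _ W hc
        have er := hW _ hi r hr
        have es := hW _ hi s hs
        have hr' := (hrp r hr).1
        have hs' := (hrp s hs).1
        rw [← er, ← es] at hlv htr
        have hst := step_of_arith D CH hCH _ _ W hc _ (hW _ hi) r s hr hs htr
        apply step D hD _ _ W hn hc r s hr hs hst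
        apply ih _ (hk ▸ hlv) _ hr' _ hs' _ _ rfl
        · intro he
          apply hsr
          rw [← (hrp s hs).2, he, (hrp r hr).2]
        · intro he
          apply hsn
          obtain ⟨hnl, hne, -⟩ := neg_props D _ _ W hc r hr
          rw [← (hrp s hs).2, he, ← hne, (hrp _ hnl).2]
  intro r hr s hs hsr hsn
  exact key _ r hr s hs hsr hsn rfl

theorem pair_of_checkS (D : ChevalleyDatum) (ms Wtab : List ℕ) (base : List (ℕ × ℕ)) (CH LV PI : ℕ) (lo len : ℕ)
    (h : pairCheckS D ms Wtab base CH LV PI lo len = true) (r : ℕ) (h1 : lo ≤ r) (h2 : r < lo + len) (s : ℕ)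
    (hs : s < D.nroots) : pairOkS D ms Wtab base CH LV PI r s = true := by
  unfold pairCheckS at h
  rw [List.all_eq_true] at h
  have h3 := h r (by rw [List.mem_range'_1]; exact ⟨h1, h2⟩)
  rw [List.all_eq_true] at h3
  exact h3 s (List.mem_range.mpr hs)

end

end Cfsg.Agent.Lib.Helper7.ChevCommSL
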