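import Cfsg.Agent.Lib.Helper7.ChevEngine

set_option autoImplicit false

namespace Cfsg.Agent.Lib.Helper7.ChevN
open Cfsg.Lie Cfsg.Agent.Lib.Helper7.ChevEngine

def nWordSym (negr r : ℕ) : List (ℕ × Poly) := [(r, one), (negr, [(-1, 0, 0)]), (r, one)]

theorem nWord_one_eq {F : Type*} [Field F] (D : ChevalleyDatum) (r : ℕ) :
    D.nWord r (1 : F) = (nWordSym (D.neg r) r).map (fun x => (x.1, eval (1 : F) 1 x.2)) := by
  simp [ChevalleyDatum.nWord, nWordSym, evalM]

def etaM (m : ℕ) (s : ℕ) : ℤ := if Nat.testBit m s then -1 else 1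

theorem etaM_cases (m s : ℕ) : etaM m s = 1 ∨ etaM m s = -1 := by
  unfold etaM
  split_ifs
  · right; rfl
  · left; rfl

def nTarget (D : ChevalleyDatum) (i m k : ℕ) : SVec :=
  if k < D.rank then [(k, one), (i, [(-(D.cartan k (D.simple i)), 0, 0)])]
  else [(D.rank + D.reflectRoot i (k - D.rank), [(etaM m (k - D.rank), 0, 0)])]

def nCheck (D : ChevalleyDatum) (i m : ℕ) : Bool :=
  (List.range (D.rank + D.nroots)).all fun k =>
    colCheck D.rank D.nroots (fnsOf D) false (nWordSym (D.neg (D.simple i)) (D.simple i)) k (nTarget D i m k)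

def nSignCheck (D : ChevalleyDatum) (i m : ℕ) : Bool :=
  decide (etaM m (D.simple i) = -1) && decide (etaM m (D.neg (D.simple i)) = -1) &&
  (List.range D.nroots).all fun s =>
    decide (etaM m s * etaM m (D.reflectRoot i s) = (-1) ^ (D.cartan i s).natAbs) &&
      decide (etaM m s * etaM m (D.neg s) = 1)

def nMonomial (F : Type*) [Field F] (D : ChevalleyDatum) (i : ℕ) (η : ℕ → ℤ) : Matrix D.Idx D.Idx F :=
  Matrix.of (fun (row col : D.Idx) =>
        Sum.elim
          (fun j' : Fin D.rank => Sum.elim
            (fun j : Fin D.rank => (if j' = j then (1 : F) else 0) - (if (j' : ℕ) = i then ((D.cartan j (D.simple i) : ℤ) : F) else 0))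
            (fun _ => (0 : F)) col)
          (fun s' : Fin D.nroots => Sum.elim
            (fun _ => (0 : F))
            (fun s : Fin D.nroots => if (s' : ℕ) = D.reflectRoot i s then ((η s : ℤ) : F) else 0) col)
          row)

theorem nMat_eq {F : Type*} [Field F] (D : ChevalleyDatum) (i m : ℕ) (hi : i < D.rank)
    (h : nCheck D i m = true) :
    D.nMat F (D.simple i) 1 = nMonomial F D i (etaM m) := by
  unfold ChevalleyDatum.nMat
  rw [wordMat_eq, nWord_one_eq]
  apply matrix_ext_bvec
  intro k hk
  have hk' : colCheck D.rank D.nroots (fnsOf D) false (nWordSym (D.neg (D.simple i)) (D.simple i)) k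
      (nTarget D i m k) = true := by
    unfold nCheck at h
    rw [List.all_eq_true] at h
    exact h k (List.mem_range.mpr hk)
  rw [colCheck_sound D.rank D.nroots (fnsOf D) false (1 : F) 1 (fun hf => by simp at hf) _ k _ hk']
  unfold nTarget
  by_cases hkl : k < D.rank
  · rw [if_pos hkl]
    have e1 : (nMonomial F D i (etaM m)).mulVec (bvec D.rank D.nroots F k) =
        fun r => nMonomial F D i (etaM m) r (Sum.inl ⟨k, hkl⟩) :=
      mulVec_bvec_code _ (Sum.inl ⟨k, hkl⟩ : Ix D.rank D.nroots)
    rw [e1]
    funext idx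
    simp only [evalV_cons, evalV_nil, Pi.add_apply, Pi.smul_apply, smul_eq_mul, eval_one, bvec,
      Pi.zero_apply, add_zero, one_mul, eval_cons, eval_nil, evalM, pow_zero, mul_one]
    rcases idx with j' | s'
    · simp only [nMonomial, Matrix.of_apply, Sum.elim_inl, code, Fin.ext_iff, Int.cast_neg]
      by_cases h1 : j'.val = k
      · have p1 := eq_true h1
        by_cases h2 : j'.val = i
        · have p2 := eq_true h2
          simp only [p1, p2, if_true]
          ring
        · have p2 := eq_false h2
          simp only [p1, p2, if_true, if_false]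
          ring
      · have p1 := eq_false h1
        by_cases h2 : j'.val = i
        · have p2 := eq_true h2
          simp only [p1, p2, if_true, if_false]
          ring
        · have p2 := eq_false h2
          simp only [p1, p2, if_false]
          ring
    · have h1 : ¬ (D.rank + s'.val = k) := by omega
      have h2 : ¬ (D.rank + s'.val = i) := by omega
      simp [nMonomial, code, h1, h2]
  · rw [if_neg hkl]
    obtain ⟨s, rfl⟩ : ∃ s, k = D.rank + s := ⟨k - D.rank, by omega⟩
    have hs : s < D.nroots := by omega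
    have e1 : (nMonomial F D i (etaM m)).mulVec (bvec D.rank D.nroots F (D.rank + s)) =
        fun r => nMonomial F D i (etaM m) r (Sum.inr ⟨s, hs⟩) :=
      mulVec_bvec_code _ (Sum.inr ⟨s, hs⟩ : Ix D.rank D.nroots)
    rw [e1, Nat.add_sub_cancel_left]
    funext idx
    simp only [evalV_cons, evalV_nil, Pi.add_apply, Pi.smul_apply, smul_eq_mul, bvec,
      Pi.zero_apply, add_zero, eval_cons, eval_nil, evalM, pow_zero, mul_one]
    rcases idx with j' | s'
    · have h1 : ¬ (j'.val = D.rank + D.reflectRoot i s) := by have := j'.isLt; omega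
      simp [nMonomial, code, h1]
    · simp only [nMonomial, Matrix.of_apply, Sum.elim_inr, code, Nat.add_left_cancel_iff]
      by_cases h1 : s'.val = D.reflectRoot i s
      · simp [h1]
      · simp [h1]

theorem nSign_props (D : ChevalleyDatum) (i m : ℕ) (h : nSignCheck D i m = true) :
    etaM m (D.simple i) = -1 ∧ etaM m (D.neg (D.simple i)) = -1 ∧
      (∀ s < D.nroots, etaM m s * etaM m (D.reflectRoot i s) = (-1) ^ (D.cartan i s).natAbs ∧
        etaM m s * etaM m (D.neg s) = 1) := by
  unfold nSignCheck at h
  simp only [Bool.and_eq_true, decide_eq_true_eq, List.all_eq_true, List.mem_range] at h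
  exact ⟨h.1.1, h.1.2, h.2⟩

end Cfsg.Agent.Lib.Helper7.ChevN
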