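import Cfsg.Agent.Lib.Helper7.ChevEngine
import Cfsg.Agent.Lib.Helper7.ChevN

set_option autoImplicit false

namespace Cfsg.Agent.Lib.Helper7.ChevConj
open Cfsg.Lie Cfsg.Agent.Lib.Helper7.ChevEngine

def monoM (l n : ℕ) (F : Type*) [Field F] (i : ℕ) (c : ℕ → ℤ) (w : ℕ → ℕ) (η : ℕ → ℤ) :
    Matrix (Ix l n) (Ix l n) F :=
  Matrix.of fun row col =>
    match row, col with
    | Sum.inl j', Sum.inl j => (if j' = j then (1 : F) else 0) - (if j'.val = i then ((c j.val : ℤ) : F) else 0)
    | Sum.inl _, Sum.inr _ => 0
    | Sum.inr _, Sum.inl _ => 0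
    | Sum.inr s', Sum.inr s => if s'.val = w s.val then ((η s.val : ℤ) : F) else 0

section
variable {F : Type*} [Field F]

theorem monoM_inl_inl (l n : ℕ) (i : ℕ) (c : ℕ → ℤ) (w : ℕ → ℕ) (η : ℕ → ℤ) (j' j : Fin l) :
    monoM l n F i c w η (Sum.inl j') (Sum.inl j) =
      (if j' = j then (1 : F) else 0) - (if j'.val = i then ((c j.val : ℤ) : F) else 0) := rfl

theorem monoM_inl_inr (l n : ℕ) (i : ℕ) (c : ℕ → ℤ) (w : ℕ → ℕ) (η : ℕ → ℤ) (j' : Fin l) (s : Fin n) :
    monoM l n F i c w η (Sum.inl j') (Sum.inr s) = 0 := rfl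

theorem monoM_inr_inl (l n : ℕ) (i : ℕ) (c : ℕ → ℤ) (w : ℕ → ℕ) (η : ℕ → ℤ) (s' : Fin n) (j : Fin l) :
    monoM l n F i c w η (Sum.inr s') (Sum.inl j) = 0 := rfl

theorem monoM_inr_inr (l n : ℕ) (i : ℕ) (c : ℕ → ℤ) (w : ℕ → ℕ) (η : ℕ → ℤ) (s' s : Fin n) :
    monoM l n F i c w η (Sum.inr s') (Sum.inr s) = if s'.val = w s.val then ((η s.val : ℤ) : F) else 0 := rfl

theorem mono_mul_inr (l n : ℕ) (i : ℕ) (c : ℕ → ℤ) (w : ℕ → ℕ) (η : ℕ → ℤ)
    (hw : ∀ u < n, w u < n ∧ w (w u) = u)
    (X : Matrix (Ix l n) (Ix l n) F) (a : Fin n) (col : Ix l n) :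
    (monoM l n F i c w η * X) (Sum.inr a) col =
      ((η (w a.val) : ℤ) : F) * X (Sum.inr ⟨w a.val, (hw a.val a.isLt).1⟩) col := by
  rw [Matrix.mul_apply, Fintype.sum_sum_type]
  have e1 : ∑ k : Fin l, monoM l n F i c w η (Sum.inr a) (Sum.inl k) * X (Sum.inl k) col = 0 := by
    apply Finset.sum_eq_zero
    intro k _
    rw [monoM_inr_inl, zero_mul]
  rw [e1, zero_add, Finset.sum_eq_single (⟨w a.val, (hw a.val a.isLt).1⟩ : Fin n)]
  · rw [monoM_inr_inr]
    have : a.val = w (w a.val) := ((hw a.val a.isLt).2).symm
    rw [if_pos this]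
  · intro b _ hb
    rw [monoM_inr_inr]
    have : ¬ a.val = w b.val := by
      intro h
      apply hb
      apply Fin.ext
      change b.val = w a.val
      rw [h, (hw b.val b.isLt).2]
    rw [if_neg this, zero_mul]
  · intro h
    exact absurd (Finset.mem_univ _) h

theorem mono_mul_inl (l n : ℕ) (i : ℕ) (c : ℕ → ℤ) (w : ℕ → ℕ) (η : ℕ → ℤ)
    (X : Matrix (Ix l n) (Ix l n) F) (j' : Fin l) (col : Ix l n) :
    (monoM l n F i c w η * X) (Sum.inl j') col =
      X (Sum.inl j') col - (if j'.val = i then ∑ k : Fin l, ((c k.val : ℤ) : F) * X (Sum.inl k) col else 0) := by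
  rw [Matrix.mul_apply, Fintype.sum_sum_type]
  have e1 : ∑ k : Fin n, monoM l n F i c w η (Sum.inl j') (Sum.inr k) * X (Sum.inr k) col = 0 := by
    apply Finset.sum_eq_zero
    intro k _
    rw [monoM_inl_inr, zero_mul]
  rw [e1, add_zero]
  simp only [monoM_inl_inl, sub_mul, Finset.sum_sub_distrib, ite_mul, one_mul, zero_mul, Finset.sum_ite_eq,
    Finset.mem_univ, if_true]
  congr 1
  by_cases h : j'.val = i
  · simp only [h, if_true]
  · simp only [h, if_false, Finset.sum_const_zero]

theorem mul_mono_inr (l n : ℕ) (i : ℕ) (c : ℕ → ℤ) (w : ℕ → ℕ) (η : ℕ → ℤ)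
    (hw : ∀ u < n, w u < n ∧ w (w u) = u)
    (X : Matrix (Ix l n) (Ix l n) F) (row : Ix l n) (u : Fin n) :
    (X * monoM l n F i c w η) row (Sum.inr u) =
      X row (Sum.inr ⟨w u.val, (hw u.val u.isLt).1⟩) * ((η u.val : ℤ) : F) := by
  rw [Matrix.mul_apply, Fintype.sum_sum_type]
  have e1 : ∑ k : Fin l, X row (Sum.inl k) * monoM l n F i c w η (Sum.inl k) (Sum.inr u) = 0 := by
    apply Finset.sum_eq_zero
    intro k _
    rw [monoM_inl_inr, mul_zero]
  rw [e1, zero_add, Finset.sum_eq_single (⟨w u.val, (hw u.val u.isLt).1⟩ : Fin n)]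
  · rw [monoM_inr_inr, if_pos rfl]
  · intro b _ hb
    rw [monoM_inr_inr]
    have : ¬ b.val = w u.val := by
      intro h
      apply hb
      exact Fin.ext h
    rw [if_neg this, mul_zero]
  · intro h
    exact absurd (Finset.mem_univ _) h

theorem mul_mono_inl (l n : ℕ) (i : ℕ) (c : ℕ → ℤ) (w : ℕ → ℕ) (η : ℕ → ℤ) (hi : i < l)
    (X : Matrix (Ix l n) (Ix l n) F) (row : Ix l n) (j : Fin l) :
    (X * monoM l n F i c w η) row (Sum.inl j) =
      X row (Sum.inl j) - ((c j.val : ℤ) : F) * X row (Sum.inl ⟨i, hi⟩) := by
  rw [Matrix.mul_apply, Fintype.sum_sum_type]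
  have e1 : ∑ k : Fin n, X row (Sum.inr k) * monoM l n F i c w η (Sum.inr k) (Sum.inl j) = 0 := by
    apply Finset.sum_eq_zero
    intro k _
    rw [monoM_inr_inl, mul_zero]
  rw [e1, add_zero]
  simp only [monoM_inl_inl, mul_sub, Finset.sum_sub_distrib, mul_ite, mul_one, mul_zero, Finset.sum_ite_eq',
    Finset.mem_univ, if_true]
  congr 1
  rw [Finset.sum_eq_single (⟨i, hi⟩ : Fin l)]
  · rw [if_pos rfl, mul_comm]
  · intro b _ hb
    have : ¬ b.val = i := fun h => hb (Fin.ext h)
    rw [if_neg this]
  · intro h
    exact absurd (Finset.mem_univ _) h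

theorem lsum_cast (l : ℕ) (f : ℕ → ℤ) :
    ((((List.range l).map f).sum : ℤ) : F) = ∑ k : Fin l, ((f k.val : ℤ) : F) := by
  rw [Fin.sum_univ_eq_sum_range (fun k => ((f k : ℤ) : F)) l]
  induction l with
  | zero => simp
  | succ l ih =>
    rw [List.range_succ, List.map_append, List.sum_append, Finset.sum_range_succ, Int.cast_add, ih]
    simp

theorem conj_main (l n : ℕ) (A : Fns) (i : ℕ) (c : ℕ → ℤ) (w : ℕ → ℕ) (η : ℕ → ℤ) (s : ℕ) (t : F)
    (hs : s < n) (hi : i < l)
    (hw : ∀ u < n, w u < n ∧ w (w u) = u)
    (hη : ∀ u, η u = 1 ∨ η u = -1)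
    (hηs : η (A.neg s) = η s)
    (hneg : A.neg s < n ∧ w (A.neg s) = A.neg (w s))
    (T2 : ∀ j < l, A.cart j s = A.cart j (w s) - c j * A.cart i (w s))
    (T3 : ∀ j < l, A.cor (w s) j = A.cor s j -
      (if j = i then ((List.range l).map fun k => c k * A.cor s k).sum else 0))
    (T1 : ∀ u < n, u ≠ s → u ≠ A.neg s → (∀ x ∈ A.ch s u, x.1 < n) ∧
      A.ch (w s) (w u) = (A.ch s u).map (fun x => (w x.1, η u * η s ^ x.2.2 * η x.1 * x.2.1, x.2.2))) :
    monoM l n F i c w η * xM l n A F s t = xM l n A F (w s) (((η s : ℤ) : F) * t) * monoM l n F i c w η := by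
  have hηF : ∀ u, ((η u : ℤ) : F) * ((η u : ℤ) : F) = 1 := by
    intro u
    rcases hη u with h | h <;> rw [h] <;> simp
  have winj : ∀ u < n, ∀ v < n, w u = w v → u = v := by
    intro u hu v hv h
    rw [← (hw u hu).2, ← (hw v hv).2, h]
  have hws : w (w s) = s := (hw s hs).2
  ext row col
  rcases row with j' | a
  · rw [mono_mul_inl]
    rcases col with j | u
    · rw [mul_mono_inl l n i c w η hi]
      simp only [xM_inl_inl, mul_ite, mul_one, mul_zero, Finset.sum_ite_eq', Finset.mem_univ, if_true]
      congr 1
      by_cases h : j'.val = i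
      · have h' : j' = ⟨i, hi⟩ := Fin.ext h
        rw [if_pos h, if_pos h']
      · have h' : ¬ j' = ⟨i, hi⟩ := fun e => h (congrArg Fin.val e)
        rw [if_neg h, if_neg h']
    · rw [mul_mono_inr l n i c w η hw]
      by_cases h1 : u.val = s
      · have h1' : (⟨w u.val, (hw u.val u.isLt).1⟩ : Fin n).val = w s := by
          change w u.val = w s
          rw [h1]
        rw [xM_inl_inr_r _ _ _ _ _ _ _ h1, xM_inl_inr_r _ _ _ _ _ _ _ h1', zero_mul]
        have : ∀ k : Fin l, ((c k.val : ℤ) : F) * xM l n A F s t (Sum.inl k) (Sum.inr u) = 0 := by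
          intro k
          rw [xM_inl_inr_r _ _ _ _ _ _ _ h1, mul_zero]
        simp only [this, Finset.sum_const_zero, ite_self, sub_zero]
      · have h1' : ¬ (⟨w u.val, (hw u.val u.isLt).1⟩ : Fin n).val = w s := by
          change ¬ w u.val = w s
          intro h
          exact h1 (winj _ u.isLt _ hs h)
        by_cases h2 : u.val = A.neg s
        · have h2' : (⟨w u.val, (hw u.val u.isLt).1⟩ : Fin n).val = A.neg (w s) := by
            change w u.val = A.neg (w s)
            rw [h2, hneg.2]
          rw [xM_inl_inr_neg _ _ _ _ _ _ _ h1 h2, xM_inl_inr_neg _ _ _ _ _ _ _ h1' h2']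
          have e2 : ∀ k : Fin l, ((c k.val : ℤ) : F) * xM l n A F s t (Sum.inl k) (Sum.inr u) =
              (((c k.val * A.cor s k.val : ℤ)) : F) * t := by
            intro k
            rw [xM_inl_inr_neg _ _ _ _ _ _ _ h1 h2, Int.cast_mul, mul_assoc]
          simp only [e2]
          rw [← Finset.sum_mul, ← lsum_cast l (fun k => c k * A.cor s k)]
          have hT3 := T3 j'.val j'.isLt
          have hu : η u.val = η s := by rw [h2, hηs]
          generalize ((List.range l).map fun k => c k * A.cor s k).sum = S at hT3 ⊢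
          rw [hu, hT3]
          have hE := hηF s
          by_cases h : j'.val = i
          · rw [if_pos h, if_pos h]
            push_cast
            linear_combination
              (-(((A.cor s j'.val : ℤ) : F) - ((S : ℤ) : F)) * t) * hE
          · rw [if_neg h, if_neg h]
            push_cast
            linear_combination (-(((A.cor s j'.val : ℤ) : F)) * t) * hE
        · have h2' : ¬ (⟨w u.val, (hw u.val u.isLt).1⟩ : Fin n).val = A.neg (w s) := by
            change ¬ w u.val = A.neg (w s)
            intro h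
            rw [← hneg.2] at h
            exact h2 (winj _ u.isLt _ hneg.1 h)
          rw [xM_inl_inr_gen _ _ _ _ _ _ _ h1 h2, xM_inl_inr_gen _ _ _ _ _ _ _ h1' h2', zero_mul]
          have : ∀ k : Fin l, ((c k.val : ℤ) : F) * xM l n A F s t (Sum.inl k) (Sum.inr u) = 0 := by
            intro k
            rw [xM_inl_inr_gen _ _ _ _ _ _ _ h1 h2, mul_zero]
          simp only [this, Finset.sum_const_zero, ite_self, sub_zero]
  · rw [mono_mul_inr l n i c w η hw]
    rcases col with j | u
    · rw [mul_mono_inl l n i c w η hi]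
      rw [xM_inr_inl, xM_inr_inl, xM_inr_inl]
      by_cases h : a.val = w s
      · have h' : (⟨w a.val, (hw a.val a.isLt).1⟩ : Fin n).val = s := by
          change w a.val = s
          rw [h, hws]
        rw [if_pos h', if_pos h, if_pos h]
        have hT2 := T2 j.val j.isLt
        have hwa : w a.val = s := h'
        rw [hwa, hT2]
        push_cast
        ring
      · have h' : ¬ (⟨w a.val, (hw a.val a.isLt).1⟩ : Fin n).val = s := by
          change ¬ w a.val = s
          intro e
          apply h
          rw [← e, (hw a.val a.isLt).2]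
        rw [if_neg h', if_neg h, if_neg h]
        ring
    · rw [mul_mono_inr l n i c w η hw]
      by_cases h1 : u.val = s
      · have h1' : (⟨w u.val, (hw u.val u.isLt).1⟩ : Fin n).val = w s := by
          change w u.val = w s
          rw [h1]
        rw [xM_inr_inr_r _ _ _ _ _ _ _ h1, xM_inr_inr_r _ _ _ _ _ _ _ h1']
        by_cases h : a.val = w s
        · have h' : (⟨w a.val, (hw a.val a.isLt).1⟩ : Fin n).val = s := by
            change w a.val = s
            rw [h, hws]
          have hwa : w a.val = s := h'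
          rw [if_pos h', if_pos h, hwa, h1, mul_one, one_mul]
        · have h' : ¬ (⟨w a.val, (hw a.val a.isLt).1⟩ : Fin n).val = s := by
            change ¬ w a.val = s
            intro e
            apply h
            rw [← e, (hw a.val a.isLt).2]
          rw [if_neg h', if_neg h, mul_zero, zero_mul]
      · have h1' : ¬ (⟨w u.val, (hw u.val u.isLt).1⟩ : Fin n).val = w s := by
          change ¬ w u.val = w s
          intro h
          exact h1 (winj _ u.isLt _ hs h)
        by_cases h2 : u.val = A.neg s
        · have h2' : (⟨w u.val, (hw u.val u.isLt).1⟩ : Fin n).val = A.neg (w s) := by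
            change w u.val = A.neg (w s)
            rw [h2, hneg.2]
          rw [xM_inr_inr_neg _ _ _ _ _ _ _ h1 h2, xM_inr_inr_neg _ _ _ _ _ _ _ h1' h2']
          have hu : η u.val = η s := by rw [h2, hηs]
          by_cases ha : a.val = w u.val
          · have ha1 : (⟨w a.val, (hw a.val a.isLt).1⟩ : Fin n) = u := by
              apply Fin.ext
              change w a.val = u.val
              rw [ha, (hw u.val u.isLt).2]
            have ha2 : a = (⟨w u.val, (hw u.val u.isLt).1⟩ : Fin n) := Fin.ext ha
            have hwa : w a.val = u.val := congrArg Fin.val ha1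
            rw [if_pos ha1, if_pos ha2, hwa, mul_one, one_mul]
          · have ha1 : ¬ (⟨w a.val, (hw a.val a.isLt).1⟩ : Fin n) = u := by
              intro e
              apply ha
              have : w a.val = u.val := congrArg Fin.val e
              rw [← this, (hw a.val a.isLt).2]
            have ha2 : ¬ a = (⟨w u.val, (hw u.val u.isLt).1⟩ : Fin n) := fun e => ha (congrArg Fin.val e)
            rw [if_neg ha1, if_neg ha2]
            by_cases hb : a.val = w s
            · have hb' : (⟨w a.val, (hw a.val a.isLt).1⟩ : Fin n).val = s := by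
                change w a.val = s
                rw [hb, hws]
              have hwa : w a.val = s := hb'
              rw [if_pos hb', if_pos hb, hwa, hu]
              have hE := hηF s
              linear_combination (t ^ 2 * ((η s : ℤ) : F)) * hE
            · have hb' : ¬ (⟨w a.val, (hw a.val a.isLt).1⟩ : Fin n).val = s := by
                change ¬ w a.val = s
                intro e
                apply hb
                rw [← e, (hw a.val a.isLt).2]
              rw [if_neg hb', if_neg hb, mul_zero, zero_mul]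
        · have h2' : ¬ (⟨w u.val, (hw u.val u.isLt).1⟩ : Fin n).val = A.neg (w s) := by
            change ¬ w u.val = A.neg (w s)
            intro h
            rw [← hneg.2] at h
            exact h2 (winj _ u.isLt _ hneg.1 h)
          rw [xM_inr_inr_gen _ _ _ _ _ _ _ h1 h2, xM_inr_inr_gen _ _ _ _ _ _ _ h1' h2']
          obtain ⟨hlt, hch⟩ := T1 u.val u.isLt h1 h2
          have hch' : A.ch (w s) (⟨w u.val, (hw u.val u.isLt).1⟩ : Fin n).val =
              (A.ch s u.val).map (fun x => (w x.1, η u.val * η s ^ x.2.2 * η x.1 * x.2.1, x.2.2)) := hch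
          rw [hch', mul_add, add_mul]
          congr 1
          · by_cases ha : a.val = w u.val
            · have ha1 : (⟨w a.val, (hw a.val a.isLt).1⟩ : Fin n) = u := by
                apply Fin.ext
                change w a.val = u.val
                rw [ha, (hw u.val u.isLt).2]
              have ha2 : a = (⟨w u.val, (hw u.val u.isLt).1⟩ : Fin n) := Fin.ext ha
              have hwa : w a.val = u.val := congrArg Fin.val ha1
              rw [if_pos ha1, if_pos ha2, hwa, mul_one, one_mul]
            · have ha1 : ¬ (⟨w a.val, (hw a.val a.isLt).1⟩ : Fin n) = u := by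
                intro e
                apply ha
                have : w a.val = u.val := congrArg Fin.val e
                rw [← this, (hw a.val a.isLt).2]
              have ha2 : ¬ a = (⟨w u.val, (hw u.val u.isLt).1⟩ : Fin n) := fun e => ha (congrArg Fin.val e)
              rw [if_neg ha1, if_neg ha2, mul_zero, zero_mul]
          · rw [List.filter_map, List.map_map]
            have hfil : (A.ch s u.val).filter ((fun y : ℕ × ℤ × ℕ => decide (y.1 = a.val)) ∘
                (fun x : ℕ × ℤ × ℕ => (w x.1, η u.val * η s ^ x.2.2 * η x.1 * x.2.1, x.2.2))) =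
                (A.ch s u.val).filter (fun x => decide (x.1 = w a.val)) := by
              apply List.filter_congr
              intro x hx
              have hxn := hlt x hx
              simp only [Function.comp, decide_eq_decide]
              constructor
              · intro e
                rw [← e, (hw x.1 hxn).2]
              · intro e
                rw [e, (hw a.val a.isLt).2]
            rw [hfil, ← List.sum_map_mul_left, ← List.sum_map_mul_right]
            congr 1
            apply List.map_congr_left
            intro x hx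
            have hx1 : x.1 = w a.val := by
              have := (List.mem_filter.mp hx).2
              simpa using this
            simp only [Function.comp]
            rw [hx1]
            have hU := hηF u.val
            have hE : ((η s : ℤ) : F) ^ x.2.2 * ((η s : ℤ) : F) ^ x.2.2 = 1 := by
              rw [← mul_pow, hηF s, one_pow]
            push_cast
            rw [mul_pow]
            linear_combination
              (-(((η (w a.val) : ℤ) : F) * ((x.2.1 : ℤ) : F) * t ^ x.2.2 * (((η s : ℤ) : F) ^ x.2.2 *
                ((η s : ℤ) : F) ^ x.2.2))) * hU -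
              (((η (w a.val) : ℤ) : F) * ((x.2.1 : ℤ) : F) * t ^ x.2.2) * hE

end

end Cfsg.Agent.Lib.Helper7.ChevConj
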