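import Cfsg.Agent.Lib.Helper7.ChevConj
import Cfsg.Agent.Lib.Helper7.Pack

set_option autoImplicit false

namespace Cfsg.Agent.Lib.Helper7.ChevConjT
open Cfsg.Lie Cfsg.Agent.Lib.Helper7.ChevEngine Cfsg.Agent.Lib.Helper7.ChevN
  Cfsg.Agent.Lib.Helper7.ChevConj Cfsg.Agent.Lib.Helper7.Pack

def elist (e : ℕ × Array (ℕ × ℤ)) : List (ℕ × ℤ × ℕ) :=
  e.2.toList.zipIdx.map fun q => (q.1.1, q.1.2, q.2 + 1)

theorem ch_eq (D : ChevalleyDatum) (r s : ℕ) :
    (fnsOf D).ch r s = ((D.chain.getD r #[]).toList.filter (fun e => decide (e.1 = s))).flatMap elist := rfl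

def incr : List ℕ → Bool
  | [] => true
  | a :: rest => (match rest with
      | [] => true
      | b :: _ => decide (a < b)) && incr rest

theorem incr_pairwise : ∀ L : List ℕ, incr L = true → L.Pairwise (· < ·)
  | [], _ => List.Pairwise.nil
  | a :: rest, h => by
    simp only [incr, Bool.and_eq_true] at h
    have ih := incr_pairwise rest h.2
    refine List.Pairwise.cons ?_ ih
    intro x hx
    cases rest with
    | nil => simp at hx
    | cons b rest' =>
      have hab : a < b := by simpa using h.1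
      rcases List.mem_cons.mp hx with rfl | hx'
      · exact hab
      · exact lt_trans hab (List.rel_of_pairwise_cons ih hx')

theorem filter_key {β : Type*} : ∀ (L : List (ℕ × β)), (L.map Prod.fst).Pairwise (· < ·) → ∀ e ∈ L,
    L.filter (fun x => decide (x.1 = e.1)) = [e]
  | [], _, e, he => by simp at he
  | x :: L, h, e, he => by
    rw [List.map_cons, List.pairwise_cons] at h
    rcases List.mem_cons.mp he with rfl | he'
    · rw [List.filter_cons_of_pos (by simp)]
      congr 1
      rw [List.filter_eq_nil_iff]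
      intro y hy
      have := h.1 y.1 (List.mem_map.mpr ⟨y, hy, rfl⟩)
      simp only [decide_eq_true_eq]
      omega
    · have hlt := h.1 e.1 (List.mem_map.mpr ⟨e, he', rfl⟩)
      rw [List.filter_cons_of_neg (by simp only [decide_eq_true_eq]; omega)]
      exact filter_key L h.2 e he'

def cartP (D : ChevalleyDatum) (j : ℕ) : ℕ := packZ (D.cartanSR.getD j #[]).toList

def rowOk (D : ChevalleyDatum) (j : ℕ) : Bool :=
  decide ((D.cartanSR.getD j #[]).toList.length = D.nroots) &&
    (D.cartanSR.getD j #[]).toList.all (fun c => decide (-8 ≤ c) && decide (c < 8))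

theorem cartan_eq_dig (D : ChevalleyDatum) (j r : ℕ) (h : rowOk D j = true) (hr : r < D.nroots) :
    D.cartan j r = digZ (cartP D j) r := by
  unfold rowOk at h
  simp only [Bool.and_eq_true, decide_eq_true_eq, List.all_eq_true] at h
  obtain ⟨h1, h2⟩ := h
  unfold cartP
  rw [digZ_packZ _ h2 r (by omega)]
  unfold ChevalleyDatum.cartan
  simp [Array.getD_eq_getD_getElem?, List.getD_eq_getElem?_getD]

def spow (e : ℤ) (k : ℕ) : ℤ := if k % 2 = 1 then e else 1

theorem spow_eq (e : ℤ) (he : e = 1 ∨ e = -1) (k : ℕ) : e ^ k = spow e k := by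
  unfold spow
  rcases he with rfl | rfl
  · simp
  · rcases Nat.even_or_odd k with hk | hk
    · have : ¬ k % 2 = 1 := by
        have := Nat.even_iff.mp hk
        omega
      rw [if_neg this, Even.neg_one_pow hk]
    · have : k % 2 = 1 := Nat.odd_iff.mp hk
      rw [if_pos this, Odd.neg_one_pow hk]

def posTab (L : List (ℕ × Array (ℕ × ℤ))) : ℕ :=
  (L.foldl (fun (acc : ℕ × ℕ) e => (acc.1 + acc.2 * 256 ^ e.1, acc.2 + 1)) (0, 0)).1

def entryOk (w : ℕ → ℕ) (η : ℕ → ℤ) (ηs : ℤ) (n : ℕ) (L' : List (ℕ × Array (ℕ × ℤ))) (T : ℕ)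
    (e : ℕ × Array (ℕ × ℤ)) : Bool :=
  (elist e).all (fun x => decide (x.1 < n)) &&
  match L'[T / 256 ^ (w e.1) % 256]? with
  | none => false
  | some e' => decide (e'.1 = w e.1) &&
      decide (elist e' = (elist e).map (fun x => (w x.1, η e.1 * spow ηs x.2.2 * η x.1 * x.2.1, x.2.2)))

def sOk (D : ChevalleyDatum) (i : ℕ) (w : ℕ → ℕ) (η : ℕ → ℤ) (s : ℕ) : Bool :=
  decide (D.neg s < D.nroots) && decide (w (D.neg s) = D.neg (w s)) && decide (η (D.neg s) = η s) &&
  incr ((D.chain.getD s #[]).toList.map Prod.fst) &&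
  (D.chain.getD s #[]).toList.all (entryOk w η (η s) D.nroots (D.chain.getD (w s) #[]).toList
    (posTab (D.chain.getD (w s) #[]).toList)) &&
  (List.range D.rank).all (fun j => decide (digZ (cartP D j) s =
    digZ (cartP D j) (w s) - digZ (cartP D j) (D.simple i) * digZ (cartP D i) (w s))) &&
  (List.range D.rank).all (fun j => decide ((D.coroot.getD (w s) #[]).getD j 0 = (D.coroot.getD s #[]).getD j 0 -
    (if j = i then ((List.range D.rank).map fun k =>
      digZ (cartP D k) (D.simple i) * (D.coroot.getD s #[]).getD k 0).sum else 0)))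

def wdig (W : ℕ) (u : ℕ) : ℕ := W / 256 ^ u % 256

def conjCheck (D : ChevalleyDatum) (i m W : ℕ) : Bool :=
  decide (i < D.rank) && decide (D.simple i < D.nroots) &&
  (List.range D.rank).all (fun j => rowOk D j) &&
  (List.range D.nroots).all (fun u => decide (D.reflectRoot i u = wdig W u) && decide (wdig W u < D.nroots) &&
    decide (wdig W (wdig W u) = u)) &&
  (List.range D.nroots).all (fun s => sOk D i (wdig W) (etaM m) s)

theorem nMonomial_eq {F : Type*} [Field F] (D : ChevalleyDatum) (i : ℕ) (η : ℕ → ℤ) (w : ℕ → ℕ)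
    (hw : ∀ u < D.nroots, D.reflectRoot i u = w u) :
    nMonomial F D i η = monoM D.rank D.nroots F i (fun j => D.cartan j (D.simple i)) w η := by
  ext row col
  rcases row with j' | s' <;> rcases col with j | s
  · rfl
  · rfl
  · rfl
  · change (if s'.val = D.reflectRoot i s.val then ((η s.val : ℤ) : F) else 0) =
      (if s'.val = w s.val then ((η s.val : ℤ) : F) else 0)
    rw [hw s.val s.isLt]

theorem conj_of_check {F : Type*} [Field F] (D : ChevalleyDatum) (i m W : ℕ) (h : conjCheck D i m W = true)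
    (s : ℕ) (hs : s < D.nroots) (t : F) :
    nMonomial F D i (etaM m) * xM D.rank D.nroots (fnsOf D) F s t =
      xM D.rank D.nroots (fnsOf D) F (D.reflectRoot i s) (((etaM m s : ℤ) : F) * t) * nMonomial F D i (etaM m) := by
  unfold conjCheck at h
  simp only [Bool.and_eq_true, decide_eq_true_eq, List.all_eq_true, List.mem_range] at h
  obtain ⟨⟨⟨⟨hi, hp⟩, hrow⟩, hwt⟩, hall⟩ := h
  have hwe : ∀ u < D.nroots, D.reflectRoot i u = wdig W u := fun u hu => (hwt u hu).1.1
  have hw : ∀ u < D.nroots, wdig W u < D.nroots ∧ wdig W (wdig W u) = u := fun u hu => ⟨(hwt u hu).1.2, (hwt u hu).2⟩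
  rw [nMonomial_eq D i (etaM m) (wdig W) hwe, hwe s hs]
  have key : ∀ s' < D.nroots, ∀ e ∈ (D.chain.getD s' #[]).toList,
      (∀ x ∈ elist e, x.1 < D.nroots) ∧
      ∃ e' ∈ (D.chain.getD (wdig W s') #[]).toList, e'.1 = wdig W e.1 ∧
        elist e' = (elist e).map (fun x => (wdig W x.1, etaM m e.1 * etaM m s' ^ x.2.2 * etaM m x.1 * x.2.1, x.2.2)) := by
    intro s' hs' e he
    have h1 := hall s' hs'
    unfold sOk at h1
    simp only [Bool.and_eq_true, decide_eq_true_eq, List.all_eq_true, List.mem_range] at h1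
    have h2 := h1.1.1.2 e he
    unfold entryOk at h2
    simp only [Bool.and_eq_true, decide_eq_true_eq, List.all_eq_true] at h2
    refine ⟨h2.1, ?_⟩
    have h3 := h2.2
    cases hf : (D.chain.getD (wdig W s') #[]).toList[posTab (D.chain.getD (wdig W s') #[]).toList /
        256 ^ (wdig W e.1) % 256]? with
    | none =>
      rw [hf] at h3
      exact absurd h3 (by simp)
    | some e' =>
      rw [hf] at h3
      simp only [Bool.and_eq_true, decide_eq_true_eq] at h3
      refine ⟨e', List.mem_of_getElem? hf, h3.1, ?_⟩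
      rw [h3.2]
      apply List.map_congr_left
      intro x _
      rw [spow_eq _ (etaM_cases m s')]
  have hsorted : ∀ s' < D.nroots, ((D.chain.getD s' #[]).toList.map Prod.fst).Pairwise (· < ·) := by
    intro s' hs'
    have h1 := hall s' hs'
    unfold sOk at h1
    simp only [Bool.and_eq_true, decide_eq_true_eq, List.all_eq_true, List.mem_range] at h1
    exact incr_pairwise _ h1.1.1.1.2
  have hS := hall s hs
  unfold sOk at hS
  simp only [Bool.and_eq_true, decide_eq_true_eq, List.all_eq_true, List.mem_range] at hS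
  obtain ⟨⟨⟨⟨⟨⟨hn1, hn2⟩, hn3⟩, -⟩, -⟩, hT2⟩, hT3⟩ := hS
  have hws := hw s hs
  apply conj_main D.rank D.nroots (fnsOf D) i (fun j => D.cartan j (D.simple i)) (wdig W) (etaM m) s t hs hi hw
    (etaM_cases m)
  · exact hn3
  · exact ⟨hn1, hn2⟩
  · intro j hj
    have e1 : (fnsOf D).cart j s = D.cartan j s := rfl
    have e2 : (fnsOf D).cart j (wdig W s) = D.cartan j (wdig W s) := rfl
    have e3 : (fnsOf D).cart i (wdig W s) = D.cartan i (wdig W s) := rfl
    rw [e1, e2, e3, cartan_eq_dig D j s (hrow j hj) hs, cartan_eq_dig D j _ (hrow j hj) hws.1,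
      cartan_eq_dig D i _ (hrow i hi) hws.1, cartan_eq_dig D j _ (hrow j hj) hp]
    exact hT2 j hj
  · intro j hj
    have e4 : ((List.range D.rank).map fun k => D.cartan k (D.simple i) * (fnsOf D).cor s k) =
        ((List.range D.rank).map fun k => digZ (cartP D k) (D.simple i) * (D.coroot.getD s #[]).getD k 0) := by
      apply List.map_congr_left
      intro k hk
      rw [cartan_eq_dig D k _ (hrow k (List.mem_range.mp hk)) hp]
      rfl
    rw [e4]
    exact hT3 j hj
  · intro u hu hus huns
    rw [ch_eq, ch_eq]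
    by_cases hex : ∃ e ∈ (D.chain.getD s #[]).toList, e.1 = u
    · obtain ⟨e, he, heu⟩ := hex
      obtain ⟨hlt, e', he', hk', hel⟩ := key s hs e he
      have f1 : (D.chain.getD s #[]).toList.filter (fun x => decide (x.1 = u)) = [e] := by
        rw [← heu]
        exact filter_key _ (hsorted s hs) e he
      have f2 : (D.chain.getD (wdig W s) #[]).toList.filter (fun x => decide (x.1 = wdig W u)) = [e'] := by
        rw [← heu, ← hk']
        exact filter_key _ (hsorted _ hws.1) e' he'
      rw [f1, f2]
      simp only [List.flatMap_cons, List.flatMap_nil, List.append_nil]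
      refine ⟨hlt, ?_⟩
      rw [hel, heu]
    · have f1 : (D.chain.getD s #[]).toList.filter (fun x => decide (x.1 = u)) = [] := by
        rw [List.filter_eq_nil_iff]
        intro e he hd
        exact hex ⟨e, he, by simpa using hd⟩
      have f2 : (D.chain.getD (wdig W s) #[]).toList.filter (fun x => decide (x.1 = wdig W u)) = [] := by
        rw [List.filter_eq_nil_iff]
        intro e' he' hd
        have hk' : e'.1 = wdig W u := by simpa using hd
        obtain ⟨-, e'', he'', hk'', -⟩ := key (wdig W s) hws.1 e' he'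
        rw [hws.2] at he''
        rw [hk', (hw u hu).2] at hk''
        exact hex ⟨e'', he'', hk''⟩
      rw [f1, f2]
      simp

end Cfsg.Agent.Lib.Helper7.ChevConjT
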