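import Cfsg.Agent.Lib.Helper7.ChevConjT

set_option autoImplicit false

namespace Cfsg.Agent.Lib.Helper7.ChevConjU
open Cfsg.Lie Cfsg.Agent.Lib.Helper7.ChevEngine Cfsg.Agent.Lib.Helper7.ChevN
  Cfsg.Agent.Lib.Helper7.ChevConj Cfsg.Agent.Lib.Helper7.ChevConjT Cfsg.Agent.Lib.Helper7.Pack

theorem refl_props (D : ChevalleyDatum) (i m W : ℕ) (h : conjCheck D i m W = true) :
    i < D.rank ∧ D.simple i < D.nroots ∧
      ∀ u < D.nroots, D.reflectRoot i u < D.nroots ∧ D.reflectRoot i (D.reflectRoot i u) = u := by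
  unfold conjCheck at h
  simp only [Bool.and_eq_true, decide_eq_true_eq, List.all_eq_true, List.mem_range] at h
  obtain ⟨⟨⟨⟨hi, hp⟩, -⟩, hwt⟩, -⟩ := h
  refine ⟨hi, hp, ?_⟩
  intro u hu
  have h1 := hwt u hu
  have h2 := hwt (wdig W u) h1.1.2
  rw [h1.1.1, h2.1.1]
  exact ⟨h1.1.2, h1.2⟩

theorem neg_props (D : ChevalleyDatum) (i m W : ℕ) (h : conjCheck D i m W = true) (s : ℕ) (hs : s < D.nroots) :
    D.neg s < D.nroots ∧ D.reflectRoot i (D.neg s) = D.neg (D.reflectRoot i s) ∧
      etaM m (D.neg s) = etaM m s := by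
  unfold conjCheck at h
  simp only [Bool.and_eq_true, decide_eq_true_eq, List.all_eq_true, List.mem_range] at h
  obtain ⟨⟨⟨⟨-, -⟩, -⟩, hwt⟩, hall⟩ := h
  have hS := hall s hs
  unfold sOk at hS
  simp only [Bool.and_eq_true, decide_eq_true_eq, List.all_eq_true, List.mem_range] at hS
  obtain ⟨⟨⟨⟨⟨⟨hn1, hn2⟩, hn3⟩, -⟩, -⟩, -⟩, -⟩ := hS
  refine ⟨hn1, ?_, hn3⟩
  rw [(hwt _ hn1).1.1, (hwt s hs).1.1]
  exact hn2

theorem lsum_eq (l : ℕ) (f : ℕ → ℤ) : ((List.range l).map f).sum = ∑ k ∈ Finset.range l, f k := by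
  induction l with
  | zero => simp
  | succ l ih =>
    rw [List.range_succ, List.map_append, List.sum_append, Finset.sum_range_succ, ih]
    simp

theorem T2_of_check (D : ChevalleyDatum) (i m W : ℕ) (h : conjCheck D i m W = true) (s : ℕ) (hs : s < D.nroots)
    (j : ℕ) (hj : j < D.rank) :
    D.cartan j s = D.cartan j (D.reflectRoot i s) - D.cartan j (D.simple i) * D.cartan i (D.reflectRoot i s) := by
  unfold conjCheck at h
  simp only [Bool.and_eq_true, decide_eq_true_eq, List.all_eq_true, List.mem_range] at h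
  obtain ⟨⟨⟨⟨hi, hp⟩, hrow⟩, hwt⟩, hall⟩ := h
  have hS := hall s hs
  unfold sOk at hS
  simp only [Bool.and_eq_true, decide_eq_true_eq, List.all_eq_true, List.mem_range] at hS
  obtain ⟨⟨-, hT2⟩, -⟩ := hS
  have hws := hwt s hs
  rw [hws.1.1, cartan_eq_dig D j s (hrow j hj) hs, cartan_eq_dig D j _ (hrow j hj) hws.1.2,
    cartan_eq_dig D i _ (hrow i hi) hws.1.2, cartan_eq_dig D j _ (hrow j hj) hp]
  exact hT2 j hj

theorem T3_of_check (D : ChevalleyDatum) (i m W : ℕ) (h : conjCheck D i m W = true) (s : ℕ) (hs : s < D.nroots)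
    (j : ℕ) (hj : j < D.rank) :
    (fnsOf D).cor (D.reflectRoot i s) j = (fnsOf D).cor s j -
      (if j = i then ∑ k ∈ Finset.range D.rank, D.cartan k (D.simple i) * (fnsOf D).cor s k else 0) := by
  unfold conjCheck at h
  simp only [Bool.and_eq_true, decide_eq_true_eq, List.all_eq_true, List.mem_range] at h
  obtain ⟨⟨⟨⟨hi, hp⟩, hrow⟩, hwt⟩, hall⟩ := h
  have hS := hall s hs
  unfold sOk at hS
  simp only [Bool.and_eq_true, decide_eq_true_eq, List.all_eq_true, List.mem_range] at hS
  obtain ⟨-, hT3⟩ := hS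
  have hws := hwt s hs
  rw [hws.1.1, ← lsum_eq]
  have e4 : ((List.range D.rank).map fun k => D.cartan k (D.simple i) * (fnsOf D).cor s k) =
      ((List.range D.rank).map fun k => digZ (cartP D k) (D.simple i) * (D.coroot.getD s #[]).getD k 0) := by
    apply List.map_congr_left
    intro k hk
    rw [cartan_eq_dig D k _ (hrow k (List.mem_range.mp hk)) hp]
    rfl
  rw [e4]
  exact hT3 j hj

theorem conj_x {F : Type*} [Field F] (D : ChevalleyDatum) (i m W : ℕ) (hn : nCheck D i m = true)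
    (h : conjCheck D i m W = true) (s : ℕ) (hs : s < D.nroots) (t : F) :
    D.nMat F (D.simple i) 1 * D.x F s t =
      D.x F (D.reflectRoot i s) (((etaM m s : ℤ) : F) * t) * D.nMat F (D.simple i) 1 := by
  obtain ⟨hi, -, hw⟩ := refl_props D i m W h
  rw [nMat_eq D i m hi hn, x_eq, x_eq]
  unfold xx
  rw [if_pos hs, if_pos (hw s hs).1]
  exact conj_of_check D i m W h s hs t

def lvlCheck (D : ChevalleyDatum) (LV PI : ℕ) : Bool :=
  (List.range D.nroots).all fun r =>
    (List.range D.rank).any (fun j => decide (D.simple j = r)) ||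
    (decide (wdig PI r < D.rank) && decide (D.reflectRoot (wdig PI r) r < D.nroots) &&
      decide (wdig LV (D.reflectRoot (wdig PI r) r) < wdig LV r))

theorem root_induction (D : ChevalleyDatum) (LV PI : ℕ) (h : lvlCheck D LV PI = true) (P : ℕ → Prop)
    (base : ∀ j < D.rank, P (D.simple j))
    (step : ∀ i < D.rank, ∀ r < D.nroots, D.reflectRoot i r < D.nroots → P (D.reflectRoot i r) → P r) :
    ∀ r < D.nroots, P r := by
  have key : ∀ k, ∀ r < D.nroots, wdig LV r = k → P r := by
    intro k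
    induction k using Nat.strong_induction_on with
    | _ k ih =>
      intro r hr hk
      unfold lvlCheck at h
      rw [List.all_eq_true] at h
      have h1 := h r (List.mem_range.mpr hr)
      rw [Bool.or_eq_true] at h1
      rcases h1 with h1 | h1
      · rw [List.any_eq_true] at h1
        obtain ⟨j, hj, hjr⟩ := h1
        have : D.simple j = r := by simpa using hjr
        rw [← this]
        exact base j (List.mem_range.mp hj)
      · simp only [Bool.and_eq_true, decide_eq_true_eq] at h1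
        obtain ⟨⟨h2, h3⟩, h4⟩ := h1
        exact step _ h2 r hr h3 (ih _ (hk ▸ h4) _ h3 rfl)
  intro r hr
  exact key _ r hr rfl

def ConjData (D : ChevalleyDatum) : Prop :=
  (∀ i < D.rank, ∃ m W, nCheck D i m = true ∧ nSignCheck D i m = true ∧ conjCheck D i m W = true) ∧
    ∃ LV PI, lvlCheck D LV PI = true

end Cfsg.Agent.Lib.Helper7.ChevConjU
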