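import Mathlib
import Cfsg.Prelude.Def_ChevStructure

set_option autoImplicit false

namespace Cfsg.Agent.Lib.Helper7.ChevEngine
open Cfsg.Lie

structure Fns where
  neg : ℕ → ℕ
  cart : ℕ → ℕ → ℤ
  cor : ℕ → ℕ → ℤ
  ch : ℕ → ℕ → List (ℕ × ℤ × ℕ)

def fnsOf (D : ChevalleyDatum) : Fns where
  neg r := D.negIdx.getD r 0
  cart i r := (D.cartanSR.getD i #[]).getD r 0
  cor r i := (D.coroot.getD r #[]).getD i 0
  ch r s := ((D.chain.getD r #[]).toList.filter (fun e => e.1 = s)).flatMap fun e =>
      e.2.toList.zipIdx.map fun q => (q.1.1, q.1.2, q.2 + 1)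

abbrev Ix (l n : ℕ) : Type := Fin l ⊕ Fin n

def xM (l n : ℕ) (A : Fns) (F : Type*) [Field F] (r : ℕ) (t : F) : Matrix (Ix l n) (Ix l n) F :=
  Matrix.of fun row col =>
    match col with
    | Sum.inl i =>
      (match row with
       | Sum.inl i' => if i' = i then 1 else 0
       | Sum.inr u => if u.val = r then - ((A.cart i.val r : ℤ) : F) * t else 0)
    | Sum.inr s =>
      if s.val = r then (match row with | Sum.inr u => if u.val = r then 1 else 0 | Sum.inl _ => 0)
      else if s.val = A.neg r then
        (match row with
         | Sum.inl i => ((A.cor r i.val : ℤ) : F) * t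
         | Sum.inr u => if u = s then 1 else if u.val = r then -(t ^ 2) else 0)
      else
        (match row with
         | Sum.inl _ => 0
         | Sum.inr u => (if u = s then 1 else 0) +
             (((A.ch r s.val).filter (fun x => x.1 = u.val)).map fun x => ((x.2.1 : ℤ) : F) * t ^ x.2.2).sum)

def xx (l n : ℕ) (A : Fns) (F : Type*) [Field F] (r : ℕ) (t : F) : Matrix (Ix l n) (Ix l n) F :=
  if r < n then xM l n A F r t else 1

def wM (l n : ℕ) (A : Fns) (F : Type*) [Field F] (w : List (ℕ × F)) : Matrix (Ix l n) (Ix l n) F :=
  (w.map fun p => xx l n A F p.1 p.2).prod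

theorem chainCoeff_eq (D : ChevalleyDatum) (r s u : ℕ) :
    D.chainCoeff r s u = (((fnsOf D).ch r s).filter (fun x => x.1 = u)).map (fun x => (x.2.2, x.2.1)) := by
  unfold ChevalleyDatum.chainCoeff fnsOf
  simp only [List.filter_flatMap, List.map_flatMap, List.filter_map, List.map_map]
  rfl

theorem xMat_eq {F : Type*} [Field F] (D : ChevalleyDatum) (r : Fin D.nroots) (t : F) :
    D.xMat F r t = xM D.rank D.nroots (fnsOf D) F r.val t := by
  ext row col
  unfold ChevalleyDatum.xMat xM
  rcases col with i | s
  · rcases row with i' | u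
    · rfl
    · simp only [Matrix.of_apply, Fin.ext_iff]
      rfl
  · simp only [Matrix.of_apply, Fin.ext_iff]
    by_cases h1 : s.val = r.val
    · rw [if_pos h1, if_pos h1]
      rcases row with i' | u <;> rfl
    · rw [if_neg h1, if_neg h1]
      by_cases h2 : s.val = D.negIdx.getD r.val 0
      · have h2' : s.val = (fnsOf D).neg r.val := h2
        rw [if_pos h2, if_pos h2']
        rcases row with i' | u
        · rfl
        · rfl
      · have h2' : ¬ s.val = (fnsOf D).neg r.val := h2
        rw [if_neg h2, if_neg h2']
        rcases row with i' | u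
        · rfl
        · simp only [chainCoeff_eq, List.map_map]
          rfl

theorem x_eq {F : Type*} [Field F] (D : ChevalleyDatum) (r : ℕ) (t : F) :
    D.x F r t = xx D.rank D.nroots (fnsOf D) F r t := by
  unfold ChevalleyDatum.x xx
  by_cases h : r < D.nroots
  · rw [dif_pos h, if_pos h, xMat_eq]
  · rw [dif_neg h, if_neg h]

theorem wordMat_eq {F : Type*} [Field F] (D : ChevalleyDatum) (w : List (ℕ × F)) :
    D.wordMat F w = wM D.rank D.nroots (fnsOf D) F w := by
  unfold ChevalleyDatum.wordMat wM
  congr 1
  apply List.map_congr_left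
  intro p _
  exact x_eq D p.1 p.2


/-! ### symbolic polynomials in two letters -/

abbrev Mono : Type := ℤ × ℕ × ℕ
abbrev Poly : Type := List Mono
abbrev SVec : Type := List (ℕ × Poly)

def mmul (lau : Bool) (x y : Mono) : Mono :=
  (x.1 * y.1, if lau then ((x.2.1 + y.2.1) - (x.2.2 + y.2.2), (x.2.2 + y.2.2) - (x.2.1 + y.2.1))
    else (x.2.1 + y.2.1, x.2.2 + y.2.2))

def pmul (lau : Bool) (p q : Poly) : Poly := p.flatMap fun x => q.map fun y => mmul lau x y

def smul (c : ℤ) (p : Poly) : Poly := p.map fun x => (c * x.1, x.2)

def one : Poly := [(1, 0, 0)]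

def ppow (lau : Bool) (p : Poly) : ℕ → Poly
  | 0 => one
  | n + 1 => pmul lau p (ppow lau p n)

def insertM (m : Mono) : Poly → Poly
  | [] => [m]
  | m' :: rest => if m.2.1 = m'.2.1 ∧ m.2.2 = m'.2.2 then (m.1 + m'.1, m'.2) :: rest else m' :: insertM m rest

def norm (p : Poly) : Poly := (p.foldr insertM []).filter fun m => m.1 != 0

def insertV (k : ℕ) (p : Poly) : SVec → SVec
  | [] => [(k, p)]
  | x :: rest => if k = x.1 then (x.1, p ++ x.2) :: rest else x :: insertV k p rest

def normV (v : SVec) : SVec :=
  ((v.foldr (fun x acc => insertV x.1 x.2 acc) []).map fun x => (x.1, norm x.2)).filter fun x => !x.2.isEmpty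

def negV (v : SVec) : SVec := v.map fun x => (x.1, smul (-1) x.2)

def applyX (l n : ℕ) (A : Fns) (lau : Bool) (r : ℕ) (tp : Poly) (k : ℕ) : SVec :=
  if l + n ≤ k then []
  else if k < l then
    [(k, one), (l + r, smul (-(A.cart k r)) tp)]
  else if k - l = r then [(k, one)]
  else if k - l = A.neg r then
    (k, one) :: (l + r, smul (-1) (pmul lau tp tp)) ::
      (List.range l).map fun i => (i, smul (A.cor r i) tp)
  else
    (k, one) :: (A.ch r (k - l)).map fun x => (l + x.1, smul x.2.1 (ppow lau tp x.2.2))

def applyXVec (l n : ℕ) (A : Fns) (lau : Bool) (r : ℕ) (tp : Poly) (v : SVec) : SVec :=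
  if r < n then
    normV (v.flatMap fun x => (applyX l n A lau r tp x.1).map fun y => (y.1, pmul lau x.2 y.2))
  else v

def applyWord (l n : ℕ) (A : Fns) (lau : Bool) (w : List (ℕ × Poly)) (v : SVec) : SVec :=
  w.foldr (fun x acc => applyXVec l n A lau x.1 x.2 acc) v

/-! ### evaluation -/

section Eval
variable {F : Type*} [Field F]

def evalM (a b : F) (m : Mono) : F := (m.1 : F) * a ^ m.2.1 * b ^ m.2.2

def eval (a b : F) (p : Poly) : F := (p.map (evalM a b)).sum

@[simp] theorem eval_nil (a b : F) : eval a b [] = 0 := rfl

@[simp] theorem eval_cons (a b : F) (m : Mono) (p : Poly) : eval a b (m :: p) = evalM a b m + eval a b p := by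
  simp [eval]

@[simp] theorem eval_append (a b : F) (p q : Poly) : eval a b (p ++ q) = eval a b p + eval a b q := by
  simp [eval]

@[simp] theorem eval_one (a b : F) : eval a b one = 1 := by
  simp [one, evalM]

theorem lau_pow (a b : F) (h : a * b = 1) (i j : ℕ) : a ^ (i - j) * b ^ (j - i) = a ^ i * b ^ j := by
  rcases le_total i j with hij | hij
  · obtain ⟨d, rfl⟩ := Nat.exists_eq_add_of_le hij
    have h1 : i - (i + d) = 0 := by omega
    have h2 : i + d - i = d := by omega
    rw [h1, h2, pow_zero, one_mul, pow_add, ← mul_assoc, ← mul_pow, h, one_pow, one_mul]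
  · obtain ⟨d, rfl⟩ := Nat.exists_eq_add_of_le hij
    have h1 : j - (j + d) = 0 := by omega
    have h2 : j + d - j = d := by omega
    rw [h1, h2, pow_zero, mul_one, pow_add, mul_comm (a ^ j), mul_assoc, ← mul_pow, h, one_pow, mul_one]

theorem evalM_mmul (a b : F) (lau : Bool) (hl : lau = true → a * b = 1) (x y : Mono) :
    evalM a b (mmul lau x y) = evalM a b x * evalM a b y := by
  unfold mmul evalM
  cases lau with
  | false =>
    simp only [Bool.false_eq_true, if_false, Int.cast_mul, pow_add]
    ring
  | true =>
    simp only [if_true, Int.cast_mul]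
    rw [mul_assoc, lau_pow a b (hl rfl), pow_add, pow_add]
    ring

theorem eval_smul (a b : F) (c : ℤ) (p : Poly) : eval a b (smul c p) = (c : F) * eval a b p := by
  induction p with
  | nil => simp [smul]
  | cons m p ih =>
    have : smul c (m :: p) = (c * m.1, m.2) :: smul c p := rfl
    rw [this, eval_cons, eval_cons, ih, mul_add]
    congr 1
    simp only [evalM, Int.cast_mul]
    ring

theorem eval_map_mmul (a b : F) (lau : Bool) (hl : lau = true → a * b = 1) (x : Mono) (q : Poly) :
    eval a b (q.map fun y => mmul lau x y) = evalM a b x * eval a b q := by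
  induction q with
  | nil => simp
  | cons y q ih =>
    rw [List.map_cons, eval_cons, eval_cons, ih, evalM_mmul a b lau hl, mul_add]

theorem eval_pmul (a b : F) (lau : Bool) (hl : lau = true → a * b = 1) (p q : Poly) :
    eval a b (pmul lau p q) = eval a b p * eval a b q := by
  induction p with
  | nil => simp [pmul]
  | cons x p ih =>
    have : pmul lau (x :: p) q = (q.map fun y => mmul lau x y) ++ pmul lau p q := by
      simp [pmul]
    rw [this, eval_append, eval_map_mmul a b lau hl, ih, eval_cons, add_mul]

theorem eval_ppow (a b : F) (lau : Bool) (hl : lau = true → a * b = 1) (p : Poly) (m : ℕ) :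
    eval a b (ppow lau p m) = eval a b p ^ m := by
  induction m with
  | zero => simp [ppow]
  | succ m ih =>
    have : ppow lau p (m + 1) = pmul lau p (ppow lau p m) := rfl
    rw [this, eval_pmul a b lau hl, ih, pow_succ, mul_comm]

theorem eval_insertM (a b : F) (m : Mono) (p : Poly) : eval a b (insertM m p) = evalM a b m + eval a b p := by
  induction p with
  | nil => simp [insertM]
  | cons m' p ih =>
    unfold insertM
    split_ifs with h
    · rw [eval_cons, eval_cons]
      have : evalM a b (m.1 + m'.1, m'.2) = evalM a b m + evalM a b m' := by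
        unfold evalM
        simp only [Int.cast_add]
        rw [h.1, h.2]
        ring
      rw [this, add_assoc]
    · rw [eval_cons, eval_cons, ih]
      ring

theorem eval_foldr_insertM (a b : F) (p : Poly) : eval a b (p.foldr insertM []) = eval a b p := by
  induction p with
  | nil => rfl
  | cons m p ih => rw [List.foldr_cons, eval_insertM, ih, eval_cons]

theorem eval_filter_ne (a b : F) (p : Poly) : eval a b (p.filter fun m => m.1 != 0) = eval a b p := by
  induction p with
  | nil => rfl
  | cons m p ih =>
    by_cases h : m.1 = 0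
    · have h' : (m.1 != 0) = false := by simp [h]
      rw [List.filter_cons_of_neg (by simp [h']), ih, eval_cons]
      have : evalM a b m = 0 := by
        unfold evalM
        rw [h]
        simp
      rw [this, zero_add]
    · have h' : (m.1 != 0) = true := by simp [h]
      rw [List.filter_cons_of_pos (p := fun m : Mono => m.1 != 0) h', eval_cons, eval_cons, ih]

theorem eval_norm (a b : F) (p : Poly) : eval a b (norm p) = eval a b p := by
  unfold norm
  rw [eval_filter_ne, eval_foldr_insertM]

/-! ### vectors -/

def code {l n : ℕ} : Ix l n → ℕ := Sum.elim (fun i => i.val) (fun s => l + s.val)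

theorem code_lt {l n : ℕ} (j : Ix l n) : code j < l + n := by
  rcases j with i | s
  · exact lt_of_lt_of_le i.isLt (Nat.le_add_right l n)
  · exact Nat.add_lt_add_left s.isLt l

theorem code_injective {l n : ℕ} : Function.Injective (code : Ix l n → ℕ) := by
  intro i j h
  rcases i with i | s <;> rcases j with j | s'
  · simp only [code, Sum.elim_inl] at h
    exact congrArg Sum.inl (Fin.ext h)
  · simp only [code, Sum.elim_inl, Sum.elim_inr] at h
    have := i.isLt
    omega
  · simp only [code, Sum.elim_inl, Sum.elim_inr] at h
    have := j.isLt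
    omega
  · simp only [code, Sum.elim_inr] at h
    exact congrArg Sum.inr (Fin.ext (by omega))

def bvec (l n : ℕ) (F : Type*) [Field F] (k : ℕ) : Ix l n → F := fun idx => if code idx = k then 1 else 0

def evalV (l n : ℕ) (a b : F) (v : SVec) : Ix l n → F :=
  fun idx => (v.map fun x => if code idx = x.1 then eval a b x.2 else 0).sum

theorem evalV_nil (l n : ℕ) (a b : F) : evalV l n a b [] = 0 := rfl

theorem evalV_cons (l n : ℕ) (a b : F) (x : ℕ × Poly) (v : SVec) :
    evalV l n a b (x :: v) = eval a b x.2 • bvec l n F x.1 + evalV l n a b v := by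
  funext idx
  simp only [evalV, bvec, List.map_cons, List.sum_cons, Pi.add_apply, Pi.smul_apply, smul_eq_mul]
  congr 1
  split_ifs <;> simp

theorem evalV_append (l n : ℕ) (a b : F) (v w : SVec) :
    evalV l n a b (v ++ w) = evalV l n a b v + evalV l n a b w := by
  funext idx
  simp [evalV]

theorem evalV_insertV (l n : ℕ) (a b : F) (k : ℕ) (p : Poly) (v : SVec) :
    evalV l n a b (insertV k p v) = eval a b p • bvec l n F k + evalV l n a b v := by
  induction v with
  | nil =>
    unfold insertV
    rw [evalV_cons]
  | cons x v ih =>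
    unfold insertV
    split_ifs with h
    · rw [evalV_cons, evalV_cons, eval_append, add_smul, h, add_assoc]
    · rw [evalV_cons, evalV_cons, ih]
      abel

theorem evalV_foldr_insertV (l n : ℕ) (a b : F) (v : SVec) :
    evalV l n a b (v.foldr (fun x acc => insertV x.1 x.2 acc) []) = evalV l n a b v := by
  induction v with
  | nil => rfl
  | cons x v ih => rw [List.foldr_cons, evalV_insertV, ih, evalV_cons]

theorem evalV_map_norm (l n : ℕ) (a b : F) (v : SVec) :
    evalV l n a b (v.map fun x => (x.1, norm x.2)) = evalV l n a b v := by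
  induction v with
  | nil => rfl
  | cons x v ih => rw [List.map_cons, evalV_cons, evalV_cons, ih, eval_norm]

theorem evalV_filter (l n : ℕ) (a b : F) (v : SVec) :
    evalV l n a b (v.filter fun x => !x.2.isEmpty) = evalV l n a b v := by
  induction v with
  | nil => rfl
  | cons x v ih =>
    by_cases h : x.2 = []
    · have h' : (!x.2.isEmpty) = false := by simp [h]
      rw [List.filter_cons_of_neg (by simp [h']), ih, evalV_cons, h, eval_nil, zero_smul, zero_add]
    · have h' : (!x.2.isEmpty) = true := by simp [h]
      rw [List.filter_cons_of_pos (p := fun x : ℕ × Poly => !x.2.isEmpty) h', evalV_cons, evalV_cons, ih]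

theorem evalV_normV (l n : ℕ) (a b : F) (v : SVec) : evalV l n a b (normV v) = evalV l n a b v := by
  unfold normV
  rw [evalV_filter, evalV_map_norm, evalV_foldr_insertV]

theorem evalV_negV (l n : ℕ) (a b : F) (v : SVec) : evalV l n a b (negV v) = - evalV l n a b v := by
  induction v with
  | nil => simp [negV, evalV_nil]
  | cons x v ih =>
    have : negV (x :: v) = (x.1, smul (-1) x.2) :: negV v := rfl
    rw [this, evalV_cons, evalV_cons, ih, eval_smul]
    simp only [Int.cast_neg, Int.cast_one, neg_mul, one_mul, neg_smul, neg_add_rev]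
    abel

theorem evalV_single (l n : ℕ) (a b : F) (k : ℕ) (p : Poly) :
    evalV l n a b [(k, p)] = eval a b p • bvec l n F k := by
  rw [evalV_cons, evalV_nil, add_zero]

theorem evalV_map_pmul (l n : ℕ) (a b : F) (lau : Bool) (hl : lau = true → a * b = 1) (p : Poly) (v : SVec) :
    evalV l n a b (v.map fun y => (y.1, pmul lau p y.2)) = eval a b p • evalV l n a b v := by
  induction v with
  | nil => simp [evalV_nil]
  | cons x v ih =>
    rw [List.map_cons, evalV_cons, evalV_cons, ih, eval_pmul a b lau hl, smul_add, smul_smul]

theorem mulVec_bvec_code {l n : ℕ} (M : Matrix (Ix l n) (Ix l n) F) (j : Ix l n) :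
    M.mulVec (bvec l n F (code j)) = fun i => M i j := by
  funext i
  simp only [Matrix.mulVec, dotProduct, bvec]
  rw [Finset.sum_eq_single j]
  · simp
  · intro c _ hc
    have : code c ≠ code j := fun h => hc (code_injective h)
    simp [this]
  · intro h
    exact absurd (Finset.mem_univ j) h

theorem mulVec_bvec_out {l n : ℕ} (M : Matrix (Ix l n) (Ix l n) F) (k : ℕ) (hk : l + n ≤ k) :
    M.mulVec (bvec l n F k) = 0 := by
  have : bvec l n F k = 0 := by
    funext idx
    have := code_lt idx
    simp only [bvec, Pi.zero_apply]
    rw [if_neg (by omega)]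
  rw [this, Matrix.mulVec_zero]

theorem matrix_ext_bvec {l n : ℕ} (M N : Matrix (Ix l n) (Ix l n) F)
    (h : ∀ k < l + n, M.mulVec (bvec l n F k) = N.mulVec (bvec l n F k)) : M = N := by
  ext i j
  have := h (code j) (code_lt j)
  rw [mulVec_bvec_code, mulVec_bvec_code] at this
  exact congrFun this i


theorem sum_range_ite (l i : ℕ) (f : ℕ → F) :
    ((List.range l).map fun j => if i = j then f j else 0).sum = if i < l then f i else 0 := by
  induction l with
  | zero => simp
  | succ l ih =>
    rw [List.range_succ, List.map_append, List.sum_append, ih]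
    simp only [List.map_cons, List.map_nil, List.sum_cons, List.sum_nil, add_zero]
    by_cases h1 : i < l
    · have h2 : i ≠ l := by omega
      have h3 : i < l + 1 := by omega
      rw [if_pos h1, if_neg h2, if_pos h3, add_zero]
    · by_cases h2 : i = l
      · subst h2
        simp
      · have h3 : ¬ i < l + 1 := by omega
        rw [if_neg h1, if_neg h2, if_neg h3, add_zero]

theorem sum_map_filter_ite {α : Type*} (L : List α) (p : α → Prop) [DecidablePred p] (f : α → F) :
    ((L.filter fun x => decide (p x)).map f).sum = (L.map fun x => if p x then f x else 0).sum := by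
  induction L with
  | nil => rfl
  | cons x L ih =>
    by_cases h : p x
    · rw [List.filter_cons_of_pos (by simpa using h), List.map_cons, List.sum_cons, ih, List.map_cons,
        List.sum_cons, if_pos h]
    · rw [List.filter_cons_of_neg (by simpa using h), ih, List.map_cons, List.sum_cons, if_neg h, zero_add]

theorem xM_inl_inl (l n : ℕ) (A : Fns) (r : ℕ) (t : F) (i' i : Fin l) :
    xM l n A F r t (Sum.inl i') (Sum.inl i) = if i' = i then 1 else 0 := rfl

theorem xM_inr_inl (l n : ℕ) (A : Fns) (r : ℕ) (t : F) (u : Fin n) (i : Fin l) :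
    xM l n A F r t (Sum.inr u) (Sum.inl i) = if u.val = r then - ((A.cart i.val r : ℤ) : F) * t else 0 := rfl

theorem xM_inl_inr_r (l n : ℕ) (A : Fns) (r : ℕ) (t : F) (i' : Fin l) (s : Fin n) (h : s.val = r) :
    xM l n A F r t (Sum.inl i') (Sum.inr s) = 0 := by
  simp only [xM, Matrix.of_apply, h, if_true]

theorem xM_inr_inr_r (l n : ℕ) (A : Fns) (r : ℕ) (t : F) (u s : Fin n) (h : s.val = r) :
    xM l n A F r t (Sum.inr u) (Sum.inr s) = if u.val = r then 1 else 0 := by
  simp only [xM, Matrix.of_apply, h, if_true]

theorem xM_inl_inr_neg (l n : ℕ) (A : Fns) (r : ℕ) (t : F) (i : Fin l) (s : Fin n) (h1 : ¬ s.val = r)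
    (h2 : s.val = A.neg r) :
    xM l n A F r t (Sum.inl i) (Sum.inr s) = ((A.cor r i.val : ℤ) : F) * t := by
  simp only [xM, Matrix.of_apply, if_neg h1, if_pos h2]

theorem xM_inr_inr_neg (l n : ℕ) (A : Fns) (r : ℕ) (t : F) (u s : Fin n) (h1 : ¬ s.val = r)
    (h2 : s.val = A.neg r) :
    xM l n A F r t (Sum.inr u) (Sum.inr s) = if u = s then 1 else if u.val = r then -(t ^ 2) else 0 := by
  simp only [xM, Matrix.of_apply, if_neg h1, if_pos h2]

theorem xM_inl_inr_gen (l n : ℕ) (A : Fns) (r : ℕ) (t : F) (i : Fin l) (s : Fin n) (h1 : ¬ s.val = r)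
    (h2 : ¬ s.val = A.neg r) :
    xM l n A F r t (Sum.inl i) (Sum.inr s) = 0 := by
  simp only [xM, Matrix.of_apply, if_neg h1, if_neg h2]

theorem xM_inr_inr_gen (l n : ℕ) (A : Fns) (r : ℕ) (t : F) (u s : Fin n) (h1 : ¬ s.val = r)
    (h2 : ¬ s.val = A.neg r) :
    xM l n A F r t (Sum.inr u) (Sum.inr s) = (if u = s then 1 else 0) +
      (((A.ch r s.val).filter (fun x => x.1 = u.val)).map fun x => ((x.2.1 : ℤ) : F) * t ^ x.2.2).sum := by
  simp only [xM, Matrix.of_apply, if_neg h1, if_neg h2]

theorem applyX_sound (l n : ℕ) (A : Fns) (lau : Bool) (a b : F) (hl : lau = true → a * b = 1)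
    (r : ℕ) (tp : Poly) (k : ℕ) :
    (xM l n A F r (eval a b tp)).mulVec (bvec l n F k) = evalV l n a b (applyX l n A lau r tp k) := by
  by_cases hk : l + n ≤ k
  · rw [mulVec_bvec_out _ _ hk]
    unfold applyX
    rw [if_pos hk]
    rfl
  · by_cases hkl : k < l
    · have e1 : (xM l n A F r (eval a b tp)).mulVec (bvec l n F k) =
          fun i => xM l n A F r (eval a b tp) i (Sum.inl ⟨k, hkl⟩) :=
        mulVec_bvec_code _ (Sum.inl ⟨k, hkl⟩ : Ix l n)
      rw [e1]
      unfold applyX
      rw [if_neg hk, if_pos hkl]
      funext idx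
      simp only [evalV_cons, evalV_nil, Pi.add_apply, Pi.smul_apply, smul_eq_mul, eval_one, eval_smul,
        bvec, Pi.zero_apply, add_zero, one_mul]
      rcases idx with i' | u
      · have h1 : ¬ (i'.val = l + r) := by have := i'.isLt; omega
        rw [xM_inl_inl]
        simp only [code, Sum.elim_inl, h1, if_false, mul_zero, add_zero]
        by_cases h2 : i'.val = k
        · have h3 : i' = ⟨k, hkl⟩ := Fin.ext h2
          rw [if_pos h3]
          simp only [h2, if_true]
        · have h3 : ¬ i' = ⟨k, hkl⟩ := fun h => h2 (congrArg Fin.val h)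
          rw [if_neg h3]
          simp only [h2, if_false]
      · have h1 : ¬ (l + u.val = k) := by omega
        rw [xM_inr_inl]
        simp only [code, Sum.elim_inr, h1, if_false, zero_add, Nat.add_left_cancel_iff,
          Int.cast_neg, mul_ite, mul_one, mul_zero]
    · obtain ⟨s, rfl⟩ : ∃ s, k = l + s := ⟨k - l, by omega⟩
      have hs : s < n := by omega
      have e1 : (xM l n A F r (eval a b tp)).mulVec (bvec l n F (l + s)) =
          fun i => xM l n A F r (eval a b tp) i (Sum.inr ⟨s, hs⟩) :=
        mulVec_bvec_code _ (Sum.inr ⟨s, hs⟩ : Ix l n)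
      rw [e1]
      unfold applyX
      rw [if_neg hk, if_neg hkl, Nat.add_sub_cancel_left]
      by_cases h1 : s = r
      · rw [if_pos h1]
        funext idx
        simp only [evalV_cons, evalV_nil, Pi.add_apply, Pi.smul_apply, smul_eq_mul, eval_one,
          bvec, Pi.zero_apply, add_zero, one_mul]
        rcases idx with i' | u
        · have h2 : ¬ (i'.val = l + s) := by have := i'.isLt; omega
          rw [xM_inl_inr_r _ _ _ _ _ _ _ h1]
          simp only [code, Sum.elim_inl, h2, if_false]
        · have h2 : (l + u.val = l + s) ↔ u.val = r := by omega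
          rw [xM_inr_inr_r _ _ _ _ _ _ _ h1]
          simp only [code, Sum.elim_inr, h2]
      · rw [if_neg h1]
        by_cases h2 : s = A.neg r
        · rw [if_pos h2]
          funext idx
          simp only [evalV_cons, Pi.add_apply, Pi.smul_apply, smul_eq_mul, eval_one, eval_smul,
            eval_pmul a b lau hl, bvec, one_mul]
          have e2 : evalV l n a b ((List.range l).map fun i => (i, smul (A.cor r i) tp)) idx =
              ((List.range l).map fun j => if code idx = j then ((A.cor r j : ℤ) : F) * eval a b tp else 0).sum := by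
            simp only [evalV, List.map_map]
            congr 1
            apply List.map_congr_left
            intro j _
            simp only [Function.comp, eval_smul]
          rw [e2, sum_range_ite]
          rcases idx with i' | u
          · have h3 : ¬ (i'.val = l + s) := by have := i'.isLt; omega
            have h4 : ¬ (i'.val = l + r) := by have := i'.isLt; omega
            rw [xM_inl_inr_neg _ _ _ _ _ _ _ h1 h2]
            simp only [code, Sum.elim_inl, h3, h4, if_false, mul_zero, zero_add, i'.isLt, if_true]
          · have h3 : (l + u.val = l + s) ↔ u = ⟨s, hs⟩ := by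
              rw [Fin.ext_iff]
              simp only
              omega
            have h4 : ¬ (l + u.val < l) := by omega
            rw [xM_inr_inr_neg _ _ _ _ _ _ _ h1 h2]
            simp only [code, Sum.elim_inr, h3, h4, if_false, Nat.add_left_cancel_iff, add_zero, Int.cast_neg,
              Int.cast_one]
            by_cases h5 : u = ⟨s, hs⟩
            · have h6 : ¬ (u.val = r) := by
                rw [h5]
                exact h1
              rw [if_pos h5, if_pos h5, if_neg h6]
              ring
            · rw [if_neg h5, if_neg h5]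
              by_cases h6 : u.val = r
              · rw [if_pos h6, if_pos h6]
                ring
              · rw [if_neg h6, if_neg h6]
                ring
        · rw [if_neg h2]
          funext idx
          simp only [evalV_cons, Pi.add_apply, Pi.smul_apply, smul_eq_mul, eval_one, bvec, one_mul]
          have e2 : evalV l n a b ((A.ch r s).map fun x => (l + x.1, smul x.2.1 (ppow lau tp x.2.2))) idx =
              ((A.ch r s).map fun x => if code idx = l + x.1 then ((x.2.1 : ℤ) : F) * eval a b tp ^ x.2.2 else 0).sum := by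
            simp only [evalV, List.map_map]
            congr 1
            apply List.map_congr_left
            intro x _
            simp only [Function.comp, eval_smul, eval_ppow a b lau hl]
          rw [e2]
          rcases idx with i' | u
          · have h3 : ¬ (i'.val = l + s) := by have := i'.isLt; omega
            have h4 : ∀ x : ℕ × ℤ × ℕ, ¬ (i'.val = l + x.1) := by
              intro x
              have := i'.isLt
              omega
            rw [xM_inl_inr_gen _ _ _ _ _ _ _ h1 h2]
            simp only [code, Sum.elim_inl, h3, h4, if_false, zero_add,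
              List.map_const', List.sum_replicate, smul_zero]
          · have h3 : (l + u.val = l + s) ↔ u = ⟨s, hs⟩ := by
              rw [Fin.ext_iff]
              simp only
              omega
            rw [xM_inr_inr_gen _ _ _ _ _ _ _ h1 h2]
            simp only [code, Sum.elim_inr, h3, Nat.add_left_cancel_iff]
            congr 1
            rw [sum_map_filter_ite]
            apply congrArg
            apply List.map_congr_left
            intro x _
            by_cases h5 : x.1 = u.val
            · rw [if_pos h5, if_pos h5.symm]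
            · rw [if_neg h5, if_neg (fun h => h5 h.symm)]


theorem applyXVec_sound (l n : ℕ) (A : Fns) (lau : Bool) (a b : F) (hl : lau = true → a * b = 1)
    (r : ℕ) (tp : Poly) (v : SVec) :
    (xx l n A F r (eval a b tp)).mulVec (evalV l n a b v) = evalV l n a b (applyXVec l n A lau r tp v) := by
  unfold xx applyXVec
  by_cases h : r < n
  · rw [if_pos h, if_pos h, evalV_normV]
    induction v with
    | nil =>
      rw [evalV_nil, Matrix.mulVec_zero]
      rfl
    | cons x v ih =>
      rw [evalV_cons, Matrix.mulVec_add, Matrix.mulVec_smul, ih, List.flatMap_cons, evalV_append,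
        evalV_map_pmul l n a b lau hl, applyX_sound l n A lau a b hl]
  · rw [if_neg h, if_neg h, Matrix.one_mulVec]

theorem applyWord_sound (l n : ℕ) (A : Fns) (lau : Bool) (a b : F) (hl : lau = true → a * b = 1)
    (w : List (ℕ × Poly)) (v : SVec) :
    (wM l n A F (w.map fun x => (x.1, eval a b x.2))).mulVec (evalV l n a b v) =
      evalV l n a b (applyWord l n A lau w v) := by
  induction w with
  | nil =>
    simp only [wM, applyWord, List.map_nil, List.prod_nil, Matrix.one_mulVec, List.foldr_nil]
  | cons x w ih =>
    have e1 : wM l n A F ((x :: w).map fun x => (x.1, eval a b x.2)) =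
        xx l n A F x.1 (eval a b x.2) * wM l n A F (w.map fun x => (x.1, eval a b x.2)) := by
      simp only [wM, List.map_cons, List.prod_cons]
    have e2 : applyWord l n A lau (x :: w) v = applyXVec l n A lau x.1 x.2 (applyWord l n A lau w v) := rfl
    rw [e1, e2, ← Matrix.mulVec_mulVec, ih]
    exact applyXVec_sound l n A lau a b hl x.1 x.2 _

theorem bvec_eq_evalV (l n : ℕ) (a b : F) (k : ℕ) : bvec l n F k = evalV l n a b [(k, one)] := by
  rw [evalV_single, eval_one, one_smul]

theorem evalV_eq_of_normV_nil (l n : ℕ) (a b : F) (v w : SVec)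
    (h : (normV (v ++ negV w)).isEmpty = true) : evalV l n a b v = evalV l n a b w := by
  have h1 : normV (v ++ negV w) = [] := List.isEmpty_iff.mp h
  have h2 := evalV_normV l n a b (v ++ negV w)
  rw [h1, evalV_nil, evalV_append, evalV_negV] at h2
  have h3 : evalV l n a b v - evalV l n a b w = 0 := by
    rw [sub_eq_add_neg]
    exact h2.symm
  exact sub_eq_zero.mp h3

def colCheck (l n : ℕ) (A : Fns) (lau : Bool) (w : List (ℕ × Poly)) (k : ℕ) (target : SVec) : Bool :=
  (normV (applyWord l n A lau w [(k, one)] ++ negV target)).isEmpty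

theorem colCheck_sound (l n : ℕ) (A : Fns) (lau : Bool) (a b : F) (hl : lau = true → a * b = 1)
    (w : List (ℕ × Poly)) (k : ℕ) (target : SVec) (h : colCheck l n A lau w k target = true) :
    (wM l n A F (w.map fun x => (x.1, eval a b x.2))).mulVec (bvec l n F k) = evalV l n a b target := by
  rw [bvec_eq_evalV l n a b k, applyWord_sound l n A lau a b hl]
  exact evalV_eq_of_normV_nil l n a b _ _ h

def eqCheck (l n : ℕ) (A : Fns) (lau : Bool) (w1 w2 : List (ℕ × Poly)) (k : ℕ) : Bool :=
  (normV (applyWord l n A lau w1 [(k, one)] ++ negV (applyWord l n A lau w2 [(k, one)]))).isEmpty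

theorem eqCheck_sound (l n : ℕ) (A : Fns) (lau : Bool) (a b : F) (hl : lau = true → a * b = 1)
    (w1 w2 : List (ℕ × Poly)) (h : ∀ k < l + n, eqCheck l n A lau w1 w2 k = true) :
    wM l n A F (w1.map fun x => (x.1, eval a b x.2)) = wM l n A F (w2.map fun x => (x.1, eval a b x.2)) := by
  apply matrix_ext_bvec
  intro k hk
  rw [bvec_eq_evalV l n a b k, applyWord_sound l n A lau a b hl, applyWord_sound l n A lau a b hl]
  exact evalV_eq_of_normV_nil l n a b _ _ (h k hk)

end Eval

end Cfsg.Agent.Lib.Helper7.ChevEngine
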