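import Cfsg.Agent.Lib.Helper7.ChevBN

set_option autoImplicit false

namespace Cfsg.Agent.Lib.Helper7.ChevGen
open Cfsg.Lie Cfsg.Agent.Lib.Helper7.ChevEngine Cfsg.Agent.Lib.Helper7.ChevN
  Cfsg.Agent.Lib.Helper7.ChevConjT Cfsg.Agent.Lib.Helper7.ChevConjU Cfsg.Agent.Lib.Helper7.ChevAdd
  Cfsg.Agent.Lib.Helper7.ChevHAll Cfsg.Agent.Lib.Helper7.HBaseAll Cfsg.Agent.Lib.Helper7.ChevTorus
  Cfsg.Agent.Lib.Helper7.ChevBN

section
variable {F : Type*} [Field F]

def simpleGens (F : Type*) [Field F] (D : ChevalleyDatum) : Set (GL D.Idx F) :=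
  {g | ∃ (i : ℕ) (t : F), i < D.rank ∧ ((g : Matrix D.Idx D.Idx F) = D.x F (D.simple i) t ∨
    (g : Matrix D.Idx D.Idx F) = D.x F (D.neg (D.simple i)) t)}

theorem wordGL_mem_of (D : ChevalleyDatum) (hD : D ∈ [chevG2, chevB2, chevD4, chevF4, chevE6, chevE7, chevE8])
    (K : Subgroup (GL D.Idx F)) (w : List (ℕ × F)) (h : ∀ p ∈ w, xGL D hD p.1 p.2 ∈ K) : wordGL D hD w ∈ K := by
  unfold wordGL
  apply Subgroup.list_prod_mem
  intro g hg
  rw [List.mem_map] at hg
  obtain ⟨p, hp, rfl⟩ := hg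
  exact h p hp

theorem nGL_mem_closure (D : ChevalleyDatum) (hD : D ∈ [chevG2, chevB2, chevD4, chevF4, chevE6, chevE7, chevE8])
    (i : ℕ) (hi : i < D.rank) :
    wordGL D hD (D.nWord (D.simple i) (1 : F)) ∈ Subgroup.closure (simpleGens F D) := by
  apply wordGL_mem_of
  intro p hp
  unfold ChevalleyDatum.nWord at hp
  simp only [List.mem_cons, List.not_mem_nil, or_false] at hp
  apply Subgroup.subset_closure
  rcases hp with rfl | rfl | rfl
  · exact ⟨i, _, hi, Or.inl (xGL_val D hD _ _)⟩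
  · exact ⟨i, _, hi, Or.inr (xGL_val D hD _ _)⟩
  · exact ⟨i, _, hi, Or.inl (xGL_val D hD _ _)⟩

theorem xGL_mem_closure (D : ChevalleyDatum) (hD : D ∈ [chevG2, chevB2, chevD4, chevF4, chevE6, chevE7, chevE8]) :
    ∀ r < D.nroots, ∀ t : F, xGL D hD r t ∈ Subgroup.closure (simpleGens F D) := by
  obtain ⟨hC, -, -⟩ := all_of_mem D hD
  obtain ⟨hc, LV, PI, hl⟩ := hC
  apply root_induction D LV PI hl (fun r => ∀ t : F, xGL D hD r t ∈ Subgroup.closure (simpleGens F D))
  · intro j hj t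
    apply Subgroup.subset_closure
    exact ⟨j, t, hj, Or.inl (xGL_val D hD _ t)⟩
  · intro i hi r hr hwr ih t
    obtain ⟨m, W, hn, -, hcj⟩ := hc i hi
    have hnG := nGL_mem_closure (F := F) D hD i hi
    have e2 : wordGL D hD (D.nWord (D.simple i) (1 : F)) * xGL D hD r t =
        xGL D hD (D.reflectRoot i r) (((etaM m r : ℤ) : F) * t) * wordGL D hD (D.nWord (D.simple i) (1 : F)) := by
      apply Units.ext
      rw [Units.val_mul, Units.val_mul, xGL_val, xGL_val, wordGL_val]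
      exact conj_x D i m W hn hcj r hr t
    rw [eq_inv_mul_of_mul_eq e2]
    exact mul_mem (inv_mem hnG) (mul_mem (ih _) hnG)

theorem group_eq_closure_simple (D : ChevalleyDatum)
    (hD : D ∈ [chevG2, chevB2, chevD4, chevF4, chevE6, chevE7, chevE8]) :
    D.group F = Subgroup.closure (simpleGens F D) := by
  apply le_antisymm
  · unfold ChevalleyDatum.group
    rw [Subgroup.closure_le]
    rintro g ⟨r, t, hg⟩
    have : g = xGL D hD r.val t := by
      apply Units.ext
      rw [hg, xGL_val]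
      simp [ChevalleyDatum.x, r.isLt]
    rw [this]
    exact xGL_mem_closure D hD r.val r.isLt t
  · rw [Subgroup.closure_le]
    rintro g ⟨i, t, -, hg | hg⟩
    · have : g = xGL D hD (D.simple i) t := Units.ext (by rw [hg, xGL_val])
      rw [this]
      exact xGL_mem_group D hD _ t
    · have : g = xGL D hD (D.neg (D.simple i)) t := Units.ext (by rw [hg, xGL_val])
      rw [this]
      exact xGL_mem_group D hD _ t

theorem neg_simple_lt (D : ChevalleyDatum) (hD : D ∈ [chevG2, chevB2, chevD4, chevF4, chevE6, chevE7, chevE8])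
    (i : ℕ) (hi : i < D.rank) : D.simple i < D.nroots ∧ D.neg (D.simple i) < D.nroots := by
  obtain ⟨hC, -, -⟩ := all_of_mem D hD
  obtain ⟨m, W, -, -, hcj⟩ := hC.1 i hi
  have h1 := (refl_props D i m W hcj).2.1
  exact ⟨h1, (neg_props D i m W hcj _ h1).1⟩

end

end Cfsg.Agent.Lib.Helper7.ChevGen
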