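import Cfsg.Agent.Lib.Helper7.ChevEngine

set_option autoImplicit false

namespace Cfsg.Agent.Lib.Helper7.ChevH
open Cfsg.Lie Cfsg.Agent.Lib.Helper7.ChevEngine

def hWordSym (negr r : ℕ) : List (ℕ × Poly) :=
  [(r, [(1, 1, 0)]), (negr, [(-1, 0, 1)]), (r, [(1, 1, 0)]), (r, [(-1, 0, 0)]), (negr, [(1, 0, 0)]),
    (r, [(-1, 0, 0)])]

theorem hWord_eq {F : Type*} [Field F] (D : ChevalleyDatum) (r : ℕ) (c : F) :
    D.hWord r c = (hWordSym (D.neg r) r).map (fun x => (x.1, eval c c⁻¹ x.2)) := by
  simp [ChevalleyDatum.hWord, ChevalleyDatum.nWord, hWordSym, evalM, inv_neg]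

def diagTarget (l : ℕ) (e : ℕ → ℤ) (k : ℕ) : SVec :=
  if k < l then [(k, one)] else [(k, [(1, (e (k - l)).toNat, (-(e (k - l))).toNat)])]

def hCheck (D : ChevalleyDatum) (r : ℕ) (e : ℕ → ℤ) : Bool :=
  (List.range (D.rank + D.nroots)).all fun k =>
    colCheck D.rank D.nroots (fnsOf D) true (hWordSym (D.neg r) r) k (diagTarget D.rank e k)

theorem zpow_split {F : Type*} [Field F] (c : F) (z : ℤ) :
    c ^ z.toNat * c⁻¹ ^ (-z).toNat = c ^ z := by
  rcases le_total 0 z with h | h
  · have h1 : (-z).toNat = 0 := by omega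
    rw [h1, pow_zero, mul_one, ← zpow_natCast, Int.toNat_of_nonneg h]
  · have h1 : z.toNat = 0 := by omega
    have h2 : ((-z).toNat : ℤ) = -z := Int.toNat_of_nonneg (by omega)
    rw [h1, pow_zero, one_mul, inv_pow, ← zpow_natCast, h2, ← zpow_neg, neg_neg]

theorem hMat_diag {F : Type*} [Field F] (D : ChevalleyDatum) (r : ℕ) (e : ℕ → ℤ)
    (h : hCheck D r e = true) (c : F) (hc : c ≠ 0) :
    D.hMat F r c = Matrix.diagonal (Sum.elim (fun _ => (1 : F)) (fun s : Fin D.nroots => c ^ (e s.val))) := by
  unfold ChevalleyDatum.hMat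
  rw [wordMat_eq, hWord_eq]
  apply matrix_ext_bvec
  intro k hk
  have hk' : colCheck D.rank D.nroots (fnsOf D) true (hWordSym (D.neg r) r) k (diagTarget D.rank e k) = true := by
    unfold hCheck at h
    rw [List.all_eq_true] at h
    exact h k (List.mem_range.mpr hk)
  rw [colCheck_sound D.rank D.nroots (fnsOf D) true c c⁻¹ (fun _ => mul_inv_cancel₀ hc) _ k _ hk']
  funext idx
  rw [Matrix.mulVec_diagonal]
  unfold diagTarget
  by_cases hkl : k < D.rank
  · rw [if_pos hkl, evalV_single, eval_one, one_smul]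
    simp only [bvec]
    rcases idx with i | u
    · simp
    · have : ¬ (code (Sum.inr u : Ix D.rank D.nroots) = k) := by
        simp only [code, Sum.elim_inr]
        omega
      simp [this]
  · rw [if_neg hkl, evalV_single]
    simp only [bvec, Pi.smul_apply, smul_eq_mul]
    rcases idx with i | u
    · have : ¬ (code (Sum.inl i : Ix D.rank D.nroots) = k) := by
        simp only [code, Sum.elim_inl]
        have := i.isLt
        omega
      simp [this]
    · by_cases hu : code (Sum.inr u : Ix D.rank D.nroots) = k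
      · have hu' : k - D.rank = u.val := by
          simp only [code, Sum.elim_inr] at hu
          omega
        simp only [hu, if_true, mul_one, Sum.elim_inr, hu']
        simp only [eval_cons, eval_nil, add_zero, evalM, Int.cast_one, one_mul]
        exact zpow_split c _
      · simp [hu]

end Cfsg.Agent.Lib.Helper7.ChevH
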