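import Cfsg.Agent.Lib.Helper7.ChevAdd
import Cfsg.Agent.Lib.Helper7.ChevH

set_option autoImplicit false

namespace Cfsg.Agent.Lib.Helper7.ChevHAll
open Cfsg.Lie Cfsg.Agent.Lib.Helper7.ChevEngine Cfsg.Agent.Lib.Helper7.ChevN Cfsg.Agent.Lib.Helper7.ChevH
  Cfsg.Agent.Lib.Helper7.ChevConjT Cfsg.Agent.Lib.Helper7.ChevConjU Cfsg.Agent.Lib.Helper7.ChevAdd

def cartG (D : ChevalleyDatum) (r s : ℕ) : ℤ :=
  ∑ k ∈ Finset.range D.rank, (fnsOf D).cor r k * D.cartan k s

def hDiag (F : Type*) [Field F] (D : ChevalleyDatum) (e : ℕ → ℤ) (t : F) : Matrix D.Idx D.Idx F :=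
  Matrix.diagonal (Sum.elim (fun _ => (1 : F)) (fun s : Fin D.nroots => t ^ (e s.val)))

def corSimpleCheck (D : ChevalleyDatum) : Bool :=
  (List.range D.rank).all fun j => (List.range D.rank).all fun k =>
    decide ((D.coroot.getD (D.simple j) #[]).getD k 0 = if k = j then 1 else 0)

def HBase (D : ChevalleyDatum) : Prop :=
  (∀ j < D.rank, hCheck D (D.simple j) (D.cartan j) = true) ∧ corSimpleCheck D = true

theorem cartG_simple (D : ChevalleyDatum) (h : corSimpleCheck D = true) (j : ℕ) (hj : j < D.rank) :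
    cartG D (D.simple j) = D.cartan j := by
  funext s
  unfold corSimpleCheck at h
  simp only [List.all_eq_true, List.mem_range, decide_eq_true_eq] at h
  unfold cartG
  have e1 : ∀ k ∈ Finset.range D.rank, (fnsOf D).cor (D.simple j) k * D.cartan k s =
      if k = j then D.cartan k s else 0 := by
    intro k hk
    have h1 : (fnsOf D).cor (D.simple j) k = if k = j then 1 else 0 := h j hj k (Finset.mem_range.mp hk)
    rw [h1]
    split_ifs <;> simp
  rw [Finset.sum_congr rfl e1, Finset.sum_ite_eq', if_pos (Finset.mem_range.mpr hj)]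

section
variable {F : Type*} [Field F]

theorem hDiag_mul (D : ChevalleyDatum) (e : ℕ → ℤ) (a b : F) :
    hDiag F D e a * hDiag F D e b = hDiag F D e (a * b) := by
  unfold hDiag
  rw [Matrix.diagonal_mul_diagonal]
  congr 1
  funext idx
  rcases idx with i | s
  · simp
  · simp only [Sum.elim_inr]
    rw [mul_zpow]

theorem hDiag_one (D : ChevalleyDatum) (e : ℕ → ℤ) : hDiag F D e (1 : F) = 1 := by
  unfold hDiag
  rw [← Matrix.diagonal_one]
  congr 1
  funext idx
  rcases idx with i | s
  · simp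
  · simp

theorem wordMat_append (D : ChevalleyDatum) (w1 w2 : List (ℕ × F)) :
    D.wordMat F (w1 ++ w2) = D.wordMat F w1 * D.wordMat F w2 := by
  unfold ChevalleyDatum.wordMat
  rw [List.map_append, List.prod_append]

theorem hMat_expand (D : ChevalleyDatum) (r : ℕ) (t : F) :
    D.hMat F r t = D.nMat F r t * D.nMat F r (-1) := by
  unfold ChevalleyDatum.hMat ChevalleyDatum.hWord ChevalleyDatum.nMat
  rw [wordMat_append]

theorem mono_diag (D : ChevalleyDatum) (i : ℕ) (η : ℕ → ℤ) (e e' : ℕ → ℤ) (t : F)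
    (he : ∀ u < D.nroots, e u = e' (D.reflectRoot i u)) :
    nMonomial F D i η * hDiag F D e t = hDiag F D e' t * nMonomial F D i η := by
  unfold hDiag
  ext row col
  rw [Matrix.mul_diagonal, Matrix.diagonal_mul]
  rcases row with j' | a <;> rcases col with j | u
  · simp only [Sum.elim_inl, mul_one, one_mul]
  · simp [nMonomial]
  · simp [nMonomial]
  · simp only [Sum.elim_inr]
    have e1 : nMonomial F D i η (Sum.inr a) (Sum.inr u) =
        if a.val = D.reflectRoot i u.val then ((η u.val : ℤ) : F) else 0 := rfl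
    rw [e1]
    by_cases h : a.val = D.reflectRoot i u.val
    · rw [if_pos h, he u.val u.isLt, ← h, mul_comm]
    · rw [if_neg h, zero_mul, mul_zero]

theorem cartG_refl (D : ChevalleyDatum) (i m W : ℕ) (h : conjCheck D i m W = true) (r u : ℕ)
    (hr : r < D.nroots) (hu : u < D.nroots) :
    cartG D (D.reflectRoot i r) (D.reflectRoot i u) = cartG D r u := by
  obtain ⟨hi, -, -⟩ := refl_props D i m W h
  unfold cartG
  have e1 : ∀ j ∈ Finset.range D.rank, (fnsOf D).cor (D.reflectRoot i r) j * D.cartan j (D.reflectRoot i u) =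
      (fnsOf D).cor r j * D.cartan j (D.reflectRoot i u) -
        (if j = i then (∑ k ∈ Finset.range D.rank, D.cartan k (D.simple i) * (fnsOf D).cor r k) *
          D.cartan i (D.reflectRoot i u) else 0) := by
    intro j hj
    rw [T3_of_check D i m W h r hr j (Finset.mem_range.mp hj)]
    by_cases hji : j = i
    · rw [if_pos hji, if_pos hji, hji]
      ring
    · rw [if_neg hji, if_neg hji]
      ring
  have e2 : ∀ j ∈ Finset.range D.rank, (fnsOf D).cor r j * D.cartan j u =
      (fnsOf D).cor r j * D.cartan j (D.reflectRoot i u) -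
        (D.cartan j (D.simple i) * (fnsOf D).cor r j) * D.cartan i (D.reflectRoot i u) := by
    intro j hj
    rw [T2_of_check D i m W h u hu j (Finset.mem_range.mp hj)]
    ring
  rw [Finset.sum_congr rfl e1, Finset.sum_congr rfl e2, Finset.sum_sub_distrib, Finset.sum_sub_distrib,
    Finset.sum_ite_eq', if_pos (Finset.mem_range.mpr hi), ← Finset.sum_mul]

theorem conj_n (D : ChevalleyDatum) (i m W : ℕ) (hn : nCheck D i m = true)
    (h : conjCheck D i m W = true) (r : ℕ) (hr : r < D.nroots) (c : F) :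
    D.nMat F (D.simple i) 1 * D.nMat F r c =
      D.nMat F (D.reflectRoot i r) (((etaM m r : ℤ) : F) * c) * D.nMat F (D.simple i) 1 := by
  obtain ⟨hnr, hwn, hηn⟩ := neg_props D i m W h r hr
  have hcx := conj_x (F := F) D i m W hn h r hr
  have hcy := conj_x (F := F) D i m W hn h (D.neg r) hnr
  rw [hwn, hηn] at hcy
  have hinv : -(((etaM m r : ℤ) : F) * c)⁻¹ = ((etaM m r : ℤ) : F) * (-c⁻¹) := by
    rcases etaM_cases m r with h1 | h1 <;> rw [h1] <;> simp [inv_neg]
  rw [nMat_expand D r c, nMat_expand D (D.reflectRoot i r), hinv]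
  calc D.nMat F (D.simple i) 1 * (D.x F r c * D.x F (D.neg r) (-c⁻¹) * D.x F r c)
      = (D.nMat F (D.simple i) 1 * D.x F r c) * D.x F (D.neg r) (-c⁻¹) * D.x F r c := by
        simp only [mul_assoc]
    _ = D.x F (D.reflectRoot i r) (((etaM m r : ℤ) : F) * c) *
          (D.nMat F (D.simple i) 1 * D.x F (D.neg r) (-c⁻¹)) * D.x F r c := by
        rw [hcx]
        simp only [mul_assoc]
    _ = D.x F (D.reflectRoot i r) (((etaM m r : ℤ) : F) * c) *
          D.x F (D.neg (D.reflectRoot i r)) (((etaM m r : ℤ) : F) * (-c⁻¹)) *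
          (D.nMat F (D.simple i) 1 * D.x F r c) := by
        rw [hcy]
        simp only [mul_assoc]
    _ = _ := by
        rw [hcx]
        simp only [mul_assoc]

def HQ (F : Type*) [Field F] (D : ChevalleyDatum) (r : ℕ) : Prop :=
  (∀ t : F, t ≠ 0 → D.hMat F r t = hDiag F D (cartG D r) t) ∧
    (∀ t : F, t ≠ 0 → D.nMat F r (-t) * D.nMat F r 1 = D.hMat F r t)

theorem hQ_base (D : ChevalleyDatum) (hA : AddBase D) (hB : HBase D) (j : ℕ) (hj : j < D.rank) :
    HQ F D (D.simple j) := by
  have hd : ∀ t : F, t ≠ 0 → D.hMat F (D.simple j) t = hDiag F D (cartG D (D.simple j)) t := by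
    intro t ht
    rw [cartG_simple D hB.2 j hj]
    exact hMat_diag D (D.simple j) (D.cartan j) (hB.1 j hj) t ht
  refine ⟨hd, ?_⟩
  intro t ht
  have ad1 := add_of_check (F := F) D _ (hA j hj).1
  have ad2 := add_of_check (F := F) D _ (hA j hj).2
  have i1 : D.nMat F (D.simple j) (-1) * D.nMat F (D.simple j) 1 = 1 :=
    nMat_inv_of_add D (D.simple j) 1 one_ne_zero ad1 ad2
  have a1 : ∀ c : F, D.nMat F (D.simple j) c = D.hMat F (D.simple j) c * D.nMat F (D.simple j) 1 := by
    intro c
    rw [hMat_expand, mul_assoc, i1, mul_one]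
  have a2 : D.hMat F (D.simple j) (-1) * (D.nMat F (D.simple j) 1 * D.nMat F (D.simple j) 1) = 1 := by
    rw [hMat_expand, mul_assoc (D.nMat F (D.simple j) (-1)), ← mul_assoc (D.nMat F (D.simple j) (-1))
      (D.nMat F (D.simple j) 1), i1, one_mul, i1]
  have hm1 : (-1 : F) ≠ 0 := neg_ne_zero.mpr one_ne_zero
  have a3 : D.hMat F (D.simple j) (-1) * D.hMat F (D.simple j) (-1) = 1 := by
    rw [hd (-1) hm1, hDiag_mul, neg_mul_neg, mul_one, hDiag_one]
  have a4 : D.nMat F (D.simple j) 1 * D.nMat F (D.simple j) 1 = D.hMat F (D.simple j) (-1) := by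
    calc D.nMat F (D.simple j) 1 * D.nMat F (D.simple j) 1
        = (D.hMat F (D.simple j) (-1) * D.hMat F (D.simple j) (-1)) *
            (D.nMat F (D.simple j) 1 * D.nMat F (D.simple j) 1) := by rw [a3, one_mul]
      _ = D.hMat F (D.simple j) (-1) * (D.hMat F (D.simple j) (-1) *
            (D.nMat F (D.simple j) 1 * D.nMat F (D.simple j) 1)) := by rw [mul_assoc]
      _ = D.hMat F (D.simple j) (-1) := by rw [a2, mul_one]
  rw [a1 (-t), mul_assoc, a4, hd (-t) (neg_ne_zero.mpr ht), hd (-1) hm1, hDiag_mul, hd t ht, neg_mul_neg, mul_one]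

theorem hQ_all (D : ChevalleyDatum) (hC : ConjData D) (hA : AddBase D) (hB : HBase D) :
    ∀ r < D.nroots, HQ F D r := by
  obtain ⟨hc, LV, PI, hl⟩ := hC
  apply root_induction D LV PI hl (fun r => HQ F D r)
  · intro j hj
    exact hQ_base D hA hB j hj
  · intro i hi r hr hwr ih
    obtain ⟨m, W, hn, -, hcj⟩ := hc i hi
    have hinv : D.nMat F (D.simple i) (-1) * D.nMat F (D.simple i) 1 = 1 :=
      nMat_inv_of_add D (D.simple i) 1 one_ne_zero (add_of_check D _ (hA i hi).1) (add_of_check D _ (hA i hi).2)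
    have hcn := conj_n (F := F) D i m W hn hcj r hr
    have hm1 : (-1 : F) ≠ 0 := neg_ne_zero.mpr one_ne_zero
    have star : ∀ t : F, t ≠ 0 → D.nMat F (D.simple i) 1 * D.hMat F r t =
        D.hMat F (D.reflectRoot i r) t * D.nMat F (D.simple i) 1 := by
      intro t ht
      rw [hMat_expand, ← mul_assoc, hcn t, mul_assoc, hcn (-1), ← mul_assoc]
      congr 1
      rcases etaM_cases m r with h1 | h1
      · rw [h1, Int.cast_one, one_mul, one_mul, ← hMat_expand]
      · rw [h1, Int.cast_neg, Int.cast_one, neg_one_mul, neg_one_mul, neg_neg]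
        exact ih.2 t ht
    have part2 : ∀ t : F, t ≠ 0 → D.nMat F (D.simple i) 1 * (D.nMat F r (-t) * D.nMat F r 1) =
        D.nMat F (D.simple i) 1 * D.hMat F r t := by
      intro t ht
      rw [star t ht, ← mul_assoc, hcn (-t), mul_assoc, hcn 1, ← mul_assoc]
      congr 1
      rcases etaM_cases m r with h1 | h1
      · rw [h1, Int.cast_one, one_mul, one_mul]
        exact ih.2 t ht
      · rw [h1, Int.cast_neg, Int.cast_one, neg_one_mul, neg_one_mul, neg_neg, ← hMat_expand]
    have cancel : ∀ X Y : Matrix D.Idx D.Idx F,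
        D.nMat F (D.simple i) 1 * X = D.nMat F (D.simple i) 1 * Y → X = Y := by
      intro X Y hXY
      calc X = D.nMat F (D.simple i) (-1) * (D.nMat F (D.simple i) 1 * X) := by
            rw [← mul_assoc, hinv, one_mul]
        _ = D.nMat F (D.simple i) (-1) * (D.nMat F (D.simple i) 1 * Y) := by rw [hXY]
        _ = Y := by rw [← mul_assoc, hinv, one_mul]
    refine ⟨?_, ?_⟩
    · intro t ht
      apply cancel
      rw [star t ht, ih.1 t ht, nMat_eq D i m hi hn]
      refine (mono_diag D i (etaM m) (cartG D r) (cartG D (D.reflectRoot i r)) t ?_).symm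
      intro u hu
      exact (cartG_refl D i m W hcj r u hr hu).symm
    · intro t ht
      apply cancel
      exact part2 t ht

theorem n_conj_h (D : ChevalleyDatum) (hC : ConjData D) (hA : AddBase D) (hB : HBase D) (i : ℕ) (hi : i < D.rank)
    (r : ℕ) (hr : r < D.nroots) (t : F) (ht : t ≠ 0) :
    D.nMat F (D.simple i) 1 * D.hMat F r t = D.hMat F (D.reflectRoot i r) t * D.nMat F (D.simple i) 1 := by
  have hall := hQ_all (F := F) D hC hA hB
  obtain ⟨hc, -⟩ := hC
  obtain ⟨m, W, hn, -, hcj⟩ := hc i hi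
  obtain ⟨-, -, hw⟩ := refl_props D i m W hcj
  rw [(hall r hr).1 t ht, (hall _ (hw r hr).1).1 t ht, nMat_eq D i m hi hn]
  apply mono_diag
  intro u hu
  exact (cartG_refl D i m W hcj r u hr hu).symm

end

end Cfsg.Agent.Lib.Helper7.ChevHAll
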