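import Cfsg.Agent.Lib.Helper7.ChevRel
import Cfsg.Agent.S1038
import Cfsg.Agent.S1037
import Cfsg.Agent.S1050

set_option autoImplicit false
set_option maxHeartbeats 400000

namespace Cfsg.Agent.Lib.Helper7.ChevNW
open Cfsg.Lie Cfsg.Agent.Lib.Helper7.ChevEngine Cfsg.Agent.Lib.Helper7.ChevN
  Cfsg.Agent.Lib.Helper7.ChevConj
  Cfsg.Agent.Lib.Helper7.ChevConjT Cfsg.Agent.Lib.Helper7.ChevConjU Cfsg.Agent.Lib.Helper7.ChevAdd
  Cfsg.Agent.Lib.Helper7.ChevHAll Cfsg.Agent.Lib.Helper7.HBaseAll Cfsg.Agent.Lib.Helper7.ChevTorus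
  Cfsg.Agent.Lib.Helper7.ChevBN Cfsg.Agent.Lib.Helper7.ChevGen Cfsg.Agent.Lib.Helper7.ChevOrb
  Cfsg.Agent.Lib.Helper7.ChevW0 Cfsg.Agent.Lib.Helper7.ChevComm Cfsg.Agent.Lib.Helper7.ChevPerf
  Cfsg.Agent.Lib.Helper7.ChevRel Cfsg.Agent.Lib.Helper7.Shift Cfsg.Agent.Lib.Helper7.Tri2
  Cfsg.Agent.Lib.Helper7.ChevTri Cfsg.Agent.Lib.Helper7.ChevTriNeg

section
variable {F : Type*} [Field F]

def nI (D : ChevalleyDatum) (hD : D ∈ [chevG2, chevB2, chevD4, chevF4, chevE6, chevE7, chevE8])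
    (i : ℕ) : GL D.Idx F := wordGL D hD (D.nWord (D.simple i) (1 : F))

theorem nI_val (D : ChevalleyDatum) (hD : D ∈ [chevG2, chevB2, chevD4, chevF4, chevE6, chevE7, chevE8])
    (i : ℕ) : ((nI D hD i : GL D.Idx F) : Matrix D.Idx D.Idx F) = D.nMat F (D.simple i) 1 :=
  wordGL_val D hD _

theorem inv_val_of_mul (D : ChevalleyDatum) (g : GL D.Idx F) (M : Matrix D.Idx D.Idx F)
    (h : (g : Matrix D.Idx D.Idx F) * M = 1) : ((g⁻¹ : GL D.Idx F) : Matrix D.Idx D.Idx F) = M := by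
  calc ((g⁻¹ : GL D.Idx F) : Matrix D.Idx D.Idx F)
      = ((g⁻¹ : GL D.Idx F) : Matrix D.Idx D.Idx F) * ((g : Matrix D.Idx D.Idx F) * M) := by rw [h, mul_one]
    _ = M := by rw [← mul_assoc, Units.inv_mul, one_mul]

theorem nI_inv_val (D : ChevalleyDatum) (hD : D ∈ [chevG2, chevB2, chevD4, chevF4, chevE6, chevE7, chevE8])
    (i : ℕ) : (((nI D hD i)⁻¹ : GL D.Idx F) : Matrix D.Idx D.Idx F) = D.nMat F (D.simple i) (-1) := by
  apply inv_val_of_mul
  rw [nI_val]
  exact nMat_inv' D hD (D.simple i) 1 one_ne_zero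

theorem nI_mem_mono (D : ChevalleyDatum) (hD : D ∈ [chevG2, chevB2, chevD4, chevF4, chevE6, chevE7, chevE8])
    (i : ℕ) (hi : i < D.rank) : nI (F := F) D hD i ∈ D.monomialSubgroup F :=
  nGL_mem_monomial D hD i hi

theorem nI_mem_group (D : ChevalleyDatum) (hD : D ∈ [chevG2, chevB2, chevD4, chevF4, chevE6, chevE7, chevE8])
    (i : ℕ) : nI (F := F) D hD i ∈ D.group F := wordGL_mem_group D hD _

theorem nWordGL_nil (D : ChevalleyDatum) (hD : D ∈ [chevG2, chevB2, chevD4, chevF4, chevE6, chevE7, chevE8]) :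
    nWordGL (F := F) D hD [] = 1 := rfl

theorem nWordGL_cons (D : ChevalleyDatum) (hD : D ∈ [chevG2, chevB2, chevD4, chevF4, chevE6, chevE7, chevE8])
    (i : ℕ) (is : List ℕ) : nWordGL (F := F) D hD (i :: is) = nI D hD i * nWordGL D hD is := by
  unfold nWordGL nI
  rw [List.map_cons, List.prod_cons]

theorem nWordGL_append (D : ChevalleyDatum) (hD : D ∈ [chevG2, chevB2, chevD4, chevF4, chevE6, chevE7, chevE8])
    (a b : List ℕ) : nWordGL (F := F) D hD (a ++ b) = nWordGL D hD a * nWordGL D hD b := by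
  unfold nWordGL
  rw [List.map_append, List.prod_append]

theorem nI_inv_sq_mem (D : ChevalleyDatum) (hD : D ∈ [chevG2, chevB2, chevD4, chevF4, chevE6, chevE7, chevE8])
    (i : ℕ) (hi : i < D.rank) : (nI (F := F) D hD i)⁻¹ * (nI D hD i)⁻¹ ∈ D.diagonalSubgroup F := by
  obtain ⟨hC, -, -⟩ := all_of_mem D hD
  apply Subgroup.subset_closure
  refine ⟨D.simple i, -1, simple_lt D hC i hi, neg_ne_zero.mpr one_ne_zero, ?_⟩
  rw [Units.val_mul, nI_inv_val, hMat_expand]

theorem nI_sq_mem (D : ChevalleyDatum) (hD : D ∈ [chevG2, chevB2, chevD4, chevF4, chevE6, chevE7, chevE8])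
    (i : ℕ) (hi : i < D.rank) : nI (F := F) D hD i * nI D hD i ∈ D.diagonalSubgroup F := by
  have h := inv_mem (nI_inv_sq_mem (F := F) D hD i hi)
  rw [mul_inv_rev, inv_inv] at h
  exact h

theorem nI_conj_H (D : ChevalleyDatum) (hD : D ∈ [chevG2, chevB2, chevD4, chevF4, chevE6, chevE7, chevE8])
    (i : ℕ) (hi : i < D.rank) (h : GL D.Idx F) (hh : h ∈ D.diagonalSubgroup F) :
    nI D hD i * h * (nI D hD i)⁻¹ ∈ D.diagonalSubgroup F := by
  obtain ⟨hC, -, -⟩ := all_of_mem D hD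
  exact Cfsg.Agent.S1038.conj_mem_H D hD (D.simple i) (simple_lt D hC i hi) (nI D hD i) 1 (Or.inl rfl)
    (nI_val D hD i) h hh

theorem nI_inv_conj_H (D : ChevalleyDatum) (hD : D ∈ [chevG2, chevB2, chevD4, chevF4, chevE6, chevE7, chevE8])
    (i : ℕ) (hi : i < D.rank) (h : GL D.Idx F) (hh : h ∈ D.diagonalSubgroup F) :
    (nI D hD i)⁻¹ * h * nI D hD i ∈ D.diagonalSubgroup F := by
  obtain ⟨hC, -, -⟩ := all_of_mem D hD
  have := Cfsg.Agent.S1038.conj_mem_H D hD (D.simple i) (simple_lt D hC i hi) (nI D hD i)⁻¹ (-1) (Or.inr rfl)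
    (nI_inv_val D hD i) h hh
  rw [inv_inv] at this
  exact this

theorem nW_conj_H (D : ChevalleyDatum) (hD : D ∈ [chevG2, chevB2, chevD4, chevF4, chevE6, chevE7, chevE8])
    (is : List ℕ) (his : ∀ i ∈ is, i < D.rank) (h : GL D.Idx F) (hh : h ∈ D.diagonalSubgroup F) :
    nWordGL D hD is * h * (nWordGL D hD is)⁻¹ ∈ D.diagonalSubgroup F := by
  induction is with
  | nil =>
    rw [nWordGL_nil, one_mul, inv_one, mul_one]
    exact hh
  | cons i is ih =>
    have h1 := ih (fun j hj => his j (List.mem_cons_of_mem _ hj))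
    have h2 := nI_conj_H D hD i (his i (by simp)) _ h1
    have e : nWordGL D hD (i :: is) * h * (nWordGL D hD (i :: is))⁻¹ =
        nI D hD i * (nWordGL D hD is * h * (nWordGL D hD is)⁻¹) * (nI D hD i)⁻¹ := by
      rw [nWordGL_cons]
      group
    rw [e]
    exact h2

theorem nW_inv_conj_H (D : ChevalleyDatum) (hD : D ∈ [chevG2, chevB2, chevD4, chevF4, chevE6, chevE7, chevE8])
    (is : List ℕ) (his : ∀ i ∈ is, i < D.rank) (h : GL D.Idx F) (hh : h ∈ D.diagonalSubgroup F) :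
    (nWordGL D hD is)⁻¹ * h * nWordGL D hD is ∈ D.diagonalSubgroup F := by
  induction is generalizing h with
  | nil =>
    rw [nWordGL_nil, inv_one, one_mul, mul_one]
    exact hh
  | cons i is ih =>
    have h2 := nI_inv_conj_H D hD i (his i (by simp)) _ hh
    have h1 := ih (fun j hj => his j (List.mem_cons_of_mem _ hj)) _ h2
    have e : (nWordGL D hD (i :: is))⁻¹ * h * nWordGL D hD (i :: is) =
        (nWordGL D hD is)⁻¹ * ((nI D hD i)⁻¹ * h * nI D hD i) * nWordGL D hD is := by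
      rw [nWordGL_cons]
      group
    rw [e]
    exact h1

def NForm (D : ChevalleyDatum) (hD : D ∈ [chevG2, chevB2, chevD4, chevF4, chevE6, chevE7, chevE8])
    (g : GL D.Idx F) : Prop :=
  ∃ h ∈ D.diagonalSubgroup F, ∃ is : List ℕ, (∀ i ∈ is, i < D.rank) ∧ g = h * nWordGL D hD is

theorem form_mul (D : ChevalleyDatum) (hD : D ∈ [chevG2, chevB2, chevD4, chevF4, chevE6, chevE7, chevE8])
    (g1 g2 : GL D.Idx F) (h1 : NForm D hD g1) (h2 : NForm D hD g2) : NForm D hD (g1 * g2) := by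
  obtain ⟨a, ha, is1, his1, rfl⟩ := h1
  obtain ⟨b, hb, is2, his2, rfl⟩ := h2
  refine ⟨a * (nWordGL D hD is1 * b * (nWordGL D hD is1)⁻¹), mul_mem ha (nW_conj_H D hD is1 his1 b hb),
    is1 ++ is2, ?_, ?_⟩
  · intro i hi
    rcases List.mem_append.mp hi with h | h
    · exact his1 i h
    · exact his2 i h
  · rw [nWordGL_append]
    group

theorem form_H (D : ChevalleyDatum) (hD : D ∈ [chevG2, chevB2, chevD4, chevF4, chevE6, chevE7, chevE8])
    (h : GL D.Idx F) (hh : h ∈ D.diagonalSubgroup F) : NForm D hD h :=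
  ⟨h, hh, [], by simp, by rw [nWordGL_nil, mul_one]⟩

theorem form_nI (D : ChevalleyDatum) (hD : D ∈ [chevG2, chevB2, chevD4, chevF4, chevE6, chevE7, chevE8])
    (i : ℕ) (hi : i < D.rank) : NForm (F := F) D hD (nI D hD i) :=
  ⟨1, one_mem _, [i], by simpa using hi, by rw [nWordGL_cons, nWordGL_nil, mul_one, one_mul]⟩

theorem form_nI_inv (D : ChevalleyDatum) (hD : D ∈ [chevG2, chevB2, chevD4, chevF4, chevE6, chevE7, chevE8])
    (i : ℕ) (hi : i < D.rank) : NForm (F := F) D hD (nI D hD i)⁻¹ :=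
  ⟨(nI D hD i)⁻¹ * (nI D hD i)⁻¹, nI_inv_sq_mem D hD i hi, [i], by simpa using hi, by
    rw [nWordGL_cons, nWordGL_nil, mul_one, inv_mul_cancel_right]⟩

theorem form_nW_inv (D : ChevalleyDatum) (hD : D ∈ [chevG2, chevB2, chevD4, chevF4, chevE6, chevE7, chevE8])
    (is : List ℕ) (his : ∀ i ∈ is, i < D.rank) : NForm (F := F) D hD (nWordGL D hD is)⁻¹ := by
  induction is with
  | nil =>
    rw [nWordGL_nil, inv_one]
    exact form_H D hD 1 (one_mem _)
  | cons i is ih =>
    rw [nWordGL_cons, mul_inv_rev]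
    exact form_mul D hD _ _ (ih (fun j hj => his j (List.mem_cons_of_mem _ hj)))
      (form_nI_inv D hD i (his i (by simp)))

theorem form_inv (D : ChevalleyDatum) (hD : D ∈ [chevG2, chevB2, chevD4, chevF4, chevE6, chevE7, chevE8])
    (g : GL D.Idx F) (h : NForm D hD g) : NForm D hD g⁻¹ := by
  obtain ⟨a, ha, is, his, rfl⟩ := h
  rw [mul_inv_rev]
  exact form_mul D hD _ _ (form_nW_inv D hD is his) (form_H D hD _ (inv_mem ha))

def formGroup (D : ChevalleyDatum) (hD : D ∈ [chevG2, chevB2, chevD4, chevF4, chevE6, chevE7, chevE8]) :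
    Subgroup (GL D.Idx F) where
  carrier := {g | NForm D hD g}
  mul_mem' := fun {a b} ha hb => form_mul D hD a b ha hb
  one_mem' := form_H D hD 1 (one_mem _)
  inv_mem' := fun {a} ha => form_inv D hD a ha

theorem form_nr (D : ChevalleyDatum) (hD : D ∈ [chevG2, chevB2, chevD4, chevF4, chevE6, chevE7, chevE8]) :
    ∀ r < D.nroots, ∀ g : GL D.Idx F, ((g : Matrix D.Idx D.Idx F) = D.nMat F r 1 ∨
      (g : Matrix D.Idx D.Idx F) = D.nMat F r (-1)) → NForm D hD g := by
  obtain ⟨hC, -, -⟩ := all_of_mem D hD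
  obtain ⟨hc, LV, PI, hl⟩ := hC
  apply root_induction D LV PI hl (fun r => ∀ g : GL D.Idx F, ((g : Matrix D.Idx D.Idx F) = D.nMat F r 1 ∨
      (g : Matrix D.Idx D.Idx F) = D.nMat F r (-1)) → NForm D hD g)
  · intro j hj g hg
    rcases hg with hg | hg
    · have : g = nI D hD j := Units.ext (by rw [hg, nI_val])
      rw [this]
      exact form_nI D hD j hj
    · have : g = (nI D hD j)⁻¹ := Units.ext (by rw [hg, nI_inv_val])
      rw [this]
      exact form_nI_inv D hD j hj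
  · intro i hi r hr _ ih g hg
    obtain ⟨m, W, hn, -, hcj⟩ := hc i hi
    have key : ∀ c : F, (c = 1 ∨ c = -1) → (g : Matrix D.Idx D.Idx F) = D.nMat F r c → NForm D hD g := by
      intro c hc hgc
      have hcn := conj_n (F := F) D i m W hn hcj r hr c
      have hη : ((etaM m r : ℤ) : F) * c = 1 ∨ ((etaM m r : ℤ) : F) * c = -1 := by
        rcases etaM_cases m r with h1 | h1 <;> rcases hc with rfl | rfl <;> rw [h1] <;> simp
      have hv : ((nI D hD i * g * (nI D hD i)⁻¹ : GL D.Idx F) : Matrix D.Idx D.Idx F) =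
          D.nMat F (D.reflectRoot i r) (((etaM m r : ℤ) : F) * c) := by
        rw [Units.val_mul, Units.val_mul, nI_val, hgc, hcn, mul_assoc, ← nI_val D hD i, Units.mul_inv, mul_one]
      have h1 : NForm D hD (nI D hD i * g * (nI D hD i)⁻¹) := by
        apply ih
        rcases hη with h | h
        · left
          rw [hv, h]
        · right
          rw [hv, h]
      have e : g = (nI D hD i)⁻¹ * (nI D hD i * g * (nI D hD i)⁻¹) * nI D hD i := by group
      rw [e]
      exact form_mul D hD _ _ (form_mul D hD _ _ (form_nI_inv D hD i hi) h1) (form_nI D hD i hi)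
    rcases hg with hg | hg
    · exact key 1 (Or.inl rfl) hg
    · exact key (-1) (Or.inr rfl) hg

theorem mono_form (D : ChevalleyDatum) (hD : D ∈ [chevG2, chevB2, chevD4, chevF4, chevE6, chevE7, chevE8])
    (g : GL D.Idx F) (hg : g ∈ D.monomialSubgroup F) : NForm D hD g := by
  have hle : D.monomialSubgroup F ≤ formGroup D hD := by
    unfold ChevalleyDatum.monomialSubgroup
    apply sup_le
    · intro h hh
      exact form_H D hD h hh
    · rw [Subgroup.closure_le]
      rintro x ⟨r, hr, hx⟩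
      exact form_nr D hD r hr x (Or.inl hx)
  exact hle hg

theorem wAct_append (D : ChevalleyDatum) (a b : List ℕ) (r : ℕ) :
    wAct D (a ++ b) r = wAct D a (wAct D b r) := by
  unfold wAct
  rw [List.foldr_append]

theorem wAct_cons (D : ChevalleyDatum) (i : ℕ) (is : List ℕ) (r : ℕ) :
    wAct D (i :: is) r = D.reflectRoot i (wAct D is r) := rfl

theorem wAct_lt (D : ChevalleyDatum) (hD : D ∈ [chevG2, chevB2, chevD4, chevF4, chevE6, chevE7, chevE8])
    (is : List ℕ) (his : ∀ i ∈ is, i < D.rank) (r : ℕ) (hr : r < D.nroots) : wAct D is r < D.nroots := by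
  induction is with
  | nil => exact hr
  | cons i is ih =>
    rw [wAct_cons]
    exact refl_lt D hD i (his i (by simp)) _ (ih (fun j hj => his j (List.mem_cons_of_mem _ hj)))

theorem nI_mulVec (D : ChevalleyDatum) (hD : D ∈ [chevG2, chevB2, chevD4, chevF4, chevE6, chevE7, chevE8])
    (i : ℕ) (hi : i < D.rank) (r : ℕ) (hr : r < D.nroots) :
    ∃ ε : F, ε ≠ 0 ∧ ((nI D hD i : GL D.Idx F) : Matrix D.Idx D.Idx F).mulVec
      (bvec D.rank D.nroots F (D.rank + r)) = ε • bvec D.rank D.nroots F (D.rank + D.reflectRoot i r) := by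
  obtain ⟨hC, -, -⟩ := all_of_mem D hD
  obtain ⟨m, W, hn, -, hcj⟩ := hC.1 i hi
  refine ⟨((etaM m r : ℤ) : F), ?_, ?_⟩
  · rcases etaM_cases m r with h | h <;> rw [h] <;> simp
  · rw [nI_val, nMat_eq D i m hi hn, nMonomial_eq D i (etaM m) (D.reflectRoot i) (fun u _ => rfl)]
    have hcode : D.rank + r = code (Sum.inr ⟨r, hr⟩ : Ix D.rank D.nroots) := rfl
    rw [hcode, mulVec_bvec_code]
    funext row
    rcases row with j' | s'
    · rw [monoM_inl_inr, Pi.smul_apply, smul_eq_mul]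
      have : ¬ code (Sum.inl j' : Ix D.rank D.nroots) = D.rank + D.reflectRoot i r := by
        have := j'.isLt
        simp only [code, Sum.elim_inl]
        omega
      unfold bvec
      rw [if_neg this, mul_zero]
    · rw [monoM_inr_inr, Pi.smul_apply, smul_eq_mul]
      unfold bvec
      by_cases h : s'.val = D.reflectRoot i r
      · have h' : code (Sum.inr s' : Ix D.rank D.nroots) = D.rank + D.reflectRoot i r := by
          simp only [code, Sum.elim_inr]
          omega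
        rw [if_pos h, if_pos h', mul_one]
      · have h' : ¬ code (Sum.inr s' : Ix D.rank D.nroots) = D.rank + D.reflectRoot i r := by
          simp only [code, Sum.elim_inr]
          omega
        rw [if_neg h, if_neg h', mul_zero]

theorem nW_mulVec (D : ChevalleyDatum) (hD : D ∈ [chevG2, chevB2, chevD4, chevF4, chevE6, chevE7, chevE8])
    (is : List ℕ) (his : ∀ i ∈ is, i < D.rank) (r : ℕ) (hr : r < D.nroots) :
    ∃ ε : F, ε ≠ 0 ∧ ((nWordGL D hD is : GL D.Idx F) : Matrix D.Idx D.Idx F).mulVec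
      (bvec D.rank D.nroots F (D.rank + r)) = ε • bvec D.rank D.nroots F (D.rank + wAct D is r) := by
  induction is with
  | nil =>
    refine ⟨1, one_ne_zero, ?_⟩
    rw [nWordGL_nil, Units.val_one, Matrix.one_mulVec, one_smul]
    rfl
  | cons i is ih =>
    have his' : ∀ j ∈ is, j < D.rank := fun j hj => his j (List.mem_cons_of_mem _ hj)
    obtain ⟨ε1, hε1, e1⟩ := ih his'
    obtain ⟨ε2, hε2, e2⟩ := nI_mulVec (F := F) D hD i (his i (by simp)) (wAct D is r) (wAct_lt D hD is his' r hr)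
    refine ⟨ε1 * ε2, mul_ne_zero hε1 hε2, ?_⟩
    rw [nWordGL_cons, Units.val_mul, ← Matrix.mulVec_mulVec, e1, Matrix.mulVec_smul, e2, smul_smul, wAct_cons]

theorem bvec_apply_self (l n : ℕ) (j : Ix l n) : bvec l n F (code j) j = 1 := by
  unfold bvec
  rw [if_pos rfl]

theorem entry_of_mulVec (l n : ℕ) (M : Matrix (Ix l n) (Ix l n) F) (i j : Ix l n) (ε : F)
    (h : M.mulVec (bvec l n F (code j)) = ε • bvec l n F (code i)) : M i j = ε := by
  rw [mulVec_bvec_code] at h
  have := congrFun h i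
  rw [Pi.smul_apply, bvec_apply_self, smul_eq_mul, mul_one] at this
  exact this

theorem perm_of_TG (D : ChevalleyDatum) (hD : D ∈ [chevG2, chevB2, chevD4, chevF4, chevE6, chevE7, chevE8])
    (is : List ℕ) (his : ∀ i ∈ is, i < D.rank)
    (h : nWordGL (F := F) D hD is ∈ TG (R := F) (bfun D.rank D.nroots)) :
    ∀ r < D.nroots, wAct D is r = r := by
  intro r hr
  obtain ⟨ε, hε, e⟩ := nW_mulVec (F := F) D hD is his r hr
  have hwr := wAct_lt D hD is his r hr
  rw [mem_TG] at h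
  obtain ⟨h1, h2⟩ := h
  have hc1 : D.rank + r = code (Sum.inr ⟨r, hr⟩ : Ix D.rank D.nroots) := rfl
  have hc2 : D.rank + wAct D is r = code (Sum.inr ⟨wAct D is r, hwr⟩ : Ix D.rank D.nroots) := rfl
  rw [hc1, hc2] at e
  have e1 := entry_of_mulVec D.rank D.nroots _ _ _ ε e
  have e' : (((nWordGL D hD is)⁻¹ : GL D.Idx F) : Matrix D.Idx D.Idx F).mulVec
      (bvec D.rank D.nroots F (code (Sum.inr ⟨wAct D is r, hwr⟩ : Ix D.rank D.nroots))) =
      ε⁻¹ • bvec D.rank D.nroots F (code (Sum.inr ⟨r, hr⟩ : Ix D.rank D.nroots)) := by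
    have e3 := congrArg (fun v => (((nWordGL D hD is)⁻¹ : GL D.Idx F) : Matrix D.Idx D.Idx F).mulVec v) e
    simp only [Matrix.mulVec_mulVec, Units.inv_mul, Matrix.one_mulVec, Matrix.mulVec_smul] at e3
    rw [e3, smul_smul, inv_mul_cancel₀ hε, one_smul]
  have e2 := entry_of_mulVec D.rank D.nroots _ _ _ ε⁻¹ e'
  have g1 := h1 _ _ (by rw [e1]; exact hε)
  have g2 := h2 _ _ (by rw [e2]; exact inv_ne_zero hε)
  by_contra hne
  rcases Nat.lt_or_gt_of_ne hne with hlt | hgt
  · have := bfun_mono_root D.rank D.nroots ⟨wAct D is r, hwr⟩ ⟨r, hr⟩ hlt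
    omega
  · have := bfun_mono_root D.rank D.nroots ⟨r, hr⟩ ⟨wAct D is r, hwr⟩ hgt
    omega

theorem same_perm (D : ChevalleyDatum) (hD : D ∈ [chevG2, chevB2, chevD4, chevF4, chevE6, chevE7, chevE8])
    (is is' : List ℕ) (his : ∀ i ∈ is, i < D.rank) (his' : ∀ i ∈ is', i < D.rank)
    (h : GL D.Idx F) (hh : h ∈ D.diagonalSubgroup F) (e : nWordGL D hD is = h * nWordGL D hD is')
    (r : ℕ) (hr : r < D.nroots) : wAct D is r = wAct D is' r := by
  obtain ⟨ε, hε, e1⟩ := nW_mulVec (F := F) D hD is his r hr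
  obtain ⟨ε', hε', e2⟩ := nW_mulVec (F := F) D hD is' his' r hr
  obtain ⟨c, hc⟩ := diagonalSubgroup_le_torus D hD hh
  have hw := wAct_lt D hD is his r hr
  have hw' := wAct_lt D hD is' his' r hr
  rw [e, Units.val_mul, ← Matrix.mulVec_mulVec, e2, Matrix.mulVec_smul, hc] at e1
  have hc2 : D.rank + wAct D is' r = code (Sum.inr ⟨wAct D is' r, hw'⟩ : Ix D.rank D.nroots) := rfl
  rw [hc2, mulVec_bvec_code] at e1
  have e3 := congrFun e1 (Sum.inr ⟨wAct D is r, hw⟩)
  by_contra hne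
  have hne' : (Sum.inr ⟨wAct D is r, hw⟩ : D.Idx) ≠ Sum.inr ⟨wAct D is' r, hw'⟩ := by
    intro h
    apply hne
    exact congrArg Fin.val (Sum.inr.inj h)
  unfold ChevalleyDatum.charDiag at e3
  rw [Pi.smul_apply, Matrix.diagonal_apply_ne _ hne', smul_zero, Pi.smul_apply] at e3
  have hb : bvec D.rank D.nroots F (D.rank + wAct D is r) (Sum.inr ⟨wAct D is r, hw⟩) = 1 := by
    unfold bvec
    exact if_pos rfl
  rw [hb, smul_eq_mul, mul_one] at e3
  exact hε e3.symm

end

end Cfsg.Agent.Lib.Helper7.ChevNW
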