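import Cfsg.Agent.Lib.Helper7.ChevGen

set_option autoImplicit false

namespace Cfsg.Agent.Lib.Helper7.ChevOrb
open Cfsg.Lie Cfsg.Agent.Lib.Helper7.ChevEngine Cfsg.Agent.Lib.Helper7.ChevN
  Cfsg.Agent.Lib.Helper7.ChevConjT Cfsg.Agent.Lib.Helper7.ChevConjU Cfsg.Agent.Lib.Helper7.ChevAdd
  Cfsg.Agent.Lib.Helper7.ChevHAll Cfsg.Agent.Lib.Helper7.HBaseAll Cfsg.Agent.Lib.Helper7.ChevTorus
  Cfsg.Agent.Lib.Helper7.ChevBN Cfsg.Agent.Lib.Helper7.ChevGen

def lvlCheckB (D : ChevalleyDatum) (base : List ℕ) (LV PI : ℕ) : Bool :=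
  (List.range D.nroots).all fun r =>
    base.contains r ||
    (decide (wdig PI r < D.rank) && decide (D.reflectRoot (wdig PI r) r < D.nroots) &&
      decide (wdig LV (D.reflectRoot (wdig PI r) r) < wdig LV r))

theorem root_induction_B (D : ChevalleyDatum) (base : List ℕ) (LV PI : ℕ) (h : lvlCheckB D base LV PI = true)
    (P : ℕ → Prop) (hbase : ∀ r ∈ base, P r)
    (step : ∀ i < D.rank, ∀ r < D.nroots, D.reflectRoot i r < D.nroots → P (D.reflectRoot i r) → P r) :
    ∀ r < D.nroots, P r := by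
  have key : ∀ k, ∀ r < D.nroots, wdig LV r = k → P r := by
    intro k
    induction k using Nat.strong_induction_on with
    | _ k ih =>
      intro r hr hk
      unfold lvlCheckB at h
      rw [List.all_eq_true] at h
      have h1 := h r (List.mem_range.mpr hr)
      rw [Bool.or_eq_true] at h1
      rcases h1 with h1 | h1
      · exact hbase r (List.contains_iff_mem.mp h1)
      · simp only [Bool.and_eq_true, decide_eq_true_eq] at h1
        obtain ⟨⟨h2, h3⟩, h4⟩ := h1
        exact step _ h2 r hr h3 (ih _ (hk ▸ h4) _ h3 rfl)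
  intro r hr
  exact key _ r hr rfl

section
variable {F : Type*} [Field F]

theorem nGL_mem_monomial (D : ChevalleyDatum)
    (hD : D ∈ [chevG2, chevB2, chevD4, chevF4, chevE6, chevE7, chevE8]) (i : ℕ) (hi : i < D.rank) :
    wordGL D hD (D.nWord (D.simple i) (1 : F)) ∈ D.monomialSubgroup F := by
  obtain ⟨hC, -, -⟩ := all_of_mem D hD
  apply Subgroup.mem_sup_right
  apply Subgroup.subset_closure
  exact ⟨D.simple i, simple_lt D hC i hi, wordGL_val D hD _⟩

theorem step_mem (D : ChevalleyDatum) (hD : D ∈ [chevG2, chevB2, chevD4, chevF4, chevE6, chevE7, chevE8])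
    (K : Subgroup (GL D.Idx F)) (hN : D.monomialSubgroup F ≤ K) (i : ℕ) (hi : i < D.rank) (r : ℕ)
    (hr : r < D.nroots) (ih : ∀ t : F, xGL D hD (D.reflectRoot i r) t ∈ K) (t : F) : xGL D hD r t ∈ K := by
  obtain ⟨hC, -, -⟩ := all_of_mem D hD
  obtain ⟨m, W, hn, -, hcj⟩ := hC.1 i hi
  have hnG := hN (nGL_mem_monomial (F := F) D hD i hi)
  have e2 : wordGL D hD (D.nWord (D.simple i) (1 : F)) * xGL D hD r t =
      xGL D hD (D.reflectRoot i r) (((etaM m r : ℤ) : F) * t) * wordGL D hD (D.nWord (D.simple i) (1 : F)) := by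
    apply Units.ext
    rw [Units.val_mul, Units.val_mul, xGL_val, xGL_val, wordGL_val]
    exact conj_x D i m W hn hcj r hr t
  rw [eq_inv_mul_of_mul_eq e2]
  exact mul_mem (inv_mem hnG) (mul_mem (ih _) hnG)

theorem group_le_of_base (D : ChevalleyDatum) (hD : D ∈ [chevG2, chevB2, chevD4, chevF4, chevE6, chevE7, chevE8])
    (K : Subgroup (GL D.Idx F)) (hN : D.monomialSubgroup F ≤ K) (base : List ℕ) (LV PI : ℕ)
    (h : lvlCheckB D base LV PI = true) (hb : ∀ r ∈ base, ∀ t : F, xGL D hD r t ∈ K) : D.group F ≤ K := by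
  have key : ∀ r < D.nroots, ∀ t : F, xGL D hD r t ∈ K := by
    apply root_induction_B D base LV PI h (fun r => ∀ t : F, xGL D hD r t ∈ K) hb
    intro i hi r hr _ ih t
    exact step_mem D hD K hN i hi r hr ih t
  unfold ChevalleyDatum.group
  rw [Subgroup.closure_le]
  rintro g ⟨r, t, hg⟩
  have : g = xGL D hD r.val t := by
    apply Units.ext
    rw [hg, xGL_val]
    simp [ChevalleyDatum.x, r.isLt]
  rw [this]
  exact key r.val r.isLt t

theorem xGL_mem_rootSubgroup (D : ChevalleyDatum)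
    (hD : D ∈ [chevG2, chevB2, chevD4, chevF4, chevE6, chevE7, chevE8]) (r : ℕ) (t : F) :
    xGL D hD r t ∈ D.rootSubgroup F r := by
  apply Subgroup.subset_closure
  exact ⟨t, xGL_val D hD r t⟩

end

end Cfsg.Agent.Lib.Helper7.ChevOrb
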