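import Cfsg.Agent.Lib.Helper7.ChevComm

set_option autoImplicit false
set_option maxHeartbeats 400000

namespace Cfsg.Agent.Lib.Helper7.ChevPerf
open Cfsg.Lie Cfsg.Agent.Lib.Helper7.ChevEngine Cfsg.Agent.Lib.Helper7.ChevN
  Cfsg.Agent.Lib.Helper7.ChevConjT Cfsg.Agent.Lib.Helper7.ChevConjU Cfsg.Agent.Lib.Helper7.ChevAdd
  Cfsg.Agent.Lib.Helper7.ChevHAll Cfsg.Agent.Lib.Helper7.HBaseAll Cfsg.Agent.Lib.Helper7.ChevTorus
  Cfsg.Agent.Lib.Helper7.ChevBN Cfsg.Agent.Lib.Helper7.ChevGen Cfsg.Agent.Lib.Helper7.ChevOrb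
  Cfsg.Agent.Lib.Helper7.ChevW0 Cfsg.Agent.Lib.Helper7.ChevComm

def comm2WordR (c1 : ℕ) (κ1 : ℤ) (c2 : ℕ) (κ2 : ℤ) : List (ℕ × Poly) :=
  [(c1, [(κ1, 1, 1)]), (c2, [(κ2, 1, 2)])]

def comm2Check (D : ChevalleyDatum) (a b c1 : ℕ) (κ1 : ℤ) (c2 : ℕ) (κ2 : ℤ) : Bool :=
  (List.range (D.rank + D.nroots)).all fun k =>
    eqCheck D.rank D.nroots (fnsOf D) false (commWordL a b) (comm2WordR c1 κ1 c2 κ2) k

theorem comm2_of_check {F : Type*} [Field F] (D : ChevalleyDatum) (a b c1 : ℕ) (κ1 : ℤ) (c2 : ℕ) (κ2 : ℤ)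
    (h : comm2Check D a b c1 κ1 c2 κ2 = true) (t u : F) :
    D.x F a (-t) * D.x F b (-u) * D.x F a t * D.x F b u =
      D.x F c1 ((κ1 : F) * t * u) * D.x F c2 ((κ2 : F) * t * u ^ 2) := by
  have h1 := eqCheck_sound D.rank D.nroots (fnsOf D) false t u (fun hf => by simp at hf) (commWordL a b)
    (comm2WordR c1 κ1 c2 κ2)
    (fun k hk => by
      unfold comm2Check at h
      rw [List.all_eq_true] at h
      exact h k (List.mem_range.mpr hk))
  simp only [wM, commWordL, comm2WordR, List.map_cons, List.map_nil, List.prod_cons, List.prod_nil, mul_one,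
    eval_cons, eval_nil, evalM, Int.cast_one, Int.cast_neg, one_mul, pow_one, pow_zero, add_zero, neg_mul] at h1
  rw [x_eq, x_eq, x_eq, x_eq, x_eq, x_eq, mul_assoc, mul_assoc]
  exact h1

section
variable {F : Type*} [Field F]

def commK (F : Type*) [Field F] (D : ChevalleyDatum) : Subgroup (GL D.Idx F) :=
  (commutator ↥(D.group F)).map (D.group F).subtype

theorem comm_mem_map {G : Type*} [Group G] (H : Subgroup G) (a b : G) (ha : a ∈ H) (hb : b ∈ H) :
    a * b * a⁻¹ * b⁻¹ ∈ (commutator ↥H).map H.subtype := by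
  have h1 : (⟨a, ha⟩ : ↥H) * ⟨b, hb⟩ * (⟨a, ha⟩ : ↥H)⁻¹ * (⟨b, hb⟩ : ↥H)⁻¹ ∈ commutator ↥H := by
    rw [commutator_def, ← commutatorElement_def]
    exact Subgroup.commutator_mem_commutator (Subgroup.mem_top _) (Subgroup.mem_top _)
  have h2 := Subgroup.mem_map_of_mem H.subtype h1
  rw [Subgroup.subtype_apply, Subgroup.coe_mul, Subgroup.coe_mul, Subgroup.coe_mul, Subgroup.coe_inv,
    Subgroup.coe_inv] at h2
  exact h2

theorem conj_mem_map {G : Type*} [Group G] (H : Subgroup G) (g : G) (hg : g ∈ H) (k : G)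
    (hk : k ∈ (commutator ↥H).map H.subtype) : g⁻¹ * (k * g) ∈ (commutator ↥H).map H.subtype := by
  obtain ⟨k', hk', rfl⟩ := hk
  have hn : (commutator ↥H).Normal := inferInstance
  have h1 := hn.conj_mem k' hk' (⟨g, hg⟩ : ↥H)⁻¹
  rw [inv_inv] at h1
  have h2 := Subgroup.mem_map_of_mem H.subtype h1
  rw [Subgroup.subtype_apply, Subgroup.coe_mul, Subgroup.coe_mul, Subgroup.coe_inv, mul_assoc] at h2
  exact h2

theorem comm_mem_commK (D : ChevalleyDatum) (a b : GL D.Idx F) (ha : a ∈ D.group F) (hb : b ∈ D.group F) :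
    a * b * a⁻¹ * b⁻¹ ∈ commK F D :=
  comm_mem_map (D.group F) a b ha hb

theorem conj_mem_commK (D : ChevalleyDatum) (g : GL D.Idx F) (hg : g ∈ D.group F) (k : GL D.Idx F)
    (hk : k ∈ commK F D) : g⁻¹ * (k * g) ∈ commK F D :=
  conj_mem_map (D.group F) g hg k hk

theorem xGL_neg (D : ChevalleyDatum) (hD : D ∈ [chevG2, chevB2, chevD4, chevF4, chevE6, chevE7, chevE8])
    (r : ℕ) (t : F) : xGL D hD r (-t) = (xGL D hD r t)⁻¹ := by
  apply Units.ext
  rw [xGL_inv_val, xGL_val]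

theorem xGL_add (D : ChevalleyDatum) (hD : D ∈ [chevG2, chevB2, chevD4, chevF4, chevE6, chevE7, chevE8])
    (r : ℕ) (t u : F) : xGL D hD r t * xGL D hD r u = xGL D hD r (t + u) := by
  apply Units.ext
  rw [Units.val_mul, xGL_val, xGL_val, xGL_val, add_any D hD]

theorem step_commK (D : ChevalleyDatum) (hD : D ∈ [chevG2, chevB2, chevD4, chevF4, chevE6, chevE7, chevE8])
    (i : ℕ) (hi : i < D.rank) (r : ℕ)
    (hr : r < D.nroots) (ih : ∀ t : F, xGL D hD (D.reflectRoot i r) t ∈ commK F D) (t : F) :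
    xGL D hD r t ∈ commK F D := by
  obtain ⟨hC, -, -⟩ := all_of_mem D hD
  obtain ⟨m, W, hn, -, hcj⟩ := hC.1 i hi
  have hnG : wordGL D hD (D.nWord (D.simple i) (1 : F)) ∈ D.group F := wordGL_mem_group D hD _
  have e2 : wordGL D hD (D.nWord (D.simple i) (1 : F)) * xGL D hD r t =
      xGL D hD (D.reflectRoot i r) (((etaM m r : ℤ) : F) * t) * wordGL D hD (D.nWord (D.simple i) (1 : F)) := by
    apply Units.ext
    rw [Units.val_mul, Units.val_mul, xGL_val, xGL_val, wordGL_val]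
    exact conj_x D i m W hn hcj r hr t
  rw [eq_inv_mul_of_mul_eq e2]
  exact conj_mem_commK D _ hnG _ (ih _)

theorem perfect_of_simple (D : ChevalleyDatum) (hD : D ∈ [chevG2, chevB2, chevD4, chevF4, chevE6, chevE7, chevE8])
    (h : ∀ j < D.rank, ∀ t : F, xGL D hD (D.simple j) t ∈ commK F D) : commutator ↥(D.group F) = ⊤ := by
  have key : ∀ r < D.nroots, ∀ t : F, xGL D hD r t ∈ commK F D := by
    obtain ⟨hC, -, -⟩ := all_of_mem D hD
    obtain ⟨hc, LV, PI, hl⟩ := hC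
    apply root_induction D LV PI hl (fun r => ∀ t : F, xGL D hD r t ∈ commK F D) h
    intro i hi r hr _ ih t
    exact step_commK D hD i hi r hr ih t
  have hle : D.group F ≤ commK F D := by
    unfold ChevalleyDatum.group
    rw [Subgroup.closure_le]
    rintro g ⟨r, t, hg⟩
    have : g = xGL D hD r.val t := by
      apply Units.ext
      rw [hg, xGL_val]
      simp [ChevalleyDatum.x, r.isLt]
    rw [this]
    exact key r.val r.isLt t
  rw [eq_top_iff]
  intro x _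
  have hx : (x : GL D.Idx F) ∈ commK F D := hle x.2
  unfold commK at hx
  rw [Subgroup.mem_map] at hx
  obtain ⟨y, hy, hyx⟩ := hx
  rw [Subgroup.subtype_apply] at hyx
  have : y = x := Subtype.ext hyx
  rw [← this]
  exact hy

theorem comm_mem (D : ChevalleyDatum) (hD : D ∈ [chevG2, chevB2, chevD4, chevF4, chevE6, chevE7, chevE8])
    (a b c : ℕ) (κ : ℤ) (hκ : κ = 1 ∨ κ = -1) (hchk : commCheck D a b c κ = true) (t : F) :
    xGL D hD c t ∈ commK F D := by
  have hκ2 : (κ : F) * ((κ : F) * t) = t := by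
    rcases hκ with rfl | rfl <;> simp
  have e : xGL D hD c t = xGL D hD a (-((κ : F) * t)) * xGL D hD b (-1) * (xGL D hD a (-((κ : F) * t)))⁻¹ *
      (xGL D hD b (-1))⁻¹ := by
    rw [← xGL_neg, ← xGL_neg, neg_neg, neg_neg]
    apply Units.ext
    rw [Units.val_mul, Units.val_mul, Units.val_mul, xGL_val, xGL_val, xGL_val, xGL_val, xGL_val,
      comm_of_check D a b c κ hchk, mul_one, hκ2]
  rw [e]
  exact comm_mem_commK D _ _ (xGL_mem_group D hD _ _) (xGL_mem_group D hD _ _)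

theorem comm2_mem (D : ChevalleyDatum) (hD : D ∈ [chevG2, chevB2, chevD4, chevF4, chevE6, chevE7, chevE8])
    (a b c1 : ℕ) (κ1 : ℤ) (c2 : ℕ) (κ2 : ℤ) (hκ : κ2 = 1 ∨ κ2 = -1)
    (hchk : comm2Check D a b c1 κ1 c2 κ2 = true) (h1 : ∀ t : F, xGL D hD c1 t ∈ commK F D) (t : F) :
    xGL D hD c2 t ∈ commK F D := by
  have hκ2 : (κ2 : F) * ((κ2 : F) * t) = t := by
    rcases hκ with rfl | rfl <;> simp
  have e : xGL D hD c1 ((κ1 : F) * ((κ2 : F) * t)) * xGL D hD c2 t =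
      xGL D hD a (-((κ2 : F) * t)) * xGL D hD b (-1) * (xGL D hD a (-((κ2 : F) * t)))⁻¹ *
      (xGL D hD b (-1))⁻¹ := by
    rw [← xGL_neg, ← xGL_neg, neg_neg, neg_neg]
    apply Units.ext
    rw [Units.val_mul, Units.val_mul, Units.val_mul, Units.val_mul, xGL_val, xGL_val, xGL_val, xGL_val, xGL_val,
      xGL_val, comm2_of_check D a b c1 κ1 c2 κ2 hchk, mul_one, one_pow, mul_one, hκ2]
  rw [eq_inv_mul_of_mul_eq e]
  exact mul_mem (inv_mem (h1 _)) (comm_mem_commK D _ _ (xGL_mem_group D hD _ _) (xGL_mem_group D hD _ _))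

theorem units_zpow_sum_range (u : Fˣ) (f : ℕ → ℤ) (l : ℕ) :
    u ^ (∑ k ∈ Finset.range l, f k) = ∏ k ∈ Finset.range l, u ^ f k := by
  induction l with
  | zero => simp
  | succ l ih => rw [Finset.sum_range_succ, zpow_add, ih, Finset.prod_range_succ]

theorem torusChi_pow (D : ChevalleyDatum) (u : Fˣ) (f : ℕ → ℤ) (r : ℕ) :
    torusChi D (fun k => u ^ f k) r = u ^ (∑ k ∈ Finset.range D.rank, f k * D.cartan k r) := by
  unfold torusChi
  rw [units_zpow_sum_range]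
  apply Finset.prod_congr rfl
  intro k _
  rw [zpow_mul]

theorem torus_mem (D : ChevalleyDatum) (hD : D ∈ [chevG2, chevB2, chevD4, chevF4, chevE6, chevE7, chevE8])
    (r s : ℕ) (hr : r < D.nroots) (hs : s < D.nroots) (e : ℤ) (he : e = 1 ∨ e = -1)
    (hpair : (∑ k ∈ Finset.range D.rank, (fnsOf D).cor s k * D.cartan k r) = e)
    (c : F) (hc0 : c ≠ 0) (hc1 : c ≠ 1) (t : F) : xGL D hD r t ∈ commK F D := by
  have hhG : wordGL D hD (D.hWord s c) ∈ D.group F := wordGL_mem_group D hD _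
  have hval : ((wordGL D hD (D.hWord s c) : GL D.Idx F) : Matrix D.Idx D.Idx F) =
      D.charDiag F (torusChi D (fun k => (Units.mk0 c hc0) ^ ((fnsOf D).cor s k))) := by
    rw [wordGL_val]
    exact hMat_torus D hD s hs c hc0
  have hinv := inv_val_of_charDiag D _ _ hval
  have hχ : torusChi D (fun k => (Units.mk0 c hc0) ^ ((fnsOf D).cor s k)) r = (Units.mk0 c hc0) ^ e := by
    rw [torusChi_pow, hpair]
  have hne : ((Units.mk0 c hc0 ^ e : Fˣ) : F) - 1 ≠ 0 := by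
    intro h0
    have h1 : ((Units.mk0 c hc0 ^ e : Fˣ) : F) = 1 := sub_eq_zero.mp h0
    rcases he with rfl | rfl
    · rw [zpow_one, Units.val_mk0] at h1
      exact hc1 h1
    · rw [zpow_neg, zpow_one, Units.val_inv_eq_inv_val, Units.val_mk0, inv_eq_one] at h1
      exact hc1 h1
  have hconj : ∀ t' : F, wordGL D hD (D.hWord s c) * xGL D hD r t' * (wordGL D hD (D.hWord s c))⁻¹ =
      xGL D hD r (((Units.mk0 c hc0 ^ e : Fˣ) : F) * t') := by
    intro t'
    apply Units.ext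
    rw [Units.val_mul, Units.val_mul, hinv, hval, xGL_val, xGL_val,
      Cfsg.Agent.S2157.result D hD _ (torusChi_root D hD _) r hr t', hχ]
  have e2 : xGL D hD r t = wordGL D hD (D.hWord s c) *
      xGL D hD r (t / (((Units.mk0 c hc0 ^ e : Fˣ) : F) - 1)) * (wordGL D hD (D.hWord s c))⁻¹ *
      (xGL D hD r (t / (((Units.mk0 c hc0 ^ e : Fˣ) : F) - 1)))⁻¹ := by
    rw [hconj, ← xGL_neg, xGL_add]
    congr 1
    field_simp
    ring
  rw [e2]
  exact comm_mem_commK D _ _ hhG (xGL_mem_group D hD _ _)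

end

end Cfsg.Agent.Lib.Helper7.ChevPerf
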