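import Cfsg.Agent.Lib.Helper7.ChevGen
import Cfsg.Prelude.Def_ChevAutomorphisms

set_option autoImplicit false

namespace Cfsg.Agent.Lib.Helper7.ChevPerm
open Cfsg.Lie Cfsg.Agent.Lib.Helper7.ChevEngine Cfsg.Agent.Lib.Helper7.ChevTorus
  Cfsg.Agent.Lib.Helper7.ChevGen

section
variable {F : Type*} [Field F]

def tl (m : ℕ) (tab : List (ℕ × ℤ)) (k : ℕ) : ℕ × ℤ := if k < m then tab.getD k (0, 0) else (0, 0)

def permV (m : ℕ) (tab : List (ℕ × ℤ)) (v : SVec) : SVec :=
  v.map fun x => ((tl m tab x.1).1, smul (tl m tab x.1).2 x.2)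

def Pmat (l n : ℕ) (F : Type*) [Field F] (tab : List (ℕ × ℤ)) : Matrix (Ix l n) (Ix l n) F :=
  Matrix.of fun row col =>
    if code row = (tl (l + n) tab (code col)).1 then (((tl (l + n) tab (code col)).2 : ℤ) : F) else 0

theorem exists_code (l n k : ℕ) (hk : k < l + n) : ∃ j : Ix l n, code j = k := by
  by_cases h : k < l
  · exact ⟨Sum.inl ⟨k, h⟩, rfl⟩
  · refine ⟨Sum.inr ⟨k - l, by omega⟩, ?_⟩
    simp only [code, Sum.elim_inr]
    omega

theorem Pmat_mulVec_bvec (l n : ℕ) (tab : List (ℕ × ℤ)) (k : ℕ) :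
    (Pmat l n F tab).mulVec (bvec l n F k) =
      (((tl (l + n) tab k).2 : ℤ) : F) • bvec l n F (tl (l + n) tab k).1 := by
  by_cases hk : k < l + n
  · obtain ⟨j, rfl⟩ := exists_code l n k hk
    rw [mulVec_bvec_code]
    funext i
    simp only [Pmat, Matrix.of_apply, bvec, Pi.smul_apply, smul_eq_mul]
    split_ifs <;> simp
  · rw [mulVec_bvec_out _ _ (by omega)]
    simp [tl, hk]

theorem evalV_permV (l n : ℕ) (a b : F) (tab : List (ℕ × ℤ)) (v : SVec) :
    evalV l n a b (permV (l + n) tab v) = (Pmat l n F tab).mulVec (evalV l n a b v) := by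
  induction v with
  | nil => simp [permV, evalV_nil]
  | cons x v ih =>
    have e : permV (l + n) tab (x :: v) =
        ((tl (l + n) tab x.1).1, smul (tl (l + n) tab x.1).2 x.2) :: permV (l + n) tab v := rfl
    rw [e, evalV_cons, evalV_cons, ih, Matrix.mulVec_add, Matrix.mulVec_smul, Pmat_mulVec_bvec,
      eval_smul, smul_smul, mul_comm]

def pcCheck (l n : ℕ) (A : Fns) (tab : List (ℕ × ℤ)) (w w' : List (ℕ × Poly)) (k : ℕ) : Bool :=
  (normV (permV (l + n) tab (applyWord l n A false w [(k, one)]) ++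
    negV (applyWord l n A false w' (permV (l + n) tab [(k, one)])))).isEmpty

theorem pcCheck_sound (l n : ℕ) (A : Fns) (a b : F) (tab : List (ℕ × ℤ)) (w w' : List (ℕ × Poly))
    (h : ∀ k < l + n, pcCheck l n A tab w w' k = true) :
    Pmat l n F tab * wM l n A F (w.map fun x => (x.1, eval a b x.2)) =
      wM l n A F (w'.map fun x => (x.1, eval a b x.2)) * Pmat l n F tab := by
  apply matrix_ext_bvec
  intro k hk
  rw [← Matrix.mulVec_mulVec, ← Matrix.mulVec_mulVec]
  rw [bvec_eq_evalV l n a b k, applyWord_sound l n A false a b (by simp), ← evalV_permV, ← evalV_permV,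
    applyWord_sound l n A false a b (by simp)]
  exact evalV_eq_of_normV_nil l n a b _ _ (h k hk)

def rootCheck (l n : ℕ) (A : Fns) (tab : List (ℕ × ℤ)) (r k : ℕ) : Bool :=
  pcCheck l n A tab [(r, [(1, 1, 0)])]
    [((tl (l + n) tab (l + r)).1 - l, [((tl (l + n) tab (l + r)).2, 1, 0)])] k

theorem root_conj (l n : ℕ) (A : Fns) (tab : List (ℕ × ℤ)) (r : ℕ)
    (h : ∀ k < l + n, rootCheck l n A tab r k = true) (t : F) :
    Pmat l n F tab * xx l n A F r t =
      xx l n A F ((tl (l + n) tab (l + r)).1 - l) ((((tl (l + n) tab (l + r)).2 : ℤ) : F) * t) *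
        Pmat l n F tab := by
  have := pcCheck_sound l n A t 1 tab _ _ h
  simpa [wM, eval, evalM] using this

def invCheck (m : ℕ) (tab tab' : List (ℕ × ℤ)) : Bool :=
  (List.range m).all fun k => decide ((tl m tab' k).1 < m) && ((tl m tab (tl m tab' k).1).1 == k) &&
    ((tl m tab' k).2 * (tl m tab (tl m tab' k).1).2 == 1)

theorem Pmat_mul_inv (l n : ℕ) (tab tab' : List (ℕ × ℤ)) (h : invCheck (l + n) tab tab' = true) :
    Pmat l n F tab * Pmat l n F tab' = 1 := by
  apply matrix_ext_bvec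
  intro k hk
  unfold invCheck at h
  rw [List.all_eq_true] at h
  have hk' := h k (List.mem_range.mpr hk)
  simp only [Bool.and_eq_true, decide_eq_true_eq, beq_iff_eq] at hk'
  obtain ⟨⟨-, h2⟩, h3⟩ := hk'
  rw [← Matrix.mulVec_mulVec, Pmat_mulVec_bvec, Matrix.mulVec_smul, Pmat_mulVec_bvec, smul_smul, h2,
    Matrix.one_mulVec, ← Int.cast_mul, h3, Int.cast_one, one_smul]

def Pgl (l n : ℕ) (F : Type*) [Field F] (tab tab' : List (ℕ × ℤ))
    (h : invCheck (l + n) tab tab' = true) : GL (Ix l n) F :=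
  ⟨Pmat l n F tab, Pmat l n F tab', Pmat_mul_inv l n tab tab' h,
    mul_eq_one_comm.mp (Pmat_mul_inv l n tab tab' h)⟩

def permRootL (D : ChevalleyDatum) (L : List ℕ) (r : ℕ) : ℕ :=
  ((List.range D.nroots).find? fun s => (List.finRange D.rank).all fun i =>
      (D.coroot.getD s #[]).getD (L.getD i.val 0) 0 == (D.coroot.getD r #[]).getD i.val 0).getD r

theorem permRoot_eq (D : ChevalleyDatum) (π : Equiv.Perm (Fin D.rank)) (L : List ℕ)
    (h : ∀ i : Fin D.rank, (π i).val = L.getD i.val 0) (r : ℕ) : D.permRoot π r = permRootL D L r := by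
  unfold ChevalleyDatum.permRoot permRootL
  simp only [h]

structure PData (D : ChevalleyDatum) (L : List ℕ) (tab tab' : List (ℕ × ℤ)) : Prop where
  inv : invCheck (D.rank + D.nroots) tab tab' = true
  root : ∀ r < D.nroots, ∀ k < D.rank + D.nroots, rootCheck D.rank D.nroots (fnsOf D) tab r k = true
  perm : ∀ r < D.nroots, (tl (D.rank + D.nroots) tab (D.rank + r)).1 = D.rank + permRootL D L r
  sgn : ∀ r < D.nroots, (tl (D.rank + D.nroots) tab (D.rank + r)).2 = 1 ∨
    (tl (D.rank + D.nroots) tab (D.rank + r)).2 = -1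
  simp : ∀ i < D.rank, L.getD i 0 < D.rank ∧ D.simple i < D.nroots ∧ D.neg (D.simple i) < D.nroots ∧
    permRootL D L (D.simple i) = D.simple (L.getD i 0) ∧
    (tl (D.rank + D.nroots) tab (D.rank + D.simple i)).2 = 1 ∧
    permRootL D L (D.neg (D.simple i)) = D.neg (D.simple (L.getD i 0)) ∧
    (tl (D.rank + D.nroots) tab (D.rank + D.neg (D.simple i))).2 = 1
  surj : ∀ j < D.rank, ∃ i < D.rank, L.getD i 0 = j

def sg (D : ChevalleyDatum) (tab : List (ℕ × ℤ)) (r : ℕ) : ℤ :=
  (tl (D.rank + D.nroots) tab (D.rank + r)).2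

def PG (D : ChevalleyDatum) (F : Type*) [Field F] (tab tab' : List (ℕ × ℤ))
    (h : invCheck (D.rank + D.nroots) tab tab' = true) : GL D.Idx F :=
  Pgl D.rank D.nroots F tab tab' h

theorem conj_root (D : ChevalleyDatum) (L : List ℕ) (tab tab' : List (ℕ × ℤ)) (pd : PData D L tab tab')
    (r : ℕ) (hr : r < D.nroots) (t : F) :
    (PG D F tab tab' pd.inv : Matrix D.Idx D.Idx F) * D.x F r t =
      D.x F (permRootL D L r) (((sg D tab r : ℤ) : F) * t) * (PG D F tab tab' pd.inv : Matrix D.Idx D.Idx F) := by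
  have h := root_conj D.rank D.nroots (fnsOf D) tab r (pd.root r hr) t
  rw [pd.perm r hr, Nat.add_sub_cancel_left] at h
  rw [x_eq, x_eq]
  exact h

theorem conj_rootGL (D : ChevalleyDatum) (hD : D ∈ [chevG2, chevB2, chevD4, chevF4, chevE6, chevE7, chevE8])
    (L : List ℕ) (tab tab' : List (ℕ × ℤ)) (pd : PData D L tab tab')
    (r : ℕ) (hr : r < D.nroots) (t : F) :
    PG D F tab tab' pd.inv * xGL D hD r t * (PG D F tab tab' pd.inv)⁻¹ =
      xGL D hD (permRootL D L r) (((sg D tab r : ℤ) : F) * t) := by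
  rw [mul_inv_eq_iff_eq_mul]
  apply Units.ext
  rw [Units.val_mul, Units.val_mul, xGL_val, xGL_val]
  exact conj_root D L tab tab' pd r hr t

theorem conj_simple (D : ChevalleyDatum) (hD : D ∈ [chevG2, chevB2, chevD4, chevF4, chevE6, chevE7, chevE8])
    (L : List ℕ) (tab tab' : List (ℕ × ℤ)) (pd : PData D L tab tab')
    (i : ℕ) (hi : i < D.rank) (t : F) :
    PG D F tab tab' pd.inv * xGL D hD (D.simple i) t * (PG D F tab tab' pd.inv)⁻¹ =
        xGL D hD (D.simple (L.getD i 0)) t ∧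
    PG D F tab tab' pd.inv * xGL D hD (D.neg (D.simple i)) t * (PG D F tab tab' pd.inv)⁻¹ =
        xGL D hD (D.neg (D.simple (L.getD i 0))) t := by
  obtain ⟨-, h1, h2, h3, h4, h5, h6⟩ := pd.simp i hi
  constructor
  · rw [conj_rootGL D hD L tab tab' pd _ h1, h3]
    unfold sg
    rw [h4, Int.cast_one, one_mul]
  · rw [conj_rootGL D hD L tab tab' pd _ h2, h5]
    unfold sg
    rw [h6, Int.cast_one, one_mul]

theorem map_gens (D : ChevalleyDatum) (hD : D ∈ [chevG2, chevB2, chevD4, chevF4, chevE6, chevE7, chevE8])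
    (L : List ℕ) (tab tab' : List (ℕ × ℤ)) (pd : PData D L tab tab') :
    (MulAut.conj (PG D F tab tab' pd.inv)) '' simpleGens F D = simpleGens F D := by
  apply Set.eq_of_subset_of_subset
  · rintro _ ⟨g, ⟨i, t, hi, hg | hg⟩, rfl⟩
    · have hg' : g = xGL D hD (D.simple i) t := Units.ext (by rw [hg, xGL_val])
      rw [hg', MulAut.conj_apply, (conj_simple D hD L tab tab' pd i hi t).1]
      exact ⟨L.getD i 0, t, (pd.simp i hi).1, Or.inl (xGL_val D hD _ t)⟩
    · have hg' : g = xGL D hD (D.neg (D.simple i)) t := Units.ext (by rw [hg, xGL_val])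
      rw [hg', MulAut.conj_apply, (conj_simple D hD L tab tab' pd i hi t).2]
      exact ⟨L.getD i 0, t, (pd.simp i hi).1, Or.inr (xGL_val D hD _ t)⟩
  · rintro g ⟨j, t, hj, hg | hg⟩
    · obtain ⟨i, hi, rfl⟩ := pd.surj j hj
      have hg' : g = xGL D hD (D.simple (L.getD i 0)) t := Units.ext (by rw [hg, xGL_val])
      refine ⟨xGL D hD (D.simple i) t, ⟨i, t, hi, Or.inl (xGL_val D hD _ t)⟩, ?_⟩
      rw [hg', MulAut.conj_apply, (conj_simple D hD L tab tab' pd i hi t).1]
    · obtain ⟨i, hi, rfl⟩ := pd.surj j hj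
      have hg' : g = xGL D hD (D.neg (D.simple (L.getD i 0))) t := Units.ext (by rw [hg, xGL_val])
      refine ⟨xGL D hD (D.neg (D.simple i)) t, ⟨i, t, hi, Or.inr (xGL_val D hD _ t)⟩, ?_⟩
      rw [hg', MulAut.conj_apply, (conj_simple D hD L tab tab' pd i hi t).2]

theorem map_group (D : ChevalleyDatum) (hD : D ∈ [chevG2, chevB2, chevD4, chevF4, chevE6, chevE7, chevE8])
    (L : List ℕ) (tab tab' : List (ℕ × ℤ)) (pd : PData D L tab tab') :
    (D.group F).map (MulAut.conj (PG D F tab tab' pd.inv)).toMonoidHom = D.group F := by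
  rw [group_eq_closure_simple D hD, MonoidHom.map_closure]
  congr 1
  exact map_gens D hD L tab tab' pd

noncomputable def graphAut (D : ChevalleyDatum)
    (hD : D ∈ [chevG2, chevB2, chevD4, chevF4, chevE6, chevE7, chevE8])
    (L : List ℕ) (tab tab' : List (ℕ × ℤ)) (pd : PData D L tab tab') :
    ↥(D.group F) ≃* ↥(D.group F) :=
  ((MulAut.conj (PG D F tab tab' pd.inv)).subgroupMap (D.group F)).trans
    (MulEquiv.subgroupCongr (map_group D hD L tab tab' pd))

theorem graphAut_val (D : ChevalleyDatum)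
    (hD : D ∈ [chevG2, chevB2, chevD4, chevF4, chevE6, chevE7, chevE8])
    (L : List ℕ) (tab tab' : List (ℕ × ℤ)) (pd : PData D L tab tab') (g : ↥(D.group F)) :
    ((graphAut D hD L tab tab' pd g : ↥(D.group F)) : GL D.Idx F) =
      PG D F tab tab' pd.inv * (g : GL D.Idx F) * (PG D F tab tab' pd.inv)⁻¹ := rfl

theorem graph_aut (D : ChevalleyDatum)
    (hD : D ∈ [chevG2, chevB2, chevD4, chevF4, chevE6, chevE7, chevE8])
    (L : List ℕ) (tab tab' : List (ℕ × ℤ)) (pd : PData D L tab tab') :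
    ∃ α : ↥(D.group F) ≃* ↥(D.group F), ∀ (g : ↥(D.group F)) (i : ℕ) (t : F), i < D.rank →
      (((g : GL D.Idx F) : Matrix D.Idx D.Idx F) = D.x F (D.simple i) t →
        ((α g : GL D.Idx F) : Matrix D.Idx D.Idx F) = D.x F (D.simple (L.getD i 0)) t) ∧
      (((g : GL D.Idx F) : Matrix D.Idx D.Idx F) = D.x F (D.neg (D.simple i)) t →
        ((α g : GL D.Idx F) : Matrix D.Idx D.Idx F) = D.x F (D.neg (D.simple (L.getD i 0))) t) := by
  refine ⟨graphAut D hD L tab tab' pd, ?_⟩
  intro g i t hi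
  constructor
  · intro hg
    have hg' : (g : GL D.Idx F) = xGL D hD (D.simple i) t := Units.ext (by rw [hg, xGL_val])
    rw [graphAut_val, hg', (conj_simple D hD L tab tab' pd i hi t).1, xGL_val]
  · intro hg
    have hg' : (g : GL D.Idx F) = xGL D hD (D.neg (D.simple i)) t := Units.ext (by rw [hg, xGL_val])
    rw [graphAut_val, hg', (conj_simple D hD L tab tab' pd i hi t).2, xGL_val]

theorem hom_eq_conj (D : ChevalleyDatum)
    (hD : D ∈ [chevG2, chevB2, chevD4, chevF4, chevE6, chevE7, chevE8])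
    (φ : ↥(D.group F) ≃* ↥(D.group F)) (P : GL D.Idx F)
    (h : ∀ g : ↥(D.group F), (g : GL D.Idx F) ∈ simpleGens F D →
      ((φ g : ↥(D.group F)) : GL D.Idx F) = P * (g : GL D.Idx F) * P⁻¹) :
    ∀ g : ↥(D.group F), ((φ g : ↥(D.group F)) : GL D.Idx F) = P * (g : GL D.Idx F) * P⁻¹ := by
  have key : ∀ x : GL D.Idx F, x ∈ Subgroup.closure (simpleGens F D) →
      ∀ hx : x ∈ D.group F, ((φ ⟨x, hx⟩ : ↥(D.group F)) : GL D.Idx F) = P * x * P⁻¹ := by
    intro x hx
    induction hx using Subgroup.closure_induction with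
    | mem x hx =>
      intro hx'
      exact h ⟨x, hx'⟩ hx
    | one =>
      intro hx'
      have : (⟨1, hx'⟩ : ↥(D.group F)) = 1 := rfl
      rw [this, map_one]
      simp
    | mul x y hx hy ihx ihy =>
      intro hxy
      have hx' : x ∈ D.group F := by rw [group_eq_closure_simple D hD]; exact hx
      have hy' : y ∈ D.group F := by rw [group_eq_closure_simple D hD]; exact hy
      have : (⟨x * y, hxy⟩ : ↥(D.group F)) = ⟨x, hx'⟩ * ⟨y, hy'⟩ := rfl
      rw [this, map_mul, Subgroup.coe_mul, ihx hx', ihy hy']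
      group
    | inv x hx ihx =>
      intro hxi
      have hx' : x ∈ D.group F := by rw [group_eq_closure_simple D hD]; exact hx
      have : (⟨x⁻¹, hxi⟩ : ↥(D.group F)) = (⟨x, hx'⟩ : ↥(D.group F))⁻¹ := rfl
      rw [this, map_inv, Subgroup.coe_inv, ihx hx']
      group
  intro g
  have hg : (g : GL D.Idx F) ∈ Subgroup.closure (simpleGens F D) := by
    rw [← group_eq_closure_simple D hD]
    exact g.2
  exact key g.1 hg g.2

theorem graph_unique (D : ChevalleyDatum)
    (hD : D ∈ [chevG2, chevB2, chevD4, chevF4, chevE6, chevE7, chevE8])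
    (L : List ℕ) (tab tab' : List (ℕ × ℤ)) (pd : PData D L tab tab')
    (π : Equiv.Perm (Fin D.rank)) (hπ : ∀ i : Fin D.rank, (π i).val = L.getD i.val 0)
    (φ : ↥(D.group F) ≃* ↥(D.group F))
    (hφ : ∀ (g : ↥(D.group F)) (i : Fin D.rank) (t : F),
      (((g : GL D.Idx F) : Matrix D.Idx D.Idx F) = D.x F (D.simple i) t →
        ((φ g : GL D.Idx F) : Matrix D.Idx D.Idx F) = D.x F (D.simple (π i)) t) ∧
      (((g : GL D.Idx F) : Matrix D.Idx D.Idx F) = D.x F (D.neg (D.simple i)) t →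
        ((φ g : GL D.Idx F) : Matrix D.Idx D.Idx F) = D.x F (D.neg (D.simple (π i))) t))
    (r : ℕ) (hr : r < D.nroots) :
    ∃ ε : F, (ε = 1 ∨ ε = -1) ∧ ∀ (g : ↥(D.group F)) (t : F),
      ((g : GL D.Idx F) : Matrix D.Idx D.Idx F) = D.x F r t →
        ((φ g : GL D.Idx F) : Matrix D.Idx D.Idx F) = D.x F (D.permRoot π r) (ε * t) := by
  have hconj := hom_eq_conj D hD φ (PG D F tab tab' pd.inv) (by
    rintro g ⟨i, t, hi, hg | hg⟩
    · have hg' : (g : GL D.Idx F) = xGL D hD (D.simple i) t := Units.ext (by rw [hg, xGL_val])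
      rw [hg', (conj_simple D hD L tab tab' pd i hi t).1]
      apply Units.ext
      rw [(hφ g ⟨i, hi⟩ t).1 hg, xGL_val, hπ]
    · have hg' : (g : GL D.Idx F) = xGL D hD (D.neg (D.simple i)) t := Units.ext (by rw [hg, xGL_val])
      rw [hg', (conj_simple D hD L tab tab' pd i hi t).2]
      apply Units.ext
      rw [(hφ g ⟨i, hi⟩ t).2 hg, xGL_val, hπ])
  refine ⟨((sg D tab r : ℤ) : F), ?_, ?_⟩
  · rcases pd.sgn r hr with h | h
    · left
      unfold sg
      rw [h, Int.cast_one]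
    · right
      unfold sg
      rw [h, Int.cast_neg, Int.cast_one]
  · intro g t hg
    have hg' : (g : GL D.Idx F) = xGL D hD r t := Units.ext (by rw [hg, xGL_val])
    rw [hconj g, hg', conj_rootGL D hD L tab tab' pd r hr, xGL_val, permRoot_eq D π L hπ]

end

end Cfsg.Agent.Lib.Helper7.ChevPerm
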