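import Cfsg.Agent.Lib.Helper7.ChevPerf
import Cfsg.Agent.Lib.Helper7.W0All

set_option autoImplicit false
set_option maxHeartbeats 400000

namespace Cfsg.Agent.Lib.Helper7.ChevRel
open Cfsg.Lie Cfsg.Agent.Lib.Helper7.ChevEngine Cfsg.Agent.Lib.Helper7.ChevN
  Cfsg.Agent.Lib.Helper7.ChevConjT Cfsg.Agent.Lib.Helper7.ChevConjU Cfsg.Agent.Lib.Helper7.ChevAdd
  Cfsg.Agent.Lib.Helper7.ChevHAll Cfsg.Agent.Lib.Helper7.HBaseAll Cfsg.Agent.Lib.Helper7.ChevTorus
  Cfsg.Agent.Lib.Helper7.ChevBN Cfsg.Agent.Lib.Helper7.ChevGen Cfsg.Agent.Lib.Helper7.ChevOrb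
  Cfsg.Agent.Lib.Helper7.ChevW0 Cfsg.Agent.Lib.Helper7.ChevComm

def relWordL (a b : ℕ) : List (ℕ × Poly) := [(a, [(1, 1, 0)]), (b, [(1, 0, 1)]), (a, [(-1, 1, 0)])]

def relCheck (D : ChevalleyDatum) (a b : ℕ) (R : List (ℕ × Poly)) : Bool :=
  (List.range (D.rank + D.nroots)).all fun k =>
    eqCheck D.rank D.nroots (fnsOf D) false (relWordL a b) ((b, [(1, 0, 1)]) :: R) k

section
variable {F : Type*} [Field F]

def Rel (F : Type*) [Field F] (D : ChevalleyDatum)
    (hD : D ∈ [chevG2, chevB2, chevD4, chevF4, chevE6, chevE7, chevE8]) (a b : ℕ) (cs : List ℕ) : Prop :=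
  ∀ u t : F, ∃ w : List (ℕ × F), (∀ q ∈ w, q.1 ∈ cs) ∧
    xGL D hD a u * xGL D hD b t * xGL D hD a (-u) = xGL D hD b t * wordGL D hD w

theorem rel_of_check (D : ChevalleyDatum) (hD : D ∈ [chevG2, chevB2, chevD4, chevF4, chevE6, chevE7, chevE8])
    (a b : ℕ) (R : List (ℕ × Poly)) (h : relCheck D a b R = true) : Rel F D hD a b (R.map Prod.fst) := by
  intro u t
  refine ⟨R.map fun x => (x.1, eval u t x.2), ?_, ?_⟩
  · intro q hq
    rw [List.mem_map] at hq ⊢
    obtain ⟨x, hx, rfl⟩ := hq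
    exact ⟨x, hx, rfl⟩
  · have h1 := eqCheck_sound D.rank D.nroots (fnsOf D) false u t (fun hf => by simp at hf) (relWordL a b)
      ((b, [(1, 0, 1)]) :: R)
      (fun k hk => by
        unfold relCheck at h
        rw [List.all_eq_true] at h
        exact h k (List.mem_range.mpr hk))
    apply Units.ext
    rw [Units.val_mul, Units.val_mul, Units.val_mul, xGL_val, xGL_val, xGL_val, wordGL_val, wordMat_eq,
      x_eq, x_eq, x_eq]
    simp only [relWordL, wM, List.map_cons, List.map_nil, List.prod_cons, List.prod_nil, mul_one,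
      eval_cons, eval_nil, evalM, Int.cast_one, Int.cast_neg, one_mul, pow_one, pow_zero, add_zero, neg_mul]
      at h1
    rw [mul_assoc]
    exact h1

theorem wordGL_cons (D : ChevalleyDatum) (hD : D ∈ [chevG2, chevB2, chevD4, chevF4, chevE6, chevE7, chevE8])
    (q : ℕ × F) (w : List (ℕ × F)) : wordGL D hD (q :: w) = xGL D hD q.1 q.2 * wordGL D hD w := by
  unfold wordGL
  rw [List.map_cons, List.prod_cons]

theorem wordGL_nil (D : ChevalleyDatum) (hD : D ∈ [chevG2, chevB2, chevD4, chevF4, chevE6, chevE7, chevE8]) :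
    wordGL (F := F) D hD [] = 1 := rfl

theorem word_conj (D : ChevalleyDatum) (hD : D ∈ [chevG2, chevB2, chevD4, chevF4, chevE6, chevE7, chevE8])
    (is : List ℕ) (his : ∀ i ∈ is, i < D.rank) (cs : List ℕ) (hcs : ∀ c ∈ cs, c < D.nroots)
    (w : List (ℕ × F)) (hw : ∀ q ∈ w, q.1 ∈ cs) :
    ∃ w' : List (ℕ × F), (∀ q ∈ w', q.1 ∈ cs.map (wAct D is)) ∧
      nWordGL D hD is * wordGL D hD w = wordGL D hD w' * nWordGL D hD is := by
  induction w with
  | nil => exact ⟨[], by simp, by rw [wordGL_nil, mul_one, one_mul]⟩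
  | cons q w ih =>
    obtain ⟨w', hw', e⟩ := ih (fun q' hq' => hw q' (List.mem_cons_of_mem _ hq'))
    have hq := hw q (by simp)
    obtain ⟨-, ε, -, hc⟩ := conj_word (F := F) D hD is his q.1 (hcs _ hq)
    refine ⟨(wAct D is q.1, ε * q.2) :: w', ?_, ?_⟩
    · intro q' hq'
      rcases List.mem_cons.mp hq' with rfl | h
      · exact List.mem_map_of_mem hq
      · exact hw' q' h
    · rw [wordGL_cons, wordGL_cons, ← mul_assoc, hc, mul_assoc, e, mul_assoc]

theorem rel_conj (D : ChevalleyDatum) (hD : D ∈ [chevG2, chevB2, chevD4, chevF4, chevE6, chevE7, chevE8])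
    (is : List ℕ) (his : ∀ i ∈ is, i < D.rank) (a b : ℕ) (ha : a < D.nroots) (hb : b < D.nroots)
    (cs : List ℕ) (hcs : ∀ c ∈ cs, c < D.nroots) (h : Rel F D hD a b cs) :
    Rel F D hD (wAct D is a) (wAct D is b) (cs.map (wAct D is)) := by
  obtain ⟨-, εa, hεa, hca⟩ := conj_word (F := F) D hD is his a ha
  obtain ⟨-, εb, hεb, hcb⟩ := conj_word (F := F) D hD is his b hb
  intro u t
  obtain ⟨w, hw, e⟩ := h (εa * u) (εb * t)
  obtain ⟨w', hw', e'⟩ := word_conj D hD is his cs hcs w hw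
  refine ⟨w', hw', ?_⟩
  have ea : εa * (εa * u) = u := by
    rcases hεa with rfl | rfl <;> simp
  have eb : εb * (εb * t) = t := by
    rcases hεb with rfl | rfl <;> simp
  have ea' : εa * -(εa * u) = -u := by rw [mul_neg, ea]
  have hA1 : xGL D hD (wAct D is a) u = nWordGL D hD is * xGL D hD a (εa * u) * (nWordGL D hD is)⁻¹ := by
    rw [hca, ea, mul_inv_cancel_right]
  have hA2 : xGL D hD (wAct D is a) (-u) =
      nWordGL D hD is * xGL D hD a (-(εa * u)) * (nWordGL D hD is)⁻¹ := by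
    rw [hca, ea', mul_inv_cancel_right]
  have hB : xGL D hD (wAct D is b) t = nWordGL D hD is * xGL D hD b (εb * t) * (nWordGL D hD is)⁻¹ := by
    rw [hcb, eb, mul_inv_cancel_right]
  have hW : wordGL D hD w' = nWordGL D hD is * wordGL D hD w * (nWordGL D hD is)⁻¹ := by
    rw [e', mul_inv_cancel_right]
  rw [hA1, hA2, hB, hW, conj_mul, conj_mul, conj_mul, e]

def Up (F : Type*) [Field F] (D : ChevalleyDatum) (p : ℕ) : Subgroup (GL D.Idx F) :=
  Subgroup.closure {g : GL D.Idx F | ∃ (s : ℕ) (t : F), D.IsPosRoot s ∧ s ≠ p ∧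
    (g : Matrix D.Idx D.Idx F) = D.x F s t}

theorem xGL_mem_Up (D : ChevalleyDatum) (hD : D ∈ [chevG2, chevB2, chevD4, chevF4, chevE6, chevE7, chevE8])
    (p s : ℕ) (hs : D.IsPosRoot s) (hsp : s ≠ p) (t : F) : xGL D hD s t ∈ Up F D p :=
  Subgroup.subset_closure ⟨s, t, hs, hsp, xGL_val D hD s t⟩

def decodeW : ℕ → ℕ → List ℕ
  | 0, _ => []
  | f + 1, n => if n = 0 then [] else (n % 16 - 1) :: decodeW f (n / 16)

def entryCheck (D : ChevalleyDatum) (Wtab : List ℕ) (p a r a0 b0 : ℕ) (cs : List ℕ) (is : List ℕ) : Bool :=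
  is.all (fun i => decide (i < D.rank)) && decide (a0 < D.nroots) && decide (b0 < D.nroots) &&
  cs.all (fun c => decide (c < D.nroots)) &&
  decide (wActP Wtab is a0 = a) && decide (wActP Wtab is b0 = r) &&
  cs.all (fun c => decide (D.IsPosRoot (wActP Wtab is c)) && decide (wActP Wtab is c ≠ p))

theorem mem_of_entry (D : ChevalleyDatum) (hD : D ∈ [chevG2, chevB2, chevD4, chevF4, chevE6, chevE7, chevE8])
    (Wtab : List ℕ) (hW : WtabOk D Wtab) (p a r a0 b0 : ℕ) (cs : List ℕ) (is : List ℕ)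
    (hrel : Rel F D hD a0 b0 cs) (h : entryCheck D Wtab p a r a0 b0 cs is = true)
    (hr : D.IsPosRoot r) (hrp : r ≠ p) (u t : F) :
    xGL D hD a u * xGL D hD r t * xGL D hD a (-u) ∈ Up F D p := by
  unfold entryCheck at h
  simp only [Bool.and_eq_true, List.all_eq_true, decide_eq_true_eq] at h
  obtain ⟨⟨⟨⟨⟨⟨his, ha0⟩, hb0⟩, hcs⟩, hwa⟩, hwb⟩, hpos⟩ := h
  have h1 := rel_conj D hD is his a0 b0 ha0 hb0 cs hcs hrel
  rw [(wAct_eq D hD Wtab hW is his a0 ha0).1, (wAct_eq D hD Wtab hW is his b0 hb0).1, hwa, hwb] at h1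
  obtain ⟨w, hw, e⟩ := h1 u t
  rw [e]
  apply mul_mem (xGL_mem_Up D hD p r hr hrp t)
  apply wordGL_mem_of
  intro q hq
  have hq1 := hw q hq
  rw [List.mem_map] at hq1
  obtain ⟨c, hc, hcq⟩ := hq1
  rw [(wAct_eq D hD Wtab hW is his c (hcs c hc)).1] at hcq
  have h2 := hpos c hc
  rw [hcq] at h2
  exact xGL_mem_Up D hD p q.1 h2.1 h2.2 q.2

def normCheck (D : ChevalleyDatum) (Wtab : List ℕ) (bases : List (ℕ × ℕ × List ℕ)) (p a : ℕ)
    (cert : List (ℕ × ℕ)) : Bool :=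
  (List.range D.nroots).all fun r =>
    !decide (D.IsPosRoot r) || decide (r = p) ||
      (match bases[(cert.getD r (0, 0)).1]? with
        | some bs => entryCheck D Wtab p a r bs.1 bs.2.1 bs.2.2 (decodeW 64 (cert.getD r (0, 0)).2)
        | none => false)

theorem norm_of_check (D : ChevalleyDatum) (hD : D ∈ [chevG2, chevB2, chevD4, chevF4, chevE6, chevE7, chevE8])
    (Wtab : List ℕ) (hW : WtabOk D Wtab) (bases : List (ℕ × ℕ × List ℕ))
    (hbases : ∀ bs ∈ bases, Rel F D hD bs.1 bs.2.1 bs.2.2) (p a : ℕ) (cert : List (ℕ × ℕ))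
    (h : normCheck D Wtab bases p a cert = true) (r : ℕ) (hr : D.IsPosRoot r) (hrp : r ≠ p) (u t : F) :
    xGL D hD a u * xGL D hD r t * xGL D hD a (-u) ∈ Up F D p := by
  unfold normCheck at h
  rw [List.all_eq_true] at h
  have h1 := h r (List.mem_range.mpr hr.1)
  simp only [Bool.or_eq_true, Bool.not_eq_true', decide_eq_false_iff_not, decide_eq_true_eq] at h1
  rcases h1 with (h1 | h1) | h1
  · exact absurd hr h1
  · exact absurd h1 hrp
  · cases hb : bases[(cert.getD r (0, 0)).1]? with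
    | none =>
      rw [hb] at h1
      exact absurd h1 (by simp)
    | some bs =>
      rw [hb] at h1
      exact mem_of_entry D hD Wtab hW p a r bs.1 bs.2.1 bs.2.2 _ (hbases bs (List.mem_of_getElem? hb)) h1 hr hrp u t

theorem conj_mem_Up (D : ChevalleyDatum) (hD : D ∈ [chevG2, chevB2, chevD4, chevF4, chevE6, chevE7, chevE8])
    (p a : ℕ) (hgen : ∀ r, D.IsPosRoot r → r ≠ p → ∀ u t : F,
      xGL D hD a u * xGL D hD r t * xGL D hD a (-u) ∈ Up F D p)
    (u : F) (g : GL D.Idx F) (hg : g ∈ Up F D p) : xGL D hD a u * g * (xGL D hD a u)⁻¹ ∈ Up F D p := by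
  unfold Up at hg
  induction hg using Subgroup.closure_induction with
  | mem x hx =>
    obtain ⟨s, t, hs, hsp, hx⟩ := hx
    have : x = xGL D hD s t := Units.ext (by rw [hx, xGL_val])
    rw [this, ← Cfsg.Agent.Lib.Helper7.ChevPerf.xGL_neg]
    exact hgen s hs hsp u t
  | one =>
    rw [mul_one, mul_inv_cancel]
    exact one_mem _
  | mul x y _ _ ihx ihy =>
    rw [← conj_mul]
    exact mul_mem ihx ihy
  | inv x _ ih =>
    rw [← conj_inv]
    exact inv_mem ih

end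

end Cfsg.Agent.Lib.Helper7.ChevRel
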