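import Cfsg.Agent.Lib.Helper7.ChevBNP
import Cfsg.Agent.S0319
import Cfsg.Agent.S1052

set_option autoImplicit false
set_option maxHeartbeats 400000
set_option maxRecDepth 1000000

namespace Cfsg.Agent.Lib.Helper7.ChevSimple
open Cfsg.Lie Cfsg.Agent.Lib.Helper7.ChevEngine Cfsg.Agent.Lib.Helper7.ChevN
  Cfsg.Agent.Lib.Helper7.ChevConj
  Cfsg.Agent.Lib.Helper7.ChevConjT Cfsg.Agent.Lib.Helper7.ChevConjU Cfsg.Agent.Lib.Helper7.ChevAdd
  Cfsg.Agent.Lib.Helper7.ChevHAll Cfsg.Agent.Lib.Helper7.HBaseAll Cfsg.Agent.Lib.Helper7.ChevTorus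
  Cfsg.Agent.Lib.Helper7.ChevBN Cfsg.Agent.Lib.Helper7.ChevGen Cfsg.Agent.Lib.Helper7.ChevOrb
  Cfsg.Agent.Lib.Helper7.ChevW0 Cfsg.Agent.Lib.Helper7.ChevComm Cfsg.Agent.Lib.Helper7.ChevPerf
  Cfsg.Agent.Lib.Helper7.ChevRel Cfsg.Agent.Lib.Helper7.Shift Cfsg.Agent.Lib.Helper7.Tri2
  Cfsg.Agent.Lib.Helper7.ChevTri Cfsg.Agent.Lib.Helper7.ChevTriNeg Cfsg.Agent.Lib.Helper7.ChevNW
  Cfsg.Agent.Lib.Helper7.W0All Cfsg.Agent.Lib.Helper7.ChevExch Cfsg.Agent.Lib.Helper7.RelAll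
  Cfsg.Agent.Lib.Helper7.ChevBN3 Cfsg.Agent.Lib.Helper7.ChevBNP

def edgeCheck (D : ChevalleyDatum) (E : List (ℕ × ℕ)) : Bool :=
  E.all fun e => decide (e.1 < D.rank) && decide (e.2 < D.rank) &&
    decide (wAct D [e.1, e.2, e.1, e.2] (D.simple e.1) ≠ D.simple e.1)

section
variable {F : Type*} [Field F]

theorem core_le_H (D : ChevalleyDatum) (hD : D ∈ [chevG2, chevB2, chevD4, chevF4, chevE6, chevE7, chevE8])
    (x : ↥(D.group F)) (hx : x ∈ (bB F D).normalCore) : (x : GL D.Idx F) ∈ D.diagonalSubgroup F := by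
  obtain ⟨n, hnN, hmap⟩ := exists_w0_of_mem (F := F) D hD
  obtain ⟨hBG, hNG, -⟩ := Cfsg.Agent.S1043.result (F := F) D hD
  have h1' : x ∈ bB F D := Subgroup.normalCore_le (bB F D) hx
  have h1 : (x : GL D.Idx F) ∈ D.borelSubgroup F := h1'
  have h2 := hx (⟨n, hNG hnN⟩ : ↥(D.group F))⁻¹
  have h2' : n⁻¹ * (x : GL D.Idx F) * n⁻¹⁻¹ ∈ D.borelSubgroup F := h2
  obtain ⟨u, hu, h, hh, e⟩ := B_decomp D hD _ h2'
  have ex : (x : GL D.Idx F) = (n * u * n⁻¹) * (n * h * n⁻¹) := by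
    rw [conj_mul, ← e]
    group
  have hv : n * u * n⁻¹ ∈ D.negUnipotent F := by
    rw [← hmap]
    exact ⟨u, hu, rfl⟩
  have hh' := N_conj_H D hD n hnN h hh
  have h3 : (x : GL D.Idx F) ∈ D.negUnipotent F ⊔ D.diagonalSubgroup F := by
    rw [ex]
    exact Subgroup.mul_mem_sup hv hh'
  rw [← (Cfsg.Agent.S1037.result (F := F) D hD).2]
  exact Subgroup.mem_inf.mpr ⟨h1, h3⟩

theorem root_inter_H (D : ChevalleyDatum) (hD : D ∈ [chevG2, chevB2, chevD4, chevF4, chevE6, chevE7, chevE8])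
    (r : ℕ) (hr : r < D.nroots) (s : F) (h : xGL D hD r s ∈ D.diagonalSubgroup F) : s = 0 := by
  have sd := signData_of_mem D hD
  have hnlt := neg_lt D hD r hr
  by_contra hs
  rcases sd.pos_or_neg r hr with hp | hn
  · have h1 : xGL D hD r s ∈ D.posUnipotent F ⊓ D.diagonalSubgroup F :=
      Subgroup.mem_inf.mpr ⟨xGL_mem_U D hD r hp s, h⟩
    rw [(Cfsg.Agent.S1036.result (F := F) D hD).2, Subgroup.mem_bot] at h1
    refine xGL_ne_one D hD r hr hnlt ?_ s hs h1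
    intro he
    have hn' := (sd.neg_iff r hr).mp hp
    rw [he] at hn'
    exact sd.not_both r hp hn'
  · have h1 : xGL D hD r s ∈ D.negUnipotent F :=
      Subgroup.subset_closure ⟨r, s, hn, xGL_val D hD r s⟩
    have h2 := Cfsg.Agent.S1037.inter_bot D hD _ (H_le_B D h) h1
    refine xGL_ne_one D hD r hr hnlt ?_ s hs h2
    intro he
    have hp' := neg_pos D hD r hn
    rw [he] at hp'
    exact sd.not_both r hp' hn

theorem core_eq_bot (D : ChevalleyDatum) (hD : D ∈ [chevG2, chevB2, chevD4, chevF4, chevE6, chevE7, chevE8]) :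
    (bB F D).normalCore = ⊥ := by
  rw [eq_bot_iff]
  intro x hx
  rw [Subgroup.mem_bot]
  have hH := core_le_H D hD x hx
  obtain ⟨c, hc⟩ := diagonalSubgroup_le_torus D hD hH
  have hinv := inv_val_of_charDiag D _ _ hc
  have hnorm : (bB F D).normalCore.Normal := inferInstance
  have key : ∀ r < D.nroots, ((torusChi D c r : Fˣ) : F) = 1 := by
    intro r hr
    have hg : xGL D hD r (-1 : F) ∈ D.group F := xGL_mem_group D hD _ _
    have h1 := hnorm.conj_mem x hx (⟨xGL D hD r (-1), hg⟩ : ↥(D.group F))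
    have h2 := core_le_H D hD _ h1
    have h3 : xGL D hD r (-1 : F) * (x : GL D.Idx F) * (xGL D hD r (-1 : F))⁻¹ ∈ D.diagonalSubgroup F := h2
    have h4 := mul_mem h3 (inv_mem hH)
    have e : xGL D hD r (-1 : F) * (x : GL D.Idx F) * (xGL D hD r (-1 : F))⁻¹ * (x : GL D.Idx F)⁻¹ =
        xGL D hD r (((torusChi D c r : Fˣ) : F) - 1) := by
      have e1 : (x : GL D.Idx F) * xGL D hD r (1 : F) * (x : GL D.Idx F)⁻¹ =
          xGL D hD r (((torusChi D c r : Fˣ) : F) * 1) := by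
        apply Units.ext
        rw [Units.val_mul, Units.val_mul, hinv, hc, xGL_val, xGL_val]
        exact Cfsg.Agent.S2157.result D hD _ (torusChi_root D hD c) r hr 1
      have e2 : xGL D hD r (-1 : F) * (x : GL D.Idx F) * (xGL D hD r (-1 : F))⁻¹ * (x : GL D.Idx F)⁻¹ =
          xGL D hD r (-1 : F) * ((x : GL D.Idx F) * xGL D hD r (1 : F) * (x : GL D.Idx F)⁻¹) := by
        rw [xGL_neg, inv_inv]
        group
      rw [e2, e1, xGL_add, mul_one]
      congr 1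
      ring
    rw [e] at h4
    have h5 := root_inter_H D hD r hr _ h4
    exact sub_eq_zero.mp h5
  apply Subtype.ext
  apply Units.ext
  rw [hc]
  unfold ChevalleyDatum.charDiag
  change _ = (1 : Matrix D.Idx D.Idx F)
  rw [← Matrix.diagonal_one]
  congr 1
  funext idx
  rcases idx with i | s
  · rfl
  · exact key s.val s.isLt

theorem comm_not_mem (D : ChevalleyDatum) (hD : D ∈ [chevG2, chevB2, chevD4, chevF4, chevE6, chevE7, chevE8])
    (a b : ℕ) (ha : a < D.rank) (hb : b < D.rank)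
    (hne : wAct D [a, b, a, b] (D.simple a) ≠ D.simple a) :
    nI (F := F) D hD a * nI D hD b * (nI D hD a)⁻¹ * (nI D hD b)⁻¹ ∉ D.borelSubgroup F := by
  intro hB
  obtain ⟨hC, -, -⟩ := all_of_mem D hD
  have hN : nI (F := F) D hD a * nI D hD b * (nI D hD a)⁻¹ * (nI D hD b)⁻¹ ∈ D.monomialSubgroup F :=
    Subgroup.mul_mem _ (Subgroup.mul_mem _ (Subgroup.mul_mem _ (nI_mem_mono D hD a ha) (nI_mem_mono D hD b hb))
      (Subgroup.inv_mem _ (nI_mem_mono D hD a ha))) (Subgroup.inv_mem _ (nI_mem_mono D hD b hb))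
  have hH : nI (F := F) D hD a * nI D hD b * (nI D hD a)⁻¹ * (nI D hD b)⁻¹ ∈ D.diagonalSubgroup F := by
    rw [← borel_inf_mono D hD]
    exact Subgroup.mem_inf.mpr ⟨hB, hN⟩
  have e : nWordGL (F := F) D hD [a, b, a, b] =
      (nI D hD a * nI D hD b * (nI D hD a)⁻¹ * (nI D hD b)⁻¹) *
        (nI D hD b * (nI D hD a * nI D hD a) * (nI D hD b)⁻¹) * (nI D hD b * nI D hD b) := by
    rw [nWordGL_cons, nWordGL_cons, nWordGL_cons, nWordGL_cons, nWordGL_nil]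
    group
  have hW : nWordGL (F := F) D hD [a, b, a, b] ∈ D.diagonalSubgroup F := by
    rw [e]
    exact mul_mem (mul_mem hH (nI_conj_H D hD b hb _ (nI_sq_mem D hD a ha))) (nI_sq_mem D hD b hb)
  have hT : nWordGL (F := F) D hD [a, b, a, b] ∈ TG (R := F) (bfun D.rank D.nroots) :=
    Cfsg.Agent.S1050.torus_le_TG D (diagonalSubgroup_le_torus D hD hW)
  have his : ∀ i ∈ [a, b, a, b], i < D.rank := by
    intro i hi
    simp only [List.mem_cons, List.not_mem_nil, or_false] at hi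
    rcases hi with rfl | rfl | rfl | rfl <;> assumption
  exact hne (perm_of_TG D hD [a, b, a, b] his hT (D.simple a) (simple_lt D hC a ha))

theorem comm_coe {G : Type*} [Group G] (K H : Subgroup G) (a b : G) (ha : a ∈ K) (hb : b ∈ K)
    (h : (⟨a, ha⟩ : ↥K) * ⟨b, hb⟩ * (⟨a, ha⟩ : ↥K)⁻¹ * (⟨b, hb⟩ : ↥K)⁻¹ ∈ H.subgroupOf K) :
    a * b * a⁻¹ * b⁻¹ ∈ H := by
  rw [Subgroup.mem_subgroupOf, Subgroup.coe_mul, Subgroup.coe_mul, Subgroup.coe_mul, Subgroup.coe_inv,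
    Subgroup.coe_inv] at h
  exact h

theorem irreducible_of (D : ChevalleyDatum) (hD : D ∈ [chevG2, chevB2, chevD4, chevF4, chevE6, chevE7, chevE8])
    (E : List (ℕ × ℕ)) (hE : edgeCheck D E = true)
    (hconn : ∀ f : ℕ → Prop, (∀ e ∈ E, (f e.1 ↔ f e.2)) → ∀ a < D.rank, ∀ b < D.rank, (f a ↔ f b)) :
    (bnPair F D hD).Irreducible := by
  intro J hJS hJne hSJne
  obtain ⟨s, hsJ⟩ := hJne
  have hsS : s ∈ bS F D := hJS hsJ
  obtain ⟨a, ha, hsa⟩ := hsS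
  obtain ⟨s', hs'S, hs'J⟩ := hSJne
  have hs'S' : s' ∈ bS F D := hs'S
  obtain ⟨b, hb, hsb⟩ := hs'S'
  have hse : s = (⟨nI D hD a, nI_mem_group D hD a⟩ : ↥(D.group F)) :=
    Subtype.ext (Units.ext (by rw [hsa]; exact (nI_val D hD a).symm))
  have hse' : s' = (⟨nI D hD b, nI_mem_group D hD b⟩ : ↥(D.group F)) :=
    Subtype.ext (Units.ext (by rw [hsb]; exact (nI_val D hD b).symm))
  by_contra hcon
  have hcon' : ∀ x ∈ J, ∀ y : ↥(D.group F), y ∈ bS F D → y ∉ J → x * y * x⁻¹ * y⁻¹ ∈ bB F D := by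
    intro x hx y hy hyJ
    by_contra h
    exact hcon ⟨x, hx, y, ⟨hy, hyJ⟩, h⟩
  have hmemS : ∀ i < D.rank, (⟨nI D hD i, nI_mem_group D hD i⟩ : ↥(D.group F)) ∈ bS F D :=
    fun i hi => ⟨i, hi, nI_val D hD i⟩
  have hiff : ∀ e ∈ E, (((⟨nI D hD e.1, nI_mem_group D hD e.1⟩ : ↥(D.group F)) ∈ J) ↔
      ((⟨nI D hD e.2, nI_mem_group D hD e.2⟩ : ↥(D.group F)) ∈ J)) := by
    intro e he
    unfold edgeCheck at hE
    rw [List.all_eq_true] at hE
    have h1 := hE e he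
    simp only [Bool.and_eq_true, decide_eq_true_eq] at h1
    obtain ⟨⟨h1a, h1b⟩, h1c⟩ := h1
    have hnot := comm_not_mem (F := F) D hD e.1 e.2 h1a h1b h1c
    by_contra hni
    have hx := not_iff.mp hni
    by_cases h1 : (⟨nI D hD e.1, nI_mem_group D hD e.1⟩ : ↥(D.group F)) ∈ J
    · have h2 : ¬ ((⟨nI D hD e.2, nI_mem_group D hD e.2⟩ : ↥(D.group F)) ∈ J) := fun h2 => (hx.mpr h2) h1
      have h3 := hcon' _ h1 _ (hmemS e.2 h1b) h2
      exact hnot (comm_coe (D.group F) (D.borelSubgroup F) _ _ _ _ h3)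
    · have h2 := hx.mp h1
      have h3 := hcon' _ h2 _ (hmemS e.1 h1a) h1
      have h4 := comm_coe (D.group F) (D.borelSubgroup F) _ _ _ _ h3
      have h5 := inv_mem h4
      have e5 : (nI (F := F) D hD e.2 * nI D hD e.1 * (nI D hD e.2)⁻¹ * (nI D hD e.1)⁻¹)⁻¹ =
          nI D hD e.1 * nI D hD e.2 * (nI D hD e.1)⁻¹ * (nI D hD e.2)⁻¹ := by group
      rw [e5] at h5
      exact hnot h5
  have h := hconn (fun i => (⟨nI D hD i, nI_mem_group D hD i⟩ : ↥(D.group F)) ∈ J) hiff a ha b hb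
  rw [← hse, ← hse'] at h
  exact hs'J (h.mp hsJ)

end

end Cfsg.Agent.Lib.Helper7.ChevSimple
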