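import Cfsg.Agent.Lib.Helper7.ChevPerm
import Cfsg.Agent.Lib.Helper7.ChevSimple
import Cfsg.Agent.Lib.Helper7.ChevBNP
import Cfsg.Agent.Lib.Helper2.BNPar
import Cfsg.Agent.S1037

set_option autoImplicit false

namespace Cfsg.Agent.Lib.Helper7.ChevSpec
open Cfsg.Lie Cfsg.Agent.Lib.Helper7.ChevEngine Cfsg.Agent.Lib.Helper7.ChevTorus
  Cfsg.Agent.Lib.Helper7.ChevGen Cfsg.Agent.Lib.Helper7.ChevPerm Cfsg.Agent.Lib.Helper7.ChevNW
  Cfsg.Agent.Lib.Helper7.ChevBNP Cfsg.Agent.Lib.Helper7.ChevSimple Cfsg.Agent.Lib.Helper7.Shift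
  Cfsg.Agent.Lib.Helper7.Tri2 Cfsg.Agent.Lib.Helper7.ChevTri

section
variable {F : Type*} [Field F]

def zeroM (p : ℤ) (q : Poly) : Bool := q.all fun m => m.1 % p == 0

def zeroP (p : ℤ) (v : SVec) : Bool := v.all fun x => zeroM p x.2

theorem eval_zeroM (p : ℤ) (hp : ((p : ℤ) : F) = 0) (a b : F) (q : Poly) (h : zeroM p q = true) :
    eval a b q = 0 := by
  induction q with
  | nil => rfl
  | cons m q ih =>
    unfold zeroM at h
    rw [List.all_cons, Bool.and_eq_true, beq_iff_eq] at h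
    rw [eval_cons, ih h.2, add_zero]
    obtain ⟨c, hc⟩ := Int.dvd_of_emod_eq_zero h.1
    unfold evalM
    rw [hc, Int.cast_mul, hp, zero_mul, zero_mul, zero_mul]

theorem evalV_zeroP (p : ℤ) (hp : ((p : ℤ) : F) = 0) (l n : ℕ) (a b : F) (v : SVec)
    (h : zeroP p v = true) : evalV l n a b v = 0 := by
  induction v with
  | nil => rfl
  | cons x v ih =>
    unfold zeroP at h
    rw [List.all_cons, Bool.and_eq_true] at h
    rw [evalV_cons, ih h.2, add_zero, eval_zeroM p hp a b x.2 h.1, zero_smul]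

theorem evalV_eq_of_zeroP (p : ℤ) (hp : ((p : ℤ) : F) = 0) (l n : ℕ) (a b : F) (v w : SVec)
    (h : zeroP p (normV (v ++ negV w)) = true) : evalV l n a b v = evalV l n a b w := by
  have h2 := evalV_normV l n a b (v ++ negV w)
  rw [evalV_zeroP p hp l n a b _ h, evalV_append, evalV_negV] at h2
  have h3 : evalV l n a b v - evalV l n a b w = 0 := by
    rw [sub_eq_add_neg]
    exact h2.symm
  exact sub_eq_zero.mp h3

def pcCheckP (p : ℤ) (l n : ℕ) (A : Fns) (tab : List (ℕ × ℤ)) (w w' : List (ℕ × Poly)) (k : ℕ) : Bool :=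
  zeroP p (normV (permV (l + n) tab (applyWord l n A false w [(k, one)]) ++
    negV (applyWord l n A false w' (permV (l + n) tab [(k, one)]))))

theorem pcCheckP_sound (p : ℤ) (hp : ((p : ℤ) : F) = 0) (l n : ℕ) (A : Fns) (a b : F)
    (tab : List (ℕ × ℤ)) (w w' : List (ℕ × Poly))
    (h : ∀ k < l + n, pcCheckP p l n A tab w w' k = true) :
    Pmat l n F tab * wM l n A F (w.map fun x => (x.1, eval a b x.2)) =
      wM l n A F (w'.map fun x => (x.1, eval a b x.2)) * Pmat l n F tab := by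
  apply matrix_ext_bvec
  intro k hk
  rw [← Matrix.mulVec_mulVec, ← Matrix.mulVec_mulVec]
  rw [bvec_eq_evalV l n a b k, applyWord_sound l n A false a b (by simp), ← evalV_permV, ← evalV_permV,
    applyWord_sound l n A false a b (by simp)]
  exact evalV_eq_of_zeroP p hp l n a b _ _ (h k hk)

def rootCheckP (p : ℤ) (l n : ℕ) (A : Fns) (tab : List (ℕ × ℤ)) (r r' lam k : ℕ) : Bool :=
  pcCheckP p l n A tab [(r, [(1, 1, 0)])] [(r', [(1, lam, 0)])] k

theorem root_conjP (p : ℤ) (hp : ((p : ℤ) : F) = 0) (l n : ℕ) (A : Fns) (tab : List (ℕ × ℤ))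
    (r r' lam : ℕ) (h : ∀ k < l + n, rootCheckP p l n A tab r r' lam k = true) (t : F) :
    Pmat l n F tab * xx l n A F r t = xx l n A F r' (t ^ lam) * Pmat l n F tab := by
  have := pcCheckP_sound p hp l n A t 1 tab _ _ h
  simpa [wM, eval, evalM] using this

def mulChk (m : ℕ) (a b c : List (ℕ × ℤ)) : Bool :=
  (List.range m).all fun k =>
    ((tl m b k).2 == 0 && (tl m c k).2 == 0) ||
    ((tl m a (tl m b k).1).1 == (tl m c k).1 && ((tl m b k).2 * (tl m a (tl m b k).1).2 == (tl m c k).2))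

theorem Pmat_mul (l n : ℕ) (a b c : List (ℕ × ℤ)) (h : mulChk (l + n) a b c = true) :
    Pmat l n F a * Pmat l n F b = Pmat l n F c := by
  apply matrix_ext_bvec
  intro k hk
  unfold mulChk at h
  rw [List.all_eq_true] at h
  have hk' := h k (List.mem_range.mpr hk)
  rw [← Matrix.mulVec_mulVec, Pmat_mulVec_bvec, Matrix.mulVec_smul, Pmat_mulVec_bvec, Pmat_mulVec_bvec,
    smul_smul]
  rw [Bool.or_eq_true] at hk'
  rcases hk' with h1 | h1
  · rw [Bool.and_eq_true, beq_iff_eq, beq_iff_eq] at h1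
    rw [h1.1, h1.2, Int.cast_zero, zero_mul, zero_smul, zero_smul]
  · rw [Bool.and_eq_true, beq_iff_eq, beq_iff_eq] at h1
    rw [h1.1, ← Int.cast_mul, h1.2]

def diagChk (m : ℕ) (tE : List (ℕ × ℤ)) : Bool :=
  (List.range m).all fun k => (tl m tE k == (k, 1)) || ((tl m tE k).2 == 0)

theorem E_row (l n : ℕ) (tE : List (ℕ × ℤ)) (h : diagChk (l + n) tE = true) (u : Ix l n)
    (hu : tl (l + n) tE (code u) = (code u, 1)) (M : Matrix (Ix l n) (Ix l n) F) (j : Ix l n) :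
    (Pmat l n F tE * M) u j = M u j := by
  rw [Matrix.mul_apply, Finset.sum_eq_single u]
  · simp only [Pmat, Matrix.of_apply, hu, if_true, Int.cast_one, one_mul]
  · intro k _ hk
    unfold diagChk at h
    rw [List.all_eq_true] at h
    have hk' := h (code k) (List.mem_range.mpr (code_lt k))
    rw [Bool.or_eq_true, beq_iff_eq, beq_iff_eq] at hk'
    simp only [Pmat, Matrix.of_apply]
    rcases hk' with h1 | h1
    · rw [h1, if_neg, zero_mul]
      intro hc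
      exact hk (code_injective hc).symm
    · rw [h1, Int.cast_zero, ite_self, zero_mul]
  · intro hn
    exact absurd (Finset.mem_univ u) hn

def PM (D : ChevalleyDatum) (F : Type*) [Field F] (tab : List (ℕ × ℤ)) : Matrix D.Idx D.Idx F :=
  Pmat D.rank D.nroots F tab

def Gam (D : ChevalleyDatum) (F : Type*) [Field F] (tP : List (ℕ × ℤ)) :
    Subgroup (GL D.Idx F × GL D.Idx F) where
  carrier := {x | x.1 ∈ D.group F ∧ x.2 ∈ D.group F ∧
    PM D F tP * (x.1 : Matrix D.Idx D.Idx F) = (x.2 : Matrix D.Idx D.Idx F) * PM D F tP}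
  mul_mem' := by
    rintro a b ⟨ha1, ha2, ha⟩ ⟨hb1, hb2, hb⟩
    refine ⟨mul_mem ha1 hb1, mul_mem ha2 hb2, ?_⟩
    rw [Prod.fst_mul, Prod.snd_mul, Units.val_mul, Units.val_mul, ← mul_assoc, ha, mul_assoc, hb, mul_assoc]
  one_mem' := ⟨one_mem _, one_mem _, by simp⟩
  inv_mem' := by
    rintro a ⟨ha1, ha2, ha⟩
    refine ⟨inv_mem ha1, inv_mem ha2, ?_⟩
    rw [Prod.fst_inv, Prod.snd_inv]
    calc PM D F tP * ((a.1⁻¹ : GL D.Idx F) : Matrix D.Idx D.Idx F)
        = ((a.2⁻¹ : GL D.Idx F) : Matrix D.Idx D.Idx F) * ((a.2 : Matrix D.Idx D.Idx F) * PM D F tP) *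
            ((a.1⁻¹ : GL D.Idx F) : Matrix D.Idx D.Idx F) := by
          rw [← mul_assoc, Units.inv_mul, one_mul]
      _ = ((a.2⁻¹ : GL D.Idx F) : Matrix D.Idx D.Idx F) * PM D F tP := by
          rw [← ha, mul_assoc, mul_assoc, Units.mul_inv, mul_one]

theorem mem_Gam (D : ChevalleyDatum) (tP : List (ℕ × ℤ)) (g g' : GL D.Idx F) :
    (g, g') ∈ Gam D F tP ↔ g ∈ D.group F ∧ g' ∈ D.group F ∧
      PM D F tP * (g : Matrix D.Idx D.Idx F) = (g' : Matrix D.Idx D.Idx F) * PM D F tP := Iff.rfl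

def ZA (D : ChevalleyDatum) (F : Type*) [Field F] (tP : List (ℕ × ℤ)) : Subgroup ↥(D.group F) where
  carrier := {z | PM D F tP * ((z : GL D.Idx F) : Matrix D.Idx D.Idx F) = PM D F tP}
  mul_mem' := by
    intro a b ha hb
    change PM D F tP * ((a : GL D.Idx F) : Matrix D.Idx D.Idx F) = PM D F tP at ha
    change PM D F tP * ((b : GL D.Idx F) : Matrix D.Idx D.Idx F) = PM D F tP at hb
    change PM D F tP * (((a : GL D.Idx F) * (b : GL D.Idx F) : GL D.Idx F) : Matrix D.Idx D.Idx F) = PM D F tP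
    rw [Units.val_mul, ← mul_assoc, ha, hb]
  one_mem' := by
    change PM D F tP * ((1 : GL D.Idx F) : Matrix D.Idx D.Idx F) = PM D F tP
    rw [Units.val_one, mul_one]
  inv_mem' := by
    intro a ha
    change PM D F tP * ((a : GL D.Idx F) : Matrix D.Idx D.Idx F) = PM D F tP at ha
    change PM D F tP * (((a : GL D.Idx F)⁻¹ : GL D.Idx F) : Matrix D.Idx D.Idx F) = PM D F tP
    calc PM D F tP * (((a : GL D.Idx F)⁻¹ : GL D.Idx F) : Matrix D.Idx D.Idx F)
        = PM D F tP * ((a : GL D.Idx F) : Matrix D.Idx D.Idx F) *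
            (((a : GL D.Idx F)⁻¹ : GL D.Idx F) : Matrix D.Idx D.Idx F) := by rw [ha]
      _ = PM D F tP := by rw [mul_assoc, Units.mul_inv, mul_one]

theorem mem_ZA (D : ChevalleyDatum) (tP : List (ℕ × ℤ)) (z : ↥(D.group F)) :
    z ∈ ZA D F tP ↔ PM D F tP * ((z : GL D.Idx F) : Matrix D.Idx D.Idx F) = PM D F tP := Iff.rfl

def ZC (D : ChevalleyDatum) (F : Type*) [Field F] (tP : List (ℕ × ℤ)) : Subgroup ↥(D.group F) where
  carrier := {z | ((z : GL D.Idx F) : Matrix D.Idx D.Idx F) * PM D F tP = PM D F tP}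
  mul_mem' := by
    intro a b ha hb
    change ((a : GL D.Idx F) : Matrix D.Idx D.Idx F) * PM D F tP = PM D F tP at ha
    change ((b : GL D.Idx F) : Matrix D.Idx D.Idx F) * PM D F tP = PM D F tP at hb
    change (((a : GL D.Idx F) * (b : GL D.Idx F) : GL D.Idx F) : Matrix D.Idx D.Idx F) * PM D F tP = PM D F tP
    rw [Units.val_mul, mul_assoc, hb, ha]
  one_mem' := by
    change ((1 : GL D.Idx F) : Matrix D.Idx D.Idx F) * PM D F tP = PM D F tP
    rw [Units.val_one, one_mul]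
  inv_mem' := by
    intro a ha
    change ((a : GL D.Idx F) : Matrix D.Idx D.Idx F) * PM D F tP = PM D F tP at ha
    change (((a : GL D.Idx F)⁻¹ : GL D.Idx F) : Matrix D.Idx D.Idx F) * PM D F tP = PM D F tP
    calc (((a : GL D.Idx F)⁻¹ : GL D.Idx F) : Matrix D.Idx D.Idx F) * PM D F tP
        = (((a : GL D.Idx F)⁻¹ : GL D.Idx F) : Matrix D.Idx D.Idx F) *
            (((a : GL D.Idx F) : Matrix D.Idx D.Idx F) * PM D F tP) := by rw [ha]
      _ = PM D F tP := by rw [← mul_assoc, Units.inv_mul, one_mul]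

theorem mem_ZC (D : ChevalleyDatum) (tP : List (ℕ × ℤ)) (z : ↥(D.group F)) :
    z ∈ ZC D F tP ↔ ((z : GL D.Idx F) : Matrix D.Idx D.Idx F) * PM D F tP = PM D F tP := Iff.rfl

theorem ZA_normal (D : ChevalleyDatum) (tP : List (ℕ × ℤ))
    (ex : ∀ g ∈ D.group F, ∃ g', (g, g') ∈ Gam D F tP) : (ZA D F tP).Normal := by
  constructor
  intro z hz g
  obtain ⟨g', hg⟩ := ex g.1 g.2
  have hgi : PM D F tP * (((g : GL D.Idx F)⁻¹ : GL D.Idx F) : Matrix D.Idx D.Idx F) =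
      ((g'⁻¹ : GL D.Idx F) : Matrix D.Idx D.Idx F) * PM D F tP := (inv_mem hg).2.2
  have hg2 : PM D F tP * ((g : GL D.Idx F) : Matrix D.Idx D.Idx F) =
      (g' : Matrix D.Idx D.Idx F) * PM D F tP := hg.2.2
  rw [mem_ZA] at hz ⊢
  change PM D F tP * (((g : GL D.Idx F) * (z : GL D.Idx F) * (g : GL D.Idx F)⁻¹ : GL D.Idx F) :
    Matrix D.Idx D.Idx F) = PM D F tP
  rw [Units.val_mul, Units.val_mul, ← mul_assoc, ← mul_assoc, hg2, mul_assoc (g' : Matrix D.Idx D.Idx F),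
    hz, mul_assoc, hgi, ← mul_assoc, Units.mul_inv, one_mul]

theorem ZC_normal (D : ChevalleyDatum) (tP : List (ℕ × ℤ))
    (ex : ∀ g' ∈ D.group F, ∃ g, (g, g') ∈ Gam D F tP) : (ZC D F tP).Normal := by
  constructor
  intro z hz g
  obtain ⟨h, hh⟩ := ex (g.1)⁻¹ (inv_mem g.2)
  have hh2 : PM D F tP * (h : Matrix D.Idx D.Idx F) =
      (((g : GL D.Idx F)⁻¹ : GL D.Idx F) : Matrix D.Idx D.Idx F) * PM D F tP := hh.2.2
  rw [mem_ZC] at hz ⊢
  change (((g : GL D.Idx F) * (z : GL D.Idx F) * (g : GL D.Idx F)⁻¹ : GL D.Idx F) :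
    Matrix D.Idx D.Idx F) * PM D F tP = PM D F tP
  rw [Units.val_mul, Units.val_mul, mul_assoc, ← hh2, mul_assoc, ← mul_assoc _ (PM D F tP), hz, hh2,
    ← mul_assoc, Units.mul_inv, one_mul]

theorem trivial_of (D : ChevalleyDatum) (hD : D ∈ [chevG2, chevB2, chevD4, chevF4, chevE6, chevE7, chevE8])
    (Z : Subgroup ↥(D.group F)) [Z.Normal]
    (h : ∀ i < D.rank, ∀ n : ↥(D.group F), (n : GL D.Idx F) = nI D hD i → n ∉ bB F D ⊔ Z) : Z = ⊥ := by
  have hM := Cfsg.Agent.Lib.Helper2.BN.eq_parabolic (bnPair F D hD) (bB F D ⊔ Z) le_sup_left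
  have hempty : (bnPair F D hD).S ∩ ((bB F D ⊔ Z : Subgroup ↥(D.group F)) : Set ↥(D.group F)) = ∅ := by
    ext s
    constructor
    · rintro ⟨hs, hsM⟩
      obtain ⟨i, hi, hsi⟩ := mem_bS D hD s hs
      exact (h i hi s hsi hsM).elim
    · intro hs
      exact hs.elim
  rw [hempty] at hM
  have hB : bB F D ⊔ Z = bB F D := by
    rw [hM]
    unfold Cfsg.BNPair.parabolic
    rw [Subgroup.closure_empty, sup_bot_eq]
    rfl
  have hle : Z ≤ bB F D := by
    rw [← hB]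
    exact le_sup_right
  have h2 : Z ≤ (bB F D).normalCore := Subgroup.normal_le_normalCore.mpr hle
  rw [core_eq_bot D hD] at h2
  exact eq_bot_iff.mpr h2

theorem bfun_lt_of_lt (l n : ℕ) (a b : Fin n) (h : a.val < b.val) :
    bfun l n (Sum.inr a) < bfun l n (Sum.inr b) := by
  simp only [bfun, Sum.elim_inr]
  split_ifs <;> omega

def witChk (D : ChevalleyDatum) (tP tE : List (ℕ × ℤ)) (i : ℕ) (w : ℕ × ℕ × ℕ) : Bool :=
  decide (w.2.1 < D.nroots) && decide (D.reflectRoot i w.2.1 < w.2.1) &&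
    (tl (D.rank + D.nroots) tP w.1 == (D.rank + w.2.1, 1)) &&
    decide (w.2.2 < D.nroots) && decide (D.reflectRoot i w.2.2 < w.2.2) &&
    (tl (D.rank + D.nroots) tE (D.rank + D.reflectRoot i w.2.2) == (D.rank + D.reflectRoot i w.2.2, 1))

structure SData (D : ChevalleyDatum) (p : ℕ) (tP tP' tE : List (ℕ × ℤ)) (rho lam : List ℕ)
    (wit : List (ℕ × ℕ × ℕ)) : Prop where
  p'p : mulChk (D.rank + D.nroots) tP' tP tE = true
  diag : diagChk (D.rank + D.nroots) tE = true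
  root : ∀ r < D.nroots, ∀ k < D.rank + D.nroots,
    rootCheckP (p : ℤ) D.rank D.nroots (fnsOf D) tP r (rho.getD r 0) (lam.getD r 0) k = true
  rho_lt : ∀ r < D.nroots, rho.getD r 0 < D.nroots
  surj : ∀ s < D.nroots, ∃ r < D.nroots, rho.getD r 0 = s
  lam : ∀ r < D.nroots, lam.getD r 0 = 1 ∨ lam.getD r 0 = p
  wit : ∀ i < D.rank, witChk D tP tE i (wit.getD i (0, 0, 0)) = true

variable {tP tP' tE : List (ℕ × ℤ)} {rho lam : List ℕ} {wit : List (ℕ × ℕ × ℕ)}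

theorem gen_rel (D : ChevalleyDatum) (hD : D ∈ [chevG2, chevB2, chevD4, chevF4, chevE6, chevE7, chevE8])
    (p : ℕ) (hp : ((p : ℕ) : F) = 0) (sd : SData D p tP tP' tE rho lam wit)
    (r : ℕ) (hr : r < D.nroots) (t : F) :
    (xGL D hD r t, xGL D hD (rho.getD r 0) (t ^ lam.getD r 0)) ∈ Gam D F tP := by
  refine ⟨xGL_mem_group D hD r t, xGL_mem_group D hD _ _, ?_⟩
  have hp' : (((p : ℕ) : ℤ) : F) = 0 := by
    rw [Int.cast_natCast]
    exact hp
  have h := root_conjP (p : ℤ) hp' D.rank D.nroots (fnsOf D) tP r (rho.getD r 0) (lam.getD r 0)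
    (sd.root r hr) t
  change PM D F tP * D.x F r t = D.x F (rho.getD r 0) (t ^ lam.getD r 0) * PM D F tP
  rw [x_eq, x_eq]
  exact h

theorem ex1 (D : ChevalleyDatum) (hD : D ∈ [chevG2, chevB2, chevD4, chevF4, chevE6, chevE7, chevE8])
    (p : ℕ) (hp : ((p : ℕ) : F) = 0) (sd : SData D p tP tP' tE rho lam wit) :
    ∀ g ∈ D.group F, ∃ g', (g, g') ∈ Gam D F tP := by
  have hle : D.group F ≤ (Gam D F tP).map (MonoidHom.fst (GL D.Idx F) (GL D.Idx F)) := by
    unfold ChevalleyDatum.group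
    rw [Subgroup.closure_le]
    rintro g ⟨r, t, hg⟩
    have hg' : g = xGL D hD r.val t := by
      apply Units.ext
      rw [hg, xGL_val]
      simp [ChevalleyDatum.x, r.isLt]
    rw [hg']
    exact Subgroup.mem_map.mpr ⟨_, gen_rel D hD p hp sd r.val r.isLt t, rfl⟩
  intro g hg
  obtain ⟨x, hx, rfl⟩ := Subgroup.mem_map.mp (hle hg)
  exact ⟨x.2, hx⟩

theorem ex2 (D : ChevalleyDatum) (hD : D ∈ [chevG2, chevB2, chevD4, chevF4, chevE6, chevE7, chevE8])
    (p : ℕ) (hp : ((p : ℕ) : F) = 0) (hperf : ∀ x : F, ∃ y : F, y ^ p = x)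
    (sd : SData D p tP tP' tE rho lam wit) :
    ∀ g' ∈ D.group F, ∃ g, (g, g') ∈ Gam D F tP := by
  have hle : D.group F ≤ (Gam D F tP).map (MonoidHom.snd (GL D.Idx F) (GL D.Idx F)) := by
    unfold ChevalleyDatum.group
    rw [Subgroup.closure_le]
    rintro g ⟨s, u, hg⟩
    have hg' : g = xGL D hD s.val u := by
      apply Units.ext
      rw [hg, xGL_val]
      simp [ChevalleyDatum.x, s.isLt]
    obtain ⟨r, hr, hrs⟩ := sd.surj s.val s.isLt
    have ht : ∃ t : F, t ^ lam.getD r 0 = u := by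
      rcases sd.lam r hr with h1 | h1
      · exact ⟨u, by rw [h1, pow_one]⟩
      · rw [h1]
        exact hperf u
    obtain ⟨t, ht⟩ := ht
    have h := gen_rel D hD p hp sd r hr t
    rw [hrs, ht] at h
    rw [hg']
    exact Subgroup.mem_map.mpr ⟨_, h, rfl⟩
  intro g hg
  obtain ⟨x, hx, rfl⟩ := Subgroup.mem_map.mp (hle hg)
  exact ⟨x.1, hx⟩

theorem ZC_bot (D : ChevalleyDatum) (hD : D ∈ [chevG2, chevB2, chevD4, chevF4, chevE6, chevE7, chevE8])
    (p : ℕ) (sd : SData D p tP tP' tE rho lam wit)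
    (ex : ∀ g' ∈ D.group F, ∃ g, (g, g') ∈ Gam D F tP) : ZC D F tP = ⊥ := by
  haveI := ZC_normal D tP ex
  apply trivial_of D hD
  intro i hi n hn hmem
  rw [Subgroup.mem_sup_of_normal_right] at hmem
  obtain ⟨b, hb, z, hz, hbz⟩ := hmem
  rw [mem_ZC] at hz
  have hw := sd.wit i hi
  generalize wit.getD i (0, 0, 0) = w at hw
  obtain ⟨k, s, s'⟩ := w
  unfold witChk at hw
  simp only [Bool.and_eq_true, decide_eq_true_eq, beq_iff_eq] at hw
  obtain ⟨⟨⟨⟨⟨hs, hlt⟩, hk⟩, -⟩, -⟩, -⟩ := hw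
  have hBm : Sh (bfun D.rank D.nroots) 0 ((b : GL D.Idx F) : Matrix D.Idx D.Idx F) :=
    (Cfsg.Agent.S1037.borel_le_TG D hD (Subgroup.mem_subgroupOf.mp hb)).1
  have hN : ((nI D hD i : GL D.Idx F) : Matrix D.Idx D.Idx F) * PM D F tP =
      ((b : GL D.Idx F) : Matrix D.Idx D.Idx F) * PM D F tP := by
    rw [← hn, ← hbz]
    change (((b : GL D.Idx F) * (z : GL D.Idx F) : GL D.Idx F) : Matrix D.Idx D.Idx F) * PM D F tP = _
    rw [Units.val_mul, mul_assoc, hz]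
  have hPk : (PM D F tP).mulVec (bvec D.rank D.nroots F k) = bvec D.rank D.nroots F (D.rank + s) := by
    unfold PM
    rw [Pmat_mulVec_bvec, hk, Int.cast_one, one_smul]
  obtain ⟨ε, hε, hnv⟩ := nI_mulVec (F := F) D hD i hi s hs
  have h1 : (((nI D hD i : GL D.Idx F) : Matrix D.Idx D.Idx F) * PM D F tP).mulVec
      (bvec D.rank D.nroots F k) =
      (((b : GL D.Idx F) : Matrix D.Idx D.Idx F) * PM D F tP).mulVec (bvec D.rank D.nroots F k) := by
    rw [hN]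
  rw [← Matrix.mulVec_mulVec, ← Matrix.mulVec_mulVec, hPk, hnv] at h1
  have hrl : D.reflectRoot i s < D.nroots := lt_trans hlt hs
  have h2 := entry_of_mulVec D.rank D.nroots ((b : GL D.Idx F) : Matrix D.Idx D.Idx F)
    (Sum.inr ⟨D.reflectRoot i s, hrl⟩) (Sum.inr ⟨s, hs⟩) ε h1.symm
  have h3 := hBm _ _ (by rw [h2]; exact hε)
  have h4 := bfun_lt_of_lt D.rank D.nroots ⟨D.reflectRoot i s, hrl⟩ ⟨s, hs⟩ hlt
  omega

theorem ZA_bot (D : ChevalleyDatum) (hD : D ∈ [chevG2, chevB2, chevD4, chevF4, chevE6, chevE7, chevE8])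
    (p : ℕ) (sd : SData D p tP tP' tE rho lam wit)
    (ex : ∀ g ∈ D.group F, ∃ g', (g, g') ∈ Gam D F tP) : ZA D F tP = ⊥ := by
  haveI := ZA_normal D tP ex
  apply trivial_of D hD
  intro i hi n hn hmem
  rw [sup_comm, Subgroup.mem_sup_of_normal_left] at hmem
  obtain ⟨z, hz, b, hb, hzb⟩ := hmem
  rw [mem_ZA] at hz
  have hw := sd.wit i hi
  generalize wit.getD i (0, 0, 0) = w at hw
  obtain ⟨k, s, s'⟩ := w
  unfold witChk at hw
  simp only [Bool.and_eq_true, decide_eq_true_eq, beq_iff_eq] at hw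
  obtain ⟨⟨⟨-, hs'⟩, hlt'⟩, hE⟩ := hw
  have hBm : Sh (bfun D.rank D.nroots) 0 ((b : GL D.Idx F) : Matrix D.Idx D.Idx F) :=
    (Cfsg.Agent.S1037.borel_le_TG D hD (Subgroup.mem_subgroupOf.mp hb)).1
  have hN : PM D F tP * ((nI D hD i : GL D.Idx F) : Matrix D.Idx D.Idx F) =
      PM D F tP * ((b : GL D.Idx F) : Matrix D.Idx D.Idx F) := by
    rw [← hn, ← hzb]
    change PM D F tP * (((z : GL D.Idx F) * (b : GL D.Idx F) : GL D.Idx F) : Matrix D.Idx D.Idx F) = _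
    rw [Units.val_mul, ← mul_assoc, hz]
  unfold PM at hN
  have hEN : Pmat D.rank D.nroots F tE * ((nI D hD i : GL D.Idx F) : Matrix D.Idx D.Idx F) =
      Pmat D.rank D.nroots F tE * ((b : GL D.Idx F) : Matrix D.Idx D.Idx F) := by
    rw [← Pmat_mul D.rank D.nroots tP' tP tE sd.p'p, mul_assoc, mul_assoc, hN]
  have hrl : D.reflectRoot i s' < D.nroots := lt_trans hlt' hs'
  have hrow := congrFun (congrFun hEN (Sum.inr ⟨D.reflectRoot i s', hrl⟩)) (Sum.inr ⟨s', hs'⟩)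
  have hE' : tl (D.rank + D.nroots) tE (code (Sum.inr ⟨D.reflectRoot i s', hrl⟩ : Ix D.rank D.nroots)) =
      (code (Sum.inr ⟨D.reflectRoot i s', hrl⟩ : Ix D.rank D.nroots), 1) := hE
  rw [E_row D.rank D.nroots tE sd.diag (Sum.inr ⟨D.reflectRoot i s', hrl⟩) hE',
    E_row D.rank D.nroots tE sd.diag (Sum.inr ⟨D.reflectRoot i s', hrl⟩) hE'] at hrow
  obtain ⟨ε, hε, hnv⟩ := nI_mulVec (F := F) D hD i hi s' hs'
  have h2 := entry_of_mulVec D.rank D.nroots ((nI D hD i : GL D.Idx F) : Matrix D.Idx D.Idx F)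
    (Sum.inr ⟨D.reflectRoot i s', hrl⟩) (Sum.inr ⟨s', hs'⟩) ε hnv
  rw [h2] at hrow
  have h3 := hBm _ _ (by rw [← hrow]; exact hε)
  have h4 := bfun_lt_of_lt D.rank D.nroots ⟨D.reflectRoot i s', hrl⟩ ⟨s', hs'⟩ hlt'
  omega

theorem spec_aut (D : ChevalleyDatum) (hD : D ∈ [chevG2, chevB2, chevD4, chevF4, chevE6, chevE7, chevE8])
    (p : ℕ) (hp : ((p : ℕ) : F) = 0) (hperf : ∀ x : F, ∃ y : F, y ^ p = x)
    (sd : SData D p tP tP' tE rho lam wit) :
    ∃ α : ↥(D.group F) ≃* ↥(D.group F), ∀ (g : ↥(D.group F)) (r : ℕ) (t : F), r < D.nroots →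
      ((g : GL D.Idx F) : Matrix D.Idx D.Idx F) = D.x F r t →
      ((α g : GL D.Idx F) : Matrix D.Idx D.Idx F) = D.x F (rho.getD r 0) (t ^ lam.getD r 0) := by
  have e1 := ex1 D hD p hp sd
  have e2 := ex2 D hD p hp hperf sd
  have hA := ZA_bot D hD p sd e1
  have hC := ZC_bot D hD p sd e2
  have uniq1 : ∀ g g' g'' : GL D.Idx F, (g, g') ∈ Gam D F tP → (g, g'') ∈ Gam D F tP → g' = g'' := by
    intro g g' g'' h1 h2
    have hz : (⟨g'⁻¹ * g'', mul_mem (inv_mem h1.2.1) h2.2.1⟩ : ↥(D.group F)) ∈ ZC D F tP := by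
      rw [mem_ZC]
      change ((g'⁻¹ * g'' : GL D.Idx F) : Matrix D.Idx D.Idx F) * PM D F tP = PM D F tP
      rw [Units.val_mul, mul_assoc, ← h2.2.2, h1.2.2, ← mul_assoc, Units.inv_mul, one_mul]
    rw [hC, Subgroup.mem_bot] at hz
    have h3 : g'⁻¹ * g'' = 1 := congrArg Subtype.val hz
    exact inv_mul_eq_one.mp h3
  have uniq2 : ∀ g h k : GL D.Idx F, (g, k) ∈ Gam D F tP → (h, k) ∈ Gam D F tP → g = h := by
    intro g h k h1 h2
    have hz : (⟨g * h⁻¹, mul_mem h1.1 (inv_mem h2.1)⟩ : ↥(D.group F)) ∈ ZA D F tP := by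
      rw [mem_ZA]
      change PM D F tP * ((g * h⁻¹ : GL D.Idx F) : Matrix D.Idx D.Idx F) = PM D F tP
      rw [Units.val_mul, ← mul_assoc, h1.2.2, ← h2.2.2, mul_assoc, Units.mul_inv, mul_one]
    rw [hA, Subgroup.mem_bot] at hz
    have h3 : g * h⁻¹ = 1 := congrArg Subtype.val hz
    exact mul_inv_eq_one.mp h3
  let f : ↥(D.group F) → ↥(D.group F) := fun g =>
    ⟨Classical.choose (e1 g.1 g.2), (Classical.choose_spec (e1 g.1 g.2)).2.1⟩
  have hf : ∀ g : ↥(D.group F), ((g : GL D.Idx F), ((f g : ↥(D.group F)) : GL D.Idx F)) ∈ Gam D F tP :=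
    fun g => Classical.choose_spec (e1 g.1 g.2)
  have hmul : ∀ a b, f (a * b) = f a * f b := by
    intro a b
    apply Subtype.ext
    have h := mul_mem (hf a) (hf b)
    exact uniq1 ((a : GL D.Idx F) * (b : GL D.Idx F)) _
      (((f a : ↥(D.group F)) : GL D.Idx F) * ((f b : ↥(D.group F)) : GL D.Idx F)) (hf (a * b)) h
  let φ : ↥(D.group F) →* ↥(D.group F) := MonoidHom.mk' f hmul
  have hinj : Function.Injective φ := by
    intro a b hab
    apply Subtype.ext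
    have h1 := hf a
    have h2 := hf b
    have hab' : f a = f b := hab
    rw [hab'] at h1
    exact uniq2 _ _ _ h1 h2
  have hsurj : Function.Surjective φ := by
    intro k
    obtain ⟨g, hg⟩ := e2 k.1 k.2
    refine ⟨⟨g, hg.1⟩, ?_⟩
    apply Subtype.ext
    exact uniq1 _ _ _ (hf ⟨g, hg.1⟩) hg
  refine ⟨MulEquiv.ofBijective φ ⟨hinj, hsurj⟩, ?_⟩
  intro g r t hr hg
  have hg' : (g : GL D.Idx F) = xGL D hD r t := Units.ext (by rw [hg, xGL_val])
  have h1 := hf g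
  rw [hg'] at h1
  have h2 := uniq1 _ _ _ h1 (gen_rel D hD p hp sd r hr t)
  change (((f g : ↥(D.group F)) : GL D.Idx F) : Matrix D.Idx D.Idx F) = _
  rw [h2, xGL_val]

end

end Cfsg.Agent.Lib.Helper7.ChevSpec
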