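import Cfsg.Agent.Lib.Helper7.WPermAll
import Cfsg.Agent.S1034

set_option autoImplicit false

namespace Cfsg.Agent.Lib.Helper7.ChevTorusCard
open Cfsg.Lie Cfsg.Agent.Lib.Helper7.ChevEngine Cfsg.Agent.Lib.Helper7.ChevN
  Cfsg.Agent.Lib.Helper7.ChevConjT Cfsg.Agent.Lib.Helper7.ChevConjU Cfsg.Agent.Lib.Helper7.ChevAdd
  Cfsg.Agent.Lib.Helper7.ChevH
  Cfsg.Agent.Lib.Helper7.ChevHAll Cfsg.Agent.Lib.Helper7.HBaseAll Cfsg.Agent.Lib.Helper7.ChevTorus
  Cfsg.Agent.Lib.Helper7.ChevWPerm Cfsg.Agent.Lib.Helper7.WPermAll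

section generic
variable {G : Type*} [CommGroup G]

theorem prod_zpow_sum {ι : Type*} (s : Finset ι) (a : G) (f : ι → ℤ) :
    ∏ k ∈ s, a ^ f k = a ^ ∑ k ∈ s, f k := by
  classical
  induction s using Finset.induction_on with
  | empty => simp
  | insert i s hi ih => rw [Finset.prod_insert hi, Finset.sum_insert hi, zpow_add, ih]

def E {l m : ℕ} (M : Matrix (Fin l) (Fin m) ℤ) : (Fin l → G) →* (Fin m → G) where
  toFun c i := ∏ k, c k ^ M k i
  map_one' := by
    funext i
    simp
  map_mul' c c' := by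
    funext i
    simp only [Pi.mul_apply, mul_zpow]
    exact Finset.prod_mul_distrib

theorem E_apply {l m : ℕ} (M : Matrix (Fin l) (Fin m) ℤ) (c : Fin l → G) (i : Fin m) :
    E M c i = ∏ k, c k ^ M k i := rfl

theorem E_mul {l m n : ℕ} (M : Matrix (Fin l) (Fin m) ℤ) (N : Matrix (Fin m) (Fin n) ℤ) (c : Fin l → G) :
    E N (E M c) = E (M * N) c := by
  funext i
  rw [E_apply, E_apply]
  have h1 : ∀ k, E M c k ^ N k i = ∏ j, c j ^ (M j k * N k i) := by
    intro k
    rw [E_apply, ← Finset.prod_zpow]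
    apply Finset.prod_congr rfl
    intro j _
    rw [zpow_mul]
  rw [Finset.prod_congr rfl (fun k _ => h1 k), Finset.prod_comm]
  apply Finset.prod_congr rfl
  intro j _
  rw [prod_zpow_sum, Matrix.mul_apply]

theorem E_one {l : ℕ} (c : Fin l → G) : E (1 : Matrix (Fin l) (Fin l) ℤ) c = c := by
  funext i
  rw [E_apply, Finset.prod_eq_single i]
  · rw [Matrix.one_apply_eq, zpow_one]
  · intro k _ hk
    rw [Matrix.one_apply_ne hk, zpow_zero]
  · intro h
    exact absurd (Finset.mem_univ i) h

theorem E_diag {l : ℕ} (d : Fin l → ℤ) (c : Fin l → G) (i : Fin l) :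
    E (Matrix.diagonal d) c i = c i ^ d i := by
  rw [E_apply, Finset.prod_eq_single i]
  · rw [Matrix.diagonal_apply_eq]
  · intro k _ hk
    rw [Matrix.diagonal_apply_ne _ hk, zpow_zero]
  · intro h
    exact absurd (Finset.mem_univ i) h

theorem card_pow_eq_one [Finite G] [IsCyclic G] (d : ℕ) :
    Nat.card {x : G // x ^ d = 1} = (Nat.card G).gcd d := by
  rw [← IsCyclic.card_powMonoidHom_ker (G := G) d]
  apply Nat.card_congr
  apply Equiv.subtypeEquivRight
  intro x
  rw [MonoidHom.mem_ker]
  rfl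

theorem card_ker_E [Finite G] [IsCyclic G] {l : ℕ} (C P Q P' Q' : Matrix (Fin l) (Fin l) ℤ) (δ : Fin l → ℕ)
    (h : P * C * Q = Matrix.diagonal fun i => (δ i : ℤ)) (hP : P * P' = 1) (hQ : Q * Q' = 1) :
    Nat.card {c : Fin l → G // E C c = 1} = ∏ i, (Nat.card G).gcd (δ i) := by
  have hP' : P' * P = 1 := _root_.mul_eq_one_comm.mp hP
  let eP : (Fin l → G) ≃ (Fin l → G) :=
    ⟨E P, E P', fun c => by rw [E_mul, hP, E_one], fun c => by rw [E_mul, hP', E_one]⟩
  have key : ∀ c : Fin l → G, (∀ i, c i ^ δ i = 1) ↔ E C (eP c) = 1 := by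
    intro c
    have e1 : E Q (E C (E P c)) = E (Matrix.diagonal fun i => (δ i : ℤ)) c := by
      rw [E_mul, E_mul, ← Matrix.mul_assoc, h]
    constructor
    · intro hc
      have h1 : E Q (E C (E P c)) = 1 := by
        rw [e1]
        funext i
        rw [E_diag, zpow_natCast, hc i]
        rfl
      have h2 := congrArg (E Q') h1
      rwa [E_mul, hQ, E_one, map_one] at h2
    · intro hc i
      have h1 : E (Matrix.diagonal fun i => (δ i : ℤ)) c = 1 := by
        rw [← e1]
        have : E C (E P c) = 1 := hc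
        rw [this, map_one]
      have h2 := congrFun h1 i
      rwa [E_diag, zpow_natCast] at h2
  rw [← Nat.card_congr (Equiv.subtypeEquiv eP key),
    Nat.card_congr (Equiv.subtypePiEquivPi (p := fun i (x : G) => x ^ δ i = 1)), Nat.card_pi]
  apply Finset.prod_congr rfl
  intro i _
  exact card_pow_eq_one (δ i)

end generic

section chev
variable {F : Type*} [Field F]

def ext (D : ChevalleyDatum) (c : Fin D.rank → Fˣ) : ℕ → Fˣ :=
  fun j => if h : j < D.rank then c ⟨j, h⟩ else 1

theorem torusChi_ext (D : ChevalleyDatum) (c : Fin D.rank → Fˣ) (s : ℕ) :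
    torusChi D (ext D c) s = ∏ j : Fin D.rank, c j ^ D.cartan j s := by
  unfold torusChi
  rw [Finset.prod_range]
  apply Finset.prod_congr rfl
  intro j _
  unfold ext
  rw [dif_pos j.isLt]

def PhiM (D : ChevalleyDatum) : (Fin D.rank → Fˣ) →* Matrix D.Idx D.Idx F where
  toFun c := D.charDiag F (torusChi D (ext D c))
  map_one' := by
    have : ext D (1 : Fin D.rank → Fˣ) = fun _ => 1 := by
      funext j
      unfold ext
      split_ifs <;> rfl
    rw [this, torusChi_one, charDiag_one]
  map_mul' c c' := by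
    have : ext D (c * c') = fun j => ext D c j * ext D c' j := by
      funext j
      unfold ext
      split_ifs
      · rfl
      · rw [mul_one]
    rw [this, torusChi_mul, charDiag_mul]

def Phi (D : ChevalleyDatum) : (Fin D.rank → Fˣ) →* GL D.Idx F := (PhiM D).toHomUnits

theorem Phi_val (D : ChevalleyDatum) (c : Fin D.rank → Fˣ) :
    ((Phi D c : GL D.Idx F) : Matrix D.Idx D.Idx F) = D.charDiag F (torusChi D (ext D c)) := rfl

theorem range_Phi (D : ChevalleyDatum) : (Phi (F := F) D).range = torus F D := by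
  ext g
  constructor
  · rintro ⟨c, rfl⟩
    exact ⟨ext D c, rfl⟩
  · rintro ⟨c, hc⟩
    refine ⟨fun j => c j, ?_⟩
    apply Units.ext
    rw [Phi_val, hc]
    congr 1
    funext s
    unfold torusChi
    apply Finset.prod_congr rfl
    intro j hj
    unfold ext
    rw [dif_pos (Finset.mem_range.mp hj)]

theorem val_list_prod (D : ChevalleyDatum) (L : List (GL D.Idx F)) :
    ((L.prod : GL D.Idx F) : Matrix D.Idx D.Idx F) = (L.map Units.val).prod := by
  induction L with
  | nil => simp
  | cons a L ih => rw [List.prod_cons, Units.val_mul, ih, List.map_cons, List.prod_cons]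

theorem torus_le_diag (D : ChevalleyDatum) (hD : D ∈ [chevG2, chevB2, chevD4, chevF4, chevE6, chevE7, chevE8]) :
    torus F D ≤ D.diagonalSubgroup F := by
  rintro g ⟨c, hc⟩
  obtain ⟨hC, -, hB⟩ := all_of_mem D hD
  have hg : g = ((List.range D.rank).map fun i => wordGL D hD (D.hWord (D.simple i) (c i : F))).prod := by
    apply Units.ext
    rw [hc, val_list_prod, List.map_map]
    have e1 : ((List.range D.rank).map (Units.val ∘
        fun i => wordGL D hD (D.hWord (D.simple i) (c i : F)))) =
        ((List.range D.rank).map fun i => hDiag F D (D.cartan i) (c i : F)) := by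
      apply List.map_congr_left
      intro i hi
      rw [Function.comp_apply, wordGL_val]
      exact hMat_diag D (D.simple i) (D.cartan i) (hB.1 i (List.mem_range.mp hi)) (c i : F) (Units.ne_zero (c i))
    rw [e1, Cfsg.Agent.S1034.prod_hDiag]
    rfl
  rw [hg]
  apply Subgroup.list_prod_mem
  intro x hx
  rw [List.mem_map] at hx
  obtain ⟨i, hi, rfl⟩ := hx
  apply Subgroup.subset_closure
  exact ⟨D.simple i, (c i : F), simple_lt D hC i (List.mem_range.mp hi), Units.ne_zero _, wordGL_val D hD _⟩

theorem diag_eq_range (D : ChevalleyDatum) (hD : D ∈ [chevG2, chevB2, chevD4, chevF4, chevE6, chevE7, chevE8]) :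
    D.diagonalSubgroup F = (Phi (F := F) D).range := by
  rw [range_Phi]
  exact le_antisymm (diagonalSubgroup_le_torus D hD) (torus_le_diag D hD)

def Cm (D : ChevalleyDatum) : Matrix (Fin D.rank) (Fin D.rank) ℤ :=
  Matrix.of fun k i => D.cartan k (D.simple i)

theorem ker_Phi (D : ChevalleyDatum) (hD : D ∈ [chevG2, chevB2, chevD4, chevF4, chevE6, chevE7, chevE8])
    (c : Fin D.rank → Fˣ) : Phi (F := F) D c = 1 ↔ E (Cm D) c = 1 := by
  obtain ⟨hC, -, -⟩ := all_of_mem D hD
  have ld := lin_of_mem D hD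
  constructor
  · intro h
    funext i
    have h1 : D.charDiag F (torusChi D (ext D c)) = 1 := by
      rw [← Phi_val, h]
      rfl
    have hs := simple_lt D hC i i.isLt
    have h2 := congrFun (congrFun h1 (Sum.inr ⟨D.simple i, hs⟩)) (Sum.inr ⟨D.simple i, hs⟩)
    unfold ChevalleyDatum.charDiag at h2
    rw [Matrix.diagonal_apply_eq, Matrix.one_apply_eq, Sum.elim_inr] at h2
    have h3 : torusChi D (ext D c) (D.simple i) = 1 := Units.ext h2
    rw [torusChi_ext] at h3
    exact h3
  · intro h
    have hbase : ∀ j < D.rank, torusChi D (ext D c) (D.simple j) = 1 := by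
      intro j hj
      rw [torusChi_ext]
      exact congrFun h ⟨j, hj⟩
    have hall : ∀ r < D.nroots, torusChi D (ext D c) r = 1 := by
      obtain ⟨hc', LV, PI, hl⟩ := hC
      apply root_induction D LV PI hl (fun r => torusChi D (ext D c) r = 1) hbase
      intro i hi r hr hwr ih
      have e : torusChi D (ext D c) (D.reflectRoot i r) =
          torusChi D (ext D c) r * (torusChi D (ext D c) (D.simple i)) ^ (- D.cartan i r) := by
        unfold torusChi
        rw [← Finset.prod_zpow, ← Finset.prod_mul_distrib]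
        apply Finset.prod_congr rfl
        intro k hk
        rw [ld.t1 i hi r hr k (Finset.mem_range.mp hk), ← zpow_mul, ← zpow_add]
        congr 1
        ring
      rw [e, hbase i hi, one_zpow, mul_one] at ih
      exact ih
    apply Units.ext
    rw [Phi_val, Units.val_one]
    unfold ChevalleyDatum.charDiag
    rw [← Matrix.diagonal_one]
    congr 1
    funext idx
    rcases idx with i | s
    · rfl
    · simp only [Sum.elim_inr]
      rw [hall s.val s.isLt]
      rfl

theorem card_diag [Fintype F] (D : ChevalleyDatum)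
    (hD : D ∈ [chevG2, chevB2, chevD4, chevF4, chevE6, chevE7, chevE8])
    (P Q P' Q' : Matrix (Fin D.rank) (Fin D.rank) ℤ) (δ : Fin D.rank → ℕ)
    (h : P * Cm D * Q = Matrix.diagonal fun i => (δ i : ℤ)) (hP : P * P' = 1) (hQ : Q * Q' = 1) :
    (∏ i, (Fintype.card F - 1).gcd (δ i)) * Nat.card (D.diagonalSubgroup F) =
      (Fintype.card F - 1) ^ D.rank := by
  have hu : Nat.card Fˣ = Fintype.card F - 1 := by
    rw [Nat.card_units, Nat.card_eq_fintype_card]
  have e2 : Nat.card (Phi (F := F) D).ker = ∏ i, (Fintype.card F - 1).gcd (δ i) := by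
    rw [← hu, ← card_ker_E (G := Fˣ) (Cm D) P Q P' Q' δ h hP hQ]
    apply Nat.card_congr
    apply Equiv.subtypeEquivRight
    intro c
    rw [MonoidHom.mem_ker]
    exact ker_Phi D hD c
  rw [diag_eq_range D hD, ← e2, ← Subgroup.index_ker, Subgroup.card_mul_index, Nat.card_pi,
    Finset.prod_const, Finset.card_univ, Fintype.card_fin, hu]

end chev

end Cfsg.Agent.Lib.Helper7.ChevTorusCard
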