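import Mathlib

set_option autoImplicit false

namespace Cfsg.Agent.Lib.Helper7.Shift

open Finset
open scoped commutatorElement

variable {ι : Type*} [Fintype ι] [DecidableEq ι] {R : Type*} [CommRing R]

def Sh (b : ι → ℕ) (k : ℕ) (M : Matrix ι ι R) : Prop := ∀ i j, M i j ≠ 0 → b j + k ≤ b i

theorem sh_zero (b : ι → ℕ) (k : ℕ) : Sh b k (0 : Matrix ι ι R) := by
  intro i j h
  exact absurd rfl h

theorem sh_one (b : ι → ℕ) : Sh b 0 (1 : Matrix ι ι R) := by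
  intro i j h
  by_cases hij : i = j
  · subst hij
    exact le_rfl
  · exact absurd (Matrix.one_apply_ne hij) h

theorem sh_add (b : ι → ℕ) (k : ℕ) {M N : Matrix ι ι R} (hM : Sh b k M) (hN : Sh b k N) :
    Sh b k (M + N) := by
  intro i j h
  by_cases h1 : M i j = 0
  · by_cases h2 : N i j = 0
    · exact absurd (by simp [h1, h2]) h
    · exact hN i j h2
  · exact hM i j h1

theorem sh_neg (b : ι → ℕ) (k : ℕ) {M : Matrix ι ι R} (hM : Sh b k M) : Sh b k (-M) := by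
  intro i j h
  apply hM i j
  intro h0
  apply h
  simp [h0]

theorem sh_sub (b : ι → ℕ) (k : ℕ) {M N : Matrix ι ι R} (hM : Sh b k M) (hN : Sh b k N) :
    Sh b k (M - N) := by
  rw [sub_eq_add_neg]
  exact sh_add b k hM (sh_neg b k hN)

theorem sh_mul (b : ι → ℕ) (k m : ℕ) {M N : Matrix ι ι R} (hM : Sh b k M) (hN : Sh b m N) :
    Sh b (k + m) (M * N) := by
  intro i j h
  rw [Matrix.mul_apply] at h
  obtain ⟨c, -, hc⟩ := Finset.exists_ne_zero_of_sum_ne_zero h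
  have h1 : M i c ≠ 0 := left_ne_zero_of_mul hc
  have h2 : N c j ≠ 0 := right_ne_zero_of_mul hc
  have := hM i c h1
  have := hN c j h2
  omega

theorem sh_mono (b : ι → ℕ) {k m : ℕ} (h : m ≤ k) {M : Matrix ι ι R} (hM : Sh b k M) : Sh b m M := by
  intro i j hij
  have := hM i j hij
  omega

theorem sh_pow (b : ι → ℕ) (k : ℕ) {M : Matrix ι ι R} (hM : Sh b k M) (n : ℕ) : Sh b (n * k) (M ^ n) := by
  induction n with
  | zero =>
    rw [pow_zero, Nat.zero_mul]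
    exact sh_one b
  | succ n ih =>
    rw [pow_succ]
    have := sh_mul b _ _ ih hM
    have e : n * k + k = (n + 1) * k := by ring
    rw [e] at this
    exact this

theorem sh_sum (b : ι → ℕ) (k : ℕ) {α : Type*} (s : Finset α) (f : α → Matrix ι ι R)
    (h : ∀ a ∈ s, Sh b k (f a)) : Sh b k (∑ a ∈ s, f a) := by
  classical
  induction s using Finset.induction_on with
  | empty =>
    rw [Finset.sum_empty]
    exact sh_zero b k
  | insert a s ha ih =>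
    rw [Finset.sum_insert ha]
    exact sh_add b k (h a (Finset.mem_insert_self a s)) (ih (fun x hx => h x (Finset.mem_insert_of_mem hx)))

theorem sh_eq_zero (b : ι → ℕ) (B : ℕ) (hb : ∀ i, b i < B) {M : Matrix ι ι R} (hM : Sh b B M) : M = 0 := by
  ext i j
  by_contra h
  have h1 := hM i j h
  have h2 := hb i
  simp only [Matrix.zero_apply] at h
  omega

theorem pow_eq_zero_of_sh (b : ι → ℕ) (B : ℕ) (hb : ∀ i, b i < B) {N : Matrix ι ι R} (hN : Sh b 1 N) :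
    N ^ B = 0 := by
  apply sh_eq_zero b B hb
  have := sh_pow b 1 hN B
  rw [Nat.mul_one] at this
  exact this

theorem sh_inv_sub_one (b : ι → ℕ) (B : ℕ) (hb : ∀ i, b i < B) (k : ℕ) (hk : 1 ≤ k)
    (g : (Matrix ι ι R)ˣ) (hg : Sh b k ((g : Matrix ι ι R) - 1)) :
    Sh b k (((g⁻¹ : (Matrix ι ι R)ˣ) : Matrix ι ι R) - 1) := by
  set N : Matrix ι ι R := (g : Matrix ι ι R) - 1 with hN
  have hN1 : Sh b 1 (-N) := sh_neg b 1 (sh_mono b hk hg)
  have hpow : (-N) ^ B = 0 := pow_eq_zero_of_sh b B hb hN1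
  have hgeo : (1 - (-N)) * ∑ i ∈ range B, (-N) ^ i = 1 - (-N) ^ B := mul_neg_geom_sum (-N) B
  have hg1 : (1 - (-N)) = (g : Matrix ι ι R) := by
    rw [hN]
    abel
  rw [hg1, hpow, sub_zero] at hgeo
  have hinv : ((g⁻¹ : (Matrix ι ι R)ˣ) : Matrix ι ι R) = ∑ i ∈ range B, (-N) ^ i := by
    have : ((g⁻¹ : (Matrix ι ι R)ˣ) : Matrix ι ι R) * ((g : Matrix ι ι R) * ∑ i ∈ range B, (-N) ^ i) =
        ((g⁻¹ : (Matrix ι ι R)ˣ) : Matrix ι ι R) * 1 := by rw [hgeo]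
    rw [← mul_assoc, Units.inv_mul, one_mul, mul_one] at this
    exact this.symm
  rw [hinv]
  cases B with
  | zero =>
    intro i j _
    exact absurd (hb i) (Nat.not_lt_zero _)
  | succ B' =>
    rw [Finset.sum_range_succ', pow_zero, add_sub_cancel_right]
    apply sh_sum
    intro a _
    have h1 : Sh b ((a + 1) * k) ((-N) ^ (a + 1)) := sh_pow b k (sh_neg b k hg) (a + 1)
    exact sh_mono b (by nlinarith) h1

def UL (b : ι → ℕ) (B : ℕ) (hb : ∀ i, b i < B) (k : ℕ) (hk : 1 ≤ k) : Subgroup (Matrix ι ι R)ˣ where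
  carrier := {g | Sh b k ((g : Matrix ι ι R) - 1)}
  mul_mem' := by
    intro g h hg hh
    change Sh b k ((g : Matrix ι ι R) - 1) at hg
    change Sh b k ((h : Matrix ι ι R) - 1) at hh
    change Sh b k (((g * h : (Matrix ι ι R)ˣ) : Matrix ι ι R) - 1)
    have e : ((g * h : (Matrix ι ι R)ˣ) : Matrix ι ι R) - 1 =
        ((g : Matrix ι ι R) - 1) + ((h : Matrix ι ι R) - 1) + ((g : Matrix ι ι R) - 1) * ((h : Matrix ι ι R) - 1) := by
      rw [Units.val_mul]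
      noncomm_ring
    rw [e]
    exact sh_add b k (sh_add b k hg hh) (sh_mono b (Nat.le_add_right k k) (sh_mul b k k hg hh))
  one_mem' := by
    change Sh b k (((1 : (Matrix ι ι R)ˣ) : Matrix ι ι R) - 1)
    rw [Units.val_one, sub_self]
    exact sh_zero b k
  inv_mem' := by
    intro g hg
    exact sh_inv_sub_one b B hb k hk g hg

theorem mem_UL (b : ι → ℕ) (B : ℕ) (hb : ∀ i, b i < B) (k : ℕ) (hk : 1 ≤ k) (g : (Matrix ι ι R)ˣ) :
    g ∈ UL b B hb k hk ↔ Sh b k ((g : Matrix ι ι R) - 1) := Iff.rfl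

theorem comm_mem_UL (b : ι → ℕ) (B : ℕ) (hb : ∀ i, b i < B) (k : ℕ) (hk : 1 ≤ k)
    (x g : (Matrix ι ι R)ˣ) (hx : x ∈ UL b B hb k hk) (hg : g ∈ UL b B hb 1 le_rfl) :
    ⁅x, g⁆ ∈ UL b B hb (k + 1) (Nat.le_add_left 1 k) := by
  rw [mem_UL] at hx hg ⊢
  have hx' : Sh b k (((x⁻¹ : (Matrix ι ι R)ˣ) : Matrix ι ι R) - 1) := sh_inv_sub_one b B hb k hk x hx
  have hg' : Sh b 1 (((g⁻¹ : (Matrix ι ι R)ˣ) : Matrix ι ι R) - 1) := sh_inv_sub_one b B hb 1 le_rfl g hg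
  have e : ((⁅x, g⁆ : (Matrix ι ι R)ˣ) : Matrix ι ι R) - 1 =
      (((x : Matrix ι ι R) - 1) * ((g : Matrix ι ι R) - 1) - ((g : Matrix ι ι R) - 1) * ((x : Matrix ι ι R) - 1)) *
        (((x⁻¹ : (Matrix ι ι R)ˣ) : Matrix ι ι R) * ((g⁻¹ : (Matrix ι ι R)ˣ) : Matrix ι ι R)) := by
    rw [commutatorElement_def]
    simp only [Units.val_mul]
    have h1 : (x : Matrix ι ι R) * ((x⁻¹ : (Matrix ι ι R)ˣ) : Matrix ι ι R) = 1 := Units.mul_inv x
    have h2 : (g : Matrix ι ι R) * ((g⁻¹ : (Matrix ι ι R)ˣ) : Matrix ι ι R) = 1 := Units.mul_inv g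
    have e1 : ((x : Matrix ι ι R) - 1) * ((g : Matrix ι ι R) - 1) - ((g : Matrix ι ι R) - 1) * ((x : Matrix ι ι R) - 1)
        = (x : Matrix ι ι R) * (g : Matrix ι ι R) - (g : Matrix ι ι R) * (x : Matrix ι ι R) := by
      noncomm_ring
    rw [e1, sub_mul]
    have e2 : (g : Matrix ι ι R) * (x : Matrix ι ι R) * (((x⁻¹ : (Matrix ι ι R)ˣ) : Matrix ι ι R) * ((g⁻¹ : (Matrix ι ι R)ˣ) : Matrix ι ι R)) = 1 := by
      rw [mul_assoc, ← mul_assoc (x : Matrix ι ι R), h1, one_mul, h2]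
    rw [e2]
    simp only [mul_assoc]
  rw [e]
  have h3 : Sh b (k + 1) (((x : Matrix ι ι R) - 1) * ((g : Matrix ι ι R) - 1) - ((g : Matrix ι ι R) - 1) * ((x : Matrix ι ι R) - 1)) := by
    apply sh_sub
    · exact sh_mul b k 1 hx hg
    · have := sh_mul b 1 k hg hx
      rw [Nat.add_comm] at this
      exact this
  have h4 : Sh b 0 (((x⁻¹ : (Matrix ι ι R)ˣ) : Matrix ι ι R) * ((g⁻¹ : (Matrix ι ι R)ˣ) : Matrix ι ι R)) := by
    have a1 : Sh b 0 (((x⁻¹ : (Matrix ι ι R)ˣ) : Matrix ι ι R)) := by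
      have := sh_add b 0 (sh_mono b (Nat.zero_le k) hx') (sh_one b)
      rw [sub_add_cancel] at this
      exact this
    have a2 : Sh b 0 (((g⁻¹ : (Matrix ι ι R)ˣ) : Matrix ι ι R)) := by
      have := sh_add b 0 (sh_mono b (Nat.zero_le 1) hg') (sh_one b)
      rw [sub_add_cancel] at this
      exact this
    exact sh_mul b 0 0 a1 a2
  exact sh_mul b (k + 1) 0 h3 h4

theorem UL_top_eq_bot (b : ι → ℕ) (B : ℕ) (hb : ∀ i, b i < B) (k : ℕ) (hk : 1 ≤ k) (hkB : B ≤ k) :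
    UL (R := R) b B hb k hk = ⊥ := by
  rw [Subgroup.eq_bot_iff_forall]
  intro g hg
  rw [mem_UL] at hg
  have := sh_eq_zero b B hb (sh_mono b hkB hg)
  apply Units.ext
  rw [Units.val_one]
  exact sub_eq_zero.mp this

theorem isNilpotent_of_le_UL (b : ι → ℕ) (B : ℕ) (hb : ∀ i, b i < B) (H : Subgroup (Matrix ι ι R)ˣ)
    (hH : H ≤ UL b B hb 1 le_rfl) : Group.IsNilpotent H := by
  rw [Subgroup.nilpotent_iff_finite_descending_central_series]
  refine ⟨B, fun m => (UL b B hb (m + 1) (Nat.le_add_left 1 m)).subgroupOf H, ⟨?_, ?_⟩, ?_⟩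
  · rw [Subgroup.subgroupOf_eq_top]
    exact hH
  · intro x m hx g
    rw [Subgroup.mem_subgroupOf] at hx ⊢
    have := comm_mem_UL b B hb (m + 1) (Nat.le_add_left 1 m) (x : (Matrix ι ι R)ˣ) (g : (Matrix ι ι R)ˣ) hx (hH g.2)
    exact this
  · change (UL b B hb (B + 1) (Nat.le_add_left 1 B)).subgroupOf H = ⊥
    rw [UL_top_eq_bot b B hb (B + 1) (Nat.le_add_left 1 B) (Nat.le_succ B)]
    exact Subgroup.bot_subgroupOf H

end Cfsg.Agent.Lib.Helper7.Shift
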