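import Cfsg.Agent.Lib.Helper7.CommAll
import Cfsg.Agent.Lib.Helper7.ChevExch
import Cfsg.Agent.Lib.Helper7.TriAll

set_option autoImplicit false
set_option maxHeartbeats 400000

namespace Cfsg.Agent.Lib.Helper7.ChevUProd
open Cfsg.Lie Cfsg.Agent.Lib.Helper7.ChevEngine Cfsg.Agent.Lib.Helper7.ChevN
  Cfsg.Agent.Lib.Helper7.ChevConj
  Cfsg.Agent.Lib.Helper7.ChevConjT Cfsg.Agent.Lib.Helper7.ChevConjU Cfsg.Agent.Lib.Helper7.ChevAdd
  Cfsg.Agent.Lib.Helper7.ChevHAll Cfsg.Agent.Lib.Helper7.HBaseAll Cfsg.Agent.Lib.Helper7.ChevTorus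
  Cfsg.Agent.Lib.Helper7.ChevBN Cfsg.Agent.Lib.Helper7.ChevGen Cfsg.Agent.Lib.Helper7.ChevOrb
  Cfsg.Agent.Lib.Helper7.ChevW0 Cfsg.Agent.Lib.Helper7.ChevComm Cfsg.Agent.Lib.Helper7.ChevPerf
  Cfsg.Agent.Lib.Helper7.ChevRel Cfsg.Agent.Lib.Helper7.Shift Cfsg.Agent.Lib.Helper7.Tri2
  Cfsg.Agent.Lib.Helper7.ChevTri Cfsg.Agent.Lib.Helper7.ChevTriNeg Cfsg.Agent.Lib.Helper7.ChevNW
  Cfsg.Agent.Lib.Helper7.ChevCommF Cfsg.Agent.Lib.Helper7.CommAll Cfsg.Agent.Lib.Helper7.ChevExch
  Cfsg.Agent.Lib.Helper7.TriAll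

structure UData (D : ChevalleyDatum) : Prop where
  negRev : ∀ r < D.nroots, D.neg r = D.nroots - 1 - r
  bez : ∀ r < D.nroots, D.nroots / 2 ≤ r →
    ∃ β : ℕ → ℤ, ((List.range D.rank).map fun i => β i * (fnsOf D).cor r i).sum = 1
  ord : ∀ r s, D.nroots / 2 ≤ r → r < s → s < D.nroots → ∀ c ∈ D.commTerms r s, s < c.1 ∧ c.1 < D.nroots

def negRevCheck (D : ChevalleyDatum) : Bool :=
  (List.range D.nroots).all fun r => decide (D.neg r = D.nroots - 1 - r)

def bezCheck (D : ChevalleyDatum) (cert : List (List ℤ)) : Bool :=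
  (List.range D.nroots).all fun r => decide (r < D.nroots / 2) ||
    decide (((List.range D.rank).map fun i => (cert.getD r []).getD i 0 * (fnsOf D).cor r i).sum = 1)

theorem negRev_of_check (D : ChevalleyDatum) (h : negRevCheck D = true) :
    ∀ r < D.nroots, D.neg r = D.nroots - 1 - r := by
  intro r hr
  unfold negRevCheck at h
  rw [List.all_eq_true] at h
  simpa using h r (List.mem_range.mpr hr)

theorem bez_of_check (D : ChevalleyDatum) (cert : List (List ℤ)) (h : bezCheck D cert = true) :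
    ∀ r < D.nroots, D.nroots / 2 ≤ r →
      ∃ β : ℕ → ℤ, ((List.range D.rank).map fun i => β i * (fnsOf D).cor r i).sum = 1 := by
  intro r hr hr2
  unfold bezCheck at h
  rw [List.all_eq_true] at h
  have h1 := h r (List.mem_range.mpr hr)
  rw [Bool.or_eq_true, decide_eq_true_eq, decide_eq_true_eq] at h1
  rcases h1 with h1 | h1
  · omega
  · exact ⟨fun i => (cert.getD r []).getD i 0, h1⟩

theorem pos_iff (D : ChevalleyDatum) (hD : D ∈ [chevG2, chevB2, chevD4, chevF4, chevE6, chevE7, chevE8])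
    (r : ℕ) : D.IsPosRoot r ↔ D.nroots / 2 ≤ r ∧ r < D.nroots := by
  have sd := signData_of_mem D hD
  have ht := tri_of_mem D hD
  constructor
  · intro h
    exact ⟨tri_pos D ht r h, h.1⟩
  · rintro ⟨h1, h2⟩
    have hn : D.neg r < D.nroots / 2 := tri_neg D ht r h2 h1
    have hn2 : D.neg r < D.nroots := lt_of_lt_of_le hn (Nat.div_le_self _ _)
    rcases sd.pos_or_neg (D.neg r) hn2 with hp | hng
    · have := tri_pos D ht _ hp
      omega
    · exact (sd.neg_iff r h2).mpr hng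

theorem filter_range_ge (n k : ℕ) (hk : k ≤ n) :
    (List.range n).filter (fun r => decide (k ≤ r)) = List.range' k (n - k) := by
  have e : List.range n = List.range' 0 k ++ List.range' k (n - k) := by
    rw [List.range_eq_range']
    have := List.range'_append (s := 0) (m := k) (n := n - k) (step := 1)
    simp only [Nat.zero_add, Nat.one_mul, Nat.mul_one] at this
    rw [this]
    congr 1
    omega
  rw [e, List.filter_append]
  have h1 : (List.range' 0 k).filter (fun r => decide (k ≤ r)) = [] := by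
    rw [List.filter_eq_nil_iff]
    intro a ha
    rw [List.mem_range'_1] at ha
    simp
    omega
  have h2 : (List.range' k (n - k)).filter (fun r => decide (k ≤ r)) = List.range' k (n - k) := by
    rw [List.filter_eq_self]
    intro a ha
    rw [List.mem_range'_1] at ha
    simp
    omega
  rw [h1, h2, List.nil_append]

theorem posRoots_eq (D : ChevalleyDatum) (hD : D ∈ [chevG2, chevB2, chevD4, chevF4, chevE6, chevE7, chevE8]) :
    D.posRoots = List.range' (D.nroots / 2) (D.nroots - D.nroots / 2) := by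
  unfold ChevalleyDatum.posRoots
  rw [← filter_range_ge D.nroots (D.nroots / 2) (Nat.div_le_self _ _)]
  apply List.filter_congr
  intro r hr
  rw [List.mem_range] at hr
  have := pos_iff D hD r
  by_cases h : D.IsPosRoot r
  · have h2 := this.mp h
    simp [h, h2.1]
  · have h2 : ¬ D.nroots / 2 ≤ r := fun h3 => h (this.mpr ⟨h3, hr⟩)
    simp [h, h2]

section
variable {F : Type*} [Field F]

def Uge (F : Type*) [Field F] (D : ChevalleyDatum) (k : ℕ) : Subgroup (GL D.Idx F) :=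
  Subgroup.closure {g | ∃ (s : ℕ) (t : F), k ≤ s ∧ s < D.nroots ∧ (g : Matrix D.Idx D.Idx F) = D.x F s t}

theorem xGL_mem_Uge (D : ChevalleyDatum) (hD : D ∈ [chevG2, chevB2, chevD4, chevF4, chevE6, chevE7, chevE8])
    (k s : ℕ) (hks : k ≤ s) (hs : s < D.nroots) (t : F) : xGL D hD s t ∈ Uge F D k :=
  Subgroup.subset_closure ⟨s, t, hks, hs, xGL_val D hD s t⟩

theorem Uge_eq_U (D : ChevalleyDatum) (hD : D ∈ [chevG2, chevB2, chevD4, chevF4, chevE6, chevE7, chevE8]) :
    Uge F D (D.nroots / 2) = D.posUnipotent F := by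
  unfold Uge ChevalleyDatum.posUnipotent
  congr 1
  ext g
  constructor
  · rintro ⟨s, t, h1, h2, hg⟩
    exact ⟨s, t, (pos_iff D hD s).mpr ⟨h1, h2⟩, hg⟩
  · rintro ⟨s, t, hs, hg⟩
    have := (pos_iff D hD s).mp hs
    exact ⟨s, t, this.1, this.2, hg⟩

theorem Uge_top (D : ChevalleyDatum) : Uge F D D.nroots = ⊥ := by
  unfold Uge
  rw [Subgroup.closure_eq_bot_iff]
  rintro g ⟨s, t, h1, h2, -⟩
  omega

theorem Uge_le_U (D : ChevalleyDatum) (hD : D ∈ [chevG2, chevB2, chevD4, chevF4, chevE6, chevE7, chevE8])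
    (k : ℕ) (hk : D.nroots / 2 ≤ k) : Uge F D k ≤ D.posUnipotent F := by
  rw [← Uge_eq_U D hD]
  unfold Uge
  apply Subgroup.closure_mono
  rintro g ⟨s, t, h1, h2, hg⟩
  exact ⟨s, t, le_trans hk h1, h2, hg⟩

theorem xGL_zero (D : ChevalleyDatum) (hD : D ∈ [chevG2, chevB2, chevD4, chevF4, chevE6, chevE7, chevE8])
    (r : ℕ) : xGL (F := F) D hD r 0 = 1 := by
  apply Units.ext
  rw [xGL_val, x_zero, Units.val_one]

theorem claimB (D : ChevalleyDatum) (hD : D ∈ [chevG2, chevB2, chevD4, chevF4, chevE6, chevE7, chevE8])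
    (hU : UData D) (k s : ℕ) (hk : D.nroots / 2 ≤ k) (hks : k < s) (hs : s < D.nroots) (t u : F) :
    xGL D hD k t * xGL D hD s u * (xGL D hD k t)⁻¹ ∈ Uge F D (k + 1) := by
  have ht := tri_of_mem D hD
  have hkn : k < D.nroots := lt_trans hks hs
  have hneg : s ≠ D.neg k := by
    have hn : D.neg k < D.nroots / 2 := tri_neg D ht k hkn hk
    omega
  have hcf := comm_formula (F := F) D hD k s hkn hs (by omega) hneg (-t) u
  have e : xGL D hD k t * xGL D hD s u * (xGL D hD k t)⁻¹ =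
      xGL D hD s u * wordGL D hD (D.commWord F k s (-t) u) := by
    rw [← xGL_neg, mul_assoc, hcf, ← mul_assoc, ← mul_assoc, xGL_add, add_neg_cancel, xGL_zero, one_mul]
  rw [e]
  apply mul_mem (xGL_mem_Uge D hD _ _ (by omega) hs u)
  apply wordGL_mem_of
  intro p hp
  unfold ChevalleyDatum.commWord at hp
  rw [List.mem_map] at hp
  obtain ⟨c, hc, rfl⟩ := hp
  have := hU.ord k s hk hks hs c hc
  exact xGL_mem_Uge D hD _ _ (by omega) this.2 _

theorem conj_Uge (D : ChevalleyDatum) (hD : D ∈ [chevG2, chevB2, chevD4, chevF4, chevE6, chevE7, chevE8])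
    (hU : UData D) (k : ℕ) (hk : D.nroots / 2 ≤ k) (t : F) (g : GL D.Idx F) (hg : g ∈ Uge F D (k + 1)) :
    xGL D hD k t * g * (xGL D hD k t)⁻¹ ∈ Uge F D (k + 1) := by
  unfold Uge at hg
  induction hg using Subgroup.closure_induction with
  | mem x hx =>
    obtain ⟨s, u, h1, h2, hx⟩ := hx
    have : x = xGL D hD s u := Units.ext (by rw [hx, xGL_val])
    rw [this]
    exact claimB D hD hU k s hk (by omega) h2 t u
  | one =>
    rw [mul_one, mul_inv_cancel]
    exact one_mem _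
  | mul x y _ _ ihx ihy =>
    rw [← conj_mul]
    exact mul_mem ihx ihy
  | inv x _ ih =>
    rw [← conj_inv]
    exact inv_mem ih

theorem Uge_decomp (D : ChevalleyDatum) (hD : D ∈ [chevG2, chevB2, chevD4, chevF4, chevE6, chevE7, chevE8])
    (hU : UData D) (k : ℕ) (hk : D.nroots / 2 ≤ k) (hkn : k < D.nroots) (g : GL D.Idx F) (hg : g ∈ Uge F D k) :
    ∃ t : F, ∃ g' ∈ Uge F D (k + 1), g = xGL D hD k t * g' := by
  unfold Uge at hg
  induction hg using Subgroup.closure_induction with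
  | mem x hx =>
    obtain ⟨s, u, h1, h2, hx⟩ := hx
    have e : x = xGL D hD s u := Units.ext (by rw [hx, xGL_val])
    rcases Nat.eq_or_lt_of_le h1 with h | h
    · subst h
      exact ⟨u, 1, one_mem _, by rw [e, mul_one]⟩
    · exact ⟨0, x, by rw [e]; exact xGL_mem_Uge D hD _ _ (by omega) h2 u, by rw [xGL_zero, one_mul]⟩
  | one => exact ⟨0, 1, one_mem _, by rw [xGL_zero, one_mul]⟩
  | mul x y _ _ ihx ihy =>
    obtain ⟨a, g1, hg1, rfl⟩ := ihx
    obtain ⟨b, g2, hg2, rfl⟩ := ihy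
    refine ⟨a + b, xGL D hD k (-b) * g1 * (xGL D hD k (-b))⁻¹ * g2,
      mul_mem (conj_Uge D hD hU k hk (-b) g1 hg1) hg2, ?_⟩
    rw [← xGL_add, xGL_neg]
    group
  | inv x _ ih =>
    obtain ⟨a, g1, hg1, rfl⟩ := ih
    refine ⟨-a, xGL D hD k a * g1⁻¹ * (xGL D hD k a)⁻¹, conj_Uge D hD hU k hk a _ (inv_mem hg1), ?_⟩
    rw [xGL_neg]
    group

def wd (t : ℕ → F) (k j : ℕ) : List (ℕ × F) := (List.range' k j).map fun r => (r, t r)

theorem wd_succ (t : ℕ → F) (k j : ℕ) : wd t k (j + 1) = (k, t k) :: wd t (k + 1) j := by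
  unfold wd
  rw [List.range'_succ, List.map_cons]

theorem wd_congr (t t' : ℕ → F) (k j : ℕ) (h : ∀ r, k ≤ r → r < k + j → t r = t' r) : wd t k j = wd t' k j := by
  unfold wd
  apply List.map_congr_left
  intro r hr
  rw [List.mem_range'_1] at hr
  rw [h r hr.1 hr.2]

theorem wd_mem_Uge (D : ChevalleyDatum) (hD : D ∈ [chevG2, chevB2, chevD4, chevF4, chevE6, chevE7, chevE8])
    (t : ℕ → F) (k j : ℕ) (hkj : k + j ≤ D.nroots) : wordGL D hD (wd t k j) ∈ Uge F D k := by
  apply wordGL_mem_of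
  intro p hp
  unfold wd at hp
  rw [List.mem_map] at hp
  obtain ⟨r, hr, rfl⟩ := hp
  rw [List.mem_range'_1] at hr
  exact xGL_mem_Uge D hD _ _ hr.1 (by omega) _

theorem exists_wd (D : ChevalleyDatum) (hD : D ∈ [chevG2, chevB2, chevD4, chevF4, chevE6, chevE7, chevE8])
    (hU : UData D) : ∀ j, j ≤ D.nroots - D.nroots / 2 → ∀ g ∈ Uge F D (D.nroots - j),
      ∃ t : ℕ → F, g = wordGL D hD (wd t (D.nroots - j) j) := by
  intro j
  induction j with
  | zero =>
    intro _ g hg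
    rw [Nat.sub_zero, Uge_top, Subgroup.mem_bot] at hg
    exact ⟨fun _ => 0, by rw [hg]; rfl⟩
  | succ j ih =>
    intro hj g hg
    have hk : D.nroots / 2 ≤ D.nroots - (j + 1) := by omega
    have hkn : D.nroots - (j + 1) < D.nroots := by omega
    obtain ⟨a, g', hg', rfl⟩ := Uge_decomp D hD hU _ hk hkn g hg
    have e1 : D.nroots - (j + 1) + 1 = D.nroots - j := by omega
    rw [e1] at hg'
    obtain ⟨t', rfl⟩ := ih (by omega) g' hg'
    refine ⟨Function.update t' (D.nroots - (j + 1)) a, ?_⟩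
    rw [wd_succ, wordGL_cons, Function.update_self, e1]
    congr 2
    apply wd_congr
    intro r h1 h2
    rw [Function.update_of_ne (by omega)]

def Qp (D : ChevalleyDatum) (ρ : ℕ) (M : Matrix D.Idx D.Idx F) : Prop :=
  ∀ c : Fin D.nroots, ρ ≤ c.val → (∀ j : Fin D.rank, M (Sum.inl j) (Sum.inr c) = 0) ∧
    (∀ c' : Fin D.nroots, c'.val < ρ → M (Sum.inr c') (Sum.inr c) = 0)

theorem Qp_one (D : ChevalleyDatum) (ρ : ℕ) : Qp D ρ (1 : Matrix D.Idx D.Idx F) := by
  intro c hc
  refine ⟨fun j => Matrix.one_apply_ne (by simp), fun c' hc' => Matrix.one_apply_ne ?_⟩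
  intro h
  have := Sum.inr.inj h
  rw [this] at hc'
  omega

theorem Qp_mul (D : ChevalleyDatum) (ρ : ℕ) (M N : Matrix D.Idx D.Idx F) (hM : Qp D ρ M) (hN : Qp D ρ N) :
    Qp D ρ (M * N) := by
  intro c hc
  have key : ∀ row : D.Idx, (∀ c'' : Fin D.nroots, ρ ≤ c''.val → M row (Sum.inr c'') = 0) →
      (M * N) row (Sum.inr c) = 0 := by
    intro row hrow
    rw [Matrix.mul_apply]
    apply Finset.sum_eq_zero
    intro x _
    rcases x with j | c''
    · rw [(hN c hc).1 j, mul_zero]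
    · by_cases h : c''.val < ρ
      · rw [(hN c hc).2 c'' h, mul_zero]
      · rw [hrow c'' (by omega), zero_mul]
  refine ⟨fun j => key _ (fun c'' h => (hM c'' h).1 j), fun c' hc' => key _ (fun c'' h => (hM c'' h).2 c' hc')⟩

theorem Qp_x (D : ChevalleyDatum) (hD : D ∈ [chevG2, chevB2, chevD4, chevF4, chevE6, chevE7, chevE8])
    (ρ s : ℕ) (hs : s < D.nroots) (hs2 : D.nroots / 2 ≤ s) (hρ : D.neg s < ρ) (u : F) :
    Qp D ρ (D.x F s u) := by
  have ht := tri_of_mem D hD
  intro c hc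
  rw [x_eq]
  unfold xx
  rw [if_pos hs]
  constructor
  · intro j
    by_cases h1 : c.val = s
    · exact xM_inl_inr_r _ _ _ _ _ _ _ h1
    · exact xM_inl_inr_gen _ _ _ _ _ _ _ h1 (by
        intro h2
        have : (fnsOf D).neg s = D.neg s := rfl
        omega)
  · intro c' hc'
    have hsh := xM_sh (F := F) D ht s hs hs2 u
    by_contra hne
    have hne' : (xM D.rank D.nroots (fnsOf D) F s u - 1) (Sum.inr c') (Sum.inr c) ≠ 0 := by
      rw [Matrix.sub_apply, Matrix.one_apply_ne (by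
        intro h
        have := Sum.inr.inj h
        rw [this] at hc'
        omega), sub_zero]
      exact hne
    have h3 := hsh _ _ hne'
    have h4 := bfun_mono_root D.rank D.nroots c' c (by omega)
    omega

theorem Qp_Uge (D : ChevalleyDatum) (hD : D ∈ [chevG2, chevB2, chevD4, chevF4, chevE6, chevE7, chevE8])
    (hU : UData D) (k : ℕ) (hk : D.nroots / 2 ≤ k) (hkn : k < D.nroots) (g : GL D.Idx F)
    (hg : g ∈ Uge F D (k + 1)) :
    Qp D (D.neg k) (g : Matrix D.Idx D.Idx F) ∧ Qp D (D.neg k) ((g⁻¹ : GL D.Idx F) : Matrix D.Idx D.Idx F) := by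
  unfold Uge at hg
  induction hg using Subgroup.closure_induction with
  | mem x hx =>
    obtain ⟨s, u, h1, h2, hx⟩ := hx
    have e : x = xGL D hD s u := Units.ext (by rw [hx, xGL_val])
    have hρ : D.neg s < D.neg k := by
      rw [hU.negRev s h2, hU.negRev k hkn]
      omega
    rw [e]
    refine ⟨?_, ?_⟩
    · rw [xGL_val]
      exact Qp_x D hD _ s h2 (by omega) hρ u
    · rw [xGL_inv_val]
      exact Qp_x D hD _ s h2 (by omega) hρ (-u)
  | one =>
    rw [inv_one, Units.val_one]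
    exact ⟨Qp_one D _, Qp_one D _⟩
  | mul x y _ _ ihx ihy =>
    rw [mul_inv_rev, Units.val_mul, Units.val_mul]
    exact ⟨Qp_mul D _ _ _ ihx.1 ihy.1, Qp_mul D _ _ _ ihy.2 ihx.2⟩
  | inv x _ ih =>
    rw [inv_inv]
    exact ⟨ih.2, ih.1⟩

theorem diag_one (D : ChevalleyDatum) (hD : D ∈ [chevG2, chevB2, chevD4, chevF4, chevE6, chevE7, chevE8])
    (g : GL D.Idx F) (hg : g ∈ D.posUnipotent F) (i : D.Idx) : (g : Matrix D.Idx D.Idx F) i i = 1 := by
  have h := posUnipotent_le_UL (F := F) D (tri_of_mem D hD) hg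
  rw [mem_UL] at h
  by_contra hne
  have hne' : ((g : Matrix D.Idx D.Idx F) - 1) i i ≠ 0 := by
    rw [Matrix.sub_apply, Matrix.one_apply_eq]
    intro h0
    exact hne (sub_eq_zero.mp h0)
  have := h i i hne'
  omega

theorem entry_key (D : ChevalleyDatum) (hD : D ∈ [chevG2, chevB2, chevD4, chevF4, chevE6, chevE7, chevE8])
    (hU : UData D) (k : ℕ) (hk : D.nroots / 2 ≤ k) (hkn : k < D.nroots) (a : F) (g : GL D.Idx F)
    (hg : g ∈ Uge F D (k + 1)) (i : Fin D.rank) (hρ : D.neg k < D.nroots) :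
    ((xGL D hD k a * g : GL D.Idx F) : Matrix D.Idx D.Idx F) (Sum.inl i) (Sum.inr ⟨D.neg k, hρ⟩) =
      (((fnsOf D).cor k i.val : ℤ) : F) * a := by
  have ht := tri_of_mem D hD
  have hQ := (Qp_Uge D hD hU k hk hkn g hg).1
  have hd := diag_one D hD g (Uge_le_U D hD (k + 1) (by omega) hg) (Sum.inr ⟨D.neg k, hρ⟩)
  have hnk : D.neg k < D.nroots / 2 := tri_neg D ht k hkn hk
  rw [Units.val_mul, xGL_val, Matrix.mul_apply, Fintype.sum_sum_type]
  have h1 : ∑ j : Fin D.rank, D.x F k a (Sum.inl i) (Sum.inl j) *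
      (g : Matrix D.Idx D.Idx F) (Sum.inl j) (Sum.inr ⟨D.neg k, hρ⟩) = 0 := by
    apply Finset.sum_eq_zero
    intro j _
    rw [(hQ ⟨D.neg k, hρ⟩ le_rfl).1 j, mul_zero]
  rw [h1, zero_add, Finset.sum_eq_single (⟨D.neg k, hρ⟩ : Fin D.nroots)]
  · rw [hd, mul_one, x_eq]
    unfold xx
    rw [if_pos hkn]
    exact xM_inl_inr_neg _ _ _ _ _ _ _ (by show ¬ D.neg k = k; omega) rfl
  · intro c _ hc
    have hcv : c.val ≠ D.neg k := fun h => hc (Fin.ext h)
    have hz : D.x F k a (Sum.inl i) (Sum.inr c) = 0 := by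
      rw [x_eq]
      unfold xx
      rw [if_pos hkn]
      by_cases h1 : c.val = k
      · exact xM_inl_inr_r _ _ _ _ _ _ _ h1
      · exact xM_inl_inr_gen _ _ _ _ _ _ _ h1 hcv
    rw [hz, zero_mul]
  · intro h
    exact absurd (Finset.mem_univ _) h

theorem key_unique (D : ChevalleyDatum) (hD : D ∈ [chevG2, chevB2, chevD4, chevF4, chevE6, chevE7, chevE8])
    (hU : UData D) (k : ℕ) (hk : D.nroots / 2 ≤ k) (hkn : k < D.nroots) (a b : F) (g g' : GL D.Idx F)
    (hg : g ∈ Uge F D (k + 1)) (hg' : g' ∈ Uge F D (k + 1))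
    (e : xGL D hD k a * g = xGL D hD k b * g') : a = b := by
  have ht := tri_of_mem D hD
  have hnk : D.neg k < D.nroots / 2 := tri_neg D ht k hkn hk
  have hρ : D.neg k < D.nroots := lt_of_lt_of_le hnk (Nat.div_le_self _ _)
  obtain ⟨β, hβ⟩ := hU.bez k hkn hk
  have hent : ∀ i : Fin D.rank, (((fnsOf D).cor k i.val : ℤ) : F) * a = (((fnsOf D).cor k i.val : ℤ) : F) * b := by
    intro i
    rw [← entry_key D hD hU k hk hkn a g hg i hρ, ← entry_key D hD hU k hk hkn b g' hg' i hρ, e]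
  have hsum : ∀ x : F, ((List.range D.rank).map fun i => ((β i : ℤ) : F) * ((((fnsOf D).cor k i : ℤ) : F) * x)).sum = x := by
    intro x
    have h1 : ((List.range D.rank).map fun i => ((β i : ℤ) : F) * ((((fnsOf D).cor k i : ℤ) : F) * x)) =
        (List.range D.rank).map fun i => (((β i * (fnsOf D).cor k i : ℤ) : ℤ) : F) * x := by
      apply List.map_congr_left
      intro i _
      push_cast
      ring
    rw [h1, List.sum_map_mul_right]
    have h2 : ((List.range D.rank).map fun i => (((β i * (fnsOf D).cor k i : ℤ) : ℤ) : F)).sum =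
        (((((List.range D.rank).map fun i => β i * (fnsOf D).cor k i).sum : ℤ) : ℤ) : F) := by
      rw [Int.cast_list_sum, List.map_map]
      rfl
    rw [h2, hβ, Int.cast_one, one_mul]
  rw [← hsum a, ← hsum b]
  congr 1
  apply List.map_congr_left
  intro i hi
  rw [List.mem_range] at hi
  rw [hent ⟨i, hi⟩]

theorem unique_wd (D : ChevalleyDatum) (hD : D ∈ [chevG2, chevB2, chevD4, chevF4, chevE6, chevE7, chevE8])
    (hU : UData D) : ∀ j, j ≤ D.nroots - D.nroots / 2 → ∀ t t' : ℕ → F,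
      wordGL D hD (wd t (D.nroots - j) j) = wordGL D hD (wd t' (D.nroots - j) j) →
      ∀ r, D.nroots - j ≤ r → r < D.nroots → t r = t' r := by
  intro j
  induction j with
  | zero =>
    intro _ t t' _ r h1 h2
    omega
  | succ j ih =>
    intro hj t t' e r h1 h2
    have hk : D.nroots / 2 ≤ D.nroots - (j + 1) := by omega
    have hkn : D.nroots - (j + 1) < D.nroots := by omega
    have e1 : D.nroots - (j + 1) + 1 = D.nroots - j := by omega
    rw [wd_succ, wd_succ, wordGL_cons, wordGL_cons, e1] at e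
    have hm : wordGL D hD (wd t (D.nroots - j) j) ∈ Uge F D (D.nroots - (j + 1) + 1) := by
      rw [e1]
      exact wd_mem_Uge D hD t _ _ (by omega)
    have hm' : wordGL D hD (wd t' (D.nroots - j) j) ∈ Uge F D (D.nroots - (j + 1) + 1) := by
      rw [e1]
      exact wd_mem_Uge D hD t' _ _ (by omega)
    have hab := key_unique D hD hU _ hk hkn _ _ _ _ hm hm' e
    rcases Nat.eq_or_lt_of_le h1 with h | h
    · rw [← h]
      exact hab
    · simp only at hab e
      rw [hab] at e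
      exact ih (by omega) t t' (mul_left_cancel e) r (by omega) h2

end

end Cfsg.Agent.Lib.Helper7.ChevUProd
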