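import Cfsg.Agent.Lib.Helper7.ChevCell

set_option autoImplicit false
set_option maxHeartbeats 400000
set_option maxRecDepth 1000000

namespace Cfsg.Agent.Lib.Helper7.ChevWPerm
open Cfsg.Lie Cfsg.Agent.Lib.Helper7.ChevEngine Cfsg.Agent.Lib.Helper7.ChevN
  Cfsg.Agent.Lib.Helper7.ChevConj
  Cfsg.Agent.Lib.Helper7.ChevConjT Cfsg.Agent.Lib.Helper7.ChevConjU Cfsg.Agent.Lib.Helper7.ChevAdd
  Cfsg.Agent.Lib.Helper7.ChevHAll Cfsg.Agent.Lib.Helper7.HBaseAll Cfsg.Agent.Lib.Helper7.ChevTorus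
  Cfsg.Agent.Lib.Helper7.ChevBN Cfsg.Agent.Lib.Helper7.ChevGen Cfsg.Agent.Lib.Helper7.ChevOrb
  Cfsg.Agent.Lib.Helper7.ChevW0 Cfsg.Agent.Lib.Helper7.ChevComm Cfsg.Agent.Lib.Helper7.ChevPerf
  Cfsg.Agent.Lib.Helper7.ChevRel Cfsg.Agent.Lib.Helper7.Shift Cfsg.Agent.Lib.Helper7.Tri2
  Cfsg.Agent.Lib.Helper7.ChevTri Cfsg.Agent.Lib.Helper7.ChevTriNeg Cfsg.Agent.Lib.Helper7.ChevNW
  Cfsg.Agent.Lib.Helper7.W0All Cfsg.Agent.Lib.Helper7.ChevExch Cfsg.Agent.Lib.Helper7.RelAll
  Cfsg.Agent.Lib.Helper7.ChevBN3 Cfsg.Agent.Lib.Helper7.ChevBNP Cfsg.Agent.Lib.Helper7.ChevBruhat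
  Cfsg.Agent.Lib.Helper7.ChevCell

def dg (P u : ℕ) : ℤ := ((P / 16 ^ u % 16 : ℕ) : ℤ) - 8

def coD (D : ChevalleyDatum) (s i : ℕ) : ℤ := (D.coroot.getD s #[]).getD i 0

def cD (D : ChevalleyDatum) (r s : ℕ) : ℤ := ∑ i ∈ Finset.range D.rank, coD D s i * D.cartan i r

def cP (l : ℕ) (caP coP : List ℕ) (r s : ℕ) : ℤ :=
  ((List.range l).map fun i => dg (coP.getD i 0) s * dg (caP.getD i 0) r).sum

def packCheck (D : ChevalleyDatum) (caP coP : List ℕ) : Bool :=
  (List.range D.rank).all fun i => (List.range D.nroots).all fun r =>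
    decide (D.cartan i r = dg (caP.getD i 0) r) && decide (coD D r i = dg (coP.getD i 0) r)

structure PackOk (D : ChevalleyDatum) (caP coP : List ℕ) : Prop where
  ca : ∀ i < D.rank, ∀ r < D.nroots, D.cartan i r = dg (caP.getD i 0) r
  co : ∀ i < D.rank, ∀ r < D.nroots, coD D r i = dg (coP.getD i 0) r

theorem pack_of_check (D : ChevalleyDatum) (caP coP : List ℕ) (h : packCheck D caP coP = true) :
    PackOk D caP coP := by
  unfold packCheck at h
  simp only [List.all_eq_true, List.mem_range, Bool.and_eq_true, decide_eq_true_eq] at h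
  exact ⟨fun i hi r hr => (h i hi r hr).1, fun i hi r hr => (h i hi r hr).2⟩

theorem cD_eq_cP (D : ChevalleyDatum) (caP coP : List ℕ) (hP : PackOk D caP coP) (r s : ℕ)
    (hr : r < D.nroots) (hs : s < D.nroots) : cD D r s = cP D.rank caP coP r s := by
  unfold cD cP
  rw [lsum_eq]
  apply Finset.sum_congr rfl
  intro i hi
  rw [Finset.mem_range] at hi
  rw [hP.ca i hi r hr, hP.co i hi s hs]

def linCheck (D : ChevalleyDatum) (Wtab caP coP : List ℕ) : Bool :=
  ((List.range D.nroots).all fun r =>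
    decide (D.neg r < D.nroots) && decide (D.neg (D.neg r) = r) &&
    (List.range D.rank).all fun i => decide (dg (caP.getD i 0) (D.neg r) = - dg (caP.getD i 0) r)) &&
  (List.range D.rank).all fun j =>
    decide (dg (caP.getD j 0) (D.simple j) = 2) &&
    (List.range D.nroots).all fun r =>
      (List.range D.rank).all fun i =>
        decide (dg (caP.getD i 0) (wdig (Wtab.getD j 0) r) =
          dg (caP.getD i 0) r - dg (caP.getD j 0) r * dg (caP.getD i 0) (D.simple j)) &&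
        decide (dg (coP.getD i 0) (wdig (Wtab.getD j 0) r) =
          dg (coP.getD i 0) r - (if i = j then cP D.rank caP coP (D.simple j) r else 0))

structure LinData (D : ChevalleyDatum) : Prop where
  nn : ∀ r < D.nroots, D.neg r < D.nroots ∧ D.neg (D.neg r) = r
  t3 : ∀ r < D.nroots, ∀ i < D.rank, D.cartan i (D.neg r) = - D.cartan i r
  t4 : ∀ j < D.rank, D.cartan j (D.simple j) = 2
  t1 : ∀ j < D.rank, ∀ r < D.nroots, ∀ i < D.rank,
    D.cartan i (D.reflectRoot j r) = D.cartan i r - D.cartan j r * D.cartan i (D.simple j)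
  t2 : ∀ j < D.rank, ∀ s < D.nroots, ∀ i < D.rank,
    coD D (D.reflectRoot j s) i = coD D s i - (if i = j then cD D (D.simple j) s else 0)

theorem lin_of_check (D : ChevalleyDatum) (hD : D ∈ [chevG2, chevB2, chevD4, chevF4, chevE6, chevE7, chevE8])
    (Wtab caP coP : List ℕ) (hW : WtabOk D Wtab) (hP : PackOk D caP coP)
    (h : linCheck D Wtab caP coP = true) : LinData D := by
  obtain ⟨hC, -, -⟩ := all_of_mem D hD
  unfold linCheck at h
  simp only [List.all_eq_true, List.mem_range, Bool.and_eq_true, decide_eq_true_eq] at h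
  obtain ⟨h1, h2⟩ := h
  refine ⟨fun r hr => ⟨(h1 r hr).1.1, (h1 r hr).1.2⟩, ?_, ?_, ?_, ?_⟩
  · intro r hr i hi
    rw [hP.ca i hi _ (h1 r hr).1.1, hP.ca i hi r hr]
    exact (h1 r hr).2 i hi
  · intro j hj
    rw [hP.ca j hj _ (simple_lt D hC j hj)]
    exact (h2 j hj).1
  · intro j hj r hr i hi
    have hsl := simple_lt D hC j hj
    have hrl := refl_lt D hD j hj r hr
    rw [hP.ca i hi _ hrl, hP.ca i hi r hr, hP.ca j hj r hr, hP.ca i hi _ hsl, hW j hj r hr]
    exact ((h2 j hj).2 r hr i hi).1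
  · intro j hj s hs i hi
    have hsl := simple_lt D hC j hj
    have hrl := refl_lt D hD j hj s hs
    rw [hP.co i hi _ hrl, hP.co i hi s hs, cD_eq_cP D caP coP hP _ _ hsl hs, hW j hj s hs]
    exact ((h2 j hj).2 s hs i hi).2

theorem cD_refl (D : ChevalleyDatum) (ld : LinData D) (j : ℕ) (hj : j < D.rank) (r s : ℕ)
    (hr : r < D.nroots) (hs : s < D.nroots) :
    cD D (D.reflectRoot j r) (D.reflectRoot j s) = cD D r s := by
  have key : ∀ i ∈ Finset.range D.rank, coD D (D.reflectRoot j s) i * D.cartan i (D.reflectRoot j r) =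
      coD D s i * D.cartan i r - D.cartan j r * (coD D s i * D.cartan i (D.simple j)) -
        (if i = j then cD D (D.simple j) s * (D.cartan j r - D.cartan j r * D.cartan j (D.simple j)) else 0) := by
    intro i hi
    rw [Finset.mem_range] at hi
    rw [ld.t1 j hj r hr i hi, ld.t2 j hj s hs i hi]
    split_ifs with h
    · subst h
      ring
    · ring
  have e1 : cD D (D.reflectRoot j r) (D.reflectRoot j s) =
      ∑ i ∈ Finset.range D.rank, coD D (D.reflectRoot j s) i * D.cartan i (D.reflectRoot j r) := rfl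
  have e2 : cD D (D.simple j) s = ∑ i ∈ Finset.range D.rank, coD D s i * D.cartan i (D.simple j) := rfl
  have e3 : cD D r s = ∑ i ∈ Finset.range D.rank, coD D s i * D.cartan i r := rfl
  rw [e1, Finset.sum_congr rfl key, Finset.sum_sub_distrib, Finset.sum_sub_distrib, ← Finset.mul_sum,
    Finset.sum_ite_eq', if_pos (Finset.mem_range.mpr hj), ld.t4 j hj, ← e2, ← e3]
  ring

theorem cD_neg (D : ChevalleyDatum) (ld : LinData D) (r s : ℕ) (hr : r < D.nroots) :
    cD D (D.neg r) s = - cD D r s := by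
  unfold cD
  rw [← Finset.sum_neg_distrib]
  apply Finset.sum_congr rfl
  intro i hi
  rw [Finset.mem_range] at hi
  rw [ld.t3 r hr i hi]
  ring

end Cfsg.Agent.Lib.Helper7.ChevWPerm
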