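import Cfsg.Agent.Lib.Helper7.ChevConjT
import Cfsg.Prelude.Def_ChevE6

set_option autoImplicit false
set_option maxRecDepth 1000000

namespace Cfsg.Agent.Lib.Helper7.ConjE6
open Cfsg.Lie Cfsg.Agent.Lib.Helper7.ChevConjT

theorem cjE6_0 : conjCheck chevE6 0 143055259877474304 68860739535078100914596739045472550060558126031925906698557184978812794185875324317535844633006154102049939227231216439978584304288106533539790046234022772551535750302269696 = true := by decide +kernel

theorem cjE6_1 : conjCheck chevE6 1 2377332098023254656769 67898379116758311409174261616388753868225998791303625563428882050626415270252589797741478371984307561973422256644613195820774439032392954730690482532434882508821640184463361 = true := by decide +kernel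

theorem cjE6_2 : conjCheck chevE6 2 1033169672869552603164 68860695135535158216797058934368584078938789528211777354868258615236502524939434476014300653026239562496047166733737140692285179851664431971808751874688785261135318011412736 = true := by decide +kernel

theorem cjE6_3 : conjCheck chevE6 3 1236247255438460330178 68856980314703697980439144254334973515401028023823060939175680109056393390696631820261994746199928716884708600540244424635743493790229057459399689936210111163618278074548736 = true := by decide +kernel

theorem cjE6_4 : conjCheck chevE6 4 669309514447770948132 68860724850632303803458732998465812266828810094652722312245356555948991877575451183817923578624086719198522082862514929281160200302940551006277733868069131789022201037127936 = true := by decide +kernel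

theorem cjE6_5 : conjCheck chevE6 5 342440805587411929416 68860739477726650154684651250440147524905899556371060941805998667168077050675229181777609482453672249988869994526207384147299178654162362870440666247900439482662894518272256 = true := by decide +kernel

end Cfsg.Agent.Lib.Helper7.ConjE6
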