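import Cfsg.Agent.Lib.Helper7.ChevConjT
import Cfsg.Prelude.Def_ChevE7

set_option autoImplicit false
set_option maxRecDepth 1000000

namespace Cfsg.Agent.Lib.Helper7.ConjE7a
open Cfsg.Lie Cfsg.Agent.Lib.Helper7.ChevConjT

theorem cjE7_0 : conjCheck chevE7 0 42535295884914969941661665728038699009 1333922837158942011638783835004871262489243524474933806757983325204324354148955901128787715251435855896924984706939979518567157242719197682064722754383056752064764745714105188869695029532754693822593611899134007025978423511653352929402726346889239349767349520011297160997758072428838116713298751769411585 = true := by decide +kernel

theorem cjE7_1 : conjCheck chevE7 1 9969219475911752942880135688992325752 1344596064861142540599490890337037530396506312014796134457654209860766914474355053533424106448304668641750238146235616625298608967855065371567541345205591130313893835021149335810105157533873267793712369235831381486269171621811991934200833355141336107082133768387345013012537819798176998924533019780972800 = true := by decide +kernel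

theorem cjE7_2 : conjCheck chevE7 2 21308537290271745760265171479237359618 1344554375120106414798065960470017614978713755228414151433370668601621092779175356141058506517844188051958962228323355573505999256791464453714183605373019334854214694897010135565448054736646733569358624734534287147711832887250382219472046131816456686545071408428738776743299531196152165404305104465625600 = true := by decide +kernel

theorem cjE7_3 : conjCheck chevE7 3 10924663619488793363045094406352799492 1344595904565267213246157475033494803249157207063324738659324389841659715695283955303815316936280329696179597506512307998177941509827115356010016869474657504041538202575428963476748087995021914745714269311908081227369626699231579603641239181490320192525717933280632587761748264543583905599801831599571200 = true := by decide +kernel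

end Cfsg.Agent.Lib.Helper7.ConjE7a
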