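import Cfsg.Agent.Lib.Helper7.ChevConjT
import Cfsg.Prelude.Def_ChevE7

set_option autoImplicit false
set_option maxRecDepth 1000000

namespace Cfsg.Agent.Lib.Helper7.ConjE7b
open Cfsg.Lie Cfsg.Agent.Lib.Helper7.ChevConjT

theorem cjE7_4 : conjCheck chevE7 4 5665040612189914454778297062204911752 1344596066789662372468730772808347860477161005122219541718508235419833626106302450745862748198090247695116521795627890666608206327119702733434927280617614040672948193304917070539624301444895806139576218160085363566180297830617521222446695171034178763232251478019132116438882014609021606895640681331687680 = true := by decide +kernel

theorem cjE7_5 : conjCheck chevE7 5 2847024252714933557071685096178878736 1344596067423351416207557940869874944091727118574762836469837882638712679846178606418228818601986310217411887451905765776107214182568852020646749836716948362818007050784749838543502259798351210584973756022172436114146241694089563918431059909805690131092344135313086916729119604848859188691072391118455040 = true := by decide +kernel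

theorem cjE7_6 : conjCheck chevE7 6 1425493702456110909934783426152649248 1344596067425826764034662734529601288506926453046107113143229300984890479501381833876110010911357495579068344096520604677306938752775870105507180309928942299606468867262391627195069014991692130646454801374407591002787052249416073179196764677152311158875352053765052537485552134445183160720605330624610560 = true := by decide +kernel

end Cfsg.Agent.Lib.Helper7.ConjE7b
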