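import Cfsg.Agent.Lib.Helper7.ChevConjT
import Cfsg.Prelude.Def_ChevE8

set_option autoImplicit false
set_option maxRecDepth 1000000

namespace Cfsg.Agent.Lib.Helper7.ConjE8_0
open Cfsg.Lie Cfsg.Agent.Lib.Helper7.ChevConjT

theorem cjE8_0 : conjCheck chevE8 0 20597399253703088803137291363919720476649811351842022074600809197223744 89010710832726070714151161094414522261048587326581510595392028524030207563957026801107561780730543875635899695872657540013727267355752929009945983259756149830046491061614462711827468647410691219483793969699872786852253216181086040217948769591709564461412580249235256415527480204464476331546285723345807496788342194623506928674460502856817942549765057009024427281542244180397900240359504473124310118170232911525014401390998667463253019886626284409262937152958555578213187162928665144744945462487135302530904835859273767658661597756841433802992835089440598390061610903988634517760 = true := by decide +kernel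

end Cfsg.Agent.Lib.Helper7.ConjE8_0
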