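import Cfsg.Agent.Lib.Helper7.ChevConjT
import Cfsg.Prelude.Def_ChevE8

set_option autoImplicit false
set_option maxRecDepth 1000000

namespace Cfsg.Agent.Lib.Helper7.ConjE8_1
open Cfsg.Lie Cfsg.Agent.Lib.Helper7.ChevConjT

theorem cjE8_1 : conjCheck chevE8 1 41464424276439592458547658795802407934099191135292454134463122888474720 89010710832725403821992757481139071596698173965191600472753702822147364158672239454480583766054916428145578667561196346286240294973106193453481602022994238457747057000441148872921567985804927830925184562410761361820642221993159403124364699503886667373585590236200204532233412719031984404037316613648740789033672441744072877792284927471549198215319587161646246739142712406116015301396244861203768991281616970164435876457802828834673089209444828885868975419990867550410752616208765434029454275512555058899218984728513362813046938098819618253410658999715481853523381007317721022720 = true := by decide +kernel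

end Cfsg.Agent.Lib.Helper7.ConjE8_1
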