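import Cfsg.Agent.Lib.Helper7.ChevConjT
import Cfsg.Prelude.Def_ChevE8

set_option autoImplicit false
set_option maxRecDepth 1000000

namespace Cfsg.Agent.Lib.Helper7.ConjE8_2
open Cfsg.Lie Cfsg.Agent.Lib.Helper7.ChevConjT

theorem cjE8_2 : conjCheck chevE8 2 34534849182311705006499453394853494570293073576682290393498244893048992 89010710832725745165782235459872475154280622121245305451935284189796891986609553508120115617800247381425903506913793501621740144058856426409726296520870105944088071210077208036158123281336922507974837557012631125147342853176418750825867691433342788636856825459490268921107323757655376441022236038140059219790486132896388440655383746867478063393865412376222232171226315736044435218013124881770230153482484127468225324367815592321859374033917761553313348740424564716417650837788186550135374827969386553419933334973793356178552598849513931315254120302644802431154599699746591473920 = true := by decide +kernel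

end Cfsg.Agent.Lib.Helper7.ConjE8_2
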