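import Cfsg.Agent.Lib.Helper7.ChevConjT
import Cfsg.Prelude.Def_ChevE8

set_option autoImplicit false
set_option maxRecDepth 1000000

namespace Cfsg.Agent.Lib.Helper7.ConjE8_3
open Cfsg.Lie Cfsg.Agent.Lib.Helper7.ChevConjT

theorem cjE8_3 : conjCheck chevE8 3 58692198817062529918959764646698662451337801727423465191247917552271632 89010710832640042910111002570656357653715391413141566596331023776964856083669365258548140478906507872628955595684419254834843229232697776527642939107948214787375489097164882990093468904723498389665687901900427190291264427804358237891932228052664145351264877813819956450891804972988388003365098856358027288215824823748769396133189946047224742087238448032137898031788973343765419247008549016964559503462021292736161599259527505720347129268890925678250880711178934622972084815217513580310228965341853079554683461698062554884656178636540855221896711318667953180723757473301824405760 = true := by decide +kernel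

end Cfsg.Agent.Lib.Helper7.ConjE8_3
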