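import Cfsg.Agent.Lib.Helper7.ChevConjT
import Cfsg.Prelude.Def_ChevE8

set_option autoImplicit false
set_option maxRecDepth 1000000

namespace Cfsg.Agent.Lib.Helper7.ConjE8_4
open Cfsg.Lie Cfsg.Agent.Lib.Helper7.ChevConjT

theorem cjE8_4 : conjCheck chevE8 4 112167290887630127568134548647500768953880284869065220113818780602270216 89010710810700264150582617630331042255881895932910918226714852776874391712560822123306201324846964430844654021744796813142187524010757855487702572916830330127298365693899458709456758086075824036756691770046586241064145029133056116495308293743993175776525086010282095515927038476928213975218102397351640852387061258815504561004829092548212349860608510285292324260881662547262759342960965261517043933646963449207241238405678966067672724730749373320049762418207315511506201541333274614526630211416916896943463791273270459031700074181856090797289197533059447945620264098913323188480 = true := by decide +kernel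

end Cfsg.Agent.Lib.Helper7.ConjE8_4
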