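import Cfsg.Agent.Lib.Helper7.ChevConjT
import Cfsg.Prelude.Def_ChevE8

set_option autoImplicit false
set_option maxRecDepth 1000000

namespace Cfsg.Agent.Lib.Helper7.ConjE8_5
open Cfsg.Lie Cfsg.Agent.Lib.Helper7.ChevConjT

theorem cjE8_5 : conjCheck chevE8 5 221725565796465234069846255712747878990393484658275795028023269379933188 89010705194116901706207898042593272076635715598316080962368373660183275904963211241670112868150747514853452339348300442536856573504108070476071578517515459877170448087740084341605535907786739352171560154020690462814959752126950608726406504555309146021826472933762216957718802688115433395906838355161543700798538259399617365590114206434373053162203444095549298876781670225955956867766795389687715615088611026287293754751444324085777775017164061220134326830106176777561728721517073324255709968496742906099242262077598598897834567242933249561462858944112061751703801260570581336320 = true := by decide +kernel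

end Cfsg.Agent.Lib.Helper7.ConjE8_5
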