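import Cfsg.Agent.Lib.Helper7.ChevConjT
import Cfsg.Prelude.Def_ChevE8

set_option autoImplicit false
set_option maxRecDepth 1000000

namespace Cfsg.Agent.Lib.Helper7.ConjE8_6
open Cfsg.Lie Cfsg.Agent.Lib.Helper7.ChevConjT

theorem cjE8_6 : conjCheck chevE8 6 442146608110382968443535400616058046441516637287510334612417353510815746 89009267348776115946259729773659820922684365030336125747795389469672832738436486560006107076294386215399861108218061426761033223202858027703265974144867968881077088308644070388014335446175521462296218898606490586008687349314690079072884976809321978274044767002146488503282587066531463532201212884356974697146753815329103501718218155712615386612077501918825553327818300954160685785812314943431026242586854979814233718477042248871847137512423246283316098823861341191045350782894843980481615436882682789356038401372194376474142161795991775560137622389820726250948292215778419212800 = true := by decide +kernel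

end Cfsg.Agent.Lib.Helper7.ConjE8_6
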