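import Cfsg.Agent.Lib.Helper7.ChevConjT
import Cfsg.Prelude.Def_ChevG2
import Cfsg.Prelude.Def_ChevB2
import Cfsg.Prelude.Def_ChevD4
import Cfsg.Prelude.Def_ChevF4

set_option autoImplicit false
set_option maxRecDepth 1000000

namespace Cfsg.Agent.Lib.Helper7.ConjSmall
open Cfsg.Lie Cfsg.Agent.Lib.Helper7.ChevConjT

theorem cjG2_0 : conjCheck chevG2 0 1686 3411626608196089407097472256 = true := by decide +kernel

theorem cjG2_1 : conjCheck chevG2 1 2409 3108190913232640688152248321 = true := by decide +kernel

theorem cjB2_0 : conjCheck chevB2 0 255 289921455100330243 = true := by decide +kernel

theorem cjB2_1 : conjCheck chevB2 1 90 505817143170892288 = true := by decide +kernel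

theorem cjD4_0 : conjCheck chevD4 0 508896 565592643864087472290204273757603651193062799363369534976 = true := by decide +kernel

theorem cjD4_1 : conjCheck chevD4 1 8945169 541649279090809664310305499994679834166397163664360734721 = true := by decide +kernel

theorem cjD4_2 : conjCheck chevD4 2 6497478 565881119482020990812274433957960368099339668429056770816 = true := by decide +kernel

theorem cjD4_3 : conjCheck chevD4 3 5413194 565978018496368764364970633948976412520310965285293195776 = true := by decide +kernel

theorem cjF4_0 : conjCheck chevF4 0 33964469241720 7261724565101152271001196648824430191705409898545041084742521782222439549395075633586971079114467536390968217567488 = true := by decide +kernel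

theorem cjF4_1 : conjCheck chevF4 1 19125464147592 7261719905179377314326951809577084366435515108925945206036271551105028264520922437528663364052125838431098365018368 = true := by decide +kernel

theorem cjF4_2 : conjCheck chevF4 2 79753579630866 7261125723798567773061544950201179012210677350992756811983071709623601191490907863340615466535151168674041335710208 = true := by decide +kernel

theorem cjF4_3 : conjCheck chevF4 3 145481911306785 7108411742389255762021063953019659246634323563397623500971045033854480450961950488139841120255260502304031118589953 = true := by decide +kernel

end Cfsg.Agent.Lib.Helper7.ConjSmall
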