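import Cfsg.Agent.Lib.Helper7.ChevN
import Cfsg.Prelude.Def_ChevE6

set_option autoImplicit false
set_option maxRecDepth 1000000

namespace Cfsg.Agent.Lib.Helper7.NFundE6
open Cfsg.Lie Cfsg.Agent.Lib.Helper7.ChevEngine Cfsg.Agent.Lib.Helper7.ChevN

theorem nE6_0 : nCheck chevE6 0 143055259877474304 = true := by decide +kernel

theorem nsE6_0 : nSignCheck chevE6 0 143055259877474304 = true := by decide +kernel

theorem nE6_1 : nCheck chevE6 1 2377332098023254656769 = true := by decide +kernel

theorem nsE6_1 : nSignCheck chevE6 1 2377332098023254656769 = true := by decide +kernel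

theorem nE6_2 : nCheck chevE6 2 1033169672869552603164 = true := by decide +kernel

theorem nsE6_2 : nSignCheck chevE6 2 1033169672869552603164 = true := by decide +kernel

theorem nE6_3 : nCheck chevE6 3 1236247255438460330178 = true := by decide +kernel

theorem nsE6_3 : nSignCheck chevE6 3 1236247255438460330178 = true := by decide +kernel

theorem nE6_4 : nCheck chevE6 4 669309514447770948132 = true := by decide +kernel

theorem nsE6_4 : nSignCheck chevE6 4 669309514447770948132 = true := by decide +kernel

theorem nE6_5 : nCheck chevE6 5 342440805587411929416 = true := by decide +kernel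

theorem nsE6_5 : nSignCheck chevE6 5 342440805587411929416 = true := by decide +kernel

theorem nAllE6 : ∀ i < chevE6.rank, ∃ m, nCheck chevE6 i m = true ∧ nSignCheck chevE6 i m = true := by
  intro i hi
  have hi' : i < 6 := hi
  interval_cases i
  · exact ⟨_, nE6_0, nsE6_0⟩
  · exact ⟨_, nE6_1, nsE6_1⟩
  · exact ⟨_, nE6_2, nsE6_2⟩
  · exact ⟨_, nE6_3, nsE6_3⟩
  · exact ⟨_, nE6_4, nsE6_4⟩
  · exact ⟨_, nE6_5, nsE6_5⟩

end Cfsg.Agent.Lib.Helper7.NFundE6
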