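import Cfsg.Agent.Lib.Helper7.ChevN
import Cfsg.Prelude.Def_ChevE7

set_option autoImplicit false
set_option maxRecDepth 1000000

namespace Cfsg.Agent.Lib.Helper7.NFundE7
open Cfsg.Lie Cfsg.Agent.Lib.Helper7.ChevEngine Cfsg.Agent.Lib.Helper7.ChevN

theorem nE7_0 : nCheck chevE7 0 42535295884914969941661665728038699009 = true := by decide +kernel

theorem nsE7_0 : nSignCheck chevE7 0 42535295884914969941661665728038699009 = true := by decide +kernel

theorem nE7_1 : nCheck chevE7 1 9969219475911752942880135688992325752 = true := by decide +kernel

theorem nsE7_1 : nSignCheck chevE7 1 9969219475911752942880135688992325752 = true := by decide +kernel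

theorem nE7_2 : nCheck chevE7 2 21308537290271745760265171479237359618 = true := by decide +kernel

theorem nsE7_2 : nSignCheck chevE7 2 21308537290271745760265171479237359618 = true := by decide +kernel

theorem nE7_3 : nCheck chevE7 3 10924663619488793363045094406352799492 = true := by decide +kernel

theorem nsE7_3 : nSignCheck chevE7 3 10924663619488793363045094406352799492 = true := by decide +kernel

theorem nE7_4 : nCheck chevE7 4 5665040612189914454778297062204911752 = true := by decide +kernel

theorem nsE7_4 : nSignCheck chevE7 4 5665040612189914454778297062204911752 = true := by decide +kernel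

theorem nE7_5 : nCheck chevE7 5 2847024252714933557071685096178878736 = true := by decide +kernel

theorem nsE7_5 : nSignCheck chevE7 5 2847024252714933557071685096178878736 = true := by decide +kernel

theorem nE7_6 : nCheck chevE7 6 1425493702456110909934783426152649248 = true := by decide +kernel

theorem nsE7_6 : nSignCheck chevE7 6 1425493702456110909934783426152649248 = true := by decide +kernel

theorem nAllE7 : ∀ i < chevE7.rank, ∃ m, nCheck chevE7 i m = true ∧ nSignCheck chevE7 i m = true := by
  intro i hi
  have hi' : i < 7 := hi
  interval_cases i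
  · exact ⟨_, nE7_0, nsE7_0⟩
  · exact ⟨_, nE7_1, nsE7_1⟩
  · exact ⟨_, nE7_2, nsE7_2⟩
  · exact ⟨_, nE7_3, nsE7_3⟩
  · exact ⟨_, nE7_4, nsE7_4⟩
  · exact ⟨_, nE7_5, nsE7_5⟩
  · exact ⟨_, nE7_6, nsE7_6⟩

end Cfsg.Agent.Lib.Helper7.NFundE7
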