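import Cfsg.Agent.Lib.Helper7.ChevN
import Cfsg.Prelude.Def_ChevE8

set_option autoImplicit false
set_option maxRecDepth 1000000

namespace Cfsg.Agent.Lib.Helper7.NFundE8a
open Cfsg.Lie Cfsg.Agent.Lib.Helper7.ChevEngine Cfsg.Agent.Lib.Helper7.ChevN

theorem nE8_0 : nCheck chevE8 0 20597399253703088803137291363919720476649811351842022074600809197223744 = true := by decide +kernel

theorem nsE8_0 : nSignCheck chevE8 0 20597399253703088803137291363919720476649811351842022074600809197223744 = true := by decide +kernel

theorem nE8_1 : nCheck chevE8 1 41464424276439592458547658795802407934099191135292454134463122888474720 = true := by decide +kernel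

theorem nsE8_1 : nSignCheck chevE8 1 41464424276439592458547658795802407934099191135292454134463122888474720 = true := by decide +kernel

theorem nE8_2 : nCheck chevE8 2 34534849182311705006499453394853494570293073576682290393498244893048992 = true := by decide +kernel

theorem nsE8_2 : nSignCheck chevE8 2 34534849182311705006499453394853494570293073576682290393498244893048992 = true := by decide +kernel

theorem nE8_3 : nCheck chevE8 3 58692198817062529918959764646698662451337801727423465191247917552271632 = true := by decide +kernel

theorem nsE8_3 : nSignCheck chevE8 3 58692198817062529918959764646698662451337801727423465191247917552271632 = true := by decide +kernel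

end Cfsg.Agent.Lib.Helper7.NFundE8a
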