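import Cfsg.Agent.Lib.Helper7.ChevN
import Cfsg.Agent.Lib.Helper7.NFundE8a
import Cfsg.Prelude.Def_ChevE8

set_option autoImplicit false
set_option maxRecDepth 1000000

namespace Cfsg.Agent.Lib.Helper7.NFundE8b
open Cfsg.Lie Cfsg.Agent.Lib.Helper7.ChevEngine Cfsg.Agent.Lib.Helper7.ChevN

theorem nE8_4 : nCheck chevE8 4 112167290887630127568134548647500768953880284869065220113818780602270216 = true := by decide +kernel

theorem nsE8_4 : nSignCheck chevE8 4 112167290887630127568134548647500768953880284869065220113818780602270216 = true := by decide +kernel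

theorem nE8_5 : nCheck chevE8 5 221725565796465234069846255712747878990393484658275795028023269379933188 = true := by decide +kernel

theorem nsE8_5 : nSignCheck chevE8 5 221725565796465234069846255712747878990393484658275795028023269379933188 = true := by decide +kernel

theorem nE8_6 : nCheck chevE8 6 442146608110382968443535400616058046441516637287510334612417353510815746 = true := by decide +kernel

theorem nsE8_6 : nSignCheck chevE8 6 442146608110382968443535400616058046441516637287510334612417353510815746 = true := by decide +kernel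

theorem nE8_7 : nCheck chevE8 7 883640953424295284539211242083837250739230978062844892341602038697168897 = true := by decide +kernel

theorem nsE8_7 : nSignCheck chevE8 7 883640953424295284539211242083837250739230978062844892341602038697168897 = true := by decide +kernel

theorem nAllE8 : ∀ i < chevE8.rank, ∃ m, nCheck chevE8 i m = true ∧ nSignCheck chevE8 i m = true := by
  intro i hi
  have hi' : i < 8 := hi
  interval_cases i
  · exact ⟨_, Cfsg.Agent.Lib.Helper7.NFundE8a.nE8_0, Cfsg.Agent.Lib.Helper7.NFundE8a.nsE8_0⟩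
  · exact ⟨_, Cfsg.Agent.Lib.Helper7.NFundE8a.nE8_1, Cfsg.Agent.Lib.Helper7.NFundE8a.nsE8_1⟩
  · exact ⟨_, Cfsg.Agent.Lib.Helper7.NFundE8a.nE8_2, Cfsg.Agent.Lib.Helper7.NFundE8a.nsE8_2⟩
  · exact ⟨_, Cfsg.Agent.Lib.Helper7.NFundE8a.nE8_3, Cfsg.Agent.Lib.Helper7.NFundE8a.nsE8_3⟩
  · exact ⟨_, nE8_4, nsE8_4⟩
  · exact ⟨_, nE8_5, nsE8_5⟩
  · exact ⟨_, nE8_6, nsE8_6⟩
  · exact ⟨_, nE8_7, nsE8_7⟩

end Cfsg.Agent.Lib.Helper7.NFundE8b
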