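import Cfsg.Agent.Lib.Helper7.ChevN
import Cfsg.Prelude.Def_ChevG2
import Cfsg.Prelude.Def_ChevB2
import Cfsg.Prelude.Def_ChevD4
import Cfsg.Prelude.Def_ChevF4

set_option autoImplicit false
set_option maxRecDepth 1000000

namespace Cfsg.Agent.Lib.Helper7.NFundSmall
open Cfsg.Lie Cfsg.Agent.Lib.Helper7.ChevEngine Cfsg.Agent.Lib.Helper7.ChevN

theorem nG2_0 : nCheck chevG2 0 1686 = true := by decide +kernel

theorem nsG2_0 : nSignCheck chevG2 0 1686 = true := by decide +kernel

theorem nG2_1 : nCheck chevG2 1 2409 = true := by decide +kernel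

theorem nsG2_1 : nSignCheck chevG2 1 2409 = true := by decide +kernel

theorem nAllG2 : ∀ i < chevG2.rank, ∃ m, nCheck chevG2 i m = true ∧ nSignCheck chevG2 i m = true := by
  intro i hi
  have hi' : i < 2 := hi
  interval_cases i
  · exact ⟨_, nG2_0, nsG2_0⟩
  · exact ⟨_, nG2_1, nsG2_1⟩

theorem nB2_0 : nCheck chevB2 0 255 = true := by decide +kernel

theorem nsB2_0 : nSignCheck chevB2 0 255 = true := by decide +kernel

theorem nB2_1 : nCheck chevB2 1 90 = true := by decide +kernel

theorem nsB2_1 : nSignCheck chevB2 1 90 = true := by decide +kernel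

theorem nAllB2 : ∀ i < chevB2.rank, ∃ m, nCheck chevB2 i m = true ∧ nSignCheck chevB2 i m = true := by
  intro i hi
  have hi' : i < 2 := hi
  interval_cases i
  · exact ⟨_, nB2_0, nsB2_0⟩
  · exact ⟨_, nB2_1, nsB2_1⟩

theorem nD4_0 : nCheck chevD4 0 508896 = true := by decide +kernel

theorem nsD4_0 : nSignCheck chevD4 0 508896 = true := by decide +kernel

theorem nD4_1 : nCheck chevD4 1 8945169 = true := by decide +kernel

theorem nsD4_1 : nSignCheck chevD4 1 8945169 = true := by decide +kernel

theorem nD4_2 : nCheck chevD4 2 6497478 = true := by decide +kernel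

theorem nsD4_2 : nSignCheck chevD4 2 6497478 = true := by decide +kernel

theorem nD4_3 : nCheck chevD4 3 5413194 = true := by decide +kernel

theorem nsD4_3 : nSignCheck chevD4 3 5413194 = true := by decide +kernel

theorem nAllD4 : ∀ i < chevD4.rank, ∃ m, nCheck chevD4 i m = true ∧ nSignCheck chevD4 i m = true := by
  intro i hi
  have hi' : i < 4 := hi
  interval_cases i
  · exact ⟨_, nD4_0, nsD4_0⟩
  · exact ⟨_, nD4_1, nsD4_1⟩
  · exact ⟨_, nD4_2, nsD4_2⟩
  · exact ⟨_, nD4_3, nsD4_3⟩

theorem nF4_0 : nCheck chevF4 0 33964469241720 = true := by decide +kernel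

theorem nsF4_0 : nSignCheck chevF4 0 33964469241720 = true := by decide +kernel

theorem nF4_1 : nCheck chevF4 1 19125464147592 = true := by decide +kernel

theorem nsF4_1 : nSignCheck chevF4 1 19125464147592 = true := by decide +kernel

theorem nF4_2 : nCheck chevF4 2 79753579630866 = true := by decide +kernel

theorem nsF4_2 : nSignCheck chevF4 2 79753579630866 = true := by decide +kernel

theorem nF4_3 : nCheck chevF4 3 145481911306785 = true := by decide +kernel

theorem nsF4_3 : nSignCheck chevF4 3 145481911306785 = true := by decide +kernel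

theorem nAllF4 : ∀ i < chevF4.rank, ∃ m, nCheck chevF4 i m = true ∧ nSignCheck chevF4 i m = true := by
  intro i hi
  have hi' : i < 4 := hi
  interval_cases i
  · exact ⟨_, nF4_0, nsF4_0⟩
  · exact ⟨_, nF4_1, nsF4_1⟩
  · exact ⟨_, nF4_2, nsF4_2⟩
  · exact ⟨_, nF4_3, nsF4_3⟩

end Cfsg.Agent.Lib.Helper7.NFundSmall
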