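import Cfsg.Agent.Lib.Helper7.ChevConjU
import Cfsg.Agent.Lib.Helper7.ConjSmall
import Cfsg.Agent.Lib.Helper7.ConjE6
import Cfsg.Agent.Lib.Helper7.ConjE7a
import Cfsg.Agent.Lib.Helper7.ConjE7b
import Cfsg.Agent.Lib.Helper7.ConjE8_0
import Cfsg.Agent.Lib.Helper7.ConjE8_1
import Cfsg.Agent.Lib.Helper7.ConjE8_2
import Cfsg.Agent.Lib.Helper7.ConjE8_3
import Cfsg.Agent.Lib.Helper7.ConjE8_4
import Cfsg.Agent.Lib.Helper7.ConjE8_5
import Cfsg.Agent.Lib.Helper7.ConjE8_6
import Cfsg.Agent.Lib.Helper7.ConjE8_7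
import Cfsg.Agent.Lib.Helper7.NFundSmall
import Cfsg.Agent.Lib.Helper7.NFundE6
import Cfsg.Agent.Lib.Helper7.NFundE7
import Cfsg.Agent.Lib.Helper7.NFundE8b

set_option autoImplicit false
set_option maxRecDepth 1000000

namespace Cfsg.Agent.Lib.Helper7.ConjAll
open Cfsg.Lie Cfsg.Agent.Lib.Helper7.ChevConjT Cfsg.Agent.Lib.Helper7.ChevConjU

theorem lvG2 : lvlCheck chevG2 620188408642015683464593923 309485028268090241962737665 = true := by decide +kernel

theorem cdG2 : ConjData chevG2 := by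
  refine ⟨?_, _, _, lvG2⟩
  intro i hi
  have hi' : i < 2 := hi
  interval_cases i
  · exact ⟨_, _, Cfsg.Agent.Lib.Helper7.NFundSmall.nG2_0, Cfsg.Agent.Lib.Helper7.NFundSmall.nsG2_0, Cfsg.Agent.Lib.Helper7.ConjSmall.cjG2_0⟩
  · exact ⟨_, _, Cfsg.Agent.Lib.Helper7.NFundSmall.nG2_1, Cfsg.Agent.Lib.Helper7.NFundSmall.nsG2_1, Cfsg.Agent.Lib.Helper7.ConjSmall.cjG2_1⟩

theorem lvB2 : lvlCheck chevB2 72339069031481858 281474993488128 = true := by decide +kernel

theorem cdB2 : ConjData chevB2 := by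
  refine ⟨?_, _, _, lvB2⟩
  intro i hi
  have hi' : i < 2 := hi
  interval_cases i
  · exact ⟨_, _, Cfsg.Agent.Lib.Helper7.NFundSmall.nB2_0, Cfsg.Agent.Lib.Helper7.NFundSmall.nsB2_0, Cfsg.Agent.Lib.Helper7.ConjSmall.cjB2_0⟩
  · exact ⟨_, _, Cfsg.Agent.Lib.Helper7.NFundSmall.nB2_1, Cfsg.Agent.Lib.Helper7.NFundSmall.nsB2_1, Cfsg.Agent.Lib.Helper7.ConjSmall.cjB2_1⟩

theorem lvD4 : lvlCheck chevD4 98367808746879994516983654460975002049921212093512745989 24808024246819054101912670034820114749495525706150576897 = true := by decide +kernel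

theorem cdD4 : ConjData chevD4 := by
  refine ⟨?_, _, _, lvD4⟩
  intro i hi
  have hi' : i < 4 := hi
  interval_cases i
  · exact ⟨_, _, Cfsg.Agent.Lib.Helper7.NFundSmall.nD4_0, Cfsg.Agent.Lib.Helper7.NFundSmall.nsD4_0, Cfsg.Agent.Lib.Helper7.ConjSmall.cjD4_0⟩
  · exact ⟨_, _, Cfsg.Agent.Lib.Helper7.NFundSmall.nD4_1, Cfsg.Agent.Lib.Helper7.NFundSmall.nsD4_1, Cfsg.Agent.Lib.Helper7.ConjSmall.cjD4_1⟩
  · exact ⟨_, _, Cfsg.Agent.Lib.Helper7.NFundSmall.nD4_2, Cfsg.Agent.Lib.Helper7.NFundSmall.nsD4_2, Cfsg.Agent.Lib.Helper7.ConjSmall.cjD4_2⟩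
  · exact ⟨_, _, Cfsg.Agent.Lib.Helper7.NFundSmall.nD4_3, Cfsg.Agent.Lib.Helper7.NFundSmall.nsD4_3, Cfsg.Agent.Lib.Helper7.ConjSmall.cjD4_3⟩

theorem lvF4 : lvlCheck chevF4 1081017775414441987808606682775441764590394641723456197671495194963690721775927770355175757224556939431566329120520 462947062531052565756422718923545982027487356334074385545094871692001769429950045995845583245398313065086164468227 = true := by decide +kernel

theorem cdF4 : ConjData chevF4 := by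
  refine ⟨?_, _, _, lvF4⟩
  intro i hi
  have hi' : i < 4 := hi
  interval_cases i
  · exact ⟨_, _, Cfsg.Agent.Lib.Helper7.NFundSmall.nF4_0, Cfsg.Agent.Lib.Helper7.NFundSmall.nsF4_0, Cfsg.Agent.Lib.Helper7.ConjSmall.cjF4_0⟩
  · exact ⟨_, _, Cfsg.Agent.Lib.Helper7.NFundSmall.nF4_1, Cfsg.Agent.Lib.Helper7.NFundSmall.nsF4_1, Cfsg.Agent.Lib.Helper7.ConjSmall.cjF4_1⟩
  · exact ⟨_, _, Cfsg.Agent.Lib.Helper7.NFundSmall.nF4_2, Cfsg.Agent.Lib.Helper7.NFundSmall.nsF4_2, Cfsg.Agent.Lib.Helper7.ConjSmall.cjF4_2⟩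
  · exact ⟨_, _, Cfsg.Agent.Lib.Helper7.NFundSmall.nF4_3, Cfsg.Agent.Lib.Helper7.NFundSmall.nsF4_3, Cfsg.Agent.Lib.Helper7.ConjSmall.cjF4_3⟩

theorem lvE6 : lvlCheck chevE6 9695427810150837056907355155963909405958331882107327915891688783675736747952106601894709944016663055417702261251614607177602495721843484318557791876431825614568458505751051 977515524575573255915330948556915026905506529648924480184622996317686695821602222744389550688264498603365526746260891270781822827057789790475675216637247507817039854306049 = true := by decide +kernel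

theorem cdE6 : ConjData chevE6 := by
  refine ⟨?_, _, _, lvE6⟩
  intro i hi
  have hi' : i < 6 := hi
  interval_cases i
  · exact ⟨_, _, Cfsg.Agent.Lib.Helper7.NFundE6.nE6_0, Cfsg.Agent.Lib.Helper7.NFundE6.nsE6_0, Cfsg.Agent.Lib.Helper7.ConjE6.cjE6_0⟩
  · exact ⟨_, _, Cfsg.Agent.Lib.Helper7.NFundE6.nE6_1, Cfsg.Agent.Lib.Helper7.NFundE6.nsE6_1, Cfsg.Agent.Lib.Helper7.ConjE6.cjE6_1⟩
  · exact ⟨_, _, Cfsg.Agent.Lib.Helper7.NFundE6.nE6_2, Cfsg.Agent.Lib.Helper7.NFundE6.nsE6_2, Cfsg.Agent.Lib.Helper7.ConjE6.cjE6_2⟩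
  · exact ⟨_, _, Cfsg.Agent.Lib.Helper7.NFundE6.nE6_3, Cfsg.Agent.Lib.Helper7.NFundE6.nsE6_3, Cfsg.Agent.Lib.Helper7.ConjE6.cjE6_3⟩
  · exact ⟨_, _, Cfsg.Agent.Lib.Helper7.NFundE6.nE6_4, Cfsg.Agent.Lib.Helper7.NFundE6.nsE6_4, Cfsg.Agent.Lib.Helper7.ConjE6.cjE6_4⟩
  · exact ⟨_, _, Cfsg.Agent.Lib.Helper7.NFundE6.nE6_5, Cfsg.Agent.Lib.Helper7.NFundE6.nsE6_5, Cfsg.Agent.Lib.Helper7.ConjE6.cjE6_5⟩

theorem lvE7 : lvlCheck chevE7 172071511546401047268315588226766717227448299657384931661217909253046284952909685576838638956242911515250756534813026367318179128878070590501625155391536003757221025571622431903636708054976440302443723828023738039525930494146084737291255174821287481269120658899974429711772679499495215767899843563819025 84204674859007075649357246600413230942584156815857558477828188157421240348873321752563530308088955243971885926348685081551483547294775327994917371374015797625950477847537070045749189823991576016907511800444149948035071734905345196310521896545202194560867167656394306357656837088435019009980134261248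 = true := by decide +kernel

theorem cdE7 : ConjData chevE7 := by
  refine ⟨?_, _, _, lvE7⟩
  intro i hi
  have hi' : i < 7 := hi
  interval_cases i
  · exact ⟨_, _, Cfsg.Agent.Lib.Helper7.NFundE7.nE7_0, Cfsg.Agent.Lib.Helper7.NFundE7.nsE7_0, Cfsg.Agent.Lib.Helper7.ConjE7a.cjE7_0⟩
  · exact ⟨_, _, Cfsg.Agent.Lib.Helper7.NFundE7.nE7_1, Cfsg.Agent.Lib.Helper7.NFundE7.nsE7_1, Cfsg.Agent.Lib.Helper7.ConjE7a.cjE7_1⟩
  · exact ⟨_, _, Cfsg.Agent.Lib.Helper7.NFundE7.nE7_2, Cfsg.Agent.Lib.Helper7.NFundE7.nsE7_2, Cfsg.Agent.Lib.Helper7.ConjE7a.cjE7_2⟩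
  · exact ⟨_, _, Cfsg.Agent.Lib.Helper7.NFundE7.nE7_3, Cfsg.Agent.Lib.Helper7.NFundE7.nsE7_3, Cfsg.Agent.Lib.Helper7.ConjE7a.cjE7_3⟩
  · exact ⟨_, _, Cfsg.Agent.Lib.Helper7.NFundE7.nE7_4, Cfsg.Agent.Lib.Helper7.NFundE7.nsE7_4, Cfsg.Agent.Lib.Helper7.ConjE7b.cjE7_4⟩
  · exact ⟨_, _, Cfsg.Agent.Lib.Helper7.NFundE7.nE7_5, Cfsg.Agent.Lib.Helper7.NFundE7.nsE7_5, Cfsg.Agent.Lib.Helper7.ConjE7b.cjE7_5⟩
  · exact ⟨_, _, Cfsg.Agent.Lib.Helper7.NFundE7.nE7_6, Cfsg.Agent.Lib.Helper7.NFundE7.nsE7_6, Cfsg.Agent.Lib.Helper7.ConjE7b.cjE7_6⟩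

theorem lvE8 : lvlCheck chevE8 10426743643916242688654158463658232248900200407690003592123649894696912164407537553637427661905027306645776800923319716550607517609215747919686075143241907197944823854441718490083037378658151913400470287223909263830470132246512750349782464860164934528679721613241718054509294127922027965117393454329719961264449591562913666550810491762325658888871434030706836085090934181797624223360533071355794149524392431286068026846082868602371213379512984267023440141786156049279828795534828701027093825767081564742710522483264550962753773528863148570722101029365566598371709377085825555485 2605590511380666342824587619895808462509307260112969213448274189689032173228887290543149954261069055445243163919626262649909485744288269962919574202662485504371623910785236891834892120724253658095683273312352451093559985343074445650710265082381585761082259793419004924594930044106922755271298483093308806756375813197695629464519452005571204006901264771720910179854485291821515455438265143342312535808410156405437338627127690804581825105510608005417943634908292543383598257568499605752029547111604208419080591330277050852007205537752490075136360991337347031939900429592930092551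 = true := by decide +kernel

theorem cdE8 : ConjData chevE8 := by
  refine ⟨?_, _, _, lvE8⟩
  intro i hi
  have hi' : i < 8 := hi
  interval_cases i
  · exact ⟨_, _, Cfsg.Agent.Lib.Helper7.NFundE8a.nE8_0, Cfsg.Agent.Lib.Helper7.NFundE8a.nsE8_0, Cfsg.Agent.Lib.Helper7.ConjE8_0.cjE8_0⟩
  · exact ⟨_, _, Cfsg.Agent.Lib.Helper7.NFundE8a.nE8_1, Cfsg.Agent.Lib.Helper7.NFundE8a.nsE8_1, Cfsg.Agent.Lib.Helper7.ConjE8_1.cjE8_1⟩
  · exact ⟨_, _, Cfsg.Agent.Lib.Helper7.NFundE8a.nE8_2, Cfsg.Agent.Lib.Helper7.NFundE8a.nsE8_2, Cfsg.Agent.Lib.Helper7.ConjE8_2.cjE8_2⟩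
  · exact ⟨_, _, Cfsg.Agent.Lib.Helper7.NFundE8a.nE8_3, Cfsg.Agent.Lib.Helper7.NFundE8a.nsE8_3, Cfsg.Agent.Lib.Helper7.ConjE8_3.cjE8_3⟩
  · exact ⟨_, _, Cfsg.Agent.Lib.Helper7.NFundE8b.nE8_4, Cfsg.Agent.Lib.Helper7.NFundE8b.nsE8_4, Cfsg.Agent.Lib.Helper7.ConjE8_4.cjE8_4⟩
  · exact ⟨_, _, Cfsg.Agent.Lib.Helper7.NFundE8b.nE8_5, Cfsg.Agent.Lib.Helper7.NFundE8b.nsE8_5, Cfsg.Agent.Lib.Helper7.ConjE8_5.cjE8_5⟩
  · exact ⟨_, _, Cfsg.Agent.Lib.Helper7.NFundE8b.nE8_6, Cfsg.Agent.Lib.Helper7.NFundE8b.nsE8_6, Cfsg.Agent.Lib.Helper7.ConjE8_6.cjE8_6⟩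
  · exact ⟨_, _, Cfsg.Agent.Lib.Helper7.NFundE8b.nE8_7, Cfsg.Agent.Lib.Helper7.NFundE8b.nsE8_7, Cfsg.Agent.Lib.Helper7.ConjE8_7.cjE8_7⟩

theorem conjData_of_mem (D : ChevalleyDatum)
    (hD : D ∈ [chevG2, chevB2, chevD4, chevF4, chevE6, chevE7, chevE8]) : ConjData D := by
  simp only [List.mem_cons, List.not_mem_nil, or_false] at hD
  rcases hD with rfl | rfl | rfl | rfl | rfl | rfl | rfl
  · exact cdG2
  · exact cdB2
  · exact cdD4
  · exact cdF4
  · exact cdE6
  · exact cdE7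
  · exact cdE8

end Cfsg.Agent.Lib.Helper7.ConjAll
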