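import Cfsg.Agent.Lib.Helper7.ChevCommF
import Cfsg.Agent.Lib.Helper7.ConjAll

set_option autoImplicit false
set_option maxRecDepth 1000000
set_option maxHeartbeats 4000000

namespace Cfsg.Agent.Lib.Helper7.CommB2
open Cfsg.Lie Cfsg.Agent.Lib.Helper7.ChevEngine Cfsg.Agent.Lib.Helper7.ChevN Cfsg.Agent.Lib.Helper7.ChevConjT Cfsg.Agent.Lib.Helper7.ChevConjU Cfsg.Agent.Lib.Helper7.ChevCommF

def ms : List ℕ := [255, 90]

def base : List (ℕ × ℕ) := [(0, 1), (0, 3), (0, 5), (1, 0), (1, 2), (1, 4)]

def LV : ℕ := 0x40304030403000400040304030003030300030200020203030300000202020202020000010101020200020100010101000100010000000001000100010000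

def PI : ℕ := 0x10001000100000100010101010001000000000000000001010100000101010000000000000000010100010100010100000000000000000001000100010000

theorem bc_0 : baseCheck chevB2 0 1 = true := by decide +kernel

theorem bc_1 : baseCheck chevB2 0 3 = true := by decide +kernel

theorem bc_2 : baseCheck chevB2 0 5 = true := by decide +kernel

theorem bc_3 : baseCheck chevB2 1 0 = true := by decide +kernel

theorem bc_4 : baseCheck chevB2 1 2 = true := by decide +kernel

theorem bc_5 : baseCheck chevB2 1 4 = true := by decide +kernel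

theorem pc_0 : pairCheck chevB2 ms base LV PI 0 8 = true := by decide +kernel

theorem cf {F : Type*} [Field F] (hD : chevB2 ∈ [chevG2, chevB2, chevD4, chevF4, chevE6, chevE7, chevE8]) :
    ∀ r < chevB2.nroots, ∀ s < chevB2.nroots, s ≠ r → s ≠ chevB2.neg r → CF F chevB2 hD r s := by
  apply cf_of_check chevB2 hD ms ?_ base ?_ LV PI ?_
  · intro i hi
    have hi' : i < 2 := hi
    interval_cases i
    · exact ⟨Cfsg.Agent.Lib.Helper7.NFundSmall.nB2_0, _, Cfsg.Agent.Lib.Helper7.ConjSmall.cjB2_0⟩
    · exact ⟨Cfsg.Agent.Lib.Helper7.NFundSmall.nB2_1, _, Cfsg.Agent.Lib.Helper7.ConjSmall.cjB2_1⟩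
  · intro p hp
    simp only [base, List.mem_cons, List.not_mem_nil, or_false] at hp
    rcases hp with rfl | rfl | rfl | rfl | rfl | rfl
    · exact bc_0
    · exact bc_1
    · exact bc_2
    · exact bc_3
    · exact bc_4
    · exact bc_5
  · intro r hr s hs
    have hr' : r < 8 := hr
    exact pair_of_check chevB2 ms base LV PI 0 8 pc_0 r (by omega) (by omega) s hs

end Cfsg.Agent.Lib.Helper7.CommB2
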