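import Cfsg.Agent.Lib.Helper7.CommDE6
import Cfsg.Agent.Lib.Helper7.CommPE6_0
import Cfsg.Agent.Lib.Helper7.ConjAll

set_option autoImplicit false
set_option maxRecDepth 1000000
set_option maxHeartbeats 4000000

namespace Cfsg.Agent.Lib.Helper7.CommE6
open Cfsg.Lie Cfsg.Agent.Lib.Helper7.ChevEngine Cfsg.Agent.Lib.Helper7.ChevN Cfsg.Agent.Lib.Helper7.ChevConjT Cfsg.Agent.Lib.Helper7.ChevConjU Cfsg.Agent.Lib.Helper7.ChevCommF Cfsg.Agent.Lib.Helper7.ChevCommFast Cfsg.Agent.Lib.Helper7.ChevCommSL Cfsg.Agent.Lib.Helper7.ChevW0 Cfsg.Agent.Lib.Helper7.W0All Cfsg.Agent.Lib.Helper7.CommDE6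

theorem chk : chCheck1 chevE6 CH = true := by decide +kernel

theorem bc_0 : baseCheck chevE6 0 1 = true := by decide +kernel

theorem bc_1 : baseCheck chevE6 0 11 = true := by decide +kernel

theorem bc_2 : baseCheck chevE6 0 46 = true := by decide +kernel

theorem cf {F : Type*} [Field F] (hD : chevE6 ∈ [chevG2, chevB2, chevD4, chevF4, chevE6, chevE7, chevE8]) :
    ∀ r < chevE6.nroots, ∀ s < chevE6.nroots, s ≠ r → s ≠ chevE6.neg r → CF F chevE6 hD r s := by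
  apply cf_of_checkS chevE6 hD ms ?_ wtE6 woE6 CH chk base ?_ LV PI ?_
  · intro i hi
    have hi' : i < 6 := hi
    interval_cases i
    · exact ⟨Cfsg.Agent.Lib.Helper7.NFundE6.nE6_0, _, Cfsg.Agent.Lib.Helper7.ConjE6.cjE6_0⟩
    · exact ⟨Cfsg.Agent.Lib.Helper7.NFundE6.nE6_1, _, Cfsg.Agent.Lib.Helper7.ConjE6.cjE6_1⟩
    · exact ⟨Cfsg.Agent.Lib.Helper7.NFundE6.nE6_2, _, Cfsg.Agent.Lib.Helper7.ConjE6.cjE6_2⟩
    · exact ⟨Cfsg.Agent.Lib.Helper7.NFundE6.nE6_3, _, Cfsg.Agent.Lib.Helper7.ConjE6.cjE6_3⟩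
    · exact ⟨Cfsg.Agent.Lib.Helper7.NFundE6.nE6_4, _, Cfsg.Agent.Lib.Helper7.ConjE6.cjE6_4⟩
    · exact ⟨Cfsg.Agent.Lib.Helper7.NFundE6.nE6_5, _, Cfsg.Agent.Lib.Helper7.ConjE6.cjE6_5⟩
  · intro p hp
    simp only [base, List.mem_cons, List.not_mem_nil, or_false] at hp
    rcases hp with rfl | rfl | rfl
    · exact bc_0
    · exact bc_1
    · exact bc_2
  · intro r hr s hs
    have hr' : r < 72 := hr
    exact pair_of_checkS chevE6 ms wtE6 base CH LV PI 0 72 Cfsg.Agent.Lib.Helper7.CommPE6_0.pc_0 r (by omega) (by omega) s hs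

end Cfsg.Agent.Lib.Helper7.CommE6
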