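import Cfsg.Agent.Lib.Helper7.CommDE8

set_option autoImplicit false
set_option maxRecDepth 1000000
set_option maxHeartbeats 4000000

namespace Cfsg.Agent.Lib.Helper7.CommPE8_1
open Cfsg.Lie Cfsg.Agent.Lib.Helper7.ChevEngine Cfsg.Agent.Lib.Helper7.ChevN Cfsg.Agent.Lib.Helper7.ChevConjT Cfsg.Agent.Lib.Helper7.ChevConjU Cfsg.Agent.Lib.Helper7.ChevCommF Cfsg.Agent.Lib.Helper7.ChevCommFast Cfsg.Agent.Lib.Helper7.ChevCommSL Cfsg.Agent.Lib.Helper7.ChevW0 Cfsg.Agent.Lib.Helper7.W0All Cfsg.Agent.Lib.Helper7.CommDE8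

theorem pc_3 : pairCheckS chevE8 ms wtE8 base CH LV PI 120 40 = true := by decide +kernel

theorem pc_4 : pairCheckS chevE8 ms wtE8 base CH LV PI 160 40 = true := by decide +kernel

theorem pc_5 : pairCheckS chevE8 ms wtE8 base CH LV PI 200 40 = true := by decide +kernel

end Cfsg.Agent.Lib.Helper7.CommPE8_1
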