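import Cfsg.Agent.Lib.Helper7.CommDE8
import Cfsg.Agent.Lib.Helper7.CommPE8_0
import Cfsg.Agent.Lib.Helper7.CommPE8_1
import Cfsg.Agent.Lib.Helper7.ConjAll

set_option autoImplicit false
set_option maxRecDepth 1000000
set_option maxHeartbeats 4000000

namespace Cfsg.Agent.Lib.Helper7.CommE8
open Cfsg.Lie Cfsg.Agent.Lib.Helper7.ChevEngine Cfsg.Agent.Lib.Helper7.ChevN Cfsg.Agent.Lib.Helper7.ChevConjT Cfsg.Agent.Lib.Helper7.ChevConjU Cfsg.Agent.Lib.Helper7.ChevCommF Cfsg.Agent.Lib.Helper7.ChevCommFast Cfsg.Agent.Lib.Helper7.ChevCommSL Cfsg.Agent.Lib.Helper7.ChevW0 Cfsg.Agent.Lib.Helper7.W0All Cfsg.Agent.Lib.Helper7.CommDE8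

theorem chk : chCheck1 chevE8 CH = true := by decide +kernel

theorem bc_0 : baseCheck chevE8 0 1 = true := by decide +kernel

theorem bc_1 : baseCheck chevE8 0 13 = true := by decide +kernel

theorem bc_2 : baseCheck chevE8 0 120 = true := by decide +kernel

theorem cf {F : Type*} [Field F] (hD : chevE8 ∈ [chevG2, chevB2, chevD4, chevF4, chevE6, chevE7, chevE8]) :
    ∀ r < chevE8.nroots, ∀ s < chevE8.nroots, s ≠ r → s ≠ chevE8.neg r → CF F chevE8 hD r s := by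
  apply cf_of_checkS chevE8 hD ms ?_ wtE8 woE8 CH chk base ?_ LV PI ?_
  · intro i hi
    have hi' : i < 8 := hi
    interval_cases i
    · exact ⟨Cfsg.Agent.Lib.Helper7.NFundE8a.nE8_0, _, Cfsg.Agent.Lib.Helper7.ConjE8_0.cjE8_0⟩
    · exact ⟨Cfsg.Agent.Lib.Helper7.NFundE8a.nE8_1, _, Cfsg.Agent.Lib.Helper7.ConjE8_1.cjE8_1⟩
    · exact ⟨Cfsg.Agent.Lib.Helper7.NFundE8a.nE8_2, _, Cfsg.Agent.Lib.Helper7.ConjE8_2.cjE8_2⟩
    · exact ⟨Cfsg.Agent.Lib.Helper7.NFundE8a.nE8_3, _, Cfsg.Agent.Lib.Helper7.ConjE8_3.cjE8_3⟩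
    · exact ⟨Cfsg.Agent.Lib.Helper7.NFundE8b.nE8_4, _, Cfsg.Agent.Lib.Helper7.ConjE8_4.cjE8_4⟩
    · exact ⟨Cfsg.Agent.Lib.Helper7.NFundE8b.nE8_5, _, Cfsg.Agent.Lib.Helper7.ConjE8_5.cjE8_5⟩
    · exact ⟨Cfsg.Agent.Lib.Helper7.NFundE8b.nE8_6, _, Cfsg.Agent.Lib.Helper7.ConjE8_6.cjE8_6⟩
    · exact ⟨Cfsg.Agent.Lib.Helper7.NFundE8b.nE8_7, _, Cfsg.Agent.Lib.Helper7.ConjE8_7.cjE8_7⟩
  · intro p hp
    simp only [base, List.mem_cons, List.not_mem_nil, or_false] at hp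
    rcases hp with rfl | rfl | rfl
    · exact bc_0
    · exact bc_1
    · exact bc_2
  · intro r hr s hs
    have hr' : r < 240 := hr
    by_cases h0 : r < 40
    · exact pair_of_checkS chevE8 ms wtE8 base CH LV PI 0 40 Cfsg.Agent.Lib.Helper7.CommPE8_0.pc_0 r (by omega) (by omega) s hs
    by_cases h1 : r < 80
    · exact pair_of_checkS chevE8 ms wtE8 base CH LV PI 40 40 Cfsg.Agent.Lib.Helper7.CommPE8_0.pc_1 r (by omega) (by omega) s hs
    by_cases h2 : r < 120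
    · exact pair_of_checkS chevE8 ms wtE8 base CH LV PI 80 40 Cfsg.Agent.Lib.Helper7.CommPE8_0.pc_2 r (by omega) (by omega) s hs
    by_cases h3 : r < 160
    · exact pair_of_checkS chevE8 ms wtE8 base CH LV PI 120 40 Cfsg.Agent.Lib.Helper7.CommPE8_1.pc_3 r (by omega) (by omega) s hs
    by_cases h4 : r < 200
    · exact pair_of_checkS chevE8 ms wtE8 base CH LV PI 160 40 Cfsg.Agent.Lib.Helper7.CommPE8_1.pc_4 r (by omega) (by omega) s hs
    exact pair_of_checkS chevE8 ms wtE8 base CH LV PI 200 40 Cfsg.Agent.Lib.Helper7.CommPE8_1.pc_5 r (by omega) (by omega) s hs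

end Cfsg.Agent.Lib.Helper7.CommE8
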