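import Cfsg.Agent.Lib.Helper7.CommG2
import Cfsg.Agent.Lib.Helper7.CommB2
import Cfsg.Agent.Lib.Helper7.CommD4
import Cfsg.Agent.Lib.Helper7.CommF4
import Cfsg.Agent.Lib.Helper7.CommE6
import Cfsg.Agent.Lib.Helper7.CommE7
import Cfsg.Agent.Lib.Helper7.CommE8

set_option autoImplicit false

namespace Cfsg.Agent.Lib.Helper7.CommAll
open Cfsg.Lie Cfsg.Agent.Lib.Helper7.ChevCommF Cfsg.Agent.Lib.Helper7.ChevTorus

theorem cf_all {F : Type*} [Field F] (D : ChevalleyDatum)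
    (hD : D ∈ [chevG2, chevB2, chevD4, chevF4, chevE6, chevE7, chevE8]) :
    ∀ r < D.nroots, ∀ s < D.nroots, s ≠ r → s ≠ D.neg r → CF F D hD r s := by
  have hD' := hD
  simp only [List.mem_cons, List.not_mem_nil, or_false] at hD'
  rcases hD' with rfl | rfl | rfl | rfl | rfl | rfl | rfl
  · exact Cfsg.Agent.Lib.Helper7.CommG2.cf hD
  · exact Cfsg.Agent.Lib.Helper7.CommB2.cf hD
  · exact Cfsg.Agent.Lib.Helper7.CommD4.cf hD
  · exact Cfsg.Agent.Lib.Helper7.CommF4.cf hD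
  · exact Cfsg.Agent.Lib.Helper7.CommE6.cf hD
  · exact Cfsg.Agent.Lib.Helper7.CommE7.cf hD
  · exact Cfsg.Agent.Lib.Helper7.CommE8.cf hD

theorem comm_formula {F : Type*} [Field F] (D : ChevalleyDatum)
    (hD : D ∈ [chevG2, chevB2, chevD4, chevF4, chevE6, chevE7, chevE8]) (r s : ℕ) (hr : r < D.nroots)
    (hs : s < D.nroots) (hrs : s ≠ r) (hneg : s ≠ D.neg r) (t u : F) :
    xGL D hD s u * xGL D hD r t = xGL D hD r t * xGL D hD s u * wordGL D hD (D.commWord F r s t u) :=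
  cf_all D hD r hr s hs hrs hneg t u

end Cfsg.Agent.Lib.Helper7.CommAll
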