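import Cfsg.Agent.Lib.Helper7.ChevCommF
import Cfsg.Agent.Lib.Helper7.ConjAll

set_option autoImplicit false
set_option maxRecDepth 1000000
set_option maxHeartbeats 4000000

namespace Cfsg.Agent.Lib.Helper7.CommG2
open Cfsg.Lie Cfsg.Agent.Lib.Helper7.ChevEngine Cfsg.Agent.Lib.Helper7.ChevN Cfsg.Agent.Lib.Helper7.ChevConjT Cfsg.Agent.Lib.Helper7.ChevConjU Cfsg.Agent.Lib.Helper7.ChevCommF

def ms : List ℕ := [1686, 2409]

def base : List (ℕ × ℕ) := [(0, 1), (0, 2), (0, 4), (0, 6), (0, 8), (2, 0), (2, 3), (2, 5), (2, 7), (2, 10)]

def LV : ℕ := 0x606050605060506050500050005050405040504040004060500060506050605000605050505000504050400040404040404040004030003030303040404040400000303030303030303030300000202020202030303030003020002020202020202000201020100010101010000010001000100000100020002020102010201010001000101000100010001000000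

def PI : ℕ := 0x101010101010101010100000000000000000000000000010000010001000100000100010101000101010100010101000000000000000000000000010101010100000101010101000000000000000000000000010101010001010001010101000000000000000000000000010000010001000100000100010001010101010101010001000000000000000000000000

theorem bc_0 : baseCheck chevG2 0 1 = true := by decide +kernel

theorem bc_1 : baseCheck chevG2 0 2 = true := by decide +kernel

theorem bc_2 : baseCheck chevG2 0 4 = true := by decide +kernel

theorem bc_3 : baseCheck chevG2 0 6 = true := by decide +kernel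

theorem bc_4 : baseCheck chevG2 0 8 = true := by decide +kernel

theorem bc_5 : baseCheck chevG2 2 0 = true := by decide +kernel

theorem bc_6 : baseCheck chevG2 2 3 = true := by decide +kernel

theorem bc_7 : baseCheck chevG2 2 5 = true := by decide +kernel

theorem bc_8 : baseCheck chevG2 2 7 = true := by decide +kernel

theorem bc_9 : baseCheck chevG2 2 10 = true := by decide +kernel

theorem pc_0 : pairCheck chevG2 ms base LV PI 0 12 = true := by decide +kernel

theorem cf {F : Type*} [Field F] (hD : chevG2 ∈ [chevG2, chevB2, chevD4, chevF4, chevE6, chevE7, chevE8]) :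
    ∀ r < chevG2.nroots, ∀ s < chevG2.nroots, s ≠ r → s ≠ chevG2.neg r → CF F chevG2 hD r s := by
  apply cf_of_check chevG2 hD ms ?_ base ?_ LV PI ?_
  · intro i hi
    have hi' : i < 2 := hi
    interval_cases i
    · exact ⟨Cfsg.Agent.Lib.Helper7.NFundSmall.nG2_0, _, Cfsg.Agent.Lib.Helper7.ConjSmall.cjG2_0⟩
    · exact ⟨Cfsg.Agent.Lib.Helper7.NFundSmall.nG2_1, _, Cfsg.Agent.Lib.Helper7.ConjSmall.cjG2_1⟩
  · intro p hp
    simp only [base, List.mem_cons, List.not_mem_nil, or_false] at hp
    rcases hp with rfl | rfl | rfl | rfl | rfl | rfl | rfl | rfl | rfl | rfl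
    · exact bc_0
    · exact bc_1
    · exact bc_2
    · exact bc_3
    · exact bc_4
    · exact bc_5
    · exact bc_6
    · exact bc_7
    · exact bc_8
    · exact bc_9
  · intro r hr s hs
    have hr' : r < 12 := hr
    exact pair_of_check chevG2 ms base LV PI 0 12 pc_0 r (by omega) (by omega) s hs

end Cfsg.Agent.Lib.Helper7.CommG2
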