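import Cfsg.Agent.Lib.Helper7.ChevConjT
import Cfsg.Prelude.Def_ChevE8

set_option autoImplicit false
set_option maxRecDepth 1000000

namespace Cfsg.Agent.Lib.Helper7.ConjE8_7
open Cfsg.Lie Cfsg.Agent.Lib.Helper7.ChevConjT

theorem cjE8_7 : conjCheck chevE8 7 883640953424295284539211242083837250739230978062844892341602038697168897 88641178941534961399528574982133574396814677498906256381400989866246665564627449953229161844680194659074190077933092506923116215135179707304662642718937925229953648022107495859618087372822661764163967864959498616813225990959921021107342227069879379961702186122601970179144962718114610669862116384906490085474227268535270866071537994068712179526991254658483445889533178669162414355083484286780054293952034942920139124176531856893144339475625188267984313062904125435984721199090783521652049076887975122872968631645246134704052914889999252209582043955376412284065663104007717126145 = true := by decide +kernel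

end Cfsg.Agent.Lib.Helper7.ConjE8_7
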