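import Cfsg.Agent.Lib.Helper7.ChevPerm

set_option autoImplicit false
set_option maxRecDepth 100000

namespace Cfsg.Agent.Lib.Helper7.GraphData
open Cfsg.Lie Cfsg.Agent.Lib.Helper7.ChevEngine Cfsg.Agent.Lib.Helper7.ChevPerm

def tabD4_0123 : List (ℕ × ℤ) := [(0, 1), (1, 1), (2, 1), (3, 1), (4, 1), (5, 1), (6, 1), (7, 1), (8, 1), (9, 1), (10, 1), (11, 1), (12, 1), (13, 1), (14, 1), (15, 1), (16, 1), (17, 1), (18, 1), (19, 1), (20, 1), (21, 1), (22, 1), (23, 1), (24, 1), (25, 1), (26, 1), (27, 1)]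

def tabD4_0123' : List (ℕ × ℤ) := [(0, 1), (1, 1), (2, 1), (3, 1), (4, 1), (5, 1), (6, 1), (7, 1), (8, 1), (9, 1), (10, 1), (11, 1), (12, 1), (13, 1), (14, 1), (15, 1), (16, 1), (17, 1), (18, 1), (19, 1), (20, 1), (21, 1), (22, 1), (23, 1), (24, 1), (25, 1), (26, 1), (27, 1)]

theorem pdD4_0123 : PData chevD4 [0, 1, 2, 3] tabD4_0123 tabD4_0123' :=
  ⟨by decide +kernel, by decide +kernel, by decide +kernel, by decide +kernel, by decide +kernel,
    by decide +kernel⟩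

def tabD4_0132 : List (ℕ × ℤ) := [(0, 1), (1, 1), (3, 1), (2, 1), (4, 1), (5, 1), (7, 1), (6, 1), (8, 1), (9, 1), (10, 1), (12, 1), (11, 1), (13, 1), (15, 1), (14, 1), (17, 1), (16, 1), (18, 1), (20, 1), (19, 1), (21, 1), (22, 1), (23, 1), (25, 1), (24, 1), (26, 1), (27, 1)]

def tabD4_0132' : List (ℕ × ℤ) := [(0, 1), (1, 1), (3, 1), (2, 1), (4, 1), (5, 1), (7, 1), (6, 1), (8, 1), (9, 1), (10, 1), (12, 1), (11, 1), (13, 1), (15, 1), (14, 1), (17, 1), (16, 1), (18, 1), (20, 1), (19, 1), (21, 1), (22, 1), (23, 1), (25, 1), (24, 1), (26, 1), (27, 1)]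

theorem pdD4_0132 : PData chevD4 [0, 1, 3, 2] tabD4_0132 tabD4_0132' :=
  ⟨by decide +kernel, by decide +kernel, by decide +kernel, by decide +kernel, by decide +kernel,
    by decide +kernel⟩

def tabD4_2103 : List (ℕ × ℤ) := [(2, 1), (1, 1), (0, 1), (3, 1), (4, 1), (5, 1), (6, 1), (10, -1), (11, -1), (14, 1), (7, -1), (8, -1), (12, 1), (13, 1), (9, 1), (15, 1), (16, 1), (22, 1), (18, 1), (19, 1), (23, -1), (24, -1), (17, 1), (20, -1), (21, -1), (25, 1), (26, 1), (27, 1)]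

def tabD4_2103' : List (ℕ × ℤ) := [(2, 1), (1, 1), (0, 1), (3, 1), (4, 1), (5, 1), (6, 1), (10, -1), (11, -1), (14, 1), (7, -1), (8, -1), (12, 1), (13, 1), (9, 1), (15, 1), (16, 1), (22, 1), (18, 1), (19, 1), (23, -1), (24, -1), (17, 1), (20, -1), (21, -1), (25, 1), (26, 1), (27, 1)]

theorem pdD4_2103 : PData chevD4 [2, 1, 0, 3] tabD4_2103 tabD4_2103' :=
  ⟨by decide +kernel, by decide +kernel, by decide +kernel, by decide +kernel, by decide +kernel,
    by decide +kernel⟩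

def tabD4_2130 : List (ℕ × ℤ) := [(2, 1), (1, 1), (3, 1), (0, 1), (4, 1), (5, 1), (10, -1), (6, 1), (11, -1), (14, 1), (7, -1), (12, 1), (8, -1), (13, 1), (15, 1), (9, 1), (22, 1), (16, 1), (18, 1), (23, -1), (19, 1), (24, -1), (17, 1), (20, -1), (25, 1), (21, -1), (26, 1), (27, 1)]

def tabD4_2130' : List (ℕ × ℤ) := [(3, 1), (1, 1), (0, 1), (2, 1), (4, 1), (5, 1), (7, 1), (10, -1), (12, -1), (15, 1), (6, -1), (8, -1), (11, 1), (13, 1), (9, 1), (14, 1), (17, 1), (22, 1), (18, 1), (20, 1), (23, -1), (25, -1), (16, 1), (19, -1), (21, -1), (24, 1), (26, 1), (27, 1)]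

theorem pdD4_2130 : PData chevD4 [2, 1, 3, 0] tabD4_2130 tabD4_2130' :=
  ⟨by decide +kernel, by decide +kernel, by decide +kernel, by decide +kernel, by decide +kernel,
    by decide +kernel⟩

def tabD4_3102 : List (ℕ × ℤ) := [(3, 1), (1, 1), (0, 1), (2, 1), (4, 1), (5, 1), (7, 1), (10, -1), (12, -1), (15, 1), (6, -1), (8, -1), (11, 1), (13, 1), (9, 1), (14, 1), (17, 1), (22, 1), (18, 1), (20, 1), (23, -1), (25, -1), (16, 1), (19, -1), (21, -1), (24, 1), (26, 1), (27, 1)]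

def tabD4_3102' : List (ℕ × ℤ) := [(2, 1), (1, 1), (3, 1), (0, 1), (4, 1), (5, 1), (10, -1), (6, 1), (11, -1), (14, 1), (7, -1), (12, 1), (8, -1), (13, 1), (15, 1), (9, 1), (22, 1), (16, 1), (18, 1), (23, -1), (19, 1), (24, -1), (17, 1), (20, -1), (25, 1), (21, -1), (26, 1), (27, 1)]

theorem pdD4_3102 : PData chevD4 [3, 1, 0, 2] tabD4_3102 tabD4_3102' :=
  ⟨by decide +kernel, by decide +kernel, by decide +kernel, by decide +kernel, by decide +kernel,
    by decide +kernel⟩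

def tabD4_3120 : List (ℕ × ℤ) := [(3, 1), (1, 1), (2, 1), (0, 1), (4, 1), (5, 1), (10, -1), (7, 1), (12, -1), (15, 1), (6, -1), (11, 1), (8, -1), (13, 1), (14, 1), (9, 1), (22, 1), (17, 1), (18, 1), (23, -1), (20, 1), (25, -1), (16, 1), (19, -1), (24, 1), (21, -1), (26, 1), (27, 1)]

def tabD4_3120' : List (ℕ × ℤ) := [(3, 1), (1, 1), (2, 1), (0, 1), (4, 1), (5, 1), (10, -1), (7, 1), (12, -1), (15, 1), (6, -1), (11, 1), (8, -1), (13, 1), (14, 1), (9, 1), (22, 1), (17, 1), (18, 1), (23, -1), (20, 1), (25, -1), (16, 1), (19, -1), (24, 1), (21, -1), (26, 1), (27, 1)]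

theorem pdD4_3120 : PData chevD4 [3, 1, 2, 0] tabD4_3120 tabD4_3120' :=
  ⟨by decide +kernel, by decide +kernel, by decide +kernel, by decide +kernel, by decide +kernel,
    by decide +kernel⟩

def tabE6_012345 : List (ℕ × ℤ) := [(0, 1), (1, 1), (2, 1), (3, 1), (4, 1), (5, 1), (6, 1), (7, 1), (8, 1), (9, 1), (10, 1), (11, 1), (12, 1), (13, 1), (14, 1), (15, 1), (16, 1), (17, 1), (18, 1), (19, 1), (20, 1), (21, 1), (22, 1), (23, 1), (24, 1), (25, 1), (26, 1), (27, 1), (28, 1), (29, 1), (30, 1), (31, 1), (32, 1), (33, 1), (34, 1), (35, 1), (36, 1), (37, 1), (38, 1), (39, 1), (40, 1), (41, 1), (42, 1), (43, 1), (44, 1), (45, 1), (46, 1), (47, 1), (48, 1), (49, 1), (50, 1), (51, 1), (52, 1), (53, 1), (54, 1), (55, 1), (56, 1), (57, 1), (58, 1), (59, 1), (60, 1), (61, 1), (62, 1), (63, 1), (64, 1), (65, 1), (66, 1), (67, 1), (68, 1), (69, 1), (70, 1), (71, 1), (72, 1), (73, 1), (74, 1), (75, 1), (76, 1), (77, 1)]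

def tabE6_012345' : List (ℕ × ℤ) := [(0, 1), (1, 1), (2, 1), (3, 1), (4, 1), (5, 1), (6, 1), (7, 1), (8, 1), (9, 1), (10, 1), (11, 1), (12, 1), (13, 1), (14, 1), (15, 1), (16, 1), (17, 1), (18, 1), (19, 1), (20, 1), (21, 1), (22, 1), (23, 1), (24, 1), (25, 1), (26, 1), (27, 1), (28, 1), (29, 1), (30, 1), (31, 1), (32, 1), (33, 1), (34, 1), (35, 1), (36, 1), (37, 1), (38, 1), (39, 1), (40, 1), (41, 1), (42, 1), (43, 1), (44, 1), (45, 1), (46, 1), (47, 1), (48, 1), (49, 1), (50, 1), (51, 1), (52, 1), (53, 1), (54, 1), (55, 1), (56, 1), (57, 1), (58, 1), (59, 1), (60, 1), (61, 1), (62, 1), (63, 1), (64, 1), (65, 1), (66, 1), (67, 1), (68, 1), (69, 1), (70, 1), (71, 1), (72, 1), (73, 1), (74, 1), (75, 1), (76, 1), (77, 1)]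

theorem pdE6_012345 : PData chevE6 [0, 1, 2, 3, 4, 5] tabE6_012345 tabE6_012345' :=
  ⟨by decide +kernel, by decide +kernel, by decide +kernel, by decide +kernel, by decide +kernel,
    by decide +kernel⟩

def tabE6_514320 : List (ℕ × ℤ) := [(5, 1), (1, 1), (4, 1), (3, 1), (2, 1), (0, 1), (6, 1), (7, 1), (8, 1), (11, 1), (22, -1), (9, 1), (12, 1), (23, -1), (14, 1), (25, -1), (28, -1), (17, 1), (32, -1), (36, 1), (39, -1), (41, 1), (10, -1), (13, -1), (24, 1), (15, -1), (26, 1), (29, 1), (16, -1), (27, 1), (30, 1), (31, 1), (18, -1), (33, 1), (37, -1), (40, 1), (19, 1), (34, -1), (38, 1), (20, -1), (35, 1), (21, 1), (62, 1), (48, 1), (63, -1), (45, 1), (49, -1), (64, 1), (43, 1), (46, -1), (50, 1), (65, -1), (52, 1), (53, 1), (56, 1), (67, -1), (54, 1), (57, 1), (68, -1), (59, 1), (70, -1), (73, -1), (42, 1), (44, -1), (47, 1), (51, -1), (66, 1), (55, -1), (58, -1), (69, 1), (60, -1), (71, 1), (74, 1), (61,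 -1), (72, 1), (75, 1), (76, 1), (77, 1)]

def tabE6_514320' : List (ℕ × ℤ) := [(5, 1), (1, 1), (4, 1), (3, 1), (2, 1), (0, 1), (6, 1), (7, 1), (8, 1), (11, 1), (22, -1), (9, 1), (12, 1), (23, -1), (14, 1), (25, -1), (28, -1), (17, 1), (32, -1), (36, 1), (39, -1), (41, 1), (10, -1), (13, -1), (24, 1), (15, -1), (26, 1), (29, 1), (16, -1), (27, 1), (30, 1), (31, 1), (18, -1), (33, 1), (37, -1), (40, 1), (19, 1), (34, -1), (38, 1), (20, -1), (35, 1), (21, 1), (62, 1), (48, 1), (63, -1), (45, 1), (49, -1), (64, 1), (43, 1), (46, -1), (50, 1), (65, -1), (52, 1), (53, 1), (56, 1), (67, -1), (54, 1), (57, 1), (68, -1), (59, 1), (70, -1), (73, -1), (42, 1), (44, -1), (47, 1), (51, -1), (66, 1), (55, -1), (58, -1), (69, 1), (60, -1), (71, 1), (74, 1), (61, -1), (72, 1), (75, 1), (76, 1), (77, 1)]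

theorem pdE6_514320 : PData chevE6 [5, 1, 4, 3, 2, 0] tabE6_514320 tabE6_514320' :=
  ⟨by decide +kernel, by decide +kernel, by decide +kernel, by decide +kernel, by decide +kernel,
    by decide +kernel⟩

end Cfsg.Agent.Lib.Helper7.GraphData
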