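import Cfsg.Agent.Lib.Helper7.ChevHAll
import Cfsg.Agent.Lib.Helper7.ConjAll
import Cfsg.Agent.Lib.Helper7.AddAll
import Cfsg.Agent.S1033

set_option autoImplicit false
set_option maxRecDepth 1000000

namespace Cfsg.Agent.Lib.Helper7.HBaseAll
open Cfsg.Lie Cfsg.Agent.Lib.Helper7.ChevConjU Cfsg.Agent.Lib.Helper7.ChevAdd Cfsg.Agent.Lib.Helper7.ChevHAll

theorem csG2 : corSimpleCheck chevG2 = true := by decide +kernel
theorem csB2 : corSimpleCheck chevB2 = true := by decide +kernel
theorem csD4 : corSimpleCheck chevD4 = true := by decide +kernel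
theorem csF4 : corSimpleCheck chevF4 = true := by decide +kernel
theorem csE6 : corSimpleCheck chevE6 = true := by decide +kernel
theorem csE7 : corSimpleCheck chevE7 = true := by decide +kernel
theorem csE8 : corSimpleCheck chevE8 = true := by decide +kernel

theorem hBase_of_mem (D : ChevalleyDatum)
    (hD : D ∈ [chevG2, chevB2, chevD4, chevF4, chevE6, chevE7, chevE8]) : HBase D := by
  refine ⟨fun j hj => Cfsg.Agent.S1033.hcheck_all D hD j hj, ?_⟩
  simp only [List.mem_cons, List.not_mem_nil, or_false] at hD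
  rcases hD with rfl | rfl | rfl | rfl | rfl | rfl | rfl
  · exact csG2
  · exact csB2
  · exact csD4
  · exact csF4
  · exact csE6
  · exact csE7
  · exact csE8

theorem all_of_mem (D : ChevalleyDatum)
    (hD : D ∈ [chevG2, chevB2, chevD4, chevF4, chevE6, chevE7, chevE8]) :
    ConjData D ∧ AddBase D ∧ HBase D :=
  ⟨Cfsg.Agent.Lib.Helper7.ConjAll.conjData_of_mem D hD, Cfsg.Agent.Lib.Helper7.AddAll.addBase_of_mem D hD,
    hBase_of_mem D hD⟩

theorem simple_lt (D : ChevalleyDatum) (hC : ConjData D) (j : ℕ) (hj : j < D.rank) : D.simple j < D.nroots := by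
  obtain ⟨m, W, -, -, hcj⟩ := hC.1 j hj
  exact (refl_props D j m W hcj).2.1

end Cfsg.Agent.Lib.Helper7.HBaseAll
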