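import Cfsg.Agent.Lib.Helper7.ChevEngine

set_option autoImplicit false

namespace Cfsg.Agent.Lib.Helper7.MvEngine
open Cfsg.Lie Cfsg.Agent.Lib.Helper7.ChevEngine

abbrev Ex6 : Type := ℕ × ℕ × ℕ × ℕ × ℕ × ℕ
abbrev Mono6 : Type := ℤ × Ex6
abbrev Poly6 : Type := List Mono6
abbrev SVec6 : Type := List (ℕ × Poly6)

def eadd (x y : Ex6) : Ex6 :=
  (x.1 + y.1, x.2.1 + y.2.1, x.2.2.1 + y.2.2.1, x.2.2.2.1 + y.2.2.2.1, x.2.2.2.2.1 + y.2.2.2.2.1,
    x.2.2.2.2.2 + y.2.2.2.2.2)

def mmul6 (x y : Mono6) : Mono6 := (x.1 * y.1, eadd x.2 y.2)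

def pmul6 (p q : Poly6) : Poly6 := p.flatMap fun x => q.map fun y => mmul6 x y

def smul6 (c : ℤ) (p : Poly6) : Poly6 := p.map fun x => (c * x.1, x.2)

def one6 : Poly6 := [(1, 0, 0, 0, 0, 0, 0)]

def ppow6 (p : Poly6) : ℕ → Poly6
  | 0 => one6
  | n + 1 => pmul6 p (ppow6 p n)

def insertM6 (m : Mono6) : Poly6 → Poly6
  | [] => [m]
  | m' :: rest => if m.2 = m'.2 then (m.1 + m'.1, m'.2) :: rest else m' :: insertM6 m rest

def norm6 (p : Poly6) : Poly6 := (p.foldr insertM6 []).filter fun m => m.1 != 0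

def insertV6 (k : ℕ) (p : Poly6) : SVec6 → SVec6
  | [] => [(k, p)]
  | x :: rest => if k = x.1 then (x.1, p ++ x.2) :: rest else x :: insertV6 k p rest

def normV6 (v : SVec6) : SVec6 :=
  ((v.foldr (fun x acc => insertV6 x.1 x.2 acc) []).map fun x => (x.1, norm6 x.2)).filter fun x => !x.2.isEmpty

def negV6 (v : SVec6) : SVec6 := v.map fun x => (x.1, smul6 (-1) x.2)

def embV (v : SVec) : SVec6 := v.map fun x => (x.1, x.2.map fun m => (m.1, (0, 0, 0, 0, m.2.1, m.2.2)))

section Eval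
variable {F : Type*} [Field F]

def eex (ρ : ℕ → F) (e : Ex6) : F :=
  ρ 0 ^ e.1 * ρ 1 ^ e.2.1 * ρ 2 ^ e.2.2.1 * ρ 3 ^ e.2.2.2.1 * ρ 4 ^ e.2.2.2.2.1 * ρ 5 ^ e.2.2.2.2.2

theorem eex_eadd (ρ : ℕ → F) (x y : Ex6) : eex ρ (eadd x y) = eex ρ x * eex ρ y := by
  unfold eex eadd
  simp only [pow_add]
  ring

def evalM6 (ρ : ℕ → F) (m : Mono6) : F := (m.1 : F) * eex ρ m.2

def eval6 (ρ : ℕ → F) (p : Poly6) : F := (p.map (evalM6 ρ)).sum

@[simp] theorem eval6_nil (ρ : ℕ → F) : eval6 ρ [] = 0 := rfl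

@[simp] theorem eval6_cons (ρ : ℕ → F) (m : Mono6) (p : Poly6) :
    eval6 ρ (m :: p) = evalM6 ρ m + eval6 ρ p := by
  simp [eval6]

@[simp] theorem eval6_append (ρ : ℕ → F) (p q : Poly6) : eval6 ρ (p ++ q) = eval6 ρ p + eval6 ρ q := by
  simp [eval6]

@[simp] theorem eval6_one (ρ : ℕ → F) : eval6 ρ one6 = 1 := by
  simp [one6, evalM6, eex]

theorem evalM6_mmul (ρ : ℕ → F) (x y : Mono6) : evalM6 ρ (mmul6 x y) = evalM6 ρ x * evalM6 ρ y := by
  unfold mmul6 evalM6
  rw [eex_eadd]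
  push_cast
  ring

theorem eval6_smul (ρ : ℕ → F) (c : ℤ) (p : Poly6) : eval6 ρ (smul6 c p) = (c : F) * eval6 ρ p := by
  induction p with
  | nil => simp [smul6]
  | cons m p ih =>
    have : smul6 c (m :: p) = (c * m.1, m.2) :: smul6 c p := rfl
    rw [this, eval6_cons, eval6_cons, ih, mul_add]
    congr 1
    simp only [evalM6, Int.cast_mul]
    ring

theorem eval6_map_mmul (ρ : ℕ → F) (x : Mono6) (q : Poly6) :
    eval6 ρ (q.map fun y => mmul6 x y) = evalM6 ρ x * eval6 ρ q := by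
  induction q with
  | nil => simp
  | cons y q ih =>
    rw [List.map_cons, eval6_cons, eval6_cons, ih, evalM6_mmul, mul_add]

theorem eval6_pmul (ρ : ℕ → F) (p q : Poly6) : eval6 ρ (pmul6 p q) = eval6 ρ p * eval6 ρ q := by
  induction p with
  | nil => simp [pmul6]
  | cons x p ih =>
    have : pmul6 (x :: p) q = (q.map fun y => mmul6 x y) ++ pmul6 p q := by
      simp [pmul6]
    rw [this, eval6_append, eval6_map_mmul, ih, eval6_cons, add_mul]

theorem eval6_ppow (ρ : ℕ → F) (p : Poly6) (m : ℕ) : eval6 ρ (ppow6 p m) = eval6 ρ p ^ m := by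
  induction m with
  | zero => simp [ppow6]
  | succ m ih =>
    have : ppow6 p (m + 1) = pmul6 p (ppow6 p m) := rfl
    rw [this, eval6_pmul, ih, pow_succ, mul_comm]

theorem eval6_insertM (ρ : ℕ → F) (m : Mono6) (p : Poly6) :
    eval6 ρ (insertM6 m p) = evalM6 ρ m + eval6 ρ p := by
  induction p with
  | nil => simp [insertM6]
  | cons m' p ih =>
    unfold insertM6
    split_ifs with h
    · rw [eval6_cons, eval6_cons]
      have : evalM6 ρ (m.1 + m'.1, m'.2) = evalM6 ρ m + evalM6 ρ m' := by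
        unfold evalM6
        simp only [Int.cast_add]
        rw [h]
        ring
      rw [this, add_assoc]
    · rw [eval6_cons, eval6_cons, ih]
      ring

theorem eval6_foldr_insertM (ρ : ℕ → F) (p : Poly6) : eval6 ρ (p.foldr insertM6 []) = eval6 ρ p := by
  induction p with
  | nil => rfl
  | cons m p ih => rw [List.foldr_cons, eval6_insertM, ih, eval6_cons]

theorem eval6_filter_ne (ρ : ℕ → F) (p : Poly6) : eval6 ρ (p.filter fun m => m.1 != 0) = eval6 ρ p := by
  induction p with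
  | nil => rfl
  | cons m p ih =>
    by_cases h : m.1 = 0
    · have h' : (m.1 != 0) = false := by simp [h]
      rw [List.filter_cons_of_neg (by simp [h']), ih, eval6_cons]
      have : evalM6 ρ m = 0 := by
        unfold evalM6
        rw [h]
        simp
      rw [this, zero_add]
    · have h' : (m.1 != 0) = true := by simp [h]
      rw [List.filter_cons_of_pos (p := fun m : Mono6 => m.1 != 0) h', eval6_cons, eval6_cons, ih]

theorem eval6_norm (ρ : ℕ → F) (p : Poly6) : eval6 ρ (norm6 p) = eval6 ρ p := by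
  unfold norm6
  rw [eval6_filter_ne, eval6_foldr_insertM]

def evalV6 (l n : ℕ) (ρ : ℕ → F) (v : SVec6) : Ix l n → F :=
  fun idx => (v.map fun x => if code idx = x.1 then eval6 ρ x.2 else 0).sum

theorem evalV6_nil (l n : ℕ) (ρ : ℕ → F) : evalV6 l n ρ [] = 0 := rfl

theorem evalV6_cons (l n : ℕ) (ρ : ℕ → F) (x : ℕ × Poly6) (v : SVec6) :
    evalV6 l n ρ (x :: v) = eval6 ρ x.2 • bvec l n F x.1 + evalV6 l n ρ v := by
  funext idx
  simp only [evalV6, bvec, List.map_cons, List.sum_cons, Pi.add_apply, Pi.smul_apply, smul_eq_mul]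
  congr 1
  split_ifs <;> simp

theorem evalV6_append (l n : ℕ) (ρ : ℕ → F) (v w : SVec6) :
    evalV6 l n ρ (v ++ w) = evalV6 l n ρ v + evalV6 l n ρ w := by
  funext idx
  simp [evalV6]

theorem evalV6_insertV (l n : ℕ) (ρ : ℕ → F) (k : ℕ) (p : Poly6) (v : SVec6) :
    evalV6 l n ρ (insertV6 k p v) = eval6 ρ p • bvec l n F k + evalV6 l n ρ v := by
  induction v with
  | nil =>
    unfold insertV6
    rw [evalV6_cons]
  | cons x v ih =>
    unfold insertV6
    split_ifs with h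
    · rw [evalV6_cons, evalV6_cons, eval6_append, add_smul, h, add_assoc]
    · rw [evalV6_cons, evalV6_cons, ih]
      abel

theorem evalV6_foldr_insertV (l n : ℕ) (ρ : ℕ → F) (v : SVec6) :
    evalV6 l n ρ (v.foldr (fun x acc => insertV6 x.1 x.2 acc) []) = evalV6 l n ρ v := by
  induction v with
  | nil => rfl
  | cons x v ih => rw [List.foldr_cons, evalV6_insertV, ih, evalV6_cons]

theorem evalV6_map_norm (l n : ℕ) (ρ : ℕ → F) (v : SVec6) :
    evalV6 l n ρ (v.map fun x => (x.1, norm6 x.2)) = evalV6 l n ρ v := by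
  induction v with
  | nil => rfl
  | cons x v ih => rw [List.map_cons, evalV6_cons, evalV6_cons, ih, eval6_norm]

theorem evalV6_filter (l n : ℕ) (ρ : ℕ → F) (v : SVec6) :
    evalV6 l n ρ (v.filter fun x => !x.2.isEmpty) = evalV6 l n ρ v := by
  induction v with
  | nil => rfl
  | cons x v ih =>
    by_cases h : x.2 = []
    · have h' : (!x.2.isEmpty) = false := by simp [h]
      rw [List.filter_cons_of_neg (by simp [h']), ih, evalV6_cons, h, eval6_nil, zero_smul, zero_add]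
    · have h' : (!x.2.isEmpty) = true := by simp [h]
      rw [List.filter_cons_of_pos (p := fun x : ℕ × Poly6 => !x.2.isEmpty) h', evalV6_cons, evalV6_cons, ih]

theorem evalV6_normV (l n : ℕ) (ρ : ℕ → F) (v : SVec6) : evalV6 l n ρ (normV6 v) = evalV6 l n ρ v := by
  unfold normV6
  rw [evalV6_filter, evalV6_map_norm, evalV6_foldr_insertV]

theorem evalV6_negV (l n : ℕ) (ρ : ℕ → F) (v : SVec6) : evalV6 l n ρ (negV6 v) = - evalV6 l n ρ v := by
  induction v with
  | nil => simp [negV6, evalV6_nil]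
  | cons x v ih =>
    have : negV6 (x :: v) = (x.1, smul6 (-1) x.2) :: negV6 v := rfl
    rw [this, evalV6_cons, evalV6_cons, ih, eval6_smul]
    simp only [Int.cast_neg, Int.cast_one, neg_mul, one_mul, neg_smul, neg_add_rev]
    abel

theorem evalV6_map_pmul (l n : ℕ) (ρ : ℕ → F) (p : Poly6) (v : SVec6) :
    evalV6 l n ρ (v.map fun y => (y.1, pmul6 p y.2)) = eval6 ρ p • evalV6 l n ρ v := by
  induction v with
  | nil => simp [evalV6_nil]
  | cons x v ih =>
    rw [List.map_cons, evalV6_cons, evalV6_cons, ih, eval6_pmul, smul_add, smul_smul]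

theorem evalV6_eq_of_normV_nil (l n : ℕ) (ρ : ℕ → F) (v w : SVec6)
    (h : (normV6 (v ++ negV6 w)).isEmpty = true) : evalV6 l n ρ v = evalV6 l n ρ w := by
  have h1 : normV6 (v ++ negV6 w) = [] := List.isEmpty_iff.mp h
  have h2 := evalV6_normV l n ρ (v ++ negV6 w)
  rw [h1, evalV6_nil, evalV6_append, evalV6_negV] at h2
  have h3 : evalV6 l n ρ v - evalV6 l n ρ w = 0 := by
    rw [sub_eq_add_neg]
    exact h2.symm
  exact sub_eq_zero.mp h3

theorem eval6_embP (ρ : ℕ → F) (p : Poly) :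
    eval6 ρ (p.map fun m => ((m.1, (0, 0, 0, 0, m.2.1, m.2.2)) : Mono6)) = eval (ρ 4) (ρ 5) p := by
  induction p with
  | nil => rfl
  | cons m p ih =>
    rw [List.map_cons, eval6_cons, ih, eval_cons]
    congr 1
    simp [evalM6, eex, evalM, mul_assoc]

theorem evalV6_embV (l n : ℕ) (ρ : ℕ → F) (v : SVec) :
    evalV6 l n ρ (embV v) = evalV l n (ρ 4) (ρ 5) v := by
  induction v with
  | nil => rfl
  | cons x v ih =>
    have : embV (x :: v) = (x.1, x.2.map fun m => ((m.1, (0, 0, 0, 0, m.2.1, m.2.2)) : Mono6)) :: embV v := rfl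
    rw [this, evalV6_cons, ih, evalV_cons, eval6_embP]

end Eval

end Cfsg.Agent.Lib.Helper7.MvEngine
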