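import Cfsg.Agent.Lib.Helper7.MvEngine

set_option autoImplicit false

namespace Cfsg.Agent.Lib.Helper7.MvWord
open Cfsg.Lie Cfsg.Agent.Lib.Helper7.ChevEngine Cfsg.Agent.Lib.Helper7.MvEngine

def applyX6 (l n : ℕ) (A : Fns) (r : ℕ) (tp : Poly6) (k : ℕ) : SVec6 :=
  if l + n ≤ k then []
  else if k < l then
    [(k, one6), (l + r, smul6 (-(A.cart k r)) tp)]
  else if k - l = r then [(k, one6)]
  else if k - l = A.neg r then
    (k, one6) :: (l + r, smul6 (-1) (pmul6 tp tp)) ::
      (List.range l).map fun i => (i, smul6 (A.cor r i) tp)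
  else
    (k, one6) :: (A.ch r (k - l)).map fun x => (l + x.1, smul6 x.2.1 (ppow6 tp x.2.2))

def applyXVec6 (l n : ℕ) (A : Fns) (r : ℕ) (tp : Poly6) (v : SVec6) : SVec6 :=
  if r < n then
    normV6 (v.flatMap fun x => (applyX6 l n A r tp x.1).map fun y => (y.1, pmul6 x.2 y.2))
  else v

def applyWord6 (l n : ℕ) (A : Fns) (w : List (ℕ × Poly6)) (v : SVec6) : SVec6 :=
  w.foldr (fun x acc => applyXVec6 l n A x.1 x.2 acc) v


section Eval
variable {F : Type*} [Field F]

theorem applyX6_sound (l n : ℕ) (A : Fns) (ρ : ℕ → F)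
    (r : ℕ) (tp : Poly6) (k : ℕ) :
    (xM l n A F r (eval6 ρ tp)).mulVec (bvec l n F k) = evalV6 l n ρ (applyX6 l n A r tp k) := by
  by_cases hk : l + n ≤ k
  · rw [mulVec_bvec_out _ _ hk]
    unfold applyX6
    rw [if_pos hk]
    rfl
  · by_cases hkl : k < l
    · have e1 : (xM l n A F r (eval6 ρ tp)).mulVec (bvec l n F k) =
          fun i => xM l n A F r (eval6 ρ tp) i (Sum.inl ⟨k, hkl⟩) :=
        mulVec_bvec_code _ (Sum.inl ⟨k, hkl⟩ : Ix l n)
      rw [e1]
      unfold applyX6
      rw [if_neg hk, if_pos hkl]
      funext idx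
      simp only [evalV6_cons, evalV6_nil, Pi.add_apply, Pi.smul_apply, smul_eq_mul, eval6_one, eval6_smul,
        bvec, Pi.zero_apply, add_zero, one_mul]
      rcases idx with i' | u
      · have h1 : ¬ (i'.val = l + r) := by have := i'.isLt; omega
        rw [xM_inl_inl]
        simp only [code, Sum.elim_inl, h1, if_false, mul_zero, add_zero]
        by_cases h2 : i'.val = k
        · have h3 : i' = ⟨k, hkl⟩ := Fin.ext h2
          rw [if_pos h3]
          simp only [h2, if_true]
        · have h3 : ¬ i' = ⟨k, hkl⟩ := fun h => h2 (congrArg Fin.val h)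
          rw [if_neg h3]
          simp only [h2, if_false]
      · have h1 : ¬ (l + u.val = k) := by omega
        rw [xM_inr_inl]
        simp only [code, Sum.elim_inr, h1, if_false, zero_add, Nat.add_left_cancel_iff,
          Int.cast_neg, mul_ite, mul_one, mul_zero]
    · obtain ⟨s, rfl⟩ : ∃ s, k = l + s := ⟨k - l, by omega⟩
      have hs : s < n := by omega
      have e1 : (xM l n A F r (eval6 ρ tp)).mulVec (bvec l n F (l + s)) =
          fun i => xM l n A F r (eval6 ρ tp) i (Sum.inr ⟨s, hs⟩) :=
        mulVec_bvec_code _ (Sum.inr ⟨s, hs⟩ : Ix l n)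
      rw [e1]
      unfold applyX6
      rw [if_neg hk, if_neg hkl, Nat.add_sub_cancel_left]
      by_cases h1 : s = r
      · rw [if_pos h1]
        funext idx
        simp only [evalV6_cons, evalV6_nil, Pi.add_apply, Pi.smul_apply, smul_eq_mul, eval6_one,
          bvec, Pi.zero_apply, add_zero, one_mul]
        rcases idx with i' | u
        · have h2 : ¬ (i'.val = l + s) := by have := i'.isLt; omega
          rw [xM_inl_inr_r _ _ _ _ _ _ _ h1]
          simp only [code, Sum.elim_inl, h2, if_false]
        · have h2 : (l + u.val = l + s) ↔ u.val = r := by omega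
          rw [xM_inr_inr_r _ _ _ _ _ _ _ h1]
          simp only [code, Sum.elim_inr, h2]
      · rw [if_neg h1]
        by_cases h2 : s = A.neg r
        · rw [if_pos h2]
          funext idx
          simp only [evalV6_cons, Pi.add_apply, Pi.smul_apply, smul_eq_mul, eval6_one, eval6_smul,
            eval6_pmul ρ, bvec, one_mul]
          have e2 : evalV6 l n ρ ((List.range l).map fun i => (i, smul6 (A.cor r i) tp)) idx =
              ((List.range l).map fun j => if code idx = j then ((A.cor r j : ℤ) : F) * eval6 ρ tp else 0).sum := by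
            simp only [evalV6, List.map_map]
            congr 1
            apply List.map_congr_left
            intro j _
            simp only [Function.comp, eval6_smul]
          rw [e2, sum_range_ite]
          rcases idx with i' | u
          · have h3 : ¬ (i'.val = l + s) := by have := i'.isLt; omega
            have h4 : ¬ (i'.val = l + r) := by have := i'.isLt; omega
            rw [xM_inl_inr_neg _ _ _ _ _ _ _ h1 h2]
            simp only [code, Sum.elim_inl, h3, h4, if_false, mul_zero, zero_add, i'.isLt, if_true]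
          · have h3 : (l + u.val = l + s) ↔ u = ⟨s, hs⟩ := by
              rw [Fin.ext_iff]
              simp only
              omega
            have h4 : ¬ (l + u.val < l) := by omega
            rw [xM_inr_inr_neg _ _ _ _ _ _ _ h1 h2]
            simp only [code, Sum.elim_inr, h3, h4, if_false, Nat.add_left_cancel_iff, add_zero, Int.cast_neg,
              Int.cast_one]
            by_cases h5 : u = ⟨s, hs⟩
            · have h6 : ¬ (u.val = r) := by
                rw [h5]
                exact h1
              rw [if_pos h5, if_pos h5, if_neg h6]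
              ring
            · rw [if_neg h5, if_neg h5]
              by_cases h6 : u.val = r
              · rw [if_pos h6, if_pos h6]
                ring
              · rw [if_neg h6, if_neg h6]
                ring
        · rw [if_neg h2]
          funext idx
          simp only [evalV6_cons, Pi.add_apply, Pi.smul_apply, smul_eq_mul, eval6_one, bvec, one_mul]
          have e2 : evalV6 l n ρ ((A.ch r s).map fun x => (l + x.1, smul6 x.2.1 (ppow6 tp x.2.2))) idx =
              ((A.ch r s).map fun x => if code idx = l + x.1 then ((x.2.1 : ℤ) : F) * eval6 ρ tp ^ x.2.2 else 0).sum := by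
            simp only [evalV6, List.map_map]
            congr 1
            apply List.map_congr_left
            intro x _
            simp only [Function.comp, eval6_smul, eval6_ppow ρ]
          rw [e2]
          rcases idx with i' | u
          · have h3 : ¬ (i'.val = l + s) := by have := i'.isLt; omega
            have h4 : ∀ x : ℕ × ℤ × ℕ, ¬ (i'.val = l + x.1) := by
              intro x
              have := i'.isLt
              omega
            rw [xM_inl_inr_gen _ _ _ _ _ _ _ h1 h2]
            simp only [code, Sum.elim_inl, h3, h4, if_false, zero_add,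
              List.map_const', List.sum_replicate, smul_zero]
          · have h3 : (l + u.val = l + s) ↔ u = ⟨s, hs⟩ := by
              rw [Fin.ext_iff]
              simp only
              omega
            rw [xM_inr_inr_gen _ _ _ _ _ _ _ h1 h2]
            simp only [code, Sum.elim_inr, h3, Nat.add_left_cancel_iff]
            congr 1
            rw [sum_map_filter_ite]
            apply congrArg
            apply List.map_congr_left
            intro x _
            by_cases h5 : x.1 = u.val
            · rw [if_pos h5, if_pos h5.symm]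
            · rw [if_neg h5, if_neg (fun h => h5 h.symm)]


theorem applyXVec6_sound (l n : ℕ) (A : Fns) (ρ : ℕ → F)
    (r : ℕ) (tp : Poly6) (v : SVec6) :
    (xx l n A F r (eval6 ρ tp)).mulVec (evalV6 l n ρ v) = evalV6 l n ρ (applyXVec6 l n A r tp v) := by
  unfold xx applyXVec6
  by_cases h : r < n
  · rw [if_pos h, if_pos h, evalV6_normV]
    induction v with
    | nil =>
      rw [evalV6_nil, Matrix.mulVec_zero]
      rfl
    | cons x v ih =>
      rw [evalV6_cons, Matrix.mulVec_add, Matrix.mulVec_smul, ih, List.flatMap_cons, evalV6_append,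
        evalV6_map_pmul l n ρ, applyX6_sound l n A ρ]
  · rw [if_neg h, if_neg h, Matrix.one_mulVec]

theorem applyWord6_sound (l n : ℕ) (A : Fns) (ρ : ℕ → F)
    (w : List (ℕ × Poly6)) (v : SVec6) :
    (wM l n A F (w.map fun x => (x.1, eval6 ρ x.2))).mulVec (evalV6 l n ρ v) =
      evalV6 l n ρ (applyWord6 l n A w v) := by
  induction w with
  | nil =>
    simp only [wM, applyWord6, List.map_nil, List.prod_nil, Matrix.one_mulVec, List.foldr_nil]
  | cons x w ih =>
    have e1 : wM l n A F ((x :: w).map fun x => (x.1, eval6 ρ x.2)) =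
        xx l n A F x.1 (eval6 ρ x.2) * wM l n A F (w.map fun x => (x.1, eval6 ρ x.2)) := by
      simp only [wM, List.map_cons, List.prod_cons]
    have e2 : applyWord6 l n A (x :: w) v = applyXVec6 l n A x.1 x.2 (applyWord6 l n A w v) := rfl
    rw [e1, e2, ← Matrix.mulVec_mulVec, ih]
    exact applyXVec6_sound l n A ρ x.1 x.2 _


theorem bvec_eq_evalV6 (l n : ℕ) (ρ : ℕ → F) (k : ℕ) : bvec l n F k = evalV6 l n ρ [(k, one6)] := by
  rw [evalV6_cons, evalV6_nil, eval6_one, one_smul, add_zero]

def zeroM6 (p : ℤ) (q : Poly6) : Bool := q.all fun m => m.1 % p == 0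

def zeroP6 (p : ℤ) (v : SVec6) : Bool := v.all fun x => zeroM6 p x.2

theorem eval6_zeroM (p : ℤ) (hp : ((p : ℤ) : F) = 0) (ρ : ℕ → F) (q : Poly6) (h : zeroM6 p q = true) :
    eval6 ρ q = 0 := by
  induction q with
  | nil => rfl
  | cons m q ih =>
    unfold zeroM6 at h
    rw [List.all_cons, Bool.and_eq_true, beq_iff_eq] at h
    rw [eval6_cons, ih h.2, add_zero]
    obtain ⟨c, hc⟩ := Int.dvd_of_emod_eq_zero h.1
    unfold evalM6
    rw [hc, Int.cast_mul, hp, zero_mul, zero_mul]

theorem evalV6_zeroP (p : ℤ) (hp : ((p : ℤ) : F) = 0) (l n : ℕ) (ρ : ℕ → F) (v : SVec6)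
    (h : zeroP6 p v = true) : evalV6 l n ρ v = 0 := by
  induction v with
  | nil => rfl
  | cons x v ih =>
    unfold zeroP6 at h
    rw [List.all_cons, Bool.and_eq_true] at h
    rw [evalV6_cons, ih h.2, add_zero, eval6_zeroM p hp ρ x.2 h.1, zero_smul]

theorem evalV6_eq_of_zeroP (p : ℤ) (hp : ((p : ℤ) : F) = 0) (l n : ℕ) (ρ : ℕ → F) (v w : SVec6)
    (h : zeroP6 p (normV6 (v ++ negV6 w)) = true) : evalV6 l n ρ v = evalV6 l n ρ w := by
  have h2 := evalV6_normV l n ρ (v ++ negV6 w)
  rw [evalV6_zeroP p hp l n ρ _ h, evalV6_append, evalV6_negV] at h2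
  have h3 : evalV6 l n ρ v - evalV6 l n ρ w = 0 := by
    rw [sub_eq_add_neg]
    exact h2.symm
  exact sub_eq_zero.mp h3

def eqChk6 (p : ℤ) (l n : ℕ) (A : Fns) (w1 w2 : List (ℕ × Poly6)) (k : ℕ) : Bool :=
  zeroP6 p (normV6 (applyWord6 l n A w1 [(k, one6)] ++ negV6 (applyWord6 l n A w2 [(k, one6)])))

def eqChkAll (p : ℤ) (l n : ℕ) (A : Fns) (w1 w2 : List (ℕ × Poly6)) : Bool :=
  (List.range (l + n)).all fun k => eqChk6 p l n A w1 w2 k

theorem eqChk6_sound (p : ℤ) (hp : ((p : ℤ) : F) = 0) (l n : ℕ) (A : Fns) (ρ : ℕ → F)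
    (w1 w2 : List (ℕ × Poly6)) (h : eqChkAll p l n A w1 w2 = true) :
    wM l n A F (w1.map fun x => (x.1, eval6 ρ x.2)) = wM l n A F (w2.map fun x => (x.1, eval6 ρ x.2)) := by
  apply matrix_ext_bvec
  intro k hk
  unfold eqChkAll at h
  rw [List.all_eq_true] at h
  rw [bvec_eq_evalV6 l n ρ k, applyWord6_sound l n A ρ, applyWord6_sound l n A ρ]
  exact evalV6_eq_of_zeroP p hp l n ρ _ _ (h k (List.mem_range.mpr hk))

end Eval

end Cfsg.Agent.Lib.Helper7.MvWord
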