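import Cfsg.Agent.Lib.Helper7.ReeOrder

set_option autoImplicit false
set_option maxHeartbeats 400000

namespace Cfsg.Agent.Lib.Helper7.ReeBN
open Cfsg.Lie Cfsg.Agent.Lib.Helper7.ChevEngine Cfsg.Agent.Lib.Helper7.ChevTorus
  Cfsg.Agent.Lib.Helper7.ChevSpec Cfsg.Agent.Lib.Helper7.SpecData Cfsg.Agent.Lib.Helper7.ChevGen
  Cfsg.Agent.Lib.Helper7.ChevUProd Cfsg.Agent.Lib.Helper7.TwCore Cfsg.Agent.Lib.Helper7.ReeFix
  Cfsg.Agent.Lib.Helper7.ChevRel Cfsg.Agent.Lib.Helper7.ChevBN3 Cfsg.Agent.Lib.Helper7.ReeMain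
  Cfsg.Agent.Lib.Helper7.ReeU Cfsg.Agent.Lib.Helper7.ChevBruhat Cfsg.Agent.Lib.Helper7.ChevBNP
  Cfsg.Agent.Lib.Helper7.ChevW0 Cfsg.Agent.Lib.Helper7.ChevNW Cfsg.Agent.Lib.Helper7.ChevExch
  Cfsg.Agent.Lib.Helper7.ReeSg Cfsg.Agent.Lib.Helper7.ReeDich Cfsg.Agent.Lib.Helper7.ReeTorus
  Cfsg.Agent.Lib.Helper7.ReeTorMem Cfsg.Agent.Lib.Helper7.W0All Cfsg.Agent.Lib.Helper7.ReeOrder

section abs
variable {K : Type*} [Field K]

def Bs (R : Subgroup (GL chevG2.Idx K)) : Subgroup ↥R := (chevG2.borelSubgroup K ⊓ R).subgroupOf R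

def Ns (R : Subgroup (GL chevG2.Idx K)) : Subgroup ↥R := (chevG2.monomialSubgroup K ⊓ R).subgroupOf R

theorem memBs (R : Subgroup (GL chevG2.Idx K)) (x : ↥R) :
    x ∈ Bs R ↔ (x : GL chevG2.Idx K) ∈ chevG2.borelSubgroup K := by
  unfold Bs
  rw [Subgroup.mem_subgroupOf, Subgroup.mem_inf]
  exact ⟨fun h => h.1, fun h => ⟨h, x.2⟩⟩

theorem memNs (R : Subgroup (GL chevG2.Idx K)) (x : ↥R) :
    x ∈ Ns R ↔ (x : GL chevG2.Idx K) ∈ chevG2.monomialSubgroup K := by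
  unfold Ns
  rw [Subgroup.mem_subgroupOf, Subgroup.mem_inf]
  exact ⟨fun h => h.1, fun h => ⟨h, x.2⟩⟩

theorem ax_sup (R : Subgroup (GL chevG2.Idx K)) (s0 : ↥R)
    (hN : (s0 : GL chevG2.Idx K) ∈ chevG2.monomialSubgroup K)
    (hRs : ∀ g ∈ R, g ∈ chevG2.borelSubgroup K ∨ ∃ b ∈ chevG2.borelSubgroup K, b ∈ R ∧
      ∃ u ∈ chevG2.posUnipotent K, u ∈ R ∧ g = b * (s0 : GL chevG2.Idx K) * u) :
    Bs R ⊔ Ns R = ⊤ := by
  rw [eq_top_iff]
  intro x _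
  rcases hRs x.1 x.2 with hB | ⟨b, hb, hbR, u, hu, huR, e⟩
  · exact Subgroup.mem_sup_left ((memBs R x).mpr hB)
  · have ex : x = (⟨b, hbR⟩ : ↥R) * s0 * ⟨u, huR⟩ := Subtype.ext e
    rw [ex]
    exact mul_mem (mul_mem (Subgroup.mem_sup_left ((memBs R _).mpr hb))
      (Subgroup.mem_sup_right ((memNs R _).mpr hN)))
      (Subgroup.mem_sup_left ((memBs R _).mpr (U_le_B chevG2 hu)))

theorem ax_conj (R : Subgroup (GL chevG2.Idx K)) :
    ∀ n ∈ Ns R, ∀ t ∈ Bs R ⊓ Ns R, n * t * n⁻¹ ∈ Bs R := by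
  intro n hn t ht
  rw [memBs]
  have hnN := (memNs R n).mp hn
  have htH : (t : GL chevG2.Idx K) ∈ chevG2.diagonalSubgroup K := by
    rw [← borel_inf_mono chevG2 hG2]
    exact Subgroup.mem_inf.mpr ⟨(memBs R t).mp ht.1, (memNs R t).mp ht.2⟩
  exact H_le_B chevG2 (N_conj_H chevG2 hG2 _ hnN _ htH)

theorem ax_closure (R : Subgroup (GL chevG2.Idx K)) (s0 : ↥R)
    (hN : (s0 : GL chevG2.Idx K) ∈ chevG2.monomialSubgroup K)
    (hNs : ∀ n ∈ chevG2.monomialSubgroup K, n ∈ R → n ∈ chevG2.diagonalSubgroup K ∨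
      (s0 : GL chevG2.Idx K)⁻¹ * n ∈ chevG2.diagonalSubgroup K) :
    Subgroup.closure {s0} ⊔ (Bs R ⊓ Ns R) = Ns R := by
  apply le_antisymm
  · apply sup_le
    · rw [Subgroup.closure_le]
      intro s hs
      rw [Set.mem_singleton_iff] at hs
      rw [hs]
      exact (memNs R _).mpr hN
    · exact inf_le_right
  · intro n hn
    have hnN := (memNs R n).mp hn
    rcases hNs n.1 hnN n.2 with hH | hH
    · exact Subgroup.mem_sup_right (Subgroup.mem_inf.mpr ⟨(memBs R n).mpr (H_le_B chevG2 hH), hn⟩)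
    · have e : n = s0 * (s0⁻¹ * n) := by group
      rw [e]
      have h1 : s0 ∈ Subgroup.closure ({s0} : Set ↥R) := Subgroup.subset_closure (Set.mem_singleton s0)
      have h2 : s0⁻¹ * n ∈ Bs R ⊓ Ns R :=
        Subgroup.mem_inf.mpr ⟨(memBs R _).mpr (H_le_B chevG2 hH), (memNs R _).mpr (H_le_N chevG2 hH)⟩
      exact mul_mem (Subgroup.mem_sup_left h1) (Subgroup.mem_sup_right h2)

theorem ax_union (R : Subgroup (GL chevG2.Idx K)) (s0 : ↥R)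
    (hsq : (s0 : GL chevG2.Idx K) * (s0 : GL chevG2.Idx K) ∈ chevG2.diagonalSubgroup K)
    (hRs : ∀ g ∈ R, g ∈ chevG2.borelSubgroup K ∨ ∃ b ∈ chevG2.borelSubgroup K, b ∈ R ∧
      ∃ u ∈ chevG2.posUnipotent K, u ∈ R ∧ g = b * (s0 : GL chevG2.Idx K) * u)
    (hNs : ∀ n ∈ chevG2.monomialSubgroup K, n ∈ R → n ∈ chevG2.diagonalSubgroup K ∨
      (s0 : GL chevG2.Idx K)⁻¹ * n ∈ chevG2.diagonalSubgroup K) :
    ∀ n ∈ Ns R, ∀ b ∈ Bs R,
      s0 * b * n ∈ DoubleCoset.doubleCoset (s0 * n) (Bs R : Set ↥R) (Bs R) ∪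
        DoubleCoset.doubleCoset n (Bs R : Set ↥R) (Bs R) := by
  intro n hn b hb
  have hnN := (memNs R n).mp hn
  have hbB := (memBs R b).mp hb
  rcases hNs n.1 hnN n.2 with hH | hH
  · left
    rw [DoubleCoset.mem_doubleCoset]
    have hnB : n ∈ Bs R := (memBs R n).mpr (H_le_B chevG2 hH)
    exact ⟨1, one_mem _, n⁻¹ * b * n, mul_mem (mul_mem (inv_mem hnB) hb) hnB, by group⟩
  · rcases hRs _ (s0 * b * s0).2 with hB | ⟨b1, hb1, hb1R, u, hu, huR, e⟩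
    · left
      rw [DoubleCoset.mem_doubleCoset]
      refine ⟨s0 * b * n * (s0 * n)⁻¹, ?_, 1, one_mem _, by group⟩
      have e2 : s0 * b * n * (s0 * n)⁻¹ = (s0 * b * s0) * (s0 * s0)⁻¹ := by group
      rw [e2]
      have h3 : s0 * s0 ∈ Bs R := (memBs R _).mpr (H_le_B chevG2 hsq)
      exact mul_mem ((memBs R _).mpr hB) (inv_mem h3)
    · right
      rw [DoubleCoset.mem_doubleCoset]
      have hk : s0⁻¹ * n ∈ Bs R := (memBs R _).mpr (H_le_B chevG2 hH)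
      refine ⟨⟨b1, hb1R⟩, (memBs R _).mpr hb1, (s0⁻¹ * n)⁻¹ * ⟨u, huR⟩ * (s0⁻¹ * n),
        mul_mem (mul_mem (inv_mem hk) ((memBs R _).mpr (U_le_B chevG2 hu))) hk, ?_⟩
      have e3 : s0 * b * s0 = (⟨b1, hb1R⟩ : ↥R) * s0 * ⟨u, huR⟩ := Subtype.ext e
      have e4 : s0 * b * n = (s0 * b * s0) * (s0⁻¹ * n) := by group
      rw [e4, e3]
      group

theorem ax_ne (R : Subgroup (GL chevG2.Idx K)) (s0 : ↥R)
    (hmap : (chevG2.posUnipotent K).map (MulAut.conj (s0 : GL chevG2.Idx K)).toMonoidHom =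
      chevG2.negUnipotent K)
    (hsq : (s0 : GL chevG2.Idx K) * (s0 : GL chevG2.Idx K) ∈ chevG2.diagonalSubgroup K)
    (hne : ∃ u ∈ chevG2.posUnipotent K, u ∈ R ∧ u ≠ 1) :
    (fun b : ↥R => s0 * b * s0) '' (Bs R : Set ↥R) ≠ (Bs R : Set ↥R) := by
  intro heq
  obtain ⟨u, hu, huR, hu1⟩ := hne
  apply hu1
  have hx : (⟨u, huR⟩ : ↥R) ∈ (Bs R : Set ↥R) := (memBs R _).mpr (U_le_B chevG2 hu)
  have h1 : s0 * (⟨u, huR⟩ : ↥R) * s0 ∈ (Bs R : Set ↥R) := by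
    rw [← heq]
    exact ⟨_, hx, rfl⟩
  have h2 : (s0 : GL chevG2.Idx K) * u * (s0 : GL chevG2.Idx K) ∈ chevG2.borelSubgroup K :=
    (memBs R _).mp h1
  have h3 : (s0 : GL chevG2.Idx K) * u * (s0 : GL chevG2.Idx K)⁻¹ ∈ chevG2.borelSubgroup K := by
    have e : (s0 : GL chevG2.Idx K) * u * (s0 : GL chevG2.Idx K)⁻¹ =
        ((s0 : GL chevG2.Idx K) * u * (s0 : GL chevG2.Idx K)) *
          ((s0 : GL chevG2.Idx K) * (s0 : GL chevG2.Idx K))⁻¹ := by group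
    rw [e]
    exact mul_mem h2 (inv_mem (H_le_B chevG2 hsq))
  have h4 : (s0 : GL chevG2.Idx K) * u * (s0 : GL chevG2.Idx K)⁻¹ ∈ chevG2.negUnipotent K := by
    rw [← hmap]
    exact Subgroup.mem_map_of_mem _ hu
  have h5 : (s0 : GL chevG2.Idx K) * u * (s0 : GL chevG2.Idx K)⁻¹ ∈
      chevG2.borelSubgroup K ⊓ chevG2.negUnipotent K := Subgroup.mem_inf.mpr ⟨h3, h4⟩
  rw [borel_inf_neg chevG2 hG2, Subgroup.mem_bot] at h5
  exact conj_eq_one _ _ h5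

theorem bn_abs (R : Subgroup (GL chevG2.Idx K)) (s0 : ↥R)
    (hN : (s0 : GL chevG2.Idx K) ∈ chevG2.monomialSubgroup K)
    (hmap : (chevG2.posUnipotent K).map (MulAut.conj (s0 : GL chevG2.Idx K)).toMonoidHom =
      chevG2.negUnipotent K)
    (hsq : (s0 : GL chevG2.Idx K) * (s0 : GL chevG2.Idx K) ∈ chevG2.diagonalSubgroup K)
    (hRs : ∀ g ∈ R, g ∈ chevG2.borelSubgroup K ∨ ∃ b ∈ chevG2.borelSubgroup K, b ∈ R ∧
      ∃ u ∈ chevG2.posUnipotent K, u ∈ R ∧ g = b * (s0 : GL chevG2.Idx K) * u)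
    (hNs : ∀ n ∈ chevG2.monomialSubgroup K, n ∈ R → n ∈ chevG2.diagonalSubgroup K ∨
      (s0 : GL chevG2.Idx K)⁻¹ * n ∈ chevG2.diagonalSubgroup K)
    (hne : ∃ u ∈ chevG2.posUnipotent K, u ∈ R ∧ u ≠ 1) :
    ∃ P : Cfsg.BNPair ↥R, P.B = Bs R ∧ P.N = Ns R ∧ P.S = {s0} := by
  refine ⟨{ B := Bs R
            N := Ns R
            S := {s0}
            sup_eq_top := ax_sup R s0 hN hRs
            conj_mem := ax_conj R
            subset := ?_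
            sq_mem := ?_
            inj := ?_
            closure_sup := ax_closure R s0 hN hNs
            mul_mem_union := ?_
            conj_ne := ?_ }, rfl, rfl, rfl⟩
  · intro s hs
    rw [Set.mem_singleton_iff] at hs
    rw [hs]
    exact (memNs R _).mpr hN
  · intro s hs
    rw [Set.mem_singleton_iff] at hs
    rw [hs]
    exact (memBs R _).mpr (H_le_B chevG2 hsq)
  · intro s hs s' hs' _
    rw [Set.mem_singleton_iff] at hs hs'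
    rw [hs, hs']
  · intro s hs
    rw [Set.mem_singleton_iff] at hs
    rw [hs]
    exact ax_union R s0 hsq hRs hNs
  · intro s hs
    rw [Set.mem_singleton_iff] at hs
    rw [hs]
    exact ax_ne R s0 hmap hsq hne

end abs

section
variable {K : Type*} [Field K]

theorem w0sq : ∀ r < chevG2.nroots, wAct chevG2 [0, 1, 0, 1, 0, 1, 0, 1, 0, 1, 0, 1] r = r := by
  decide +kernel

theorem n0_sq : n0 K * n0 K ∈ chevG2.diagonalSubgroup K := by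
  have h := reduce (F := K) chevG2 hG2 12 [0, 1, 0, 1, 0, 1, 0, 1, 0, 1, 0, 1] rfl (by decide) w0sq
  have e : nWordGL (F := K) chevG2 hG2 [0, 1, 0, 1, 0, 1, 0, 1, 0, 1, 0, 1] = n0 K * n0 K :=
    nWordGL_append chevG2 hG2 [0, 1, 0, 1, 0, 1] [0, 1, 0, 1, 0, 1]
  rw [← e]
  exact h

theorem R_struct [Fintype K] {m : ℕ} (hK : Fintype.card K = 3 ^ (2 * m + 1)) (g : GL chevG2.Idx K)
    (hg : g ∈ twistedG2 K (3 ^ m)) :
    g ∈ chevG2.borelSubgroup K ∨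
      ∃ b ∈ chevG2.borelSubgroup K, b ∈ twistedG2 K (3 ^ m) ∧ ∃ u ∈ chevG2.posUnipotent K,
        u ∈ twistedG2 K (3 ^ m) ∧ g = b * n0 K * u := by
  have fr := frob_of_card hK
  obtain ⟨σ, hσ⟩ := exists_sigma fr
  rcases fx_eq hK σ hσ g (twisted_le_Fx fr σ hσ hg) with ⟨p, μ, rfl⟩ | ⟨p, μ, p', rfl⟩
  · left
    exact mul_mem (U_le_B chevG2 (uu_memU m p)) (H_le_B chevG2 (th_memH m μ))
  · right
    exact ⟨uu m p * th m μ, mul_mem (U_le_B chevG2 (uu_memU m p)) (H_le_B chevG2 (th_memH m μ)),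
      mul_mem (uu_memR m p) (hfix_mem hK μ), uu m p', uu_memU m p', uu_memR m p', rfl⟩

theorem N_struct [Fintype K] {m : ℕ} (hK : Fintype.card K = 3 ^ (2 * m + 1)) (n : GL chevG2.Idx K)
    (hn : n ∈ chevG2.monomialSubgroup K) (hnR : n ∈ twistedG2 K (3 ^ m)) :
    n ∈ chevG2.diagonalSubgroup K ∨ (n0 K)⁻¹ * n ∈ chevG2.diagonalSubgroup K := by
  obtain ⟨hn0N, -⟩ := n0_map (K := K)
  rcases R_struct hK n hnR with hB | ⟨b, hb, -, u, hu, -, e⟩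
  · left
    rw [← borel_inf_mono chevG2 hG2]
    exact Subgroup.mem_inf.mpr ⟨hB, hn⟩
  · right
    have e' : 1 * n * 1 = b * n0 K * u := by rw [one_mul, mul_one]; exact e
    have h := cell_inj chevG2 hG2 1 b n (n0 K) 1 u (one_mem _) hb hn hn0N (one_mem _)
      (U_le_B chevG2 hu) e'
    have h2 := inv_mem h
    rw [mul_inv_rev, inv_inv] at h2
    exact h2

theorem U_ne [Fintype K] {m : ℕ} (hK : Fintype.card K = 3 ^ (2 * m + 1)) :
    ∃ u ∈ chevG2.posUnipotent K, u ∈ twistedG2 K (3 ^ m) ∧ u ≠ 1 := by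
  have fr := frob_of_card hK
  refine ⟨uu m ((0 : K), (0 : K), (1 : K)) * (uu m ((0 : K), (0 : K), (0 : K)))⁻¹,
    mul_mem (uu_memU m _) (inv_mem (uu_memU m _)), mul_mem (uu_memR m _) (inv_mem (uu_memR m _)), ?_⟩
  intro h
  have h6 := uu_inj fr ((0 : K), (0 : K), (1 : K)) ((0 : K), (0 : K), (0 : K)) (mul_inv_eq_one.mp h)
  have h7 : (1 : K) = 0 := congrArg (fun p : K × K × K => p.2.2) h6
  exact one_ne_zero h7

theorem bn_ree [Fintype K] {m : ℕ} (hK : Fintype.card K = 3 ^ (2 * m + 1)) :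
    ∃ P : Cfsg.BNPair ↥(twistedG2 K (3 ^ m)),
      P.B = (chevG2.borelSubgroup K ⊓ twistedG2 K (3 ^ m)).subgroupOf (twistedG2 K (3 ^ m)) ∧
      P.N = (chevG2.monomialSubgroup K ⊓ twistedG2 K (3 ^ m)).subgroupOf (twistedG2 K (3 ^ m)) := by
  obtain ⟨hn0N, hmap⟩ := n0_map (K := K)
  obtain ⟨P, h1, h2, -⟩ := bn_abs (twistedG2 K (3 ^ m)) ⟨n0 K, n0_mem hK⟩ hn0N hmap n0_sq (R_struct hK)
    (N_struct hK) (U_ne hK)
  exact ⟨P, h1, h2⟩

theorem bn_ree_S [Fintype K] {m : ℕ} (hK : Fintype.card K = 3 ^ (2 * m + 1)) :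
    ∃ P : Cfsg.BNPair ↥(twistedG2 K (3 ^ m)),
      P.B = (chevG2.borelSubgroup K ⊓ twistedG2 K (3 ^ m)).subgroupOf (twistedG2 K (3 ^ m)) ∧
      P.N = (chevG2.monomialSubgroup K ⊓ twistedG2 K (3 ^ m)).subgroupOf (twistedG2 K (3 ^ m)) ∧
      P.S = {⟨n0 K, n0_mem hK⟩} := by
  obtain ⟨hn0N, hmap⟩ := n0_map (K := K)
  exact bn_abs (twistedG2 K (3 ^ m)) ⟨n0 K, n0_mem hK⟩ hn0N hmap n0_sq (R_struct hK)
    (N_struct hK) (U_ne hK)

end

end Cfsg.Agent.Lib.Helper7.ReeBN
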