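import Cfsg.Agent.Lib.Helper7.ReeBN

set_option autoImplicit false
set_option maxHeartbeats 400000

namespace Cfsg.Agent.Lib.Helper7.ReeSyl
open Cfsg.Lie Cfsg.Agent.Lib.Helper7.ChevEngine Cfsg.Agent.Lib.Helper7.ChevTorus
  Cfsg.Agent.Lib.Helper7.ReeFix Cfsg.Agent.Lib.Helper7.ReeMain Cfsg.Agent.Lib.Helper7.ReeSg
  Cfsg.Agent.Lib.Helper7.ReeTorus Cfsg.Agent.Lib.Helper7.ReeTorMem Cfsg.Agent.Lib.Helper7.ReeOrder
  Cfsg.Agent.Lib.Helper7.ReeBN Cfsg.Agent.Lib.Helper7.ReeDich Cfsg.Agent.Lib.Helper7.ChevBN3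
  Cfsg.Agent.Lib.Helper7.ReeU

theorem ti_abs {G : Type*} [Group G] [Finite G] (p : ℕ) [Fact p.Prime] (P0 : Sylow p G)
    (hkey : ∀ k y : G, y ∈ P0 → k * y * k⁻¹ ∈ P0 → y ≠ 1 →
      k ∈ Subgroup.normalizer ((P0 : Subgroup G) : Set G))
    (P Q : Sylow p G) (hPQ : P ≠ Q) : (P : Subgroup G) ⊓ (Q : Subgroup G) = ⊥ := by
  obtain ⟨g, rfl⟩ := MulAction.exists_smul_eq G P0 P
  obtain ⟨h, rfl⟩ := MulAction.exists_smul_eq G P0 Q
  have hmem : ∀ (a x : G), x ∈ ((a • P0 : Sylow p G) : Subgroup G) ↔ a⁻¹ * x * a ∈ P0 := by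
    intro a x
    rw [Sylow.coe_subgroup_smul, Subgroup.mem_pointwise_smul_iff_inv_smul_mem, MulAut.smul_def,
      ← map_inv, MulAut.conj_apply, inv_inv]
    rfl
  rw [eq_bot_iff]
  intro x hx
  obtain ⟨hx1, hx2⟩ := Subgroup.mem_inf.mp hx
  rw [Subgroup.mem_bot]
  by_contra hx1'
  rw [hmem] at hx1 hx2
  have hy1 : g⁻¹ * x * g ≠ 1 := by
    intro e
    apply hx1'
    have : x = g * (g⁻¹ * x * g) * g⁻¹ := by group
    rw [this, e, mul_one, mul_inv_cancel]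
  have hk : (h⁻¹ * g) * (g⁻¹ * x * g) * (h⁻¹ * g)⁻¹ ∈ P0 := by
    have : (h⁻¹ * g) * (g⁻¹ * x * g) * (h⁻¹ * g)⁻¹ = h⁻¹ * x * h := by group
    rw [this]
    exact hx2
  have hn := hkey (h⁻¹ * g) (g⁻¹ * x * g) hx1 hk hy1
  have hn' : (h⁻¹ * g) • P0 = P0 := Sylow.smul_eq_iff_mem_normalizer.mpr hn
  apply hPQ
  have : g • P0 = h • ((h⁻¹ * g) • P0) := by
    rw [← mul_smul, mul_inv_cancel_left]
  rw [this, hn']

section
variable {K : Type*} [Field K]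

theorem B_norm_U (b x : GL chevG2.Idx K) (hb : b ∈ chevG2.borelSubgroup K)
    (hx : x ∈ chevG2.posUnipotent K) : b * x * b⁻¹ ∈ chevG2.posUnipotent K := by
  obtain ⟨u, hu, h, hh, rfl⟩ := B_decomp chevG2 hG2 b hb
  have hnorm := (Cfsg.Agent.S1036.result (F := K) chevG2 hG2).1 hh
  have h1 := (Subgroup.mem_normalizer_iff.mp hnorm _).mp hx
  have e : u * h * x * (u * h)⁻¹ = u * (h * x * h⁻¹) * u⁻¹ := by group
  rw [e]
  exact mul_mem (mul_mem hu h1) (inv_mem hu)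

theorem key_ree [Fintype K] {m : ℕ} (hK : Fintype.card K = 3 ^ (2 * m + 1)) (k y : GL chevG2.Idx K)
    (hk : k ∈ twistedG2 K (3 ^ m)) (hy : y ∈ chevG2.posUnipotent K)
    (hky : k * y * k⁻¹ ∈ chevG2.posUnipotent K) (hy1 : y ≠ 1) : k ∈ chevG2.borelSubgroup K := by
  obtain ⟨hn0N, hmap⟩ := n0_map (K := K)
  rcases R_struct hK k hk with hB | ⟨b, hb, -, u, hu, -, rfl⟩
  · exact hB
  · exfalso
    have h1 : n0 K * (u * y * u⁻¹) * (n0 K)⁻¹ ∈ chevG2.posUnipotent K := by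
      have h2 := B_norm_U b⁻¹ _ (inv_mem hb) hky
      have e : b⁻¹ * (b * n0 K * u * y * (b * n0 K * u)⁻¹) * b⁻¹⁻¹ =
          n0 K * (u * y * u⁻¹) * (n0 K)⁻¹ := by group
      rw [e] at h2
      exact h2
    have h3 : n0 K * (u * y * u⁻¹) * (n0 K)⁻¹ ∈ chevG2.negUnipotent K := by
      rw [← hmap]
      exact Subgroup.mem_map_of_mem _ (mul_mem (mul_mem hu hy) (inv_mem hu))
    have h4 : n0 K * (u * y * u⁻¹) * (n0 K)⁻¹ ∈ chevG2.posUnipotent K ⊓ chevG2.negUnipotent K :=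
      Subgroup.mem_inf.mpr ⟨h1, h3⟩
    rw [U_inf_V chevG2 hG2, Subgroup.mem_bot] at h4
    apply hy1
    have e : y = u⁻¹ * ((n0 K)⁻¹ * (n0 K * (u * y * u⁻¹) * (n0 K)⁻¹) * n0 K) * u := by group
    rw [e, h4]
    group

theorem syl_ree [Fintype K] {m : ℕ} (hK : Fintype.card K = 3 ^ (2 * m + 1))
    (P Q : Sylow 3 ↥(twistedG2 K (3 ^ m))) (hPQ : P ≠ Q) :
    (P : Subgroup ↥(twistedG2 K (3 ^ m))) ⊓ (Q : Subgroup ↥(twistedG2 K (3 ^ m))) = ⊥ := by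
  haveI : Fact (Nat.Prime 3) := ⟨by norm_num⟩
  have hle : chevG2.posUnipotent K ⊓ twistedG2 K (3 ^ m) ≤ twistedG2 K (3 ^ m) := inf_le_right
  have hcU : Nat.card ↥((chevG2.posUnipotent K ⊓ twistedG2 K (3 ^ m)).subgroupOf (twistedG2 K (3 ^ m))) =
      3 ^ ((2 * m + 1) * 3) := by
    rw [Nat.card_congr (Subgroup.subgroupOfEquivOfLe hle).toEquiv, (ree_main hK).2, ← pow_mul]
  have hidx : ¬ 3 ∣ ((chevG2.posUnipotent K ⊓ twistedG2 K (3 ^ m)).subgroupOf (twistedG2 K (3 ^ m))).index := by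
    have h1 := Subgroup.card_mul_index
      ((chevG2.posUnipotent K ⊓ twistedG2 K (3 ^ m)).subgroupOf (twistedG2 K (3 ^ m)))
    rw [hcU, card_ree hK, ← pow_mul, mul_assoc] at h1
    have h2 := Nat.eq_of_mul_eq_mul_left (by positivity) h1
    rw [h2]
    intro hdvd
    obtain ⟨c, hc⟩ : ∃ c, 3 ^ (2 * m + 1) = 3 * c := ⟨3 ^ (2 * m), by rw [pow_succ]; ring⟩
    obtain ⟨d, hd⟩ : ∃ d, 3 ^ ((2 * m + 1) * 3) = 3 * d :=
      ⟨3 ^ ((2 * m + 1) * 3 - 1), by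
        rw [← pow_succ']
        congr 1⟩
    have hcpos : 0 < 3 ^ (2 * m + 1) := by positivity
    rcases (Nat.Prime.dvd_mul (by norm_num)).mp hdvd with h | h
    · obtain ⟨e, he⟩ := h
      omega
    · obtain ⟨e, he⟩ := h
      omega
  let P0 : Sylow 3 ↥(twistedG2 K (3 ^ m)) := (IsPGroup.of_card hcU).toSylow hidx
  have hP0 : ∀ x : ↥(twistedG2 K (3 ^ m)), x ∈ P0 ↔ (x : GL chevG2.Idx K) ∈ chevG2.posUnipotent K := by
    intro x
    rw [IsPGroup.mem_toSylow, Subgroup.mem_subgroupOf, Subgroup.mem_inf]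
    exact ⟨fun h => h.1, fun h => ⟨h, x.2⟩⟩
  refine ti_abs 3 P0 ?_ P Q hPQ
  intro k y hy hky hy1
  rw [hP0] at hy hky
  have hkB : (k : GL chevG2.Idx K) ∈ chevG2.borelSubgroup K :=
    key_ree hK k y k.2 hy hky (fun e => hy1 (Subtype.ext e))
  rw [Subgroup.mem_normalizer_iff]
  intro x
  have hx1 : x ∈ (P0 : Subgroup ↥(twistedG2 K (3 ^ m))) ↔ x ∈ P0 := Iff.rfl
  have hx2 : k * x * k⁻¹ ∈ (P0 : Subgroup ↥(twistedG2 K (3 ^ m))) ↔ k * x * k⁻¹ ∈ P0 := Iff.rfl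
  rw [hx1, hx2, hP0, hP0]
  constructor
  · intro hx
    exact B_norm_U _ _ hkB hx
  · intro hx
    have h1 := B_norm_U _ _ (inv_mem hkB) hx
    have e : ((k : GL chevG2.Idx K))⁻¹ * ((k * x * k⁻¹ : ↥(twistedG2 K (3 ^ m))) : GL chevG2.Idx K) *
        ((k : GL chevG2.Idx K))⁻¹⁻¹ = (x : GL chevG2.Idx K) := by
      push_cast
      group
    rw [e] at h1
    exact h1

end

end Cfsg.Agent.Lib.Helper7.ReeSyl
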