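import Cfsg.Agent.Lib.Helper7.ReeFpf
import Cfsg.Agent.Lib.Helper7.ReeSyl

set_option autoImplicit false
set_option maxHeartbeats 400000

namespace Cfsg.Agent.Lib.Helper7.ReeStab
open Cfsg.Lie Cfsg.Agent.Lib.Helper7.ChevEngine Cfsg.Agent.Lib.Helper7.ChevTorus
  Cfsg.Agent.Lib.Helper7.ReeFix Cfsg.Agent.Lib.Helper7.ReeMain Cfsg.Agent.Lib.Helper7.ReeSg
  Cfsg.Agent.Lib.Helper7.ReeTorus Cfsg.Agent.Lib.Helper7.ReeTorMem Cfsg.Agent.Lib.Helper7.ReeOrder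
  Cfsg.Agent.Lib.Helper7.ReeBN Cfsg.Agent.Lib.Helper7.ReePerf Cfsg.Agent.Lib.Helper7.ReeH
  Cfsg.Agent.Lib.Helper7.ReeU Cfsg.Agent.Lib.Helper7.ReeFpf Cfsg.Agent.Lib.Helper7.ReeSyl
  Cfsg.Agent.Lib.Helper7.ReeDich Cfsg.Agent.Lib.Helper7.ChevBN3 Cfsg.Agent.Lib.Helper7.ChevBNP
  Cfsg.Agent.Lib.Helper7.ChevBruhat Cfsg.Agent.Lib.Helper7.ChevExch

section abs
variable {G : Type*} [Group G]

def T3 {X : Type*} [MulAction G X] (x y z : X) : Subgroup G :=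
  MulAction.stabilizer G x ⊓ MulAction.stabilizer G y ⊓ MulAction.stabilizer G z

theorem card_T3 {X : Type*} [MulAction G X] (g : G) (x y z : X) :
    Nat.card ↥(T3 (G := G) (g • x) (g • y) (g • z)) = Nat.card ↥(T3 (G := G) x y z) := by
  unfold T3
  have hinj : Function.Injective (MulAut.conj g).toMonoidHom := (MulAut.conj g).injective
  rw [MulAction.stabilizer_smul_eq_stabilizer_map_conj, MulAction.stabilizer_smul_eq_stabilizer_map_conj,
    MulAction.stabilizer_smul_eq_stabilizer_map_conj, ← Subgroup.map_inf_eq _ _ _ hinj,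
    ← Subgroup.map_inf_eq _ _ _ hinj]
  exact Subgroup.card_map_of_injective hinj

theorem mem_stab (B1 : Subgroup G) (g k : G) :
    k ∈ MulAction.stabilizer G (QuotientGroup.mk g : G ⧸ B1) ↔ g⁻¹ * k * g ∈ B1 := by
  rw [MulAction.mem_stabilizer_iff]
  have e : k • (QuotientGroup.mk g : G ⧸ B1) = QuotientGroup.mk (k * g) := rfl
  rw [e, QuotientGroup.eq]
  constructor
  · intro h
    have h2 := inv_mem h
    have e2 : ((k * g)⁻¹ * g)⁻¹ = g⁻¹ * k * g := by group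
    rw [e2] at h2
    exact h2
  · intro h
    have h2 := inv_mem h
    have e2 : (g⁻¹ * k * g)⁻¹ = (k * g)⁻¹ * g := by group
    rw [e2] at h2
    exact h2

theorem mem_T3 (B1 : Subgroup G) (a b c k : G) :
    k ∈ T3 (G := G) (QuotientGroup.mk a : G ⧸ B1) (QuotientGroup.mk b : G ⧸ B1)
      (QuotientGroup.mk c : G ⧸ B1) ↔
      a⁻¹ * k * a ∈ B1 ∧ b⁻¹ * k * b ∈ B1 ∧ c⁻¹ * k * c ∈ B1 := by
  unfold T3
  rw [Subgroup.mem_inf, Subgroup.mem_inf, mem_stab, mem_stab, mem_stab, and_assoc]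

theorem stab_special [Finite G] (B1 : Subgroup G) (n : G) (U1 H1 : Set G)
    (hF2 : ∀ k ∈ B1, n⁻¹ * k * n ∈ B1 → k ∈ H1)
    (hF3 : ∀ k ∈ H1, ∀ u ∈ U1, (u * n)⁻¹ * k * (u * n) ∈ B1 → k * u = u * k)
    (u : G) (hu : u ∈ U1) (a : G) (ha : ∀ k ∈ H1, k * u = u * k → k = 1 ∨ k = a) :
    Nat.card ↥(T3 (G := G) (QuotientGroup.mk 1 : G ⧸ B1) (QuotientGroup.mk n : G ⧸ B1)
      (QuotientGroup.mk (u * n) : G ⧸ B1)) ≤ 2 := by
  have hsub : ((T3 (G := G) (QuotientGroup.mk 1 : G ⧸ B1) (QuotientGroup.mk n : G ⧸ B1)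
      (QuotientGroup.mk (u * n) : G ⧸ B1) : Subgroup G) : Set G) ⊆ {1, a} := by
    intro k hk
    have hk' := (mem_T3 B1 1 n (u * n) k).mp hk
    obtain ⟨h1, h2, h3⟩ := hk'
    rw [inv_one, one_mul, mul_one] at h1
    have hkH := hF2 k h1 h2
    rcases ha k hkH (hF3 k hkH u hu h3) with h | h
    · left
      exact h
    · right
      exact h
  have h1 := Set.ncard_le_ncard hsub (Set.toFinite _)
  have h2 : ({1, a} : Set G).ncard ≤ 2 := by
    have := Set.ncard_insert_le (1 : G) {a}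
    rw [Set.ncard_singleton] at this
    exact this
  have h3 : Nat.card ↥(T3 (G := G) (QuotientGroup.mk 1 : G ⧸ B1) (QuotientGroup.mk n : G ⧸ B1)
      (QuotientGroup.mk (u * n) : G ⧸ B1)) = ((T3 (G := G) (QuotientGroup.mk 1 : G ⧸ B1)
      (QuotientGroup.mk n : G ⧸ B1) (QuotientGroup.mk (u * n) : G ⧸ B1) : Subgroup G) : Set G).ncard := rfl
  rw [h3]
  exact le_trans h1 h2

theorem stab_general [Finite G] (B1 : Subgroup G) (n : G) (U1 H1 : Set G)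
    (hU1B : ∀ u ∈ U1, u ∈ B1)
    (hF1 : ∀ g : G, g ∈ B1 ∨ ∃ u ∈ U1, ∃ b ∈ B1, g = u * n * b)
    (hF2 : ∀ k ∈ B1, n⁻¹ * k * n ∈ B1 → k ∈ H1)
    (hF3 : ∀ k ∈ H1, ∀ u ∈ U1, (u * n)⁻¹ * k * (u * n) ∈ B1 → k * u = u * k)
    (hC : ∀ u ∈ U1, u ≠ 1 → ∃ a : G, ∀ k ∈ H1, k * u = u * k → k = 1 ∨ k = a)
    (x y z : G ⧸ B1) (hxy : x ≠ y) (hxz : x ≠ z) (hyz : y ≠ z) :
    Nat.card ↥(T3 (G := G) x y z) ≤ 2 := by
  obtain ⟨a, rfl⟩ := QuotientGroup.mk_surjective x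
  obtain ⟨c, rfl⟩ := QuotientGroup.mk_surjective y
  obtain ⟨d, rfl⟩ := QuotientGroup.mk_surjective z
  have hac : a⁻¹ * c ∉ B1 := fun h => hxy (QuotientGroup.eq.mpr h)
  rcases hF1 (a⁻¹ * c) with h | ⟨u1, hu1, b1, hb1, e1⟩
  · exact absurd h hac
  have hsm : ∀ (g e : G), g • (QuotientGroup.mk e : G ⧸ B1) = QuotientGroup.mk (g * e) := fun _ _ => rfl
  have hx' : (u1⁻¹ * a⁻¹) • (QuotientGroup.mk a : G ⧸ B1) = QuotientGroup.mk 1 := by
    rw [hsm, QuotientGroup.eq]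
    have e : (u1⁻¹ * a⁻¹ * a)⁻¹ * 1 = u1 := by group
    rw [e]
    exact hU1B u1 hu1
  have hy' : (u1⁻¹ * a⁻¹) • (QuotientGroup.mk c : G ⧸ B1) = QuotientGroup.mk n := by
    rw [hsm, QuotientGroup.eq]
    have e : (u1⁻¹ * a⁻¹ * c)⁻¹ * n = b1⁻¹ := by
      rw [mul_assoc, e1]
      group
    rw [e]
    exact inv_mem hb1
  have hinj : ∀ p q : G ⧸ B1, (u1⁻¹ * a⁻¹) • p = (u1⁻¹ * a⁻¹) • q → p = q :=
    fun p q h => MulAction.injective (u1⁻¹ * a⁻¹) h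
  have hd1 : u1⁻¹ * a⁻¹ * d ∉ B1 := by
    intro h
    apply hxz
    apply hinj
    rw [hx', hsm, QuotientGroup.eq, inv_one, one_mul]
    exact h
  rcases hF1 (u1⁻¹ * a⁻¹ * d) with h | ⟨u2, hu2, b2, hb2, e2⟩
  · exact absurd h hd1
  have hz' : (u1⁻¹ * a⁻¹) • (QuotientGroup.mk d : G ⧸ B1) = QuotientGroup.mk (u2 * n) := by
    rw [hsm, QuotientGroup.eq, e2]
    have e : (u2 * n * b2)⁻¹ * (u2 * n) = b2⁻¹ := by group
    rw [e]
    exact inv_mem hb2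
  have hu2ne : u2 ≠ 1 := by
    intro h
    apply hyz
    apply hinj
    rw [hy', hz', h, one_mul]
  obtain ⟨a', ha'⟩ := hC u2 hu2 hu2ne
  rw [← card_T3 (u1⁻¹ * a⁻¹), hx', hy', hz']
  exact stab_special B1 n U1 H1 hF2 hF3 u2 hu2 a' ha'

theorem stab_exists [Finite G] (B1 : Subgroup G) (n : G) (U1 H1 : Set G)
    (hF2 : ∀ k ∈ B1, n⁻¹ * k * n ∈ B1 → k ∈ H1)
    (hF3 : ∀ k ∈ H1, ∀ u ∈ U1, (u * n)⁻¹ * k * (u * n) ∈ B1 → k * u = u * k)
    (u : G) (hu : u ∈ U1) (a : G) (ha : ∀ k ∈ H1, k * u = u * k → k = 1 ∨ k = a)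
    (ha1 : a ≠ 1) (haB : a ∈ B1) (han : n⁻¹ * a * n ∈ B1) (hau : a * u = u * a) :
    Nat.card ↥(T3 (G := G) (QuotientGroup.mk 1 : G ⧸ B1) (QuotientGroup.mk n : G ⧸ B1)
      (QuotientGroup.mk (u * n) : G ⧸ B1)) = 2 := by
  apply le_antisymm (stab_special B1 n U1 H1 hF2 hF3 u hu a ha)
  have hsub : ({1, a} : Set G) ⊆ ((T3 (G := G) (QuotientGroup.mk 1 : G ⧸ B1) (QuotientGroup.mk n : G ⧸ B1)
      (QuotientGroup.mk (u * n) : G ⧸ B1) : Subgroup G) : Set G) := by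
    intro k hk
    rcases hk with rfl | hk
    · exact one_mem _
    · rw [Set.mem_singleton_iff] at hk
      subst hk
      apply (mem_T3 B1 1 n (u * n) k).mpr
      refine ⟨?_, han, ?_⟩
      · rw [inv_one, one_mul, mul_one]
        exact haB
      · have e : (u * n)⁻¹ * k * (u * n) = n⁻¹ * (u⁻¹ * (k * u)) * n := by group
        rw [e, hau, inv_mul_cancel_left]
        exact han
  have h1 := Set.ncard_le_ncard hsub (Set.toFinite _)
  rw [Set.ncard_pair (Ne.symm ha1)] at h1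
  exact h1

end abs

section
variable {K : Type*} [Field K]

theorem conj_inv_V (x : GL chevG2.Idx K) (hx : x ∈ chevG2.posUnipotent K) :
    (n0 K)⁻¹ * x * n0 K ∈ chevG2.negUnipotent K := by
  obtain ⟨-, hmap⟩ := n0_map (K := K)
  have hh' : (n0 K * n0 K)⁻¹ ∈ chevG2.borelSubgroup K := H_le_B chevG2 (inv_mem n0_sq)
  have h1 := B_norm_U _ x hh' hx
  have h2 : n0 K * ((n0 K * n0 K)⁻¹ * x * (n0 K * n0 K)⁻¹⁻¹) * (n0 K)⁻¹ ∈ chevG2.negUnipotent K := by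
    rw [← hmap]
    exact Subgroup.mem_map_of_mem _ h1
  have e : n0 K * ((n0 K * n0 K)⁻¹ * x * (n0 K * n0 K)⁻¹⁻¹) * (n0 K)⁻¹ = (n0 K)⁻¹ * x * n0 K := by
    group
  rw [e] at h2
  exact h2

theorem conj_inv_H (h : GL chevG2.Idx K) (hh' : h ∈ chevG2.diagonalSubgroup K) :
    (n0 K)⁻¹ * h * n0 K ∈ chevG2.diagonalSubgroup K := by
  obtain ⟨hn0N, -⟩ := n0_map (K := K)
  have h1 := N_conj_H chevG2 hG2 (n0 K)⁻¹ (inv_mem hn0N) h hh'
  rw [inv_inv] at h1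
  exact h1

theorem conj_inv_triv (x : GL chevG2.Idx K) (hx : x ∈ chevG2.posUnipotent K)
    (hB : (n0 K)⁻¹ * x * n0 K ∈ chevG2.borelSubgroup K) : x = 1 := by
  have h1 : (n0 K)⁻¹ * x * n0 K ∈ chevG2.borelSubgroup K ⊓ chevG2.negUnipotent K :=
    Subgroup.mem_inf.mpr ⟨hB, conj_inv_V x hx⟩
  rw [borel_inf_neg chevG2 hG2, Subgroup.mem_bot] at h1
  have e : x = n0 K * ((n0 K)⁻¹ * x * n0 K) * (n0 K)⁻¹ := by group
  rw [e, h1]
  group

theorem F2 (k : GL chevG2.Idx K) (hk : k ∈ chevG2.borelSubgroup K)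
    (hB : (n0 K)⁻¹ * k * n0 K ∈ chevG2.borelSubgroup K) : k ∈ chevG2.diagonalSubgroup K := by
  obtain ⟨u, hu, h, hh', rfl⟩ := B_decomp chevG2 hG2 k hk
  have h1 := conj_inv_H h hh'
  have h2 : (n0 K)⁻¹ * u * n0 K ∈ chevG2.borelSubgroup K := by
    have e : (n0 K)⁻¹ * u * n0 K = (n0 K)⁻¹ * (u * h) * n0 K * ((n0 K)⁻¹ * h * n0 K)⁻¹ := by group
    rw [e]
    exact mul_mem hB (inv_mem (H_le_B chevG2 h1))
  rw [conj_inv_triv u hu h2, one_mul]
  exact hh'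

theorem F3 (k u : GL chevG2.Idx K) (hk : k ∈ chevG2.diagonalSubgroup K)
    (hu : u ∈ chevG2.posUnipotent K)
    (hB : (u * n0 K)⁻¹ * k * (u * n0 K) ∈ chevG2.borelSubgroup K) : k * u = u * k := by
  have h1 := conj_inv_H k hk
  have hw : u⁻¹ * (k * u * k⁻¹) ∈ chevG2.posUnipotent K :=
    mul_mem (inv_mem hu) (B_norm_U k u (H_le_B chevG2 hk) hu)
  have h2 : (n0 K)⁻¹ * (u⁻¹ * (k * u * k⁻¹)) * n0 K ∈ chevG2.borelSubgroup K := by
    have e : (n0 K)⁻¹ * (u⁻¹ * (k * u * k⁻¹)) * n0 K =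
        (u * n0 K)⁻¹ * k * (u * n0 K) * ((n0 K)⁻¹ * k * n0 K)⁻¹ := by group
    rw [e]
    exact mul_mem hB (inv_mem (H_le_B chevG2 h1))
  have h3 := conj_inv_triv _ hw h2
  have e : k * u = u * (u⁻¹ * (k * u * k⁻¹)) * k := by group
  rw [e, h3, mul_one]

theorem n0_not_B : n0 K ∉ chevG2.borelSubgroup K := by
  intro h
  obtain ⟨hn0N, -⟩ := n0_map (K := K)
  apply n0_not_H (K := K)
  rw [← borel_inf_mono chevG2 hG2]
  exact Subgroup.mem_inf.mpr ⟨h, hn0N⟩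

theorem R_struct' [Fintype K] {m : ℕ} (hK : Fintype.card K = 3 ^ (2 * m + 1)) (g : GL chevG2.Idx K)
    (hg : g ∈ twistedG2 K (3 ^ m)) :
    g ∈ chevG2.borelSubgroup K ∨
      ∃ u ∈ chevG2.posUnipotent K, u ∈ twistedG2 K (3 ^ m) ∧ ∃ b ∈ chevG2.borelSubgroup K,
        b ∈ twistedG2 K (3 ^ m) ∧ g = u * n0 K * b := by
  rcases R_struct hK g⁻¹ (inv_mem hg) with hB | ⟨b, hb, hbR, u, hu, huR, e⟩
  · left
    have := inv_mem hB
    rw [inv_inv] at this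
    exact this
  · right
    have hn0R := n0_mem hK
    refine ⟨u⁻¹, inv_mem hu, inv_mem huR, (n0 K * n0 K)⁻¹ * b⁻¹,
      mul_mem (H_le_B chevG2 (inv_mem n0_sq)) (inv_mem hb),
      mul_mem (inv_mem (mul_mem hn0R hn0R)) (inv_mem hbR), ?_⟩
    have e2 : g = (g⁻¹)⁻¹ := (inv_inv g).symm
    rw [e2, e]
    group

theorem cent_th {m : ℕ} (fr : Frob K m) (μ : Kˣ) (t u v : K)
    (hne : ¬ (t = 0 ∧ u = 0 ∧ v = 0))
    (hc : th m μ * uu m (t, u, v) = uu m (t, u, v) * th m μ) : μ = 1 ∨ μ = -1 := by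
  have h1 := conj_th fr μ t u v
  rw [hc, mul_inv_cancel_right] at h1
  have h2 := uu_inj fr _ _ h1
  have ht : t = (((μ : K) ^ (3 ^ m))⁻¹) ^ 3 * (μ : K) ^ 2 * t := congrArg (fun p : K × K × K => p.1) h2
  have hu : u = ((μ : K) ^ (3 ^ m)) ^ 3 * (μ : K)⁻¹ * u := congrArg (fun p : K × K × K => p.2.1) h2
  have hv : v = (μ : K) * v := congrArg (fun p : K × K × K => p.2.2) h2
  have hμ : (μ : K) ≠ 0 := μ.ne_zero
  have hA : (μ : K) ^ (3 ^ m) ≠ 0 := pow_ne_zero _ hμ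
  have htri := fr.tri (μ : K)
  have key : ∀ x : K, (x ^ 3) ^ (3 ^ m) = (x ^ (3 ^ m)) ^ 3 := fun x => by ring
  by_cases hv0 : v = 0
  · by_cases hu0 : u = 0
    · have ht0 : t ≠ 0 := fun h => hne ⟨h, hu0, hv0⟩
      left
      have e1 : (((μ : K) ^ (3 ^ m))⁻¹) ^ 3 * (μ : K) ^ 2 = 1 := by
        have : (1 : K) * t = (((μ : K) ^ (3 ^ m))⁻¹) ^ 3 * (μ : K) ^ 2 * t := by rw [one_mul]; exact ht
        exact (mul_right_cancel₀ ht0 this).symm
      have e2 : (μ : K) ^ 2 = ((μ : K) ^ (3 ^ m)) ^ 3 := by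
        field_simp at e1
        exact e1
      have e3 : ((μ : K) ^ (3 ^ m)) ^ 2 = (μ : K) := by
        have e4 : ((μ : K) ^ 2) ^ (3 ^ m) = (((μ : K) ^ (3 ^ m)) ^ 3) ^ (3 ^ m) := by rw [e2]
        rw [key, htri] at e4
        have e8 : ((μ : K) ^ (3 ^ m)) ^ 2 = ((μ : K) ^ 2) ^ (3 ^ m) := by ring
        rw [e8]
        exact e4
      have e5 : (μ : K) = (μ : K) ^ (3 ^ m) := by
        have e6 : (μ : K) * (μ : K) = (μ : K) ^ (3 ^ m) * (μ : K) := by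
          calc (μ : K) * (μ : K) = (μ : K) ^ 2 := by ring
            _ = ((μ : K) ^ (3 ^ m)) ^ 3 := e2
            _ = (μ : K) ^ (3 ^ m) * ((μ : K) ^ (3 ^ m)) ^ 2 := by ring
            _ = (μ : K) ^ (3 ^ m) * (μ : K) := by rw [e3]
        exact mul_right_cancel₀ hμ e6
      rw [← e5] at e3
      have e7 : (μ : K) * (μ : K) = 1 * (μ : K) := by rw [one_mul, ← sq]; exact e3
      exact Units.ext (mul_right_cancel₀ hμ e7)
    · have e1 : ((μ : K) ^ (3 ^ m)) ^ 3 * (μ : K)⁻¹ = 1 := by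
        have : (1 : K) * u = ((μ : K) ^ (3 ^ m)) ^ 3 * (μ : K)⁻¹ * u := by rw [one_mul]; exact hu
        exact (mul_right_cancel₀ hu0 this).symm
      have e2 : ((μ : K) ^ (3 ^ m)) ^ 3 = (μ : K) := by
        field_simp at e1
        exact e1
      have e3 : (μ : K) = (μ : K) ^ (3 ^ m) := by
        have e4 : (((μ : K) ^ (3 ^ m)) ^ 3) ^ (3 ^ m) = (μ : K) ^ (3 ^ m) := by rw [e2]
        rw [key, htri] at e4
        exact e4
      rw [← e3] at e2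
      have e5 : ((μ : K) - 1) * ((μ : K) + 1) = 0 := by
        have e6 : (μ : K) * ((μ : K) ^ 2 - 1) = 0 := by
          have : (μ : K) * ((μ : K) ^ 2 - 1) = (μ : K) ^ 3 - (μ : K) := by ring
          rw [this, e2, sub_self]
        rcases mul_eq_zero.mp e6 with h | h
        · exact absurd h hμ
        · have : ((μ : K) - 1) * ((μ : K) + 1) = (μ : K) ^ 2 - 1 := by ring
          rw [this, h]
      rcases mul_eq_zero.mp e5 with h | h
      · left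
        exact Units.ext (sub_eq_zero.mp h)
      · right
        apply Units.ext
        rw [Units.val_neg, Units.val_one]
        exact eq_neg_of_add_eq_zero_left h
  · left
    have : (1 : K) * v = (μ : K) * v := by rw [one_mul]; exact hv
    exact Units.ext (mul_right_cancel₀ hv0 this).symm

theorem stab_ree [Fintype K] {m : ℕ} (hK : Fintype.card K = 3 ^ (2 * m + 1)) :
    (∀ x y z : ↥(twistedG2 K (3 ^ m)) ⧸ Bs (twistedG2 K (3 ^ m)), x ≠ y → x ≠ z → y ≠ z →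
        Nat.card ↥(T3 (G := ↥(twistedG2 K (3 ^ m))) x y z) ≤ 2) ∧
      ∃ x y z : ↥(twistedG2 K (3 ^ m)) ⧸ Bs (twistedG2 K (3 ^ m)), x ≠ y ∧ x ≠ z ∧ y ≠ z ∧
        Nat.card ↥(T3 (G := ↥(twistedG2 K (3 ^ m))) x y z) = 2 := by
  have fr := frob_of_card hK
  obtain ⟨hn0N, -⟩ := n0_map (K := K)
  let n : ↥(twistedG2 K (3 ^ m)) := ⟨n0 K, n0_mem hK⟩
  let U1 : Set ↥(twistedG2 K (3 ^ m)) := {x | (x : GL chevG2.Idx K) ∈ chevG2.posUnipotent K}
  let H1 : Set ↥(twistedG2 K (3 ^ m)) := {x | (x : GL chevG2.Idx K) ∈ chevG2.diagonalSubgroup K}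
  let a0 : ↥(twistedG2 K (3 ^ m)) := ⟨th m (-1), hfix_mem hK (-1)⟩
  have hB1 := memBs (twistedG2 K (3 ^ m))
  have hU1B : ∀ u ∈ U1, u ∈ Bs (twistedG2 K (3 ^ m)) := fun u hu => (hB1 u).mpr (U_le_B chevG2 hu)
  have hF1 : ∀ g : ↥(twistedG2 K (3 ^ m)), g ∈ Bs (twistedG2 K (3 ^ m)) ∨
      ∃ u ∈ U1, ∃ b ∈ Bs (twistedG2 K (3 ^ m)), g = u * n * b := by
    intro g
    rcases R_struct' hK g.1 g.2 with h | ⟨u, hu, huR, b, hb, hbR, e⟩
    · left
      exact (hB1 g).mpr h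
    · right
      exact ⟨⟨u, huR⟩, hu, ⟨b, hbR⟩, (hB1 _).mpr hb, Subtype.ext e⟩
  have hF2 : ∀ k ∈ Bs (twistedG2 K (3 ^ m)), n⁻¹ * k * n ∈ Bs (twistedG2 K (3 ^ m)) → k ∈ H1 := by
    intro k hk hkn
    exact F2 k.1 ((hB1 k).mp hk) ((hB1 _).mp hkn)
  have hF3 : ∀ k ∈ H1, ∀ u ∈ U1, (u * n)⁻¹ * k * (u * n) ∈ Bs (twistedG2 K (3 ^ m)) →
      k * u = u * k := by
    intro k hk u hu h
    exact Subtype.ext (F3 k.1 u.1 hk hu ((hB1 _).mp h))
  have hC : ∀ u ∈ U1, u ≠ 1 → ∀ k ∈ H1, k * u = u * k → k = 1 ∨ k = a0 := by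
    intro u hu hu1 k hk hku
    obtain ⟨t, u', v, e⟩ := mem_imp fr u.1 ⟨hu, u.2⟩
    have e' : (u : GL chevG2.Idx K) = uu m (t, u', v) := e
    have hne : ¬ (t = 0 ∧ u' = 0 ∧ v = 0) := by
      rintro ⟨rfl, rfl, rfl⟩
      apply hu1
      apply Subtype.ext
      rw [e']
      exact uu_zero fr
    obtain ⟨μ, hμ⟩ := (mem_H1 hK k.1).mp ⟨hk, k.2⟩
    have hc : th m μ * uu m (t, u', v) = uu m (t, u', v) * th m μ := by
      rw [← hμ, ← e']
      exact congrArg Subtype.val hku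
    rcases cent_th fr μ t u' v hne hc with h | h
    · left
      apply Subtype.ext
      rw [hμ, h]
      exact th_one m
    · right
      apply Subtype.ext
      rw [hμ, h]
  constructor
  · intro x y z hxy hxz hyz
    exact stab_general (Bs (twistedG2 K (3 ^ m))) n U1 H1 hU1B hF1 hF2 hF3
      (fun u hu hu1 => ⟨a0, hC u hu hu1⟩) x y z hxy hxz hyz
  · let u0 : ↥(twistedG2 K (3 ^ m)) := ⟨uu m ((0 : K), (1 : K), (0 : K)), uu_memR m _⟩
    have hu0 : u0 ∈ U1 := uu_memU m _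
    have hu01 : u0 ≠ 1 := by
      intro h
      have h1 : uu m ((0 : K), (1 : K), (0 : K)) = uu m ((0 : K), (0 : K), (0 : K)) := by
        rw [uu_zero fr]
        exact congrArg Subtype.val h
      have h2 := uu_inj fr _ _ h1
      have h3 : (1 : K) = 0 := congrArg (fun p : K × K × K => p.2.1) h2
      exact one_ne_zero h3
    refine ⟨QuotientGroup.mk 1, QuotientGroup.mk n, QuotientGroup.mk (u0 * n), ?_, ?_, ?_, ?_⟩
    · intro h
      rw [QuotientGroup.eq, inv_one, one_mul] at h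
      exact n0_not_B ((hB1 n).mp h)
    · intro h
      rw [QuotientGroup.eq, inv_one, one_mul] at h
      have h1 : uu m ((0 : K), (1 : K), (0 : K)) * n0 K ∈ chevG2.borelSubgroup K := (hB1 _).mp h
      apply n0_not_B (K := K)
      have e : n0 K = (uu m ((0 : K), (1 : K), (0 : K)))⁻¹ * (uu m ((0 : K), (1 : K), (0 : K)) * n0 K) := by
        group
      rw [e]
      exact mul_mem (inv_mem (U_le_B chevG2 (uu_memU m _))) h1
    · intro h
      rw [QuotientGroup.eq] at h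
      have h1 : (n0 K)⁻¹ * (uu m ((0 : K), (1 : K), (0 : K)) * n0 K) ∈ chevG2.borelSubgroup K :=
        (hB1 _).mp h
      rw [← mul_assoc] at h1
      exact hu01 (Subtype.ext (conj_inv_triv _ (uu_memU m _) h1))
    · have ha1 : a0 ≠ 1 := by
        intro h
        have h1 : th m (-1 : Kˣ) = th m 1 := by
          rw [th_one]
          exact congrArg Subtype.val h
        have h2 := th_inj m _ _ h1
        have h3 : (-1 : K) = 1 := by
          have := congrArg Units.val h2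
          rw [Units.val_neg, Units.val_one] at this
          exact this
        have h4 : ((3 : ℕ) : K) = 0 := fr.h3
        have h5 : (1 : K) = 0 := by
          have : (1 : K) = ((3 : ℕ) : K) - (1 - (-1 : K)) := by push_cast; ring
          rw [this, h4, h3]
          ring
        exact one_ne_zero h5
      have haH : (a0 : GL chevG2.Idx K) ∈ chevG2.diagonalSubgroup K := th_memH m _
      have haB : a0 ∈ Bs (twistedG2 K (3 ^ m)) := (hB1 a0).mpr (H_le_B chevG2 haH)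
      have han : n⁻¹ * a0 * n ∈ Bs (twistedG2 K (3 ^ m)) :=
        (hB1 _).mpr (H_le_B chevG2 (conj_inv_H _ haH))
      have hau : a0 * u0 = u0 * a0 := by
        apply Subtype.ext
        have h1 := conj_neg fr (0 : K) 1 0
        rw [neg_zero] at h1
        exact mul_inv_eq_iff_eq_mul.mp h1
      exact stab_exists (Bs (twistedG2 K (3 ^ m))) n U1 H1 hF2 hF3 u0 hu0 a0 (hC u0 hu0 hu01)
        ha1 haB han hau

end

end Cfsg.Agent.Lib.Helper7.ReeStab
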