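import Cfsg.Agent.Lib.Helper7.SL2Phi
import Cfsg.Agent.Lib.Helper7.ChevExch

set_option autoImplicit false

namespace Cfsg.Agent.Lib.Helper7.SL2Hom
open Cfsg.Lie Cfsg.Agent.Lib.Helper7.ChevEngine Cfsg.Agent.Lib.Helper7.MvEngine
  Cfsg.Agent.Lib.Helper7.SL2Phi Cfsg.Agent.Lib.Helper7.ChevTorus Cfsg.Agent.Lib.Helper7.ChevW0
  Cfsg.Agent.Lib.Helper7.ChevExch Cfsg.Agent.Lib.Helper7.ChevOrb Cfsg.Agent.Lib.Helper7.ChevNW

section
variable {F : Type*} [Field F]

abbrev S2 (F : Type*) [Field F] : Type _ := Matrix.SpecialLinearGroup (Fin 2) F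

def uS (t : F) : S2 F := ⟨!![1, t; 0, 1], by simp [Matrix.det_fin_two]⟩

def lS (t : F) : S2 F := ⟨!![1, 0; t, 1], by simp [Matrix.det_fin_two]⟩

theorem det_eq (g : S2 F) : g 0 0 * g 1 1 - g 0 1 * g 1 0 = 1 := by
  have := g.det_coe
  rwa [Matrix.det_fin_two] at this

theorem mul_entry (g h : S2 F) (i j : Fin 2) : (g * h) i j = g i 0 * h 0 j + g i 1 * h 1 j := by
  rw [Matrix.SpecialLinearGroup.coe_mul, Matrix.mul_apply, Fin.sum_univ_two]

theorem uS_00 (t : F) : (uS t) 0 0 = 1 := rfl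
theorem uS_01 (t : F) : (uS t) 0 1 = t := rfl
theorem uS_10 (t : F) : (uS t) 1 0 = 0 := rfl
theorem uS_11 (t : F) : (uS t) 1 1 = 1 := rfl
theorem lS_00 (t : F) : (lS t) 0 0 = 1 := rfl
theorem lS_01 (t : F) : (lS t) 0 1 = 0 := rfl
theorem lS_10 (t : F) : (lS t) 1 0 = t := rfl
theorem lS_11 (t : F) : (lS t) 1 1 = 1 := rfl

theorem ext2 (g h : S2 F) (h00 : g 0 0 = h 0 0) (h01 : g 0 1 = h 0 1) (h10 : g 1 0 = h 1 0)
    (h11 : g 1 1 = h 1 1) : g = h := by
  ext i j
  fin_cases i <;> fin_cases j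
  · exact h00
  · exact h01
  · exact h10
  · exact h11

theorem lS_mul (s t : F) : lS s * lS t = lS (s + t) := by
  apply ext2 <;> simp only [mul_entry, lS_00, lS_01, lS_10, lS_11] <;> ring

theorem lS_zero : lS (0 : F) = 1 := by
  apply ext2 <;> simp [lS_00, lS_01, lS_10, lS_11]

theorem gen_of_ne (g : S2 F) (hc : g 1 0 ≠ 0) :
    g ∈ Subgroup.closure (Set.range (uS (F := F)) ∪ Set.range (lS (F := F))) := by
  have hdet := det_eq g
  have e : g = uS ((g 0 0 - 1) / g 1 0) * lS (g 1 0) * uS ((g 1 1 - 1) / g 1 0) := by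
    apply ext2
    · simp only [mul_entry, lS_00, lS_01, lS_10, lS_11, uS_00, uS_01, uS_10, uS_11]
      field_simp
      ring
    · simp only [mul_entry, lS_00, lS_01, lS_10, lS_11, uS_00, uS_01, uS_10, uS_11]
      field_simp
      linear_combination (-1 : F) * hdet
    · simp only [mul_entry, lS_00, lS_01, lS_10, lS_11, uS_00, uS_01, uS_10, uS_11]
      ring
    · simp only [mul_entry, lS_00, lS_01, lS_10, lS_11, uS_00, uS_01, uS_10, uS_11]
      field_simp
      ring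
  rw [e]
  have hu : ∀ t : F, uS t ∈ Subgroup.closure (Set.range (uS (F := F)) ∪ Set.range (lS (F := F))) :=
    fun t => Subgroup.subset_closure (Or.inl ⟨t, rfl⟩)
  have hl : ∀ t : F, lS t ∈ Subgroup.closure (Set.range (uS (F := F)) ∪ Set.range (lS (F := F))) :=
    fun t => Subgroup.subset_closure (Or.inr ⟨t, rfl⟩)
  exact mul_mem (mul_mem (hu _) (hl _)) (hu _)

theorem sl2_gen (g : S2 F) :
    g ∈ Subgroup.closure (Set.range (uS (F := F)) ∪ Set.range (lS (F := F))) := by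
  by_cases hc : g 1 0 = 0
  · have hdet := det_eq g
    rw [hc, mul_zero, sub_zero] at hdet
    have hd : g 1 1 ≠ 0 := by
      intro h
      rw [h, mul_zero] at hdet
      exact zero_ne_one hdet
    have h1 : (g * lS 1 : S2 F) 1 0 ≠ 0 := by
      have : (g * lS 1 : S2 F) 1 0 = g 1 0 + g 1 1 := by
        simp only [mul_entry, lS_00, lS_10, mul_one]
      rw [this, hc, zero_add]
      exact hd
    have h2 := gen_of_ne (g * lS 1) h1
    have h3 : g = g * lS 1 * lS (-1) := by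
      rw [mul_assoc, lS_mul, add_neg_cancel, lS_zero, mul_one]
    rw [h3]
    exact mul_mem h2 (Subgroup.subset_closure (Or.inr ⟨-1, rfl⟩))
  · exact gen_of_ne g hc

def PhiS (l n : ℕ) (A : Fns) (r : ℕ) (g : S2 F) : Matrix (Ix l n) (Ix l n) F :=
  PhiM l n A F r (g 0 0) (g 0 1) (g 1 0) (g 1 1)

structure PhiOk (l n : ℕ) (A : Fns) (F : Type*) [Field F] (r : ℕ) : Prop where
  hU : ∀ a b c d t : F, PhiM l n A F r a (a * t + b) c (c * t + d) = PhiM l n A F r a b c d * xM l n A F r t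
  hL : ∀ a b c d t : F, PhiM l n A F r (a + b * t) b (c + d * t) d =
    PhiM l n A F r a b c d * xM l n A F (A.neg r) t
  hI : PhiM l n A F r 1 0 0 1 = 1

theorem phiOk_of_chk (l n : ℕ) (A : Fns) (r : ℕ) (h : chkRoot l n A r = true) : PhiOk l n A F r := by
  unfold chkRoot at h
  rw [List.all_eq_true] at h
  have h' : ∀ k < l + n, chkU l n A r k = true ∧ chkL l n A r k = true ∧ chkI l n A r k = true := by
    intro k hk
    have h4 := h k (List.mem_range.mpr hk)
    simp only [Bool.and_eq_true] at h4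
    exact ⟨h4.1.1, h4.1.2, h4.2⟩
  exact ⟨phi_u l n A r (fun k hk => (h' k hk).1), phi_l l n A r (fun k hk => (h' k hk).2.1),
    phi_one l n A r (fun k hk => (h' k hk).2.2)⟩

theorem PhiS_mul_u (l n : ℕ) (A : Fns) (r : ℕ) (ok : PhiOk l n A F r) (g : S2 F) (t : F) :
    PhiS l n A r (g * uS t) = PhiS l n A r g * xM l n A F r t := by
  unfold PhiS
  rw [← ok.hU]
  congr 1 <;> simp only [mul_entry, uS_00, uS_01, uS_10, uS_11] <;> ring

theorem PhiS_mul_l (l n : ℕ) (A : Fns) (r : ℕ) (ok : PhiOk l n A F r) (g : S2 F) (t : F) :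
    PhiS l n A r (g * lS t) = PhiS l n A r g * xM l n A F (A.neg r) t := by
  unfold PhiS
  rw [← ok.hL]
  congr 1 <;> simp only [mul_entry, lS_00, lS_01, lS_10, lS_11] <;> ring

theorem PhiS_one (l n : ℕ) (A : Fns) (r : ℕ) (ok : PhiOk l n A F r) : PhiS l n A r (1 : S2 F) = 1 := by
  unfold PhiS
  rw [← ok.hI]
  rfl

theorem PhiS_u (l n : ℕ) (A : Fns) (r : ℕ) (ok : PhiOk l n A F r) (t : F) :
    PhiS l n A r (uS t) = xM l n A F r t := by
  have := PhiS_mul_u l n A r ok 1 t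
  rwa [one_mul, PhiS_one l n A r ok, one_mul] at this

theorem PhiS_l (l n : ℕ) (A : Fns) (r : ℕ) (ok : PhiOk l n A F r) (t : F) :
    PhiS l n A r (lS t) = xM l n A F (A.neg r) t := by
  have := PhiS_mul_l l n A r ok 1 t
  rwa [one_mul, PhiS_one l n A r ok, one_mul] at this

theorem PhiS_mul (l n : ℕ) (A : Fns) (r : ℕ) (ok : PhiOk l n A F r) (g g' : S2 F) :
    PhiS l n A r (g * g') = PhiS l n A r g * PhiS l n A r g' := by
  have key : ∀ g' : S2 F, g' ∈ Subgroup.closure (Set.range (uS (F := F)) ∪ Set.range (lS (F := F))) →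
      ∀ g : S2 F, PhiS l n A r (g * g') = PhiS l n A r g * PhiS l n A r g' := by
    intro g' hg'
    induction hg' using Subgroup.closure_induction with
    | mem x hx =>
      intro g
      rcases hx with ⟨t, rfl⟩ | ⟨t, rfl⟩
      · rw [PhiS_mul_u l n A r ok, PhiS_u l n A r ok]
      · rw [PhiS_mul_l l n A r ok, PhiS_l l n A r ok]
    | one =>
      intro g
      rw [mul_one, PhiS_one l n A r ok, mul_one]
    | mul x y _ _ ihx ihy =>
      intro g
      rw [← mul_assoc, ihy, ihx, ihy x, mul_assoc]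
    | inv x _ ih =>
      intro g
      have h1 : PhiS l n A r x⁻¹ * PhiS l n A r x = 1 := by
        rw [← ih, inv_mul_cancel, PhiS_one l n A r ok]
      have h2 : PhiS l n A r x * PhiS l n A r x⁻¹ = 1 := mul_eq_one_comm.mp h1
      have h3 : PhiS l n A r (g * x⁻¹) * PhiS l n A r x = PhiS l n A r g := by
        rw [← ih, inv_mul_cancel_right]
      calc PhiS l n A r (g * x⁻¹) = PhiS l n A r (g * x⁻¹) * (PhiS l n A r x * PhiS l n A r x⁻¹) := by
            rw [h2, mul_one]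
        _ = PhiS l n A r g * PhiS l n A r x⁻¹ := by rw [← mul_assoc, h3]
  exact key g' (sl2_gen g') g

def phiMon (l n : ℕ) (A : Fns) (r : ℕ) (ok : PhiOk l n A F r) : S2 F →* Matrix (Ix l n) (Ix l n) F where
  toFun := PhiS l n A r
  map_one' := PhiS_one l n A r ok
  map_mul' := PhiS_mul l n A r ok

def twF (ε : F) (hε : ε * ε = 1) (g : S2 F) : S2 F :=
  ⟨!![g 0 0, ε * g 0 1; ε * g 1 0, g 1 1], by
    rw [Matrix.det_fin_two]
    simp only [Matrix.of_apply, Matrix.cons_val', Matrix.cons_val_zero, Matrix.cons_val_one,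
      Matrix.cons_val_fin_one]
    linear_combination det_eq g - (g 0 1 * g 1 0) * hε⟩

theorem twF_00 (ε : F) (hε : ε * ε = 1) (g : S2 F) : (twF ε hε g) 0 0 = g 0 0 := rfl
theorem twF_01 (ε : F) (hε : ε * ε = 1) (g : S2 F) : (twF ε hε g) 0 1 = ε * g 0 1 := rfl
theorem twF_10 (ε : F) (hε : ε * ε = 1) (g : S2 F) : (twF ε hε g) 1 0 = ε * g 1 0 := rfl
theorem twF_11 (ε : F) (hε : ε * ε = 1) (g : S2 F) : (twF ε hε g) 1 1 = g 1 1 := rfl

theorem twF_one (ε : F) (hε : ε * ε = 1) : twF ε hε (1 : S2 F) = 1 := by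
  apply ext2
  · rfl
  · rw [twF_01]
    simp
  · rw [twF_10]
    simp
  · rfl

theorem twF_mul (ε : F) (hε : ε * ε = 1) (g h : S2 F) : twF ε hε (g * h) = twF ε hε g * twF ε hε h := by
  apply ext2
  · simp only [mul_entry, twF_00, twF_01, twF_10, twF_11]
    linear_combination (-(g 0 1 * h 1 0)) * hε
  · simp only [mul_entry, twF_00, twF_01, twF_10, twF_11]
    ring
  · simp only [mul_entry, twF_00, twF_01, twF_10, twF_11]
    ring
  · simp only [mul_entry, twF_00, twF_01, twF_10, twF_11]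
    linear_combination (-(g 1 0 * h 0 1)) * hε

def twE (ε : F) (hε : ε * ε = 1) : S2 F →* S2 F where
  toFun := twF ε hε
  map_one' := twF_one ε hε
  map_mul' := twF_mul ε hε

theorem twE_u (ε : F) (hε : ε * ε = 1) (t : F) : twE ε hε (uS t) = uS (ε * t) := by
  apply ext2
  · rfl
  · rfl
  · show ε * (uS t) 1 0 = 0
    rw [uS_10, mul_zero]
  · rfl

theorem twE_l (ε : F) (hε : ε * ε = 1) (t : F) : twE ε hε (lS t) = lS (ε * t) := by
  apply ext2
  · rfl
  · show ε * (lS t) 0 1 = 0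
    rw [lS_01, mul_zero]
  · rfl
  · rfl

def HasHom (D : ChevalleyDatum) (F : Type*) [Field F] (r : ℕ) : Prop :=
  ∃ φ : S2 F →* GL D.Idx F,
    (∀ t : F, ((φ (uS t) : GL D.Idx F) : Matrix D.Idx D.Idx F) = D.x F r t) ∧
    (∀ t : F, ((φ (lS t) : GL D.Idx F) : Matrix D.Idx D.Idx F) = D.x F (D.neg r) t)

theorem hasHom_of_chk (D : ChevalleyDatum) (r : ℕ) (hr : r < D.nroots) (hnr : D.neg r < D.nroots)
    (h : chkRoot D.rank D.nroots (fnsOf D) r = true) : HasHom D F r := by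
  have ok : PhiOk D.rank D.nroots (fnsOf D) F r := phiOk_of_chk _ _ _ _ h
  refine ⟨(phiMon D.rank D.nroots (fnsOf D) r ok).toHomUnits, ?_, ?_⟩
  · intro t
    rw [MonoidHom.coe_toHomUnits, x_eq]
    unfold xx
    rw [if_pos hr]
    exact PhiS_u _ _ _ _ ok t
  · intro t
    rw [MonoidHom.coe_toHomUnits, x_eq]
    unfold xx
    rw [if_pos hnr]
    exact PhiS_l _ _ _ _ ok t

theorem hasHom_step (D : ChevalleyDatum) (hD : D ∈ [chevG2, chevB2, chevD4, chevF4, chevE6, chevE7, chevE8])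
    (i : ℕ) (hi : i < D.rank) (r : ℕ) (hr : r < D.nroots) (h : HasHom D F (D.reflectRoot i r)) :
    HasHom D F r := by
  obtain ⟨φ, h1, h2⟩ := h
  obtain ⟨-, hneg, ε, hε, c1, c2⟩ := conj_word2 (F := F) D hD [i]
    (by intro j hj; rw [List.mem_singleton] at hj; rw [hj]; exact hi) r hr
  have hw : wAct D [i] r = D.reflectRoot i r := rfl
  rw [hw] at c1 c2
  have hεε : ε * ε = 1 := by rcases hε with rfl | rfl <;> simp
  have e1 : ∀ t : F, φ (uS (ε * t)) = xGL D hD (D.reflectRoot i r) (ε * t) := by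
    intro t
    apply Units.ext
    rw [h1, xGL_val]
  have e2 : ∀ t : F, φ (lS (ε * t)) = xGL D hD (D.neg (D.reflectRoot i r)) (ε * t) := by
    intro t
    apply Units.ext
    rw [h2, xGL_val]
  refine ⟨((MulAut.conj (nWordGL D hD [i])⁻¹).toMonoidHom.comp φ).comp (twE ε hεε), ?_, ?_⟩
  · intro t
    have e3 : (((MulAut.conj (nWordGL D hD [i])⁻¹).toMonoidHom.comp φ).comp (twE ε hεε)) (uS t) =
        xGL D hD r t := by
      simp only [MonoidHom.comp_apply, MulEquiv.coe_toMonoidHom, MulAut.conj_apply, inv_inv, twE_u, e1]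
      rw [mul_assoc, ← c1 t, inv_mul_cancel_left]
    rw [e3, xGL_val]
  · intro t
    have e3 : (((MulAut.conj (nWordGL D hD [i])⁻¹).toMonoidHom.comp φ).comp (twE ε hεε)) (lS t) =
        xGL D hD (D.neg r) t := by
      simp only [MonoidHom.comp_apply, MulEquiv.coe_toMonoidHom, MulAut.conj_apply, inv_inv, twE_l, e2]
      rw [mul_assoc, ← c2 t, inv_mul_cancel_left]
    rw [e3, xGL_val]

theorem range_eq (D : ChevalleyDatum) (φ : S2 F →* GL D.Idx F) (r : ℕ)
    (h1 : ∀ t : F, ((φ (uS t) : GL D.Idx F) : Matrix D.Idx D.Idx F) = D.x F r t)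
    (h2 : ∀ t : F, ((φ (lS t) : GL D.Idx F) : Matrix D.Idx D.Idx F) = D.x F (D.neg r) t) :
    φ.range = D.rootSubgroup F r ⊔ D.rootSubgroup F (D.neg r) := by
  have htop : (⊤ : Subgroup (S2 F)) =
      Subgroup.closure (Set.range (uS (F := F)) ∪ Set.range (lS (F := F))) :=
    (eq_top_iff.mpr fun g _ => sl2_gen g).symm
  rw [MonoidHom.range_eq_map, htop, MonoidHom.map_closure, Set.image_union, Subgroup.closure_union]
  congr 1
  · unfold ChevalleyDatum.rootSubgroup
    congr 1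
    ext g
    constructor
    · rintro ⟨_, ⟨t, rfl⟩, rfl⟩
      exact ⟨t, h1 t⟩
    · rintro ⟨t, ht⟩
      exact ⟨uS t, ⟨t, rfl⟩, Units.ext (by rw [h1, ht])⟩
  · unfold ChevalleyDatum.rootSubgroup
    congr 1
    ext g
    constructor
    · rintro ⟨_, ⟨t, rfl⟩, rfl⟩
      exact ⟨t, h2 t⟩
    · rintro ⟨t, ht⟩
      exact ⟨lS t, ⟨t, rfl⟩, Units.ext (by rw [h2, ht])⟩

theorem main (D : ChevalleyDatum) (hD : D ∈ [chevG2, chevB2, chevD4, chevF4, chevE6, chevE7, chevE8])
    (base : List ℕ) (LV PI : ℕ) (hlv : lvlCheckB D base LV PI = true)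
    (hb : ∀ r ∈ base, r < D.nroots ∧ D.neg r < D.nroots ∧ chkRoot D.rank D.nroots (fnsOf D) r = true)
    (r : ℕ) (hr : r < D.nroots) :
    ∃ φ : Matrix.SpecialLinearGroup (Fin 2) F →* GL D.Idx F,
      φ.range = D.rootSubgroup F r ⊔ D.rootSubgroup F (D.neg r) ∧
      ∀ (g : Matrix.SpecialLinearGroup (Fin 2) F) (t : F),
        ((g : Matrix (Fin 2) (Fin 2) F) = !![1, t; 0, 1] →
          ((φ g : GL D.Idx F) : Matrix D.Idx D.Idx F) = D.x F r t) ∧
        ((g : Matrix (Fin 2) (Fin 2) F) = !![1, 0; t, 1] →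
          ((φ g : GL D.Idx F) : Matrix D.Idx D.Idx F) = D.x F (D.neg r) t) := by
  have hP : ∀ r < D.nroots, HasHom D F r := by
    apply root_induction_B D base LV PI hlv (HasHom D F)
    · intro r hr
      obtain ⟨h1, h2, h3⟩ := hb r hr
      exact hasHom_of_chk D r h1 h2 h3
    · intro i hi r hr _ ih
      exact hasHom_step D hD i hi r hr ih
  obtain ⟨φ, h1, h2⟩ := hP r hr
  refine ⟨φ, range_eq D φ r h1 h2, fun g t => ⟨fun hg => ?_, fun hg => ?_⟩⟩
  · have : g = uS t := Subtype.ext hg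
    rw [this]
    exact h1 t
  · have : g = lS t := Subtype.ext hg
    rw [this]
    exact h2 t

end

end Cfsg.Agent.Lib.Helper7.SL2Hom
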