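import Cfsg.Agent.Lib.Helper7.SL2Phi
import Cfsg.Prelude.Def_ChevG2
import Cfsg.Prelude.Def_ChevB2
import Cfsg.Prelude.Def_ChevD4
import Cfsg.Prelude.Def_ChevF4
import Cfsg.Prelude.Def_ChevE6
import Cfsg.Prelude.Def_ChevE7
import Cfsg.Prelude.Def_ChevE8

set_option autoImplicit false

namespace Cfsg.Agent.Lib.Helper7.SL2Data
open Cfsg.Lie Cfsg.Agent.Lib.Helper7.ChevEngine Cfsg.Agent.Lib.Helper7.MvEngine Cfsg.Agent.Lib.Helper7.SL2Phi

theorem hbG2 : ∀ r ∈ [chevG2.simple 0, 0], r < chevG2.nroots ∧ chevG2.neg r < chevG2.nroots ∧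
    chkRoot chevG2.rank chevG2.nroots (fnsOf chevG2) r = true := by decide +kernel

theorem hbB2 : ∀ r ∈ [chevB2.simple 0, 0], r < chevB2.nroots ∧ chevB2.neg r < chevB2.nroots ∧
    chkRoot chevB2.rank chevB2.nroots (fnsOf chevB2) r = true := by decide +kernel

theorem hbF4 : ∀ r ∈ [chevF4.simple 0, 0], r < chevF4.nroots ∧ chevF4.neg r < chevF4.nroots ∧
    chkRoot chevF4.rank chevF4.nroots (fnsOf chevF4) r = true := by decide +kernel

theorem hbD4 : ∀ r ∈ [chevD4.simple 0], r < chevD4.nroots ∧ chevD4.neg r < chevD4.nroots ∧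
    chkRoot chevD4.rank chevD4.nroots (fnsOf chevD4) r = true := by decide +kernel

theorem hbE6 : ∀ r ∈ [chevE6.simple 0], r < chevE6.nroots ∧ chevE6.neg r < chevE6.nroots ∧
    chkRoot chevE6.rank chevE6.nroots (fnsOf chevE6) r = true := by decide +kernel

theorem hbE7 : ∀ r ∈ [chevE7.simple 0], r < chevE7.nroots ∧ chevE7.neg r < chevE7.nroots ∧
    chkRoot chevE7.rank chevE7.nroots (fnsOf chevE7) r = true := by decide +kernel

theorem hbE8 : ∀ r ∈ [chevE8.simple 0], r < chevE8.nroots ∧ chevE8.neg r < chevE8.nroots ∧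
    chkRoot chevE8.rank chevE8.nroots (fnsOf chevE8) r = true := by decide +kernel

end Cfsg.Agent.Lib.Helper7.SL2Data
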