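import Cfsg.Agent.Lib.Helper7.ReeGen
import Cfsg.Agent.Lib.Helper7.ReeStab
import Cfsg.Agent.Lib.Helper7.ReeSyl
import Cfsg.Agent.Lib.Helper7.CommAll
import Cfsg.Agent.Lib.Helper7.SL2Hom
import Cfsg.Agent.S1030

set_option autoImplicit false
set_option maxHeartbeats 400000

namespace Cfsg.Agent.Lib.Helper7.ReeCent
open Cfsg.Lie Cfsg.Agent.Lib.Helper7.ChevEngine Cfsg.Agent.Lib.Helper7.ChevTorus
  Cfsg.Agent.Lib.Helper7.ReeFix Cfsg.Agent.Lib.Helper7.ReeMain Cfsg.Agent.Lib.Helper7.ReeSg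
  Cfsg.Agent.Lib.Helper7.ReeTorus Cfsg.Agent.Lib.Helper7.ReeTorMem Cfsg.Agent.Lib.Helper7.ReeOrder
  Cfsg.Agent.Lib.Helper7.ReeBN Cfsg.Agent.Lib.Helper7.ReePerf Cfsg.Agent.Lib.Helper7.ReeH
  Cfsg.Agent.Lib.Helper7.ReeU Cfsg.Agent.Lib.Helper7.ReeFpf
  Cfsg.Agent.Lib.Helper7.MvEngine Cfsg.Agent.Lib.Helper7.MvWord Cfsg.Agent.Lib.Helper7.ChevRel
  Cfsg.Agent.Lib.Helper7.ReeStab Cfsg.Agent.Lib.Helper7.SL2Hom Cfsg.Agent.Lib.Helper7.CommAll
  Cfsg.Agent.Lib.Helper7.TwCore Cfsg.Agent.Lib.Helper7.ReeTorId Cfsg.Agent.Lib.Helper7.ChevPerf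
  Cfsg.Agent.Lib.Helper7.ChevSpec Cfsg.Agent.Lib.Helper7.SpecData Cfsg.Agent.Lib.Helper7.ChevGen
  Cfsg.Agent.Lib.Helper7.ChevBNP

section
variable {K : Type*} [Field K]

theorem ex_phi (K : Type*) [Field K] (r : ℕ) (hr : r < 12) : ∃ φ : S2 K →* GL chevG2.Idx K,
    (∀ t : K, φ (uS t) = xGL chevG2 hG2 r t) ∧
    (∀ t : K, φ (lS t) = xGL chevG2 hG2 (chevG2.neg r) t) := by
  obtain ⟨φ, -, h⟩ := Cfsg.Agent.S1030.result (F := K) chevG2 hG2 r (by rw [nroots_eq]; exact hr)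
  refine ⟨φ, fun t => ?_, fun t => ?_⟩
  · apply Units.ext
    rw [xGL_val]
    exact (h (uS t) t).1 rfl
  · apply Units.ext
    rw [xGL_val]
    exact (h (lS t) t).2 rfl

noncomputable def phi8 (K : Type*) [Field K] : S2 K →* GL chevG2.Idx K :=
  Classical.choose (ex_phi K 8 (by norm_num))

noncomputable def phi10 (K : Type*) [Field K] : S2 K →* GL chevG2.Idx K :=
  Classical.choose (ex_phi K 10 (by norm_num))

theorem phi8_u (t : K) : phi8 K (uS t) = xGL chevG2 hG2 8 t :=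
  (Classical.choose_spec (ex_phi K 8 (by norm_num))).1 t

theorem phi8_l (t : K) : phi8 K (lS t) = xGL chevG2 hG2 3 t :=
  (Classical.choose_spec (ex_phi K 8 (by norm_num))).2 t

theorem phi10_u (t : K) : phi10 K (uS t) = xGL chevG2 hG2 10 t :=
  (Classical.choose_spec (ex_phi K 10 (by norm_num))).1 t

theorem phi10_l (t : K) : phi10 K (lS t) = xGL chevG2 hG2 1 t :=
  (Classical.choose_spec (ex_phi K 10 (by norm_num))).2 t

theorem xcomm (r s : ℕ) (hr : r < chevG2.nroots) (hs : s < chevG2.nroots) (hrs : s ≠ r)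
    (hneg : s ≠ chevG2.neg r) (hc : chevG2.commTerms r s = []) (t u : K) :
    Commute (xGL chevG2 hG2 r t) (xGL chevG2 hG2 s u) := by
  have h := comm_formula (F := K) chevG2 hG2 r s hr hs hrs hneg t u
  unfold ChevalleyDatum.commWord at h
  rw [hc, List.map_nil, wordGL_nil, mul_one] at h
  exact h.symm

theorem ct_8_10 : chevG2.commTerms 8 10 = [] := by decide
theorem ct_8_1 : chevG2.commTerms 8 1 = [] := by decide
theorem ct_3_10 : chevG2.commTerms 3 10 = [] := by decide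
theorem ct_3_1 : chevG2.commTerms 3 1 = [] := by decide

theorem phi_comm_gen (x y : S2 K)
    (hx : x ∈ Set.range (uS (F := K)) ∪ Set.range (lS (F := K)))
    (hy : y ∈ Set.range (uS (F := K)) ∪ Set.range (lS (F := K))) :
    Commute (phi8 K x) (phi10 K y) := by
  rcases hx with ⟨t, rfl⟩ | ⟨t, rfl⟩ <;> rcases hy with ⟨u, rfl⟩ | ⟨u, rfl⟩
  · rw [phi8_u, phi10_u]
    exact xcomm 8 10 (by decide) (by decide) (by decide) (by decide) ct_8_10 t u
  · rw [phi8_u, phi10_l]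
    exact xcomm 8 1 (by decide) (by decide) (by decide) (by decide) ct_8_1 t u
  · rw [phi8_l, phi10_u]
    exact xcomm 3 10 (by decide) (by decide) (by decide) (by decide) ct_3_10 t u
  · rw [phi8_l, phi10_l]
    exact xcomm 3 1 (by decide) (by decide) (by decide) (by decide) ct_3_1 t u

theorem phi_comm (x y : S2 K) : Commute (phi8 K x) (phi10 K y) := by
  have h1 : ∀ y ∈ Set.range (uS (F := K)) ∪ Set.range (lS (F := K)), Commute (phi8 K x) (phi10 K y) := by
    intro y hy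
    refine Subgroup.closure_induction (p := fun g _ => Commute (phi8 K g) (phi10 K y)) ?_ ?_ ?_ ?_
      (sl2_gen x)
    · intro g hg
      exact phi_comm_gen g y hg hy
    · rw [map_one]
      exact Commute.one_left _
    · intro a b _ _ ha hb
      rw [map_mul]
      exact Commute.mul_left ha hb
    · intro a _ ha
      rw [map_inv]
      exact Commute.inv_left ha
  refine Subgroup.closure_induction (p := fun g _ => Commute (phi8 K x) (phi10 K g)) ?_ ?_ ?_ ?_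
    (sl2_gen y)
  · exact h1
  · rw [map_one]
    exact Commute.one_right _
  · intro a b _ _ ha hb
    rw [map_mul]
    exact Commute.mul_right ha hb
  · intro a _ ha
    rw [map_inv]
    exact Commute.inv_right ha

noncomputable def frobR {m : ℕ} (fr : Frob K m) : K →+* K :=
  { toFun := fun x => x ^ (3 ^ m)
    map_one' := one_pow _
    map_mul' := fun x y => mul_pow x y _
    map_zero' := zero_pow (pow_ne_zero m (by norm_num))
    map_add' := fr.add }

noncomputable def frobS {m : ℕ} (fr : Frob K m) : S2 K →* S2 K :=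
  Matrix.SpecialLinearGroup.map (frobR fr)

theorem frobS_entry {m : ℕ} (fr : Frob K m) (g : S2 K) (i j : Fin 2) :
    (frobS fr g) i j = (g i j) ^ (3 ^ m) := rfl

theorem frobS_u {m : ℕ} (fr : Frob K m) (t : K) : frobS fr (uS t) = uS (t ^ (3 ^ m)) := by
  apply ext2
  · rw [frobS_entry, uS_00, uS_00, one_pow]
  · rw [frobS_entry, uS_01, uS_01]
  · rw [frobS_entry, uS_10, uS_10, zero_pow (pow_ne_zero m (by norm_num))]
  · rw [frobS_entry, uS_11, uS_11, one_pow]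

theorem frobS_l {m : ℕ} (fr : Frob K m) (t : K) : frobS fr (lS t) = lS (t ^ (3 ^ m)) := by
  apply ext2
  · rw [frobS_entry, lS_00, lS_00, one_pow]
  · rw [frobS_entry, lS_01, lS_01, zero_pow (pow_ne_zero m (by norm_num))]
  · rw [frobS_entry, lS_10, lS_10]
  · rw [frobS_entry, lS_11, lS_11, one_pow]

noncomputable def Phi {m : ℕ} (fr : Frob K m) : S2 K →* GL chevG2.Idx K :=
  MonoidHom.mk' (fun g => phi8 K (frobS fr g) * phi10 K g) (by
    intro a b
    rw [map_mul, map_mul, map_mul]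
    have h := phi_comm (frobS fr b) a
    rw [mul_assoc, ← mul_assoc (phi8 K (frobS fr b)), h.eq, mul_assoc, mul_assoc])

theorem Phi_apply {m : ℕ} (fr : Frob K m) (g : S2 K) :
    Phi fr g = phi8 K (frobS fr g) * phi10 K g := rfl

noncomputable def vv (m : ℕ) (x : K) : GL chevG2.Idx K := wordGL chevG2 hG2 (reeWordV (3 ^ m) 0 x 0)

theorem vv_memR (m : ℕ) (x : K) : vv m x ∈ twistedG2 K (3 ^ m) :=
  gen_mem chevG2 hG2 (g2Words K (3 ^ m)) _ ⟨0, x, 0, Or.inr rfl⟩

theorem uu_y_eq (m : ℕ) (x : K) :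
    uu m (0, x, 0) = xGL chevG2 hG2 8 (x ^ (3 ^ m)) * xGL chevG2 hG2 10 x := by
  show wordGL chevG2 hG2 (reeWordU (3 ^ m) 0 x 0) = _
  rw [reeU0]
  simp only [wordGL_cons, wordGL_nil, ChevBN3.xGL_zero, one_mul, mul_one]

theorem vv_eq (m : ℕ) (x : K) :
    vv m x = xGL chevG2 hG2 3 (-(x ^ (3 ^ m))) * xGL chevG2 hG2 1 (-x) := by
  show wordGL chevG2 hG2 (reeWordV (3 ^ m) 0 x 0) = _
  rw [reeV0]
  simp only [wordGL_cons, wordGL_nil, ChevBN3.xGL_zero, one_mul, mul_one]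

theorem Phi_u {m : ℕ} (fr : Frob K m) (t : K) : Phi fr (uS t) = uu m (0, t, 0) := by
  rw [Phi_apply, frobS_u, phi8_u, phi10_u, uu_y_eq]

theorem Phi_l {m : ℕ} (fr : Frob K m) (t : K) : Phi fr (lS t) = vv m (-t) := by
  rw [Phi_apply, frobS_l, phi8_l, phi10_l, vv_eq, fr.neg, neg_neg, neg_neg]

theorem vv_memV (m : ℕ) (x : K) : vv m x ∈ chevG2.negUnipotent K := by
  rw [vv_eq]
  exact mul_mem (xGL_mem_V 3 (by decide) _) (xGL_mem_V 1 (by decide) _)

theorem Phi_memR {m : ℕ} (fr : Frob K m) (g : S2 K) : Phi fr g ∈ twistedG2 K (3 ^ m) := by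
  refine Subgroup.closure_induction (p := fun g _ => Phi fr g ∈ twistedG2 K (3 ^ m)) ?_ ?_ ?_ ?_
    (sl2_gen g)
  · rintro x (⟨t, rfl⟩ | ⟨t, rfl⟩)
    · rw [Phi_u]
      exact uu_memR m _
    · rw [Phi_l]
      exact vv_memR m _
  · rw [map_one]
    exact one_mem _
  · intro a b _ _ ha hb
    rw [map_mul]
    exact mul_mem ha hb
  · intro a _ ha
    rw [map_inv]
    exact inv_mem ha

theorem c03 : chevG2.cartan 0 3 = 1 := by decide
theorem c13 : chevG2.cartan 1 3 = -1 := by decide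
theorem c01 : chevG2.cartan 0 1 = -3 := by decide
theorem c11 : chevG2.cartan 1 1 = 1 := by decide

theorem chi3_neg : chi (-1 : Kˣ) (-1) 3 = 1 := by
  unfold chi
  rw [c03, c13, Units.val_neg, Units.val_one, zpow_one, zpow_neg_one]
  simp

theorem chi1_neg : chi (-1 : Kˣ) (-1) 1 = 1 := by
  unfold chi
  rw [c01, c11, Units.val_neg, Units.val_one, zpow_one, zpow_neg, zpow_ofNat]
  have e : ((-1 : K)) ^ 3 = -1 := by norm_num
  rw [e, inv_neg_one]
  norm_num

theorem a_comm_vv (m : ℕ) (x : K) : th m (-1 : Kˣ) * vv m x = vv m x * th m (-1 : Kˣ) := by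
  rw [th_neg, vv_eq, ← mul_assoc, hh_conj' _ _ 3 (by norm_num), chi3_neg, one_mul, mul_assoc,
    hh_conj' _ _ 1 (by norm_num), chi1_neg, one_mul, mul_assoc]

theorem a_comm_uu {m : ℕ} (fr : Frob K m) (t : K) :
    th m (-1 : Kˣ) * uu m (0, t, 0) = uu m (0, t, 0) * th m (-1 : Kˣ) := by
  have h := conj_neg fr 0 t 0
  rw [neg_zero] at h
  exact mul_inv_eq_iff_eq_mul.mp h

theorem a_comm_Phi {m : ℕ} (fr : Frob K m) (g : S2 K) :
    th m (-1 : Kˣ) * Phi fr g = Phi fr g * th m (-1 : Kˣ) := by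
  refine Subgroup.closure_induction
    (p := fun g _ => th m (-1 : Kˣ) * Phi fr g = Phi fr g * th m (-1 : Kˣ)) ?_ ?_ ?_ ?_ (sl2_gen g)
  · rintro x (⟨t, rfl⟩ | ⟨t, rfl⟩)
    · rw [Phi_u]
      exact a_comm_uu fr t
    · rw [Phi_l]
      exact a_comm_vv m _
  · rw [map_one, mul_one, one_mul]
  · intro a b _ _ ha hb
    rw [map_mul, ← mul_assoc, ha, mul_assoc, hb, mul_assoc]
  · intro a _ ha
    rw [map_inv]
    have e : th m (-1 : Kˣ) * (Phi fr a)⁻¹ =
        (Phi fr a)⁻¹ * (Phi fr a * th m (-1 : Kˣ)) * (Phi fr a)⁻¹ := by group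
    rw [e, ← ha]
    group

theorem neg_one_ne {m : ℕ} (fr : Frob K m) : (-1 : Kˣ) ≠ 1 := by
  intro h
  have h' : (-1 : K) = 1 := by
    have := congrArg Units.val h
    rwa [Units.val_neg, Units.val_one] at this
  have h3' : (3 : K) = 0 := by
    have e : (3 : K) = ((3 : ℕ) : K) := by norm_num
    rw [e]
    exact fr.h3
  have : (1 : K) = 0 := by linear_combination h3' + h'
  exact one_ne_zero this

theorem th_sq_one (m : ℕ) (μ : Kˣ) (h : th m μ * th m μ = 1) : μ = 1 ∨ μ = -1 := by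
  rw [← th_mul, ← th_one m] at h
  have h2 := th_inj m _ _ h
  have h3 : (μ : K) * (μ : K) = 1 := by
    have := congrArg Units.val h2
    rwa [Units.val_mul, Units.val_one] at this
  rcases mul_self_eq_one_iff.mp h3 with h4 | h4
  · left
    exact Units.ext h4
  · right
    exact Units.ext (by rw [h4, Units.val_neg, Units.val_one])

theorem a_sq (m : ℕ) : th m (-1 : Kˣ) * th m (-1 : Kˣ) = 1 := by
  rw [← th_mul, neg_mul_neg, one_mul, th_one]

theorem a_ne {m : ℕ} (fr : Frob K m) : th m (-1 : Kˣ) ≠ 1 := by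
  intro h
  rw [← th_one m] at h
  exact neg_one_ne fr (th_inj m _ _ h)

theorem a_eq [Fintype K] {m : ℕ} (hK : Fintype.card K = 3 ^ (2 * m + 1)) (a : GL chevG2.Idx K)
    (haR : a ∈ twistedG2 K (3 ^ m)) (haH : a ∈ chevG2.diagonalSubgroup K) (ha1 : a ≠ 1)
    (ha2 : a * a = 1) : a = th m (-1 : Kˣ) := by
  obtain ⟨μ, rfl⟩ := (mem_H1 hK a).mp (Subgroup.mem_inf.mpr ⟨haH, haR⟩)
  rcases th_sq_one m μ ha2 with rfl | rfl
  · exact absurd (th_one m) ha1
  · rfl

theorem n0_conj_a [Fintype K] {m : ℕ} (hK : Fintype.card K = 3 ^ (2 * m + 1)) :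
    th m (-1 : Kˣ) * n0 K = n0 K * th m (-1 : Kˣ) := by
  have fr := frob_of_card hK
  have hn0R := n0_mem hK
  have hthR : ∀ μ : Kˣ, th m μ ∈ twistedG2 K (3 ^ m) := fun μ => hfix_mem hK μ
  obtain ⟨ν, hν⟩ : ∃ ν : Kˣ, (n0 K)⁻¹ * th m (-1) * n0 K = th m ν := by
    apply (mem_H1 hK _).mp
    exact Subgroup.mem_inf.mpr ⟨conj_inv_H _ (th_memH m _),
      mul_mem (mul_mem (inv_mem hn0R) (hthR _)) hn0R⟩
  have hsq : th m ν * th m ν = 1 := by
    rw [← hν]
    have e : (n0 K)⁻¹ * th m (-1) * n0 K * ((n0 K)⁻¹ * th m (-1) * n0 K) =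
        (n0 K)⁻¹ * (th m (-1) * th m (-1)) * n0 K := by group
    rw [e, a_sq, mul_one, inv_mul_cancel]
  rcases th_sq_one m ν hsq with rfl | rfl
  · exfalso
    rw [th_one] at hν
    apply a_ne fr
    have e : th m (-1 : Kˣ) = n0 K * ((n0 K)⁻¹ * th m (-1) * n0 K) * (n0 K)⁻¹ := by group
    rw [e, hν, mul_one, mul_inv_cancel]
  · have e : th m (-1 : Kˣ) * n0 K = n0 K * ((n0 K)⁻¹ * th m (-1) * n0 K) := by group
    rw [e, hν]

theorem shift4 {G : Type*} [Group G] (a x x' y n z z' : G) (hx : a * x = x' * a) (hy : a * y = y * a)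
    (hn : a * n = n * a) (hz : a * z = z' * a) : a * (x * y * n * z) = x' * y * n * z' * a := by
  calc a * (x * y * n * z) = (a * x) * y * n * z := by group
    _ = x' * (a * y) * n * z := by rw [hx]; group
    _ = x' * y * (a * n) * z := by rw [hy]; group
    _ = x' * y * n * (a * z) := by rw [hn]; group
    _ = x' * y * n * z' * a := by rw [hz]; group

theorem cent_form [Fintype K] {m : ℕ} (hK : Fintype.card K = 3 ^ (2 * m + 1)) (g : GL chevG2.Idx K)
    (hg : g ∈ twistedG2 K (3 ^ m)) (hc : th m (-1 : Kˣ) * g = g * th m (-1 : Kˣ)) :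
    (∃ s : K, ∃ μ : Kˣ, g = uu m (0, s, 0) * th m μ) ∨
    (∃ s : K, ∃ μ : Kˣ, ∃ s' : K, g = uu m (0, s, 0) * th m μ * n0 K * uu m (0, s', 0)) := by
  have fr := frob_of_card hK
  obtain ⟨σ, hσ⟩ := exists_sigma fr
  have h3' : (3 : K) = 0 := by
    have e : (3 : K) = ((3 : ℕ) : K) := by norm_num
    rw [e]
    exact fr.h3
  have hz : ∀ t : K, -t = t → t = 0 := fun t h => by linear_combination t * h3' + h
  have hath : ∀ μ : Kˣ, th m (-1) * th m μ = th m μ * th m (-1) := by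
    intro μ
    rw [← th_mul, ← th_mul, mul_comm]
  have hconj : ∀ p : K × K × K, th m (-1 : Kˣ) * uu m p = uu m (-p.1, p.2.1, -p.2.2) * th m (-1) := by
    rintro ⟨t, u, v⟩
    have h := conj_neg fr t u v
    exact mul_inv_eq_iff_eq_mul.mp h
  have hfix : ∀ p : K × K × K, uu m (-p.1, p.2.1, -p.2.2) = uu m p → p = (0, p.2.1, 0) := by
    rintro ⟨t, u, v⟩ h
    have h2 := uu_inj fr _ _ h
    have ht : -t = t := congrArg (fun p : K × K × K => p.1) h2
    have hv : -v = v := congrArg (fun p : K × K × K => p.2.2) h2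
    rw [hz t ht, hz v hv]
  rcases fx_eq hK σ hσ g (twisted_le_Fx fr σ hσ hg) with ⟨p, μ, rfl⟩ | ⟨p, μ, p', rfl⟩
  · left
    have e : uu m (-p.1, p.2.1, -p.2.2) * th m μ = uu m p * th m μ := by
      have h1 : th m (-1 : Kˣ) * (uu m p * th m μ) =
          uu m (-p.1, p.2.1, -p.2.2) * th m μ * th m (-1) := by
        rw [← mul_assoc, hconj, mul_assoc, hath, ← mul_assoc]
      rw [hc] at h1
      exact (mul_right_cancel h1).symm
    have e2 := hfix p (mul_right_cancel e)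
    exact ⟨p.2.1, μ, by rw [← e2]⟩
  · right
    have e : uu m (-p.1, p.2.1, -p.2.2) * th m μ * n0 K * uu m (-p'.1, p'.2.1, -p'.2.2) =
        uu m p * th m μ * n0 K * uu m p' := by
      have h1 := shift4 (th m (-1 : Kˣ)) (uu m p) _ (th m μ) (n0 K) (uu m p') _ (hconj p) (hath μ)
        (n0_conj_a hK) (hconj p')
      rw [hc] at h1
      exact (mul_right_cancel h1).symm
    obtain ⟨e1, -, e3⟩ := cellB _ _ _ _ _ _ (uu_memU m _) (th_memH m μ) (uu_memU m _) (uu_memU m p)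
      (th_memH m μ) (uu_memU m p') e
    have e1' := hfix p e1
    have e3' := hfix p' e3
    exact ⟨p.2.1, μ, p'.2.1, by rw [← e1', ← e3']⟩

noncomputable def dS (d : Kˣ) : S2 K :=
  uS (d : K) * lS (-(d : K)⁻¹) * uS (d : K) * uS (-1) * lS 1 * uS (-1)

theorem dS_00 (d : Kˣ) : (dS d) 0 0 = (d : K) := by
  have hd : (d : K) ≠ 0 := d.ne_zero
  simp only [dS, mul_entry, uS_00, uS_01, uS_10, uS_11, lS_00, lS_01, lS_10, lS_11]
  field_simp
  ring

theorem dS_01 (d : Kˣ) : (dS d) 0 1 = 0 := by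
  have hd : (d : K) ≠ 0 := d.ne_zero
  simp only [dS, mul_entry, uS_00, uS_01, uS_10, uS_11, lS_00, lS_01, lS_10, lS_11]
  field_simp
  ring

theorem dS_10 (d : Kˣ) : (dS d) 1 0 = 0 := by
  have hd : (d : K) ≠ 0 := d.ne_zero
  simp only [dS, mul_entry, uS_00, uS_01, uS_10, uS_11, lS_00, lS_01, lS_10, lS_11]
  field_simp
  ring

theorem dS_11 (d : Kˣ) : (dS d) 1 1 = (d : K)⁻¹ := by
  have hd : (d : K) ≠ 0 := d.ne_zero
  simp only [dS, mul_entry, uS_00, uS_01, uS_10, uS_11, lS_00, lS_01, lS_10, lS_11]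
  field_simp
  ring

theorem hS_eq (m : ℕ) (h3 : ((3 : ℕ) : K) = 0) (u : Kˣ) :
    uu m (0, (u : K), 0) * vv m ((u : K)⁻¹) * uu m (0, (u : K), 0) * uu m (0, -1, 0) * vv m (-1) *
      uu m (0, -1, 0) = hh (u ^ (3 ^ m) * u) ((u ^ (3 ^ m)) ^ 3 * u) := by
  have n1 : (-1 : K) ^ (3 ^ m) = -1 := (Odd.pow (by decide)).neg_one_pow
  have key := wordGL_eq_of_chk h3 (envL (u : K) ((u : K) ^ (3 ^ m)) (u : K)⁻¹ ((u : K)⁻¹ ^ (3 ^ m)) 0 0)
    W6a W6b chk6
  have e1 : W6a.map (fun x => (x.1, eval6 (envL (u : K) ((u : K) ^ (3 ^ m)) (u : K)⁻¹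
      ((u : K)⁻¹ ^ (3 ^ m)) 0 0) x.2)) =
      [(7, 0), (6, 0), (8, (u : K) ^ (3 ^ m)), (9, 0), (10, (u : K)), (11, 0)] ++
      [(4, 0), (5, 0), (3, -((u : K)⁻¹ ^ (3 ^ m))), (2, 0), (1, -(u : K)⁻¹), (0, 0)] ++
      [(7, 0), (6, 0), (8, (u : K) ^ (3 ^ m)), (9, 0), (10, (u : K)), (11, 0)] ++
      [(7, 0), (6, 0), (8, (-1 : K) ^ (3 ^ m)), (9, 0), (10, -1), (11, 0)] ++
      [(4, 0), (5, 0), (3, -((-1 : K) ^ (3 ^ m))), (2, 0), (1, -(-1 : K)), (0, 0)] ++
      [(7, 0), (6, 0), (8, (-1 : K) ^ (3 ^ m)), (9, 0), (10, -1), (11, 0)] := by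
    rw [n1]
    simp [W6a, eval6, evalM6, eex, envL]
  have e2 : W6b.map (fun x => (x.1, eval6 (envL (u : K) ((u : K) ^ (3 ^ m)) (u : K)⁻¹
      ((u : K)⁻¹ ^ (3 ^ m)) 0 0) x.2)) =
      chevG2.hWord 8 ((u : K) ^ (3 ^ m)) ++ chevG2.hWord 10 (u : K) := by
    have n8 : chevG2.neg 8 = 3 := by decide
    have n10 : chevG2.neg 10 = 1 := by decide
    unfold ChevalleyDatum.hWord ChevalleyDatum.nWord
    rw [n8, n10]
    simp [W6b, eval6, evalM6, eex, envL]
  rw [e1, e2] at key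
  have e3 : wordGL chevG2 hG2 (chevG2.hWord 8 ((u : K) ^ (3 ^ m)) ++ chevG2.hWord 10 (u : K)) =
      hh (u ^ (3 ^ m) * u) ((u ^ (3 ^ m)) ^ 3 * u) := by
    apply Units.ext
    rw [wordGL_append, Units.val_mul, hh_val, ← Units.val_pow_eq_pow_val, hW_val 8 (by norm_num),
      hW_val 10 (by norm_num), charDiag_mul, ← torusChi_mul]
    congr 1
    apply torusChi_congr
    · show (u ^ (3 ^ m)) ^ ((fnsOf chevG2).cor 8 0) * u ^ ((fnsOf chevG2).cor 10 0) = u ^ (3 ^ m) * u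
      rw [cor80, cor100, zpow_one, zpow_one]
    · show (u ^ (3 ^ m)) ^ ((fnsOf chevG2).cor 8 1) * u ^ ((fnsOf chevG2).cor 10 1) =
        (u ^ (3 ^ m)) ^ 3 * u
      rw [cor81, cor101, zpow_one]
      rfl
  rw [← e3, ← key, wordGL_append, wordGL_append, wordGL_append, wordGL_append, wordGL_append,
    ← reeU0, ← reeV0, ← reeU0, ← reeV0]
  rfl

theorem Phi_d {m : ℕ} (fr : Frob K m) (d : Kˣ) :
    Phi fr (dS d) = hh (d ^ (3 ^ m) * d) ((d ^ (3 ^ m)) ^ 3 * d) := by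
  rw [← hS_eq m fr.h3 d]
  unfold dS
  simp only [map_mul, Phi_u, Phi_l, neg_neg]

theorem th_sq_Phi {m : ℕ} (fr : Frob K m) (ν : Kˣ) :
    th m (ν ^ 2) = Phi fr (dS ((ν ^ (3 ^ m)) ^ 3 * ν⁻¹)) := by
  rw [Phi_d]
  have e1 : ((ν ^ (3 ^ m)) ^ 3 * ν⁻¹) ^ (3 ^ m) = ν * (ν ^ (3 ^ m))⁻¹ := by
    rw [mul_pow, inv_pow, ← pow_mul, mul_comm 3 (3 ^ m), pow_mul, tri_units fr]
  rw [e1]
  have e2 : ν * (ν ^ (3 ^ m))⁻¹ * ((ν ^ (3 ^ m)) ^ 3 * ν⁻¹) = (ν ^ 2) ^ (3 ^ m) := by
    apply Units.ext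
    simp only [Units.val_mul, Units.val_pow_eq_pow_val, Units.val_inv_eq_inv_val]
    have hν : (ν : K) ≠ 0 := ν.ne_zero
    have hA : (ν : K) ^ (3 ^ m) ≠ 0 := pow_ne_zero _ hν
    field_simp
    ring
  have e3 : (ν * (ν ^ (3 ^ m))⁻¹) ^ 3 * ((ν ^ (3 ^ m)) ^ 3 * ν⁻¹) = ν ^ 2 := by
    apply Units.ext
    simp only [Units.val_mul, Units.val_pow_eq_pow_val, Units.val_inv_eq_inv_val]
    have hν : (ν : K) ≠ 0 := ν.ne_zero
    have hA : (ν : K) ^ (3 ^ m) ≠ 0 := pow_ne_zero _ hν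
    field_simp
  rw [e2, e3]
  rfl

theorem th_Phi [Fintype K] {m : ℕ} (hK : Fintype.card K = 3 ^ (2 * m + 1)) (fr : Frob K m) (μ : Kˣ) :
    ∃ g : S2 K, th m μ = Phi fr g ∨ th m μ = th m (-1) * Phi fr g := by
  obtain ⟨k, hk⟩ : ∃ k, 3 ^ (2 * m + 1) + 1 = 4 * k := by
    have h9 : 3 ^ (2 * m + 1) % 4 = 3 := by
      rw [pow_succ, pow_mul, Nat.mul_mod, Nat.pow_mod]
      norm_num
    exact ⟨(3 ^ (2 * m + 1) + 1) / 4, by omega⟩
  have hq : (μ : K) ^ (3 ^ (2 * m + 1)) = μ := by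
    rw [← hK]
    exact FiniteField.pow_card _
  have h4 : (((μ : K) ^ k) ^ 2) ^ 2 = (μ : K) ^ 2 := by
    rw [← pow_mul, ← pow_mul]
    have e : k * (2 * 2) = 4 * k := by ring
    rw [e, ← hk, pow_succ, hq]
    ring
  rcases eq_or_eq_neg_of_sq_eq_sq _ _ h4 with h | h
  · have e : (μ ^ k) ^ 2 = μ := Units.ext (by
      rw [Units.val_pow_eq_pow_val, Units.val_pow_eq_pow_val]
      exact h)
    refine ⟨dS (((μ ^ k) ^ (3 ^ m)) ^ 3 * (μ ^ k)⁻¹), Or.inl ?_⟩
    rw [← th_sq_Phi, e]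
  · have e : -1 * (μ ^ k) ^ 2 = μ := Units.ext (by
      rw [Units.val_mul, Units.val_neg, Units.val_one, Units.val_pow_eq_pow_val,
        Units.val_pow_eq_pow_val, h]
      ring)
    refine ⟨dS (((μ ^ k) ^ (3 ^ m)) ^ 3 * (μ ^ k)⁻¹), Or.inr ?_⟩
    rw [← th_sq_Phi, ← th_mul, e]

theorem hh_one : hh (1 : Kˣ) 1 = 1 := by
  have h := th_one (K := K) 0
  unfold th at h
  rwa [one_pow] at h

noncomputable def wS (K : Type*) [Field K] : S2 K := uS 1 * lS (-1) * uS 1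

theorem wS_conj (t : K) : wS K * uS t = lS (-t) * wS K := by
  apply ext2 <;>
    simp only [wS, mul_entry, uS_00, uS_01, uS_10, uS_11, lS_00, lS_01, lS_10, lS_11] <;> ring

theorem vv_inj0 {m : ℕ} (fr : Frob K m) (x : K) (h : vv m x = 1) : x = 0 := by
  have h1 : Phi fr (lS (-x)) = 1 := by rw [Phi_l, neg_neg, h]
  have h2 := congrArg (Phi fr) (wS_conj (K := K) x)
  rw [map_mul, map_mul, h1, one_mul, Phi_u] at h2
  have h3 : uu m (0, x, 0) = 1 := mul_eq_left.mp h2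
  rw [← uu_zero fr] at h3
  have h4 := uu_inj fr _ _ h3
  exact congrArg (fun p : K × K × K => p.2.1) h4

def Msub {m : ℕ} (fr : Frob K m) : Subgroup (GL chevG2.Idx K) where
  carrier := {c | ∃ g : S2 K, c = Phi fr g ∨ c = th m (-1 : Kˣ) * Phi fr g}
  mul_mem' := by
    rintro x y ⟨g, rfl | rfl⟩ ⟨g', rfl | rfl⟩
    · exact ⟨g * g', Or.inl (map_mul _ _ _).symm⟩
    · refine ⟨g * g', Or.inr ?_⟩
      rw [map_mul, ← mul_assoc, ← a_comm_Phi fr g, mul_assoc]
    · refine ⟨g * g', Or.inr ?_⟩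
      rw [map_mul, mul_assoc]
    · refine ⟨g * g', Or.inl ?_⟩
      rw [map_mul, mul_assoc, ← mul_assoc (Phi fr g), ← a_comm_Phi fr g, mul_assoc, ← mul_assoc,
        a_sq, one_mul]
  one_mem' := ⟨1, Or.inl (map_one _).symm⟩
  inv_mem' := by
    rintro x ⟨g, rfl | rfl⟩
    · exact ⟨g⁻¹, Or.inl (map_inv _ _).symm⟩
    · refine ⟨g⁻¹, Or.inr ?_⟩
      have ha : (th m (-1 : Kˣ))⁻¹ = th m (-1 : Kˣ) := inv_eq_of_mul_eq_one_left (a_sq m)
      rw [mul_inv_rev, ha, ← map_inv]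
      exact (a_comm_Phi fr g⁻¹).symm

theorem mem_M_iff {m : ℕ} (fr : Frob K m) (c : GL chevG2.Idx K) :
    c ∈ Msub fr ↔ ∃ g : S2 K, c = Phi fr g ∨ c = th m (-1 : Kˣ) * Phi fr g := Iff.rfl

theorem mem_M_Phi {m : ℕ} (fr : Frob K m) (g : S2 K) : Phi fr g ∈ Msub fr := ⟨g, Or.inl rfl⟩

theorem mem_M_uu {m : ℕ} (fr : Frob K m) (s : K) : uu m (0, s, 0) ∈ Msub fr :=
  ⟨uS s, Or.inl (Phi_u fr s).symm⟩

theorem mem_M_th [Fintype K] {m : ℕ} (hK : Fintype.card K = 3 ^ (2 * m + 1)) (fr : Frob K m) (μ : Kˣ) :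
    th m μ ∈ Msub fr := th_Phi hK fr μ

theorem n0_mem_M [Fintype K] {m : ℕ} (hK : Fintype.card K = 3 ^ (2 * m + 1)) (fr : Frob K m) :
    n0 K ∈ Msub fr := by
  have hw := Phi_memR fr (wS K)
  rcases cent_form hK _ hw (a_comm_Phi fr (wS K)) with ⟨s, μ, e⟩ | ⟨s, μ, s', e⟩
  · exfalso
    have hB : Phi fr (wS K) ∈ chevG2.borelSubgroup K := by
      rw [e]
      exact mul_mem (ChevBN3.U_le_B chevG2 (uu_memU m _)) (ChevBN3.H_le_B chevG2 (th_memH m μ))
    have h1 := ReeSyl.B_norm_U _ _ hB (uu_memU m ((0 : K), (1 : K), (0 : K)))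
    have h2 : Phi fr (wS K) * uu m ((0 : K), (1 : K), (0 : K)) * (Phi fr (wS K))⁻¹ = vv m 1 := by
      rw [← Phi_u fr, ← map_mul, wS_conj, map_mul, mul_inv_cancel_right, Phi_l, neg_neg]
    rw [h2] at h1
    have h3 : vv m (1 : K) ∈ chevG2.posUnipotent K ⊓ chevG2.negUnipotent K :=
      Subgroup.mem_inf.mpr ⟨h1, vv_memV m 1⟩
    rw [ReeDich.U_inf_V chevG2 hG2, Subgroup.mem_bot] at h3
    exact one_ne_zero (vv_inj0 fr 1 h3)
  · have e2 : n0 K = (th m μ)⁻¹ * (uu m (0, s, 0))⁻¹ * Phi fr (wS K) * (uu m (0, s', 0))⁻¹ := by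
      rw [e]
      group
    rw [e2]
    exact mul_mem (mul_mem (mul_mem (inv_mem (mem_M_th hK fr μ)) (inv_mem (mem_M_uu fr s)))
      (mem_M_Phi fr _)) (inv_mem (mem_M_uu fr s'))

theorem cent_mem_M [Fintype K] {m : ℕ} (hK : Fintype.card K = 3 ^ (2 * m + 1)) (fr : Frob K m)
    (c : GL chevG2.Idx K) (hc : c ∈ twistedG2 K (3 ^ m))
    (hcomm : th m (-1 : Kˣ) * c = c * th m (-1 : Kˣ)) : c ∈ Msub fr := by
  rcases cent_form hK c hc hcomm with ⟨s, μ, rfl⟩ | ⟨s, μ, s', rfl⟩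
  · exact mul_mem (mem_M_uu fr s) (mem_M_th hK fr μ)
  · exact mul_mem (mul_mem (mul_mem (mem_M_uu fr s) (mem_M_th hK fr μ)) (n0_mem_M hK fr))
      (mem_M_uu fr s')

theorem decomp_ne (g : S2 K) (hc : g 1 0 ≠ 0) :
    g = uS ((g 0 0 - 1) / g 1 0) * lS (g 1 0) * uS ((g 1 1 - 1) / g 1 0) := by
  have hdet := det_eq g
  apply ext2
  · simp only [mul_entry, lS_00, lS_01, lS_10, lS_11, uS_00, uS_01, uS_10, uS_11]
    field_simp
    ring
  · simp only [mul_entry, lS_00, lS_01, lS_10, lS_11, uS_00, uS_01, uS_10, uS_11]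
    field_simp
    linear_combination (-1 : K) * hdet
  · simp only [mul_entry, lS_00, lS_01, lS_10, lS_11, uS_00, uS_01, uS_10, uS_11]
    ring
  · simp only [mul_entry, lS_00, lS_01, lS_10, lS_11, uS_00, uS_01, uS_10, uS_11]
    field_simp
    ring

theorem decomp_zero (g : S2 K) (hc : g 1 0 = 0) (d : Kˣ) (hd : (d : K) = g 0 0) :
    g = uS (g 0 1 * g 0 0) * dS d := by
  have hdet := det_eq g
  rw [hc, mul_zero, sub_zero] at hdet
  have hd0 : g 0 0 ≠ 0 := by
    intro h0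
    rw [h0, zero_mul] at hdet
    exact zero_ne_one hdet
  apply ext2
  · simp only [mul_entry, uS_00, uS_01, uS_10, uS_11, dS_00, dS_01, dS_10, dS_11, hd]
    ring
  · simp only [mul_entry, uS_00, uS_01, uS_10, uS_11, dS_00, dS_01, dS_10, dS_11, hd]
    field_simp
    ring
  · simp only [mul_entry, uS_00, uS_01, uS_10, uS_11, dS_00, dS_01, dS_10, dS_11, hd, hc]
    ring
  · simp only [mul_entry, uS_00, uS_01, uS_10, uS_11, dS_00, dS_01, dS_10, dS_11, hd]
    rw [zero_mul, zero_add, one_mul]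
    exact eq_inv_of_mul_eq_one_right hdet

theorem Phi_ker {m : ℕ} (fr : Frob K m) (g : S2 K)
    (h : Phi fr g = 1 ∨ Phi fr g = th m (-1 : Kˣ)) :
    (g 0 1 = 0 ∧ g 1 0 = 0 ∧ g 0 0 = g 1 1) ∧ Phi fr g = 1 := by
  have hH : Phi fr g ∈ chevG2.diagonalSubgroup K := by
    rcases h with h | h
    · rw [h]
      exact one_mem _
    · rw [h]
      exact th_memH m _
  by_cases hc : g 1 0 = 0
  · have hdet := det_eq g
    rw [hc, mul_zero, sub_zero] at hdet
    have hd0 : g 0 0 ≠ 0 := by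
      intro h0
      rw [h0, zero_mul] at hdet
      exact zero_ne_one hdet
    obtain ⟨d, hd⟩ : ∃ d : Kˣ, (d : K) = g 0 0 := ⟨Units.mk0 (g 0 0) hd0, rfl⟩
    have e := decomp_zero g hc d hd
    have hPhi : Phi fr g =
        uu m (0, g 0 1 * g 0 0, 0) * hh (d ^ (3 ^ m) * d) ((d ^ (3 ^ m)) ^ 3 * d) := by
      conv_lhs => rw [e]
      rw [map_mul, Phi_u, Phi_d]
    have key : ∀ ε : Kˣ, Phi fr g = hh ε ε →
        g 0 1 = 0 ∧ d ^ (3 ^ m) * d = ε ∧ (d ^ (3 ^ m)) ^ 3 * d = ε := by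
      intro ε hε
      have e1 : uu m (0, g 0 1 * g 0 0, 0) * hh (d ^ (3 ^ m) * d) ((d ^ (3 ^ m)) ^ 3 * d) =
          uu m (0, 0, 0) * hh ε ε := by
        rw [← hPhi, hε, uu_zero fr, one_mul]
      obtain ⟨e2, e3⟩ := UH_unique _ _ _ _ (uu_memU m _) (uu_memU m _) (hh_mem_H _ _) (hh_mem_H _ _) e1
      have e4 := uu_inj fr _ _ e2
      have e5 : g 0 1 * g 0 0 = 0 := congrArg (fun p : K × K × K => p.2.1) e4
      obtain ⟨e6, e7⟩ := hh_inj _ _ _ _ e3
      exact ⟨(mul_eq_zero.mp e5).resolve_right hd0, e6, e7⟩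
    have hd2 : ∀ ε : Kˣ, d ^ (3 ^ m) * d = ε → (d ^ (3 ^ m)) ^ 3 * d = ε → (d = 1 ∨ d = -1) := by
      intro ε h1 h2
      have e0 : (d ^ (3 ^ m)) ^ 3 * d = (d ^ (3 ^ m)) ^ 2 * (d ^ (3 ^ m) * d) := by
        rw [pow_succ, mul_assoc]
      rw [e0, h1] at h2
      have h3 : (d ^ (3 ^ m)) ^ 2 = 1 := by
        have h5 : (d ^ (3 ^ m)) ^ 2 * ε = 1 * ε := by
          rw [one_mul]
          exact h2
        exact mul_right_cancel h5
      have h4 : (((d : K) ^ 2) ^ (3 ^ m)) = 1 := by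
        have := congrArg Units.val h3
        rw [Units.val_pow_eq_pow_val, Units.val_pow_eq_pow_val, Units.val_one] at this
        rw [← this]
        ring
      have h6 := fr.tri ((d : K) ^ 2)
      rw [h4, one_pow, one_pow] at h6
      have h7 : (d : K) * (d : K) = 1 := by
        rw [← pow_two]
        exact h6.symm
      rcases mul_self_eq_one_iff.mp h7 with h8 | h8
      · left
        exact Units.ext h8
      · right
        exact Units.ext (by rw [h8, Units.val_neg, Units.val_one])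
    have hd3 : (d = 1 ∨ d = -1) → d ^ (3 ^ m) * d = 1 := by
      rintro (rfl | rfl)
      · rw [one_pow, one_mul]
      · rw [(Odd.pow (by decide) : Odd (3 ^ m)).neg_one_pow, neg_mul_neg, one_mul]
    rcases h with h | h
    · obtain ⟨k1, k2, k3⟩ := key 1 (by rw [h, hh_one])
      have hdd := hd2 1 k2 k3
      refine ⟨⟨k1, hc, ?_⟩, h⟩
      rcases hdd with rfl | rfl
      · rw [Units.val_one] at hd
        rw [← hd, one_mul] at hdet
        rw [← hd, hdet]
      · rw [Units.val_neg, Units.val_one] at hd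
        rw [← hd] at hdet
        rw [← hd]
        linear_combination hdet
    · exfalso
      obtain ⟨k1, k2, k3⟩ := key (-1) (by rw [h, th_neg])
      have hdd := hd2 (-1) k2 k3
      rw [hd3 hdd] at k2
      exact neg_one_ne fr k2.symm
  · exfalso
    have e := decomp_ne g hc
    have hP : Phi fr g = uu m (0, (g 0 0 - 1) / g 1 0, 0) * vv m (-(g 1 0)) *
        uu m (0, (g 1 1 - 1) / g 1 0, 0) := by
      conv_lhs => rw [e]
      rw [map_mul, map_mul, Phi_u, Phi_u, Phi_l]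
    have hvB : vv m (-(g 1 0)) ∈ chevG2.borelSubgroup K := by
      have e2 : vv m (-(g 1 0)) = (uu m (0, (g 0 0 - 1) / g 1 0, 0))⁻¹ * Phi fr g *
          (uu m (0, (g 1 1 - 1) / g 1 0, 0))⁻¹ := by
        rw [hP]
        group
      rw [e2]
      exact mul_mem (mul_mem (inv_mem (ChevBN3.U_le_B chevG2 (uu_memU m _)))
        (ChevBN3.H_le_B chevG2 hH)) (inv_mem (ChevBN3.U_le_B chevG2 (uu_memU m _)))
    have h3 : vv m (-(g 1 0)) ∈ chevG2.borelSubgroup K ⊓ chevG2.negUnipotent K :=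
      Subgroup.mem_inf.mpr ⟨hvB, vv_memV m _⟩
    rw [ChevBruhat.borel_inf_neg chevG2 hG2, Subgroup.mem_bot] at h3
    have h4 := vv_inj0 fr _ h3
    exact hc (neg_eq_zero.mp h4)

theorem center_iff (g : S2 K) :
    g ∈ Subgroup.center (S2 K) ↔ g 0 1 = 0 ∧ g 1 0 = 0 ∧ g 0 0 = g 1 1 := by
  rw [Matrix.SpecialLinearGroup.mem_center_iff]
  constructor
  · rintro ⟨r, -, hr⟩
    have h01 := congrFun (congrFun hr 0) 1
    have h10 := congrFun (congrFun hr 1) 0
    have h00 := congrFun (congrFun hr 0) 0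
    have h11 := congrFun (congrFun hr 1) 1
    simp [Matrix.scalar_apply] at h01 h10 h00 h11
    exact ⟨h01.symm, h10.symm, by rw [← h00, ← h11]⟩
  · rintro ⟨h01, h10, h00⟩
    refine ⟨g 0 0, ?_, ?_⟩
    · have hdet := det_eq g
      rw [h01, zero_mul, sub_zero, ← h00] at hdet
      rw [Fintype.card_fin, pow_two]
      exact hdet
    · ext i j
      fin_cases i <;> fin_cases j <;> simp [Matrix.scalar_apply, h01, h10, h00]

theorem Phi_center {m : ℕ} (fr : Frob K m) (g : S2 K) (hg : g ∈ Subgroup.center (S2 K)) :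
    Phi fr g = 1 := by
  obtain ⟨h01, h10, h00⟩ := (center_iff g).mp hg
  have hdet := det_eq g
  rw [h10, mul_zero, sub_zero, ← h00] at hdet
  have hd0 : g 0 0 ≠ 0 := by
    intro h0
    rw [h0, zero_mul] at hdet
    exact zero_ne_one hdet
  obtain ⟨d, hd⟩ : ∃ d : Kˣ, (d : K) = g 0 0 := ⟨Units.mk0 (g 0 0) hd0, rfl⟩
  have e := decomp_zero g h10 d hd
  rw [e, map_mul, Phi_u, Phi_d, h01, zero_mul, uu_zero fr, one_mul]
  have hdd : d = 1 ∨ d = -1 := by
    rw [← hd] at hdet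
    rcases mul_self_eq_one_iff.mp hdet with h8 | h8
    · left
      exact Units.ext h8
    · right
      exact Units.ext (by rw [h8, Units.val_neg, Units.val_one])
  rcases hdd with rfl | rfl
  · rw [one_pow, one_pow, one_mul, hh_one]
  · rw [(Odd.pow (by decide) : Odd (3 ^ m)).neg_one_pow, neg_mul_neg, one_mul,
      (by decide : Odd 3).neg_one_pow, neg_mul_neg, one_mul, hh_one]

theorem z2_cases (i : Multiplicative (ZMod 2)) : i = 1 ∨ i = Multiplicative.ofAdd 1 := by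
  revert i
  decide

theorem z2_ne : (Multiplicative.ofAdd (1 : ZMod 2)) ≠ 1 := by decide

theorem z2_sq : (Multiplicative.ofAdd (1 : ZMod 2)) * Multiplicative.ofAdd 1 = 1 := by decide

def zf {G : Type*} [Group G] (a : G) (ha : a * a = 1) : Multiplicative (ZMod 2) →* G :=
  MonoidHom.mk' (fun i => if i = 1 then 1 else a) (by
    intro i j
    rcases z2_cases i with rfl | rfl <;> rcases z2_cases j with rfl | rfl
    · simp
    · simp
    · simp
    · simp [z2_ne, z2_sq, ha])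

theorem zf_gen {G : Type*} [Group G] (a : G) (ha : a * a = 1) :
    zf a ha (Multiplicative.ofAdd 1) = a := by
  show (if (Multiplicative.ofAdd (1 : ZMod 2)) = 1 then (1 : G) else a) = a
  rw [if_neg z2_ne]

theorem key_inj {m : ℕ} (fr : Frob K m) (x : GL chevG2.Idx K) (hx : x = 1 ∨ x = th m (-1 : Kˣ))
    (g : S2 K) (h : x * Phi fr g = 1) : x = 1 ∧ g ∈ Subgroup.center (S2 K) := by
  have h1 : Phi fr g = 1 ∨ Phi fr g = th m (-1 : Kˣ) := by
    rcases hx with rfl | rfl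
    · left
      rwa [one_mul] at h
    · right
      have ha : (th m (-1 : Kˣ))⁻¹ = th m (-1 : Kˣ) := inv_eq_of_mul_eq_one_left (a_sq m)
      rw [← ha]
      exact eq_inv_of_mul_eq_one_right h
  obtain ⟨hcen, h2⟩ := Phi_ker fr g h1
  rw [h2, mul_one] at h
  exact ⟨h, (center_iff g).mpr hcen⟩

theorem cent_iso [Fintype K] {m : ℕ} (hK : Fintype.card K = 3 ^ (2 * m + 1))
    (a : ↥(twistedG2 K (3 ^ m))) (haH : (a : GL chevG2.Idx K) ∈ chevG2.diagonalSubgroup K)
    (ha1 : a ≠ 1) (ha2 : a * a = 1) :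
    Nonempty (↥(Subgroup.centralizer {a}) ≃*
      Multiplicative (ZMod 2) × Matrix.ProjectiveSpecialLinearGroup (Fin 2) K) := by
  have fr := frob_of_card hK
  have hath : (a : GL chevG2.Idx K) = th m (-1 : Kˣ) :=
    a_eq hK a a.2 haH (fun h => ha1 (Subtype.ext h)) (congrArg Subtype.val ha2)
  have hΦC : ∀ g : S2 K, ((Phi fr).codRestrict (twistedG2 K (3 ^ m)) (Phi_memR fr)) g ∈
      Subgroup.centralizer {a} := by
    intro g
    rw [Subgroup.mem_centralizer_singleton_iff]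
    apply Subtype.ext
    show Phi fr g * (a : GL chevG2.Idx K) = (a : GL chevG2.Idx K) * Phi fr g
    rw [hath]
    exact (a_comm_Phi fr g).symm
  let ΦC : S2 K →* ↥(Subgroup.centralizer {a}) :=
    ((Phi fr).codRestrict (twistedG2 K (3 ^ m)) (Phi_memR fr)).codRestrict (Subgroup.centralizer {a}) hΦC
  have hker : Subgroup.center (S2 K) ≤ ΦC.ker := by
    intro g hg
    rw [MonoidHom.mem_ker]
    apply Subtype.ext
    apply Subtype.ext
    exact Phi_center fr g hg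
  let ΦP : Matrix.ProjectiveSpecialLinearGroup (Fin 2) K →* ↥(Subgroup.centralizer {a}) :=
    QuotientGroup.lift _ ΦC hker
  let aC : ↥(Subgroup.centralizer {a}) := ⟨a, Subgroup.mem_centralizer_singleton_iff.mpr rfl⟩
  have haC2 : aC * aC = 1 := Subtype.ext ha2
  have haCc : ∀ y : ↥(Subgroup.centralizer {a}), Commute aC y := by
    intro y
    apply Subtype.ext
    exact (Subgroup.mem_centralizer_singleton_iff.mp y.2).symm
  have hcomm : ∀ (i : Multiplicative (ZMod 2)) (x : Matrix.ProjectiveSpecialLinearGroup (Fin 2) K),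
      Commute (zf aC haC2 i) (ΦP x) := by
    intro i x
    rcases z2_cases i with rfl | rfl
    · rw [map_one]
      exact Commute.one_left _
    · rw [zf_gen]
      exact haCc _
  let Ψ := (zf aC haC2).noncommCoprod ΦP hcomm
  have hinj : Function.Injective Ψ := by
    rw [injective_iff_map_eq_one]
    rintro ⟨i, x⟩ h
    induction x using QuotientGroup.induction_on with
    | H g =>
      have h1 : zf aC haC2 i * ΦC g = 1 := h
      have h2 : ((zf aC haC2 i : ↥(Subgroup.centralizer {a})) : ↥(twistedG2 K (3 ^ m))).1 *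
          Phi fr g = 1 :=
        congrArg (fun y : ↥(Subgroup.centralizer {a}) =>
          ((y : ↥(twistedG2 K (3 ^ m))) : GL chevG2.Idx K)) h1
      have h3 : ((zf aC haC2 i : ↥(Subgroup.centralizer {a})) : ↥(twistedG2 K (3 ^ m))).1 = 1 ∨
          ((zf aC haC2 i : ↥(Subgroup.centralizer {a})) : ↥(twistedG2 K (3 ^ m))).1 =
            th m (-1 : Kˣ) := by
        rcases z2_cases i with rfl | rfl
        · left
          rw [map_one]
          rfl
        · right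
          rw [zf_gen]
          exact hath
      obtain ⟨h4, h5⟩ := key_inj fr _ h3 g h2
      have hi : i = 1 := by
        rcases z2_cases i with rfl | rfl
        · rfl
        · exfalso
          rw [zf_gen] at h4
          apply a_ne fr
          rw [← hath]
          exact h4
      rw [hi]
      exact Prod.ext rfl ((QuotientGroup.eq_one_iff g).mpr h5)
  have hsurj : Function.Surjective Ψ := by
    intro c
    have hc : th m (-1 : Kˣ) * ((c : ↥(twistedG2 K (3 ^ m))) : GL chevG2.Idx K) =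
        ((c : ↥(twistedG2 K (3 ^ m))) : GL chevG2.Idx K) * th m (-1 : Kˣ) := by
      have h1 := Subgroup.mem_centralizer_singleton_iff.mp c.2
      have h2 := congrArg Subtype.val h1
      rw [← hath]
      exact h2.symm
    obtain ⟨g, hg | hg⟩ := (mem_M_iff fr _).mp (cent_mem_M hK fr _ c.1.2 hc)
    · refine ⟨(1, QuotientGroup.mk g), ?_⟩
      apply Subtype.ext
      apply Subtype.ext
      rw [hg]
      show ((zf aC haC2 1 * ΦC g : ↥(Subgroup.centralizer {a})) :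
        ↥(twistedG2 K (3 ^ m))).1 = Phi fr g
      rw [map_one, one_mul]
      rfl
    · refine ⟨(Multiplicative.ofAdd 1, QuotientGroup.mk g), ?_⟩
      apply Subtype.ext
      apply Subtype.ext
      rw [hg]
      show ((zf aC haC2 (Multiplicative.ofAdd 1) * ΦC g : ↥(Subgroup.centralizer {a})) :
        ↥(twistedG2 K (3 ^ m))).1 = th m (-1 : Kˣ) * Phi fr g
      rw [zf_gen, ← hath]
      rfl
  exact ⟨(MulEquiv.ofBijective Ψ ⟨hinj, hsurj⟩).symm⟩

theorem card_mod16 (m : ℕ) :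
    ((3 ^ (2 * m + 1)) ^ 3 * (3 ^ (2 * m + 1) - 1) * ((3 ^ (2 * m + 1)) ^ 3 + 1)) % 16 = 8 := by
  have h9 : 9 ^ m % 16 = 1 ∨ 9 ^ m % 16 = 9 := by
    induction m with
    | zero =>
      left
      norm_num
    | succ k ih =>
      rw [pow_succ, Nat.mul_mod]
      rcases ih with h | h <;> rw [h] <;> norm_num
  have hq : 3 ^ (2 * m + 1) = 3 * 9 ^ m := by
    rw [pow_succ, pow_mul]
    norm_num
    ring
  have hq16 : 3 ^ (2 * m + 1) % 16 = 3 ∨ 3 ^ (2 * m + 1) % 16 = 11 := by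
    rw [hq]
    rcases h9 with h | h
    · left
      omega
    · right
      omega
  generalize 3 ^ (2 * m + 1) = q at hq16
  have hc := Nat.pow_mod q 3 16
  rw [Nat.mul_mod, Nat.mul_mod (q ^ 3) (q - 1) 16]
  rcases hq16 with h | h
  · rw [h] at hc
    have h1 : (q - 1) % 16 = 2 := by omega
    have h2 : (q ^ 3 + 1) % 16 = 12 := by
      have : q ^ 3 % 16 = 11 := by rw [hc]
      omega
    rw [h1, h2, hc]
  · rw [h] at hc
    have h1 : (q - 1) % 16 = 10 := by omega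
    have h2 : (q ^ 3 + 1) % 16 = 4 := by
      have : q ^ 3 % 16 = 3 := by rw [hc]
      omega
    rw [h1, h2, hc]

theorem syl2_card [Fintype K] {m : ℕ} (hK : Fintype.card K = 3 ^ (2 * m + 1))
    (S : Sylow 2 ↥(twistedG2 K (3 ^ m))) : Nat.card S = 8 := by
  have hN := card_mod16 m
  rw [← card_ree hK] at hN
  rw [Sylow.card_eq_multiplicity]
  have hne : Nat.card ↥(twistedG2 K (3 ^ m)) ≠ 0 := by
    intro h
    rw [h] at hN
    norm_num at hN
  have h3 : 3 ≤ (Nat.card ↥(twistedG2 K (3 ^ m))).factorization 2 := by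
    rw [← Nat.Prime.pow_dvd_iff_le_factorization Nat.prime_two hne]
    apply Nat.dvd_of_mod_eq_zero
    have e : (2 : ℕ) ^ 3 = 8 := by norm_num
    rw [e]
    omega
  have h4 : ¬ 4 ≤ (Nat.card ↥(twistedG2 K (3 ^ m))).factorization 2 := by
    rw [← Nat.Prime.pow_dvd_iff_le_factorization Nat.prime_two hne]
    intro hd
    have h5 := Nat.mod_eq_zero_of_dvd hd
    have e : (2 : ℕ) ^ 4 = 16 := by norm_num
    rw [e] at h5
    omega
  have h5 : (Nat.card ↥(twistedG2 K (3 ^ m))).factorization 2 = 3 := by omega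
  rw [h5]
  norm_num

noncomputable def w2 (α β : K) (h : α ^ 2 + β ^ 2 = -1) : S2 K :=
  ⟨!![α, β; β, -α], by
    rw [Matrix.det_fin_two_of]
    linear_combination (-1 : K) * h⟩

theorem w2_00 (α β : K) (h : α ^ 2 + β ^ 2 = -1) : (w2 α β h) 0 0 = α := rfl
theorem w2_01 (α β : K) (h : α ^ 2 + β ^ 2 = -1) : (w2 α β h) 0 1 = β := rfl
theorem w2_10 (α β : K) (h : α ^ 2 + β ^ 2 = -1) : (w2 α β h) 1 0 = β := rfl
theorem w2_11 (α β : K) (h : α ^ 2 + β ^ 2 = -1) : (w2 α β h) 1 1 = -α := rfl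

theorem wS_00 : (wS K) 0 0 = 0 := by
  simp only [wS, mul_entry, uS_00, uS_01, uS_10, uS_11, lS_00, lS_01, lS_10, lS_11]
  ring

theorem wS_01 : (wS K) 0 1 = 1 := by
  simp only [wS, mul_entry, uS_00, uS_01, uS_10, uS_11, lS_00, lS_01, lS_10, lS_11]
  ring

theorem wS_10 : (wS K) 1 0 = -1 := by
  simp only [wS, mul_entry, uS_00, uS_01, uS_10, uS_11, lS_00, lS_01, lS_10, lS_11]
  ring

theorem wS_11 : (wS K) 1 1 = 0 := by
  simp only [wS, mul_entry, uS_00, uS_01, uS_10, uS_11, lS_00, lS_01, lS_10, lS_11]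
  ring

theorem syl2_exp [Fintype K] {m : ℕ} (hK : Fintype.card K = 3 ^ (2 * m + 1))
    (S : Sylow 2 ↥(twistedG2 K (3 ^ m))) : ∀ x ∈ S, x * x = 1 := by
  have fr := frob_of_card hK
  have h3' : (3 : K) = 0 := by
    have e : (3 : K) = ((3 : ℕ) : K) := by norm_num
    rw [e]
    exact fr.h3
  have hz : ∀ t : K, t = -t → t = 0 := fun t h => by linear_combination t * h3' - h
  have hodd : Fintype.card K % 2 = 1 := by
    rw [hK]
    exact Nat.odd_iff.mp (Odd.pow (by decide))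
  obtain ⟨α, β, hαβ⟩ := ReeGen.sum_two_sq hodd (-1 : K)
  have hno : ¬ (α = 0 ∧ β = 0) := by
    rintro ⟨rfl, rfl⟩
    simp at hαβ
  let ΦR : S2 K →* ↥(twistedG2 K (3 ^ m)) :=
    (Phi fr).codRestrict (twistedG2 K (3 ^ m)) (Phi_memR fr)
  let aR : ↥(twistedG2 K (3 ^ m)) := ⟨th m (-1 : Kˣ), hfix_mem hK (-1)⟩
  have ha2 : aR * aR = 1 := Subtype.ext (a_sq m)
  have hw1 : wS K * wS K ∈ Subgroup.center (S2 K) := by
    rw [center_iff]
    refine ⟨?_, ?_, ?_⟩ <;> simp only [mul_entry, wS_00, wS_01, wS_10, wS_11] <;> ring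
  have hw2 : w2 α β hαβ * w2 α β hαβ ∈ Subgroup.center (S2 K) := by
    rw [center_iff]
    refine ⟨?_, ?_, ?_⟩ <;> simp only [mul_entry, w2_00, w2_01, w2_10, w2_11] <;> ring
  have hb2 : ΦR (wS K) * ΦR (wS K) = 1 := by
    rw [← map_mul]
    apply Subtype.ext
    exact Phi_center fr _ hw1
  have hc2 : ΦR (w2 α β hαβ) * ΦR (w2 α β hαβ) = 1 := by
    rw [← map_mul]
    apply Subtype.ext
    exact Phi_center fr _ hw2
  have hbc : ΦR (wS K) * ΦR (w2 α β hαβ) = ΦR (w2 α β hαβ) * ΦR (wS K) := by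
    have e : wS K * w2 α β hαβ = (wS K * wS K) * (w2 α β hαβ * wS K) := by
      apply ext2 <;>
        simp only [mul_entry, wS_00, wS_01, wS_10, wS_11, w2_00, w2_01, w2_10, w2_11] <;> ring
    have e1 : ΦR (wS K * wS K) = 1 := by
      apply Subtype.ext
      exact Phi_center fr _ hw1
    rw [← map_mul, e, map_mul, e1, one_mul, map_mul]
  have hab : ∀ g : S2 K, aR * ΦR g = ΦR g * aR := fun g => Subtype.ext (a_comm_Phi fr g)
  let F23 : Multiplicative (ZMod 2) × Multiplicative (ZMod 2) →* ↥(twistedG2 K (3 ^ m)) :=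
    (zf (ΦR (wS K)) hb2).noncommCoprod (zf (ΦR (w2 α β hαβ)) hc2) (by
      intro j k
      rcases z2_cases j with rfl | rfl <;> rcases z2_cases k with rfl | rfl
      · rw [map_one (zf (ΦR (wS K)) hb2)]
        exact Commute.one_left _
      · rw [map_one (zf (ΦR (wS K)) hb2)]
        exact Commute.one_left _
      · rw [map_one (zf (ΦR (w2 α β hαβ)) hc2)]
        exact Commute.one_right _
      · rw [zf_gen, zf_gen]
        exact hbc)
  have hF23 : ∀ y : Multiplicative (ZMod 2) × Multiplicative (ZMod 2),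
      ∃ g : S2 K, F23 y = ΦR g ∧ (g ∈ Subgroup.center (S2 K) → y = 1) := by
    rintro ⟨j, k⟩
    have hval : F23 (j, k) = zf (ΦR (wS K)) hb2 j * zf (ΦR (w2 α β hαβ)) hc2 k := rfl
    rw [hval]
    rcases z2_cases j with rfl | rfl <;> rcases z2_cases k with rfl | rfl
    · exact ⟨1, by rw [map_one, map_one, map_one, one_mul], fun _ => rfl⟩
    · refine ⟨w2 α β hαβ, by rw [map_one (zf (ΦR (wS K)) hb2), one_mul, zf_gen], ?_⟩
      intro hcen
      exfalso
      obtain ⟨h01, -, h00⟩ := (center_iff _).mp hcen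
      rw [w2_01] at h01
      rw [w2_00, w2_11] at h00
      exact hno ⟨hz α h00, h01⟩
    · refine ⟨wS K, by rw [map_one (zf (ΦR (w2 α β hαβ)) hc2), mul_one, zf_gen], ?_⟩
      intro hcen
      exfalso
      obtain ⟨h01, -, -⟩ := (center_iff _).mp hcen
      rw [wS_01] at h01
      exact one_ne_zero h01
    · refine ⟨wS K * w2 α β hαβ, by rw [zf_gen, zf_gen, map_mul], ?_⟩
      intro hcen
      exfalso
      obtain ⟨h01, -, h00⟩ := (center_iff _).mp hcen
      simp only [mul_entry, wS_00, wS_01, wS_10, wS_11, w2_00, w2_01, w2_10, w2_11] at h01 h00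
      have hα : α = 0 := by linear_combination (-1 : K) * h01
      have hβ : β = 0 := by
        apply hz
        linear_combination h00
      exact hno ⟨hα, hβ⟩
  let F : Multiplicative (ZMod 2) × (Multiplicative (ZMod 2) × Multiplicative (ZMod 2)) →*
      ↥(twistedG2 K (3 ^ m)) :=
    (zf aR ha2).noncommCoprod F23 (by
      intro i y
      obtain ⟨g, hg, -⟩ := hF23 y
      rw [hg]
      rcases z2_cases i with rfl | rfl
      · rw [map_one]
        exact Commute.one_left _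
      · rw [zf_gen]
        exact hab g)
  have hFinj : Function.Injective F := by
    rw [injective_iff_map_eq_one]
    rintro ⟨i, y⟩ h
    obtain ⟨g, hg, hy⟩ := hF23 y
    have h1 : zf aR ha2 i * ΦR g = 1 := by
      rw [← hg]
      exact h
    have h2 : (zf aR ha2 i : ↥(twistedG2 K (3 ^ m))).1 * Phi fr g = 1 := congrArg Subtype.val h1
    have h3 : (zf aR ha2 i : ↥(twistedG2 K (3 ^ m))).1 = 1 ∨
        (zf aR ha2 i : ↥(twistedG2 K (3 ^ m))).1 = th m (-1 : Kˣ) := by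
      rcases z2_cases i with rfl | rfl
      · left
        rw [map_one]
        rfl
      · right
        rw [zf_gen]
    obtain ⟨h4, h5⟩ := key_inj fr _ h3 g h2
    have hi : i = 1 := by
      rcases z2_cases i with rfl | rfl
      · rfl
      · exfalso
        rw [zf_gen] at h4
        exact a_ne fr h4
    rw [hi, hy h5]
    rfl
  have hE8 : Nat.card ↥F.range = 8 := by
    rw [← Nat.card_congr (MonoidHom.ofInjective hFinj).toEquiv, Nat.card_eq_fintype_card]
    rfl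
  have hEexp : ∀ x ∈ F.range, x * x = 1 := by
    rintro _ ⟨y, rfl⟩
    rw [← map_mul]
    have e : y * y = 1 := by
      revert y
      decide
    rw [e, map_one]
  have hP : IsPGroup 2 ↥F.range := IsPGroup.of_card (n := 3) (by rw [hE8]; norm_num)
  obtain ⟨Q, hQ⟩ := hP.exists_le_sylow
  have hEQ : F.range = (Q : Subgroup ↥(twistedG2 K (3 ^ m))) :=
    Subgroup.eq_of_le_of_card_ge hQ (by rw [syl2_card hK Q, hE8])
  obtain ⟨g, rfl⟩ := MulAction.exists_smul_eq ↥(twistedG2 K (3 ^ m)) Q S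
  intro x hx
  have hx' : g⁻¹ * x * g ∈ F.range := by
    rw [hEQ]
    have h1 : x ∈ ((g • Q : Sylow 2 ↥(twistedG2 K (3 ^ m))) : Subgroup ↥(twistedG2 K (3 ^ m))) := hx
    rw [Sylow.coe_subgroup_smul, Subgroup.mem_pointwise_smul_iff_inv_smul_mem, MulAut.smul_def,
      ← map_inv, MulAut.conj_apply, inv_inv] at h1
    exact h1
  have h1 := hEexp _ hx'
  have e : x * x = g * ((g⁻¹ * x * g) * (g⁻¹ * x * g)) * g⁻¹ := by group
  rw [e, h1, mul_one, mul_inv_cancel]

end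

end Cfsg.Agent.Lib.Helper7.ReeCent
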