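import Cfsg.Agent.Lib.Helper7.ReeId

set_option autoImplicit false

namespace Cfsg.Agent.Lib.Helper7.ReeCubeId
open Cfsg.Lie Cfsg.Agent.Lib.Helper7.ChevEngine Cfsg.Agent.Lib.Helper7.MvEngine
  Cfsg.Agent.Lib.Helper7.MvWord Cfsg.Agent.Lib.Helper7.ChevTorus

def Wqa : List (ℕ × Poly6) := [(7, [(1, 0, 1, 0, 0, 0, 0)]), (6, [(1, 1, 0, 0, 0, 0, 0)]), (8, [(1, 1, 1, 0, 0, 0, 0), (1, 0, 0, 0, 1, 0, 0)]), (9, [(1, 1, 2, 0, 0, 0, 0), (1, 0, 0, 0, 0, 0, 1)]), (10, [(1, 0, 0, 1, 0, 0, 0)]), (11, [(1, 0, 0, 0, 0, 1, 0)]), (7, [(1, 0, 1, 0, 0, 0, 0)]), (6, [(1, 1, 0, 0, 0, 0, 0)]), (8, [(1, 1, 1, 0, 0, 0, 0), (1, 0, 0, 0, 1, 0, 0)]), (9, [(1, 1, 2, 0, 0, 0, 0), (1, 0, 0, 0, 0, 0, 1)]), (10, [(1, 0, 0, 1, 0, 0, 0)]), (11, [(1, 0, 0, 0, 0, 1, 0)]), (7, [(1,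 0, 1, 0, 0, 0, 0)]), (6, [(1, 1, 0, 0, 0, 0, 0)]), (8, [(1, 1, 1, 0, 0, 0, 0), (1, 0, 0, 0, 1, 0, 0)]), (9, [(1, 1, 2, 0, 0, 0, 0), (1, 0, 0, 0, 0, 0, 1)]), (10, [(1, 0, 0, 1, 0, 0, 0)]), (11, [(1, 0, 0, 0, 0, 1, 0)])]
def Wqb : List (ℕ × Poly6) := [(7, []), (6, []), (8, []), (9, [(-1, 1, 2, 0, 0, 0, 0)]), (10, []), (11, [(-1, 2, 3, 0, 0, 0, 0)])]

theorem chkq : eqChkAll 3 chevG2.rank chevG2.nroots (fnsOf chevG2) Wqa Wqb = true := by decide +kernel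

end Cfsg.Agent.Lib.Helper7.ReeCubeId
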