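import Cfsg.Agent.Lib.Helper7.ReeSg

set_option autoImplicit false

namespace Cfsg.Agent.Lib.Helper7.ReeDich
open Cfsg.Lie Cfsg.Agent.Lib.Helper7.ChevEngine Cfsg.Agent.Lib.Helper7.ChevTorus
  Cfsg.Agent.Lib.Helper7.ChevSpec Cfsg.Agent.Lib.Helper7.SpecData Cfsg.Agent.Lib.Helper7.ChevGen
  Cfsg.Agent.Lib.Helper7.ChevUProd Cfsg.Agent.Lib.Helper7.TwCore Cfsg.Agent.Lib.Helper7.ReeFix
  Cfsg.Agent.Lib.Helper7.ChevRel Cfsg.Agent.Lib.Helper7.ChevBN3 Cfsg.Agent.Lib.Helper7.ReeMain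
  Cfsg.Agent.Lib.Helper7.ReeU Cfsg.Agent.Lib.Helper7.ChevBruhat Cfsg.Agent.Lib.Helper7.ChevBNP
  Cfsg.Agent.Lib.Helper7.ChevW0 Cfsg.Agent.Lib.Helper7.ChevNW Cfsg.Agent.Lib.Helper7.ChevExch
  Cfsg.Agent.Lib.Helper7.ReeSg Cfsg.Agent.Lib.Helper7.HBaseAll

section general
variable {F : Type*} [Field F]

theorem xGL_mem_neg (D : ChevalleyDatum) (hD : D ∈ [chevG2, chevB2, chevD4, chevF4, chevE6, chevE7, chevE8])
    (r : ℕ) (hr : D.IsNegRoot r) (t : F) : xGL D hD r t ∈ D.negUnipotent F :=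
  Subgroup.subset_closure ⟨r, t, hr, xGL_val D hD r t⟩

theorem U_inf_V (D : ChevalleyDatum) (hD : D ∈ [chevG2, chevB2, chevD4, chevF4, chevE6, chevE7, chevE8]) :
    D.posUnipotent F ⊓ D.negUnipotent F = ⊥ := by
  rw [eq_bot_iff, ← borel_inf_neg (F := F) D hD]
  exact inf_le_inf_right _ (U_le_B D)

theorem N_conj_form (D : ChevalleyDatum) (hD : D ∈ [chevG2, chevB2, chevD4, chevF4, chevE6, chevE7, chevE8])
    (n : GL D.Idx F) (hn : n ∈ D.monomialSubgroup F) (r : ℕ) (hr : r < D.nroots) :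
    ∃ r' < D.nroots, ∃ c : F, ∀ t : F, n * xGL D hD r t * n⁻¹ = xGL D hD r' (c * t) := by
  obtain ⟨h, hh, is, his, rfl⟩ := mono_form D hD n hn
  obtain ⟨hlt, ε, -, hc⟩ := conj_word (F := F) D hD is his r hr
  obtain ⟨χ, hχ⟩ := H_conj_x D hD h hh
  refine ⟨wAct D is r, hlt, χ (wAct D is r) * ε, fun t => ?_⟩
  have e : h * nWordGL D hD is * xGL D hD r t * (h * nWordGL D hD is)⁻¹ =
      h * (nWordGL D hD is * xGL D hD r t * (nWordGL D hD is)⁻¹) * h⁻¹ := by group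
  rw [e, hc t, mul_inv_cancel_right, hχ _ hlt, mul_assoc]

theorem neg_ne (D : ChevalleyDatum) (hD : D ∈ [chevG2, chevB2, chevD4, chevF4, chevE6, chevE7, chevE8])
    (s : ℕ) (hs : s < D.nroots) : D.neg s ≠ s := by
  have sd := signData_of_mem D hD
  intro heq
  have h3 := sd.neg_iff _ hs
  rw [heq] at h3
  rcases sd.pos_or_neg _ hs with hp | hn'
  · exact sd.not_both _ hp (h3.mp hp)
  · exact sd.not_both _ (h3.mpr hn') hn'

theorem conj_eq_one (n x : GL chevG2.Idx F) (h : n * x * n⁻¹ = 1) : x = 1 := by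
  have h2 : x = n⁻¹ * (n * x * n⁻¹) * n := by group
  rw [h2, h]
  group

theorem conj_eq_oneD (D : ChevalleyDatum) (n x : GL D.Idx F) (h : n * x * n⁻¹ = 1) : x = 1 := by
  have h2 : x = n⁻¹ * (n * x * n⁻¹) * n := by group
  rw [h2, h]
  group

theorem lemL (D : ChevalleyDatum) (hD : D ∈ [chevG2, chevB2, chevD4, chevF4, chevE6, chevE7, chevE8])
    (n : GL D.Idx F) (hn : n ∈ D.monomialSubgroup F)
    (h : ∀ i < D.rank, n * xGL D hD (D.simple i) 1 * n⁻¹ ∈ D.posUnipotent F) :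
    n ∈ D.diagonalSubgroup F := by
  have sd := signData_of_mem D hD
  obtain ⟨hC, -, -⟩ := all_of_mem D hD
  obtain ⟨h0, hh0, is, his, rfl⟩ := mono_form D hD n hn
  obtain ⟨is', hgood, -, h1, hh1, e1⟩ := good_exists (F := F) D hD is.length is rfl his
  rcases List.eq_nil_or_concat is' with rfl | ⟨L, i, e0⟩
  · rw [e1, nWordGL_nil, mul_one]
    exact mul_mem hh0 hh1
  · exfalso
    rw [List.concat_eq_append] at e0
    subst e0
    obtain ⟨hi, hpos⟩ := goodW_last D L i hgood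
    have hL : ∀ j ∈ L, j < D.rank := goodW_valid D L (goodW_prefix D L [i] hgood)
    have hLi : ∀ j ∈ L ++ [i], j < D.rank := goodW_valid D _ hgood
    have hs := simple_lt D hC i hi
    obtain ⟨hlt, hnegact, -⟩ := conj_word2 (F := F) D hD L hL (D.simple i) hs
    obtain ⟨hlt2, ε, hε, hc⟩ := conj_word (F := F) D hD (L ++ [i]) hLi (D.simple i) hs
    have eact : wAct D (L ++ [i]) (D.simple i) = D.neg (wAct D L (D.simple i)) := by
      rw [wAct_append, wAct_cons]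
      have e0 : wAct D [] (D.simple i) = D.simple i := rfl
      rw [e0, refl_simple, hnegact]
    have hneg : D.IsNegRoot (D.neg (wAct D L (D.simple i))) := (sd.neg_iff _ hlt).mp hpos
    obtain ⟨χ, hχ⟩ := H_conj_x D hD (h0 * h1) (mul_mem hh0 hh1)
    have key : (h0 * nWordGL D hD is) * xGL D hD (D.simple i) 1 * (h0 * nWordGL D hD is)⁻¹ =
        xGL D hD (D.neg (wAct D L (D.simple i))) (χ (D.neg (wAct D L (D.simple i))) * (ε * 1)) := by
      rw [e1]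
      have e : h0 * (h1 * nWordGL D hD (L ++ [i])) * xGL D hD (D.simple i) 1 *
          (h0 * (h1 * nWordGL D hD (L ++ [i])))⁻¹ =
          (h0 * h1) * (nWordGL D hD (L ++ [i]) * xGL D hD (D.simple i) 1 *
            (nWordGL D hD (L ++ [i]))⁻¹) * (h0 * h1)⁻¹ := by group
      rw [e, hc 1, mul_inv_cancel_right, eact, hχ _ hneg.1]
    have hV : (h0 * nWordGL D hD is) * xGL D hD (D.simple i) 1 * (h0 * nWordGL D hD is)⁻¹ ∈
        D.negUnipotent F := by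
      rw [key]
      exact xGL_mem_neg D hD _ hneg _
    have hU := h i hi
    have h1' : (h0 * nWordGL D hD is) * xGL D hD (D.simple i) 1 * (h0 * nWordGL D hD is)⁻¹ = 1 := by
      have h2 : (h0 * nWordGL D hD is) * xGL D hD (D.simple i) 1 * (h0 * nWordGL D hD is)⁻¹ ∈
          D.posUnipotent F ⊓ D.negUnipotent F := Subgroup.mem_inf.mpr ⟨hU, hV⟩
      rw [U_inf_V D hD, Subgroup.mem_bot] at h2
      exact h2
    have hx1 : xGL D hD (D.simple i) (1 : F) = 1 := conj_eq_oneD D _ _ h1'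
    exact xGL_ne_one D hD _ hs (neg_lt D hD _ hs) (neg_ne D hD _ hs) 1 one_ne_zero hx1

end general

section
variable {K : Type*} [Field K]

theorem P_or_N (n : GL chevG2.Idx K) (hn : n ∈ chevG2.monomialSubgroup K) (r : ℕ) (hr : r < 12) :
    (∀ t : K, n * xGL chevG2 hG2 r t * n⁻¹ ∈ chevG2.posUnipotent K) ∨
      (∀ t : K, n * xGL chevG2 hG2 r t * n⁻¹ ∈ chevG2.negUnipotent K) := by
  have sd := signData_of_mem chevG2 hG2
  obtain ⟨r', hr', c, hc⟩ := N_conj_form chevG2 hG2 n hn r (by rw [nroots_eq]; exact hr)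
  rcases sd.pos_or_neg r' hr' with hp | hp
  · left
    intro t
    rw [hc t]
    exact xGL_mem_U chevG2 hG2 r' hp _
  · right
    intro t
    rw [hc t]
    exact xGL_mem_neg chevG2 hG2 r' hp _

theorem not_P_and_N (n : GL chevG2.Idx K) (r : ℕ) (hr : r < 12)
    (h1 : n * xGL chevG2 hG2 r 1 * n⁻¹ ∈ chevG2.posUnipotent K)
    (h2 : n * xGL chevG2 hG2 r 1 * n⁻¹ ∈ chevG2.negUnipotent K) : False := by
  have h3 : n * xGL chevG2 hG2 r 1 * n⁻¹ ∈ chevG2.posUnipotent K ⊓ chevG2.negUnipotent K :=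
    Subgroup.mem_inf.mpr ⟨h1, h2⟩
  rw [U_inf_V chevG2 hG2, Subgroup.mem_bot] at h3
  have hr' : r < chevG2.nroots := by rw [nroots_eq]; exact hr
  exact xGL_ne_one chevG2 hG2 r hr' (neg_lt chevG2 hG2 r hr') (neg_ne chevG2 hG2 r hr') 1 one_ne_zero
    (conj_eq_one n _ h3)

theorem P_rho {m : ℕ} (fr : Frob K m) (σ : ↥(chevG2.group K) →* ↥(chevG2.group K)) (hσ : SigOk m σ)
    (n : GL chevG2.Idx K) (hn : n ∈ chevG2.monomialSubgroup K)
    (hh : n⁻¹ * sg σ n ∈ chevG2.diagonalSubgroup K) (r : ℕ) (hr : r < 12)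
    (X : Subgroup (GL chevG2.Idx K)) (hX : ∀ g ∈ X, g ∈ chevG2.group K ∧ sg σ g ∈ X)
    (hP : ∀ t : K, n * xGL chevG2 hG2 (rhoG2.getD r 0) t * n⁻¹ ∈ X) :
    ∀ s : K, n * xGL chevG2 hG2 r s * n⁻¹ ∈ X := by
  intro s
  have hnG := N_le_G hn
  obtain ⟨χ, hχ⟩ := H_conj_x chevG2 hG2 (n⁻¹ * sg σ n)⁻¹ (inv_mem hh)
  have hr' : r < chevG2.nroots := by rw [nroots_eq]; exact hr
  obtain ⟨t', ht'⟩ := sg_surj fr σ hσ r hr (χ r * s)
  have h1 := hX _ (hP t')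
  have hxG := xGL_mem_group (F := K) chevG2 hG2 (rhoG2.getD r 0) t'
  rw [sg_mul σ _ _ (mul_mem hnG hxG) (inv_mem hnG), sg_mul σ _ _ hnG hxG, sg_inv σ n hnG, ht',
    ← hχ r hr' s] at h1
  have e : sg σ n * ((n⁻¹ * sg σ n)⁻¹ * xGL chevG2 hG2 r s * (n⁻¹ * sg σ n)⁻¹⁻¹) * (sg σ n)⁻¹ =
      n * xGL chevG2 hG2 r s * n⁻¹ := by group
  rw [e] at h1
  exact h1.2

theorem simple0 : chevG2.simple 0 = 7 := by decide

theorem simple1 : chevG2.simple 1 = 6 := by decide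

theorem dich {m : ℕ} (fr : Frob K m) (σ : ↥(chevG2.group K) →* ↥(chevG2.group K)) (hσ : SigOk m σ)
    (n : GL chevG2.Idx K) (hn : n ∈ chevG2.monomialSubgroup K)
    (hh : n⁻¹ * sg σ n ∈ chevG2.diagonalSubgroup K)
    (n0 : GL chevG2.Idx K) (hn0 : n0 ∈ chevG2.monomialSubgroup K)
    (hmap : (chevG2.posUnipotent K).map (MulAut.conj n0).toMonoidHom = chevG2.negUnipotent K) :
    n ∈ chevG2.diagonalSubgroup K ∨ n0⁻¹ * n ∈ chevG2.diagonalSubgroup K := by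
  have r7 : rhoG2.getD 7 0 = 6 := rfl
  have r6 : rhoG2.getD 6 0 = 7 := rfl
  rcases P_or_N n hn 7 (by norm_num) with h7 | h7 <;> rcases P_or_N n hn 6 (by norm_num) with h6 | h6
  · left
    apply lemL chevG2 hG2 n hn
    intro i hi
    have hi' : i < 2 := hi
    interval_cases i
    · rw [simple0]
      exact h7 1
    · rw [simple1]
      exact h6 1
  · exfalso
    have h := P_rho fr σ hσ n hn hh 6 (by norm_num) _ (sg_U σ hσ) (by rw [r6]; exact h7)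
    exact not_P_and_N n 6 (by norm_num) (h 1) (h6 1)
  · exfalso
    have h := P_rho fr σ hσ n hn hh 7 (by norm_num) _ (sg_U σ hσ) (by rw [r7]; exact h6)
    exact not_P_and_N n 7 (by norm_num) (h 1) (h7 1)
  · right
    apply lemL chevG2 hG2 _ (mul_mem (inv_mem hn0) hn)
    have aux : ∀ v ∈ chevG2.negUnipotent K, n0⁻¹ * v * n0 ∈ chevG2.posUnipotent K := by
      intro v hv
      rw [← hmap] at hv
      obtain ⟨u, hu, rfl⟩ := hv
      have e : n0⁻¹ * (MulAut.conj n0).toMonoidHom u * n0 = u := by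
        show n0⁻¹ * (n0 * u * n0⁻¹) * n0 = u
        group
      rw [e]
      exact hu
    intro i hi
    have hi' : i < 2 := hi
    have e : ∀ x : GL chevG2.Idx K, n0⁻¹ * n * x * (n0⁻¹ * n)⁻¹ = n0⁻¹ * (n * x * n⁻¹) * n0 := by
      intro x
      group
    rw [e]
    apply aux
    interval_cases i
    · rw [simple0]
      exact h7 1
    · rw [simple1]
      exact h6 1

theorem sg_Un {m : ℕ} (fr : Frob K m) (σ : ↥(chevG2.group K) →* ↥(chevG2.group K)) (hσ : SigOk m σ)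
    (n : GL chevG2.Idx K) (hn : n ∈ chevG2.group K) :
    ∀ g ∈ Un K chevG2 n, g ∈ chevG2.group K ∧ sg σ g ∈ Un K chevG2 (sg σ n) := by
  apply sg_closure
  rintro x ⟨r, t, hr, hle, hx⟩
  have hr' : r < 12 := by rw [← nroots_eq]; exact hr.1
  have e : x = xGL chevG2 hG2 r t := Units.ext (by rw [hx, xGL_val])
  subst e
  refine ⟨xGL_mem_group chevG2 hG2 r t, ?_⟩
  rw [sg_x σ hσ r hr.1 t]
  refine Subgroup.subset_closure ⟨rhoG2.getD r 0, _, rho_pos r hr' hr, ?_, xGL_val chevG2 hG2 _ _⟩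
  unfold ChevalleyDatum.rootSubgroup
  rw [MonoidHom.map_closure, Subgroup.closure_le]
  rintro _ ⟨y, ⟨s, hy⟩, rfl⟩
  have e2 : y = xGL chevG2 hG2 (rhoG2.getD r 0) s := Units.ext (by rw [hy, xGL_val])
  subst e2
  show sg σ n * xGL chevG2 hG2 (rhoG2.getD r 0) s * (sg σ n)⁻¹ ∈ chevG2.negUnipotent K
  obtain ⟨t', ht'⟩ := sg_surj fr σ hσ (rhoG2.getD r 0) (rho_lt r hr') s
  rw [rho_rho r hr'] at ht'
  have hv : n * xGL chevG2 hG2 r t' * n⁻¹ ∈ chevG2.negUnipotent K :=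
    hle (Subgroup.mem_map_of_mem _ (Subgroup.subset_closure ⟨t', xGL_val chevG2 hG2 r t'⟩))
  have h1 := (sg_V σ hσ _ hv).2
  have hxG := xGL_mem_group (F := K) chevG2 hG2 r t'
  rw [sg_mul σ _ _ (mul_mem hn hxG) (inv_mem hn), sg_mul σ _ _ hn hxG, sg_inv σ n hn, ht'] at h1
  exact h1

theorem U_le_Un (n0 : GL chevG2.Idx K)
    (hmap : (chevG2.posUnipotent K).map (MulAut.conj n0).toMonoidHom = chevG2.negUnipotent K) :
    chevG2.posUnipotent K ≤ Un K chevG2 n0 := by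
  unfold Un
  show Subgroup.closure _ ≤ _
  apply Subgroup.closure_mono
  rintro g ⟨r, t, hr, hg⟩
  refine ⟨r, t, hr, ?_, hg⟩
  rw [← hmap]
  apply Subgroup.map_mono
  unfold ChevalleyDatum.rootSubgroup ChevalleyDatum.posUnipotent
  apply Subgroup.closure_mono
  rintro y ⟨s, hy⟩
  exact ⟨r, s, hr, hy⟩

theorem B_fix {m : ℕ} (σ : ↥(chevG2.group K) →* ↥(chevG2.group K)) (hσ : SigOk m σ)
    (b : GL chevG2.Idx K) (hb : b ∈ chevG2.borelSubgroup K) (hfix : sg σ b = b) :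
    ∃ u ∈ chevG2.posUnipotent K, ∃ h ∈ chevG2.diagonalSubgroup K, sg σ u = u ∧ sg σ h = h ∧ b = u * h := by
  obtain ⟨u, hu, h, hh, rfl⟩ := B_decomp chevG2 hG2 b hb
  have hu' := sg_U σ hσ u hu
  have hh' := sg_H σ hσ h hh
  rw [sg_mul σ u h hu'.1 hh'.1] at hfix
  have e : u⁻¹ * sg σ u = h * (sg σ h)⁻¹ := by
    have : sg σ u = u * h * (sg σ h)⁻¹ := by rw [← hfix]; group
    rw [this]
    group
  have h1 : u⁻¹ * sg σ u ∈ chevG2.posUnipotent K ⊓ chevG2.diagonalSubgroup K :=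
    Subgroup.mem_inf.mpr ⟨mul_mem (inv_mem hu) hu'.2, by rw [e]; exact mul_mem hh (inv_mem hh'.2)⟩
  rw [(Cfsg.Agent.S1036.result (F := K) chevG2 hG2).2, Subgroup.mem_bot] at h1
  have hsu : sg σ u = u := (inv_mul_eq_one.mp h1).symm
  have hsh : sg σ h = h := by
    rw [hsu] at hfix
    exact mul_left_cancel hfix
  exact ⟨u, hu, h, hh, hsu, hsh, rfl⟩

theorem fx_struct {m : ℕ} (fr : Frob K m) (σ : ↥(chevG2.group K) →* ↥(chevG2.group K)) (hσ : SigOk m σ)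
    (n0 : GL chevG2.Idx K) (hn0 : n0 ∈ chevG2.monomialSubgroup K)
    (hmap : (chevG2.posUnipotent K).map (MulAut.conj n0).toMonoidHom = chevG2.negUnipotent K)
    (hn0fix : sg σ n0 = n0) (g : GL chevG2.Idx K) (hg : g ∈ Fx σ) :
    (∃ u ∈ chevG2.posUnipotent K, ∃ h ∈ chevG2.diagonalSubgroup K,
      sg σ u = u ∧ sg σ h = h ∧ g = u * h) ∨
    (∃ u ∈ chevG2.posUnipotent K, ∃ h ∈ chevG2.diagonalSubgroup K, ∃ u' ∈ chevG2.posUnipotent K,
      sg σ u = u ∧ sg σ h = h ∧ sg σ u' = u' ∧ g = u * h * n0 * u') := by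
  obtain ⟨hgG, hgfix⟩ := (mem_Fx_iff σ g).mp hg
  obtain ⟨b, hb, n, hn, u, hu, rfl⟩ := bruhat_exists chevG2 hG2 g hgG
  have hbG := B_le_G hb
  have hnG := N_le_G hn
  have huU := Un_le_U chevG2 n hu
  have huG := U_le_G huU
  have hn0G := N_le_G hn0
  have e1 : sg σ b * sg σ n * sg σ u = b * n * u := by
    rw [← sg_mul σ b n hbG hnG, ← sg_mul σ _ u (mul_mem hbG hnG) huG]
    exact hgfix
  obtain ⟨hH, -⟩ := bruhat_unique chevG2 hG2 b (sg σ b) n (sg σ n) u (sg σ u) hb (sg_B σ hσ b hb).2 hn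
    (sg_N σ hσ n hn).2 hu (sg_Un fr σ hσ n hnG u hu).2 e1.symm
  rcases dich fr σ hσ n hn hH n0 hn0 hmap with hnH | hnH
  · left
    exact B_fix σ hσ _ (mul_mem (mul_mem hb (H_le_B chevG2 hnH)) (U_le_B chevG2 huU)) hgfix
  · right
    have hb' : b * (n0 * (n0⁻¹ * n) * n0⁻¹) ∈ chevG2.borelSubgroup K :=
      mul_mem hb (H_le_B chevG2 (N_conj_H chevG2 hG2 n0 hn0 _ hnH))
    have eg : b * n * u = (b * (n0 * (n0⁻¹ * n) * n0⁻¹)) * n0 * u := by group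
    have hb'G := B_le_G hb'
    have e2 : sg σ (b * (n0 * (n0⁻¹ * n) * n0⁻¹)) * n0 * sg σ u =
        (b * (n0 * (n0⁻¹ * n) * n0⁻¹)) * n0 * u := by
      rw [eg] at hgfix
      rw [sg_mul σ _ u (mul_mem hb'G hn0G) huG, sg_mul σ _ n0 hb'G hn0G, hn0fix] at hgfix
      exact hgfix
    have hU0 := U_le_Un n0 hmap
    obtain ⟨-, huniq⟩ := bruhat_unique chevG2 hG2 (b * (n0 * (n0⁻¹ * n) * n0⁻¹))
      (sg σ (b * (n0 * (n0⁻¹ * n) * n0⁻¹))) n0 n0 u (sg σ u) hb' (sg_B σ hσ _ hb').2 hn0 hn0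
      (hU0 huU) (hU0 (sg_U σ hσ u huU).2) e2.symm
    obtain ⟨hbfix, hufix⟩ := huniq rfl
    obtain ⟨u1, hu1, h1, hh1, hsu1, hsh1, eb⟩ := B_fix σ hσ _ hb' hbfix.symm
    exact ⟨u1, hu1, h1, hh1, u, huU, hsu1, hsh1, hufix.symm, by rw [eg, eb]⟩

end

end Cfsg.Agent.Lib.Helper7.ReeDich
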