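import Cfsg.Agent.Lib.Helper7.ChevSpec

set_option autoImplicit false
set_option maxRecDepth 100000

namespace Cfsg.Agent.Lib.Helper7.SpecData
open Cfsg.Lie Cfsg.Agent.Lib.Helper7.ChevEngine Cfsg.Agent.Lib.Helper7.ChevPerm
  Cfsg.Agent.Lib.Helper7.ChevSpec

def tPB2 : List (ℕ × ℤ) := [(0, 0), (0, 1), (3, 1), (0, 0), (0, 0), (4, 1), (7, 1), (0, 0), (0, 0), (8, 1)]

def tQB2 : List (ℕ × ℤ) := [(1, 1), (0, 0), (0, 0), (2, 1), (5, 1), (0, 0), (0, 0), (6, 1), (9, 1), (0, 0)]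

def tEB2 : List (ℕ × ℤ) := [(0, 0), (1, 1), (2, 1), (0, 0), (0, 0), (5, 1), (6, 1), (0, 0), (0, 0), (9, 1)]

def rhoB2 : List ℕ := [1, 0, 3, 2, 5, 4, 7, 6]

def lamB2 : List ℕ := [1, 2, 2, 1, 1, 2, 2, 1]

def witB2 : List (ℕ × ℕ × ℕ) := [(6, 5, 3), (5, 2, 4)]

theorem sdB2 : SData chevB2 2 tPB2 tQB2 tEB2 rhoB2 lamB2 witB2 :=
  ⟨by decide +kernel, by decide +kernel, by decide +kernel, by decide +kernel, by decide +kernel,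
    by decide +kernel, by decide +kernel⟩

def tPF4 : List (ℕ × ℤ) := [(0, 0), (0, 0), (1, 1), (0, 1), (7, 1), (11, 1), (12, 1), (0, 0), (13, 1), (15, 1), (22, 1), (0, 0), (0, 0), (0, 0), (0, 0), (0, 0), (0, 0), (0, 0), (0, 0), (14, 1), (16, 1), (23, 1), (0, 0), (0, 0), (0, 0), (17, 1), (24, 1), (18, 1), (37, 1), (31, 1), (38, 1), (0, 0), (0, 0), (0, 0), (32, 1), (39, 1), (41, 1), (0, 0), (0, 0), (0, 0), (0, 0), (0, 0), (0, 0), (0, 0), (0, 0), (33, 1), (40, 1), (42, 1), (0, 0), (43, 1), (44, 1), (48, 1)]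

def tQF4 : List (ℕ × ℤ) := [(3, 1), (2, 1), (0, 0), (0, 0), (0, 0), (0, 0), (0, 0), (4, 1), (0, 0), (0, 0), (0, 0), (5, 1), (6, 1), (8, 1), (19, 1), (9, 1), (20, 1), (25, 1), (27, 1), (0, 0), (0, 0), (0, 0), (10, 1), (21, 1), (26, 1), (0, 0), (0, 0), (0, 0), (0, 0), (0, 0), (0, 0), (29, 1), (34, 1), (45, 1), (0, 0), (0, 0), (0, 0), (28, 1), (30, 1), (35, 1), (46, 1), (36, 1), (47, 1), (49, 1), (50, 1), (0, 0), (0, 0), (0, 0), (51, 1), (0, 0), (0, 0), (0, 0)]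

def tEF4 : List (ℕ × ℤ) := [(0, 0), (0, 0), (2, 1), (3, 1), (4, 1), (5, 1), (6, 1), (0, 0), (8, 1), (9, 1), (10, 1), (0, 0), (0, 0), (0, 0), (0, 0), (0, 0), (0, 0), (0, 0), (0, 0), (19, 1), (20, 1), (21, 1), (0, 0), (0, 0), (0, 0), (25, 1), (26, 1), (27, 1), (28, 1), (29, 1), (30, 1), (0, 0), (0, 0), (0, 0), (34, 1), (35, 1), (36, 1), (0, 0), (0, 0), (0, 0), (0, 0), (0, 0), (0, 0), (0, 0), (0, 0), (45, 1), (46, 1), (47, 1), (0, 0), (49, 1), (50, 1), (51, 1)]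

def rhoF4 : List ℕ := [3, 7, 8, 0, 9, 11, 18, 1, 2, 4, 15, 5, 16, 21, 23, 10, 12, 19, 6, 17, 22, 13, 20, 14, 33, 27, 34, 25, 30, 41, 28, 35, 37, 24, 26, 31, 42, 32, 43, 45, 46, 29, 36, 38, 47, 39, 40, 44]

def lamF4 : List ℕ := [1, 1, 1, 2, 1, 1, 1, 2, 2, 2, 2, 2, 2, 2, 2, 1, 1, 1, 2, 2, 2, 1, 1, 1, 1, 1, 1, 2, 2, 2, 1, 1, 1, 2, 2, 2, 2, 2, 2, 2, 2, 1, 1, 1, 2, 1, 1, 1]

def witF4 : List (ℕ × ℕ × ℕ) := [(5, 7, 15), (6, 8, 4), (8, 9, 2), (19, 10, 1)]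

theorem sdF4 : SData chevF4 2 tPF4 tQF4 tEF4 rhoF4 lamF4 witF4 :=
  ⟨by decide +kernel, by decide +kernel, by decide +kernel, by decide +kernel, by decide +kernel,
    by decide +kernel, by decide +kernel⟩

def tPG2 : List (ℕ × ℤ) := [(0, 0), (0, 1), (4, 1), (5, 1), (0, 0), (0, 0), (0, 0), (6, 1), (9, 1), (0, 0), (0, 0), (0, 0), (10, 1), (11, 1)]

def tQG2 : List (ℕ × ℤ) := [(1, 1), (0, 0), (0, 0), (0, 0), (2, 1), (3, 1), (7, 1), (0, 0), (0, 0), (8, 1), (12, 1), (13, 1), (0, 0), (0, 0)]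

def tEG2 : List (ℕ × ℤ) := [(0, 0), (1, 1), (2, 1), (3, 1), (0, 0), (0, 0), (0, 0), (7, 1), (8, 1), (0, 0), (0, 0), (0, 0), (12, 1), (13, 1)]

def rhoG2 : List ℕ := [2, 3, 0, 1, 5, 4, 7, 6, 10, 11, 8, 9]

def lamG2 : List ℕ := [1, 1, 3, 3, 3, 1, 1, 3, 3, 3, 1, 1]

def witG2 : List (ℕ × ℕ × ℕ) := [(3, 3, 5), (7, 4, 1)]

theorem sdG2 : SData chevG2 3 tPG2 tQG2 tEG2 rhoG2 lamG2 witG2 :=
  ⟨by decide +kernel, by decide +kernel, by decide +kernel, by decide +kernel, by decide +kernel,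
    by decide +kernel, by decide +kernel⟩

end Cfsg.Agent.Lib.Helper7.SpecData
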