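import Cfsg.Agent.Lib.Helper7.ChevSimple
import Cfsg.Agent.Lib.Helper7.ChevTorusCard
import Cfsg.Agent.Lib.Helper7.ChevSpec
import Cfsg.Agent.S1036
import Cfsg.Prelude.Def_LieTwisted

set_option autoImplicit false

namespace Cfsg.Agent.Lib.Helper7.TwCore
open Cfsg.Lie Cfsg.Agent.Lib.Helper7.ChevEngine Cfsg.Agent.Lib.Helper7.ChevTorus
  Cfsg.Agent.Lib.Helper7.ChevGen Cfsg.Agent.Lib.Helper7.ChevNW Cfsg.Agent.Lib.Helper7.ChevW0
  Cfsg.Agent.Lib.Helper7.ChevBN Cfsg.Agent.Lib.Helper7.ChevBN3 Cfsg.Agent.Lib.Helper7.ChevBNP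
  Cfsg.Agent.Lib.Helper7.ChevSpec Cfsg.Agent.Lib.Helper7.ChevTorusCard Cfsg.Agent.Lib.Helper7.ChevHAll
  Cfsg.Agent.Lib.Helper7.HBaseAll

section
variable {F : Type*} [Field F]

def eqCheckP (p : ℤ) (l n : ℕ) (A : Fns) (w1 w2 : List (ℕ × Poly)) (k : ℕ) : Bool :=
  zeroP p (normV (applyWord l n A false w1 [(k, one)] ++ negV (applyWord l n A false w2 [(k, one)])))

theorem eqCheckP_sound (p : ℤ) (hp : ((p : ℤ) : F) = 0) (l n : ℕ) (A : Fns) (a b : F)
    (w1 w2 : List (ℕ × Poly)) (h : ∀ k < l + n, eqCheckP p l n A w1 w2 k = true) :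
    wM l n A F (w1.map fun x => (x.1, eval a b x.2)) = wM l n A F (w2.map fun x => (x.1, eval a b x.2)) := by
  apply matrix_ext_bvec
  intro k hk
  rw [bvec_eq_evalV l n a b k, applyWord_sound l n A false a b (by simp),
    applyWord_sound l n A false a b (by simp)]
  exact evalV_eq_of_zeroP p hp l n a b _ _ (h k hk)

def entChk (p : ℤ) (l n : ℕ) (A : Fns) (w : List (ℕ × Poly)) (i k : ℕ) (c : ℤ) : Bool :=
  (normV (applyWord l n A false w [(i, one)] ++ negV [(k, [(c, 0, 0)])])).all fun x =>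
    (x.1 != k) || zeroM p x.2

theorem evalV_at_zero (l n : ℕ) (a b : F) (w : SVec) (idx : Ix l n)
    (h : ∀ x ∈ w, x.1 ≠ code idx ∨ eval a b x.2 = 0) : evalV l n a b w idx = 0 := by
  unfold evalV
  apply List.sum_eq_zero
  intro y hy
  rw [List.mem_map] at hy
  obtain ⟨x, hx, rfl⟩ := hy
  rcases h x hx with h1 | h1
  · rw [if_neg (fun e => h1 e.symm)]
  · rw [h1, ite_self]

theorem entChk_sound (p : ℤ) (hp : ((p : ℤ) : F) = 0) (l n : ℕ) (A : Fns) (a b : F)
    (w : List (ℕ × Poly)) (i : Fin l) (idx : Ix l n) (c : ℤ)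
    (h : entChk p l n A w i.val (code idx) c = true) :
    wM l n A F (w.map fun x => (x.1, eval a b x.2)) idx (Sum.inl i) = (c : F) := by
  have e1 : (wM l n A F (w.map fun x => (x.1, eval a b x.2))).mulVec
      (bvec l n F (code (Sum.inl i : Ix l n))) =
      fun r => wM l n A F (w.map fun x => (x.1, eval a b x.2)) r (Sum.inl i) := mulVec_bvec_code _ _
  have e2 : code (Sum.inl i : Ix l n) = i.val := rfl
  rw [e2, bvec_eq_evalV l n a b i.val, applyWord_sound l n A false a b (by simp)] at e1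
  have e3 := congrFun e1 idx
  rw [← e3]
  have h2 := evalV_normV l n a b
    (applyWord l n A false w [(i.val, one)] ++ negV [(code idx, [(c, 0, 0)])])
  have h3 : evalV l n a b (normV (applyWord l n A false w [(i.val, one)] ++
      negV [(code idx, [(c, 0, 0)])])) idx = 0 := by
    apply evalV_at_zero
    intro x hx
    unfold entChk at h
    rw [List.all_eq_true] at h
    have hx' := h x hx
    rw [Bool.or_eq_true] at hx'
    rcases hx' with h4 | h4
    · left
      simpa using h4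
    · right
      exact eval_zeroM p hp a b x.2 h4
  rw [h2, evalV_append, evalV_negV, evalV_single] at h3
  have h5 := h3
  simp only [Pi.add_apply, Pi.neg_apply, Pi.smul_apply, smul_eq_mul, bvec, if_true, mul_one] at h5
  have h6 : eval a b [((c : ℤ), 0, 0)] = (c : F) := by
    simp [eval, evalM]
  rw [h6] at h5
  exact eq_of_sub_eq_zero (by rw [sub_eq_add_neg]; exact h5)

theorem w0_map (D : ChevalleyDatum) (hD : D ∈ [chevG2, chevB2, chevD4, chevF4, chevE6, chevE7, chevE8])
    (Wtab : List ℕ) (hW : WtabOk D Wtab) (is : List ℕ) (hchk : w0Check D Wtab is = true) :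
    nWordGL (F := F) D hD is ∈ D.monomialSubgroup F ∧
      (D.posUnipotent F).map (MulAut.conj (nWordGL (F := F) D hD is)).toMonoidHom = D.negUnipotent F := by
  unfold w0Check at hchk
  simp only [Bool.and_eq_true, List.all_eq_true, decide_eq_true_eq, List.mem_range, Bool.or_eq_true,
    Bool.not_eq_true', decide_eq_false_iff_not] at hchk
  obtain ⟨his, hall⟩ := hchk
  refine ⟨nWordGL_mem D hD is his, ?_⟩
  unfold ChevalleyDatum.posUnipotent ChevalleyDatum.negUnipotent
  rw [MonoidHom.map_closure]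
  apply le_antisymm
  · rw [Subgroup.closure_le]
    rintro _ ⟨g, ⟨r, t, hr, hg⟩, rfl⟩
    obtain ⟨hlt, ε, -, hc⟩ := conj_word (F := F) D hD is his r hr.1
    have hg' : g = xGL D hD r t := Units.ext (by rw [hg, xGL_val])
    apply Subgroup.subset_closure
    refine ⟨wAct D is r, ε * t, ?_, ?_⟩
    · rw [(wAct_eq D hD Wtab hW is his r hr.1).1]
      rcases (hall r hr.1).1.1 with h1 | h1
      · exact absurd hr h1
      · exact h1
    · change ((nWordGL D hD is * g * (nWordGL D hD is)⁻¹ : GL D.Idx F) : Matrix D.Idx D.Idx F) = _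
      rw [hg', hc t, mul_inv_cancel_right, xGL_val]
  · rw [Subgroup.closure_le]
    rintro g ⟨s, t, hs, hg⟩
    have hg' : g = xGL D hD s t := Units.ext (by rw [hg, xGL_val])
    have e1 := (wAct_eq D hD Wtab hW is his s hs.1)
    have hpos : D.IsPosRoot (wAct D is s) := by
      rw [e1.1]
      rcases (hall s hs.1).1.2 with h1 | h1
      · exact absurd hs h1
      · exact h1
    have e2 := (wAct_eq D hD Wtab hW is his (wAct D is s) e1.2)
    have hinv : wAct D is (wAct D is s) = s := by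
      rw [e2.1, e1.1]
      exact (hall s hs.1).2
    obtain ⟨-, ε, hε, hc⟩ := conj_word (F := F) D hD is his (wAct D is s) e1.2
    have hεε : ε * (ε * t) = t := by
      rcases hε with rfl | rfl <;> simp
    apply Subgroup.subset_closure
    refine ⟨xGL D hD (wAct D is s) (ε * t), ⟨wAct D is s, ε * t, hpos, xGL_val D hD _ _⟩, ?_⟩
    change nWordGL D hD is * xGL D hD (wAct D is s) (ε * t) * (nWordGL D hD is)⁻¹ = g
    rw [hc (ε * t), mul_inv_cancel_right, hinv, hεε, hg']

def nPolyWord (D : ChevalleyDatum) (is : List ℕ) : List (ℕ × Poly) :=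
  is.flatMap fun i => [(D.simple i, one), (D.neg (D.simple i), [(-1, 0, 0)]), (D.simple i, one)]

theorem wM_append (l n : ℕ) (A : Fns) (w1 w2 : List (ℕ × F)) :
    wM l n A F (w1 ++ w2) = wM l n A F w1 * wM l n A F w2 := by
  unfold wM
  rw [List.map_append, List.prod_append]

theorem nWordGL_poly (D : ChevalleyDatum) (hD : D ∈ [chevG2, chevB2, chevD4, chevF4, chevE6, chevE7, chevE8])
    (is : List ℕ) (a b : F) :
    ((nWordGL D hD is : GL D.Idx F) : Matrix D.Idx D.Idx F) =
      wM D.rank D.nroots (fnsOf D) F ((nPolyWord D is).map fun x => (x.1, eval a b x.2)) := by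
  induction is with
  | nil =>
    have e1 : nWordGL (F := F) D hD [] = 1 := rfl
    rw [e1, Units.val_one]
    rfl
  | cons i is ih =>
    have e1 : nWordGL (F := F) D hD (i :: is) =
        wordGL D hD (D.nWord (D.simple i) (1 : F)) * nWordGL D hD is := by
      unfold nWordGL
      rw [List.map_cons, List.prod_cons]
    have e2 : nPolyWord D (i :: is) =
        [(D.simple i, one), (D.neg (D.simple i), [(-1, 0, 0)]), (D.simple i, one)] ++ nPolyWord D is := by
      unfold nPolyWord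
      rw [List.flatMap_cons]
    rw [e1, Units.val_mul, ih, wordGL_val, wordMat_eq, e2, List.map_append, wM_append]
    congr 1
    simp [ChevalleyDatum.nWord, eval, evalM, one]

theorem wordGL_prod_val (D : ChevalleyDatum)
    (hD : D ∈ [chevG2, chevB2, chevD4, chevF4, chevE6, chevE7, chevE8]) (ws : List (List (ℕ × F))) :
    (((ws.map fun w => wordGL D hD w).prod : GL D.Idx F) : Matrix D.Idx D.Idx F) =
      wM D.rank D.nroots (fnsOf D) F ws.flatten := by
  induction ws with
  | nil =>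
    rw [List.map_nil, List.prod_nil, Units.val_one]
    rfl
  | cons w ws ih =>
    rw [List.map_cons, List.prod_cons, Units.val_mul, ih, wordGL_val, wordMat_eq, List.flatten_cons,
      wM_append]

theorem block_mem (D : ChevalleyDatum) (hD : D ∈ [chevG2, chevB2, chevD4, chevF4, chevE6, chevE7, chevE8])
    (G1 : Subgroup (GL D.Idx F)) (p : ℤ) (hp : ((p : ℤ) : F) = 0) (blk : List ℕ)
    (ws : List (List (ℕ × Poly))) (a b : F)
    (hchk : ∀ k < D.rank + D.nroots,
      eqCheckP p D.rank D.nroots (fnsOf D) (nPolyWord D blk) ws.flatten k = true)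
    (hmem : ∀ w ∈ ws, wordGL D hD (w.map fun x => (x.1, eval a b x.2)) ∈ G1) :
    nWordGL D hD blk ∈ G1 := by
  have e : nWordGL (F := F) D hD blk =
      ((ws.map fun w => w.map fun x => (x.1, eval a b x.2)).map fun w => wordGL D hD w).prod := by
    apply Units.ext
    rw [wordGL_prod_val, nWordGL_poly D hD blk a b,
      eqCheckP_sound p hp D.rank D.nroots (fnsOf D) a b _ _ hchk, List.map_flatten]
  rw [e]
  apply Subgroup.list_prod_mem
  intro g hg
  rw [List.mem_map] at hg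
  obtain ⟨w', hw', rfl⟩ := hg
  rw [List.mem_map] at hw'
  obtain ⟨w, hw, rfl⟩ := hw'
  exact hmem w hw

theorem flatten_mem (D : ChevalleyDatum) (hD : D ∈ [chevG2, chevB2, chevD4, chevF4, chevE6, chevE7, chevE8])
    (G1 : Subgroup (GL D.Idx F)) (L : List (List ℕ)) (h : ∀ blk ∈ L, nWordGL (F := F) D hD blk ∈ G1) :
    nWordGL (F := F) D hD L.flatten ∈ G1 := by
  induction L with
  | nil =>
    rw [List.flatten_nil]
    exact one_mem _
  | cons blk L ih =>
    rw [List.flatten_cons, nWordGL_append]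
    exact mul_mem (h blk (by simp)) (ih (fun b hb => h b (List.mem_cons_of_mem _ hb)))

theorem twisted_core (D : ChevalleyDatum) (hD : D ∈ [chevG2, chevB2, chevD4, chevF4, chevE6, chevE7, chevE8])
    (G1 : Subgroup (GL D.Idx F)) (n0 : GL D.Idx F) (hn0 : n0 ∈ G1) (hn0N : n0 ∈ D.monomialSubgroup F)
    (hmap : (D.posUnipotent F).map (MulAut.conj n0).toMonoidHom = D.negUnipotent F)
    (hu : ∀ k < D.rank, ∃ u ∈ G1, u ∈ D.posUnipotent F ∧ ∃ (hs : D.simple k < D.nroots) (i : Fin D.rank),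
      (u : Matrix D.Idx D.Idx F) (Sum.inr ⟨D.simple k, hs⟩) (Sum.inl i) ≠ 0) :
    ((D.borelSubgroup F ⊓ G1).subgroupOf G1).normalCore = ⊥ := by
  have hH : ∀ y : ↥G1, y ∈ ((D.borelSubgroup F ⊓ G1).subgroupOf G1).normalCore →
      (y : GL D.Idx F) ∈ D.diagonalSubgroup F := by
    intro y hy
    have h1' : y ∈ (D.borelSubgroup F ⊓ G1).subgroupOf G1 := Subgroup.normalCore_le _ hy
    have h1 : (y : GL D.Idx F) ∈ D.borelSubgroup F :=
      (Subgroup.mem_inf.mp (Subgroup.mem_subgroupOf.mp h1')).1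
    have h2 := hy (⟨n0, hn0⟩ : ↥G1)⁻¹
    have h2' : n0⁻¹ * (y : GL D.Idx F) * n0⁻¹⁻¹ ∈ D.borelSubgroup F :=
      (Subgroup.mem_inf.mp (Subgroup.mem_subgroupOf.mp h2)).1
    obtain ⟨u, hu', h, hh, e⟩ := B_decomp D hD _ h2'
    have ex : (y : GL D.Idx F) = (n0 * u * n0⁻¹) * (n0 * h * n0⁻¹) := by
      rw [conj_mul, ← e]
      group
    have hv : n0 * u * n0⁻¹ ∈ D.negUnipotent F := by
      rw [← hmap]
      exact ⟨u, hu', rfl⟩
    have hh' := N_conj_H D hD n0 hn0N h hh
    have h3 : (y : GL D.Idx F) ∈ D.negUnipotent F ⊔ D.diagonalSubgroup F := by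
      rw [ex]
      exact Subgroup.mul_mem_sup hv hh'
    rw [← (Cfsg.Agent.S1037.result (F := F) D hD).2]
    exact Subgroup.mem_inf.mpr ⟨h1, h3⟩
  rw [eq_bot_iff]
  intro x hx
  rw [Subgroup.mem_bot]
  have hxH := hH x hx
  have hcomm : ∀ u : GL D.Idx F, u ∈ G1 → u ∈ D.posUnipotent F →
      u * (x : GL D.Idx F) = (x : GL D.Idx F) * u := by
    intro u hu1 huU
    have hn : (((D.borelSubgroup F ⊓ G1).subgroupOf G1).normalCore).Normal := Subgroup.normalCore_normal _
    have h3 := hn.conj_mem x hx ⟨u, hu1⟩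
    have h4 : u * (x : GL D.Idx F) * u⁻¹ ∈ D.diagonalSubgroup F := hH _ h3
    have h5 : u * (x : GL D.Idx F) * u⁻¹ * (x : GL D.Idx F)⁻¹ ∈ D.diagonalSubgroup F :=
      mul_mem h4 (inv_mem hxH)
    have hnorm := (Cfsg.Agent.S1036.result (F := F) D hD).1 hxH
    have h6 : (x : GL D.Idx F) * u⁻¹ * (x : GL D.Idx F)⁻¹ ∈ D.posUnipotent F :=
      (Subgroup.mem_normalizer_iff.mp hnorm u⁻¹).mp (inv_mem huU)
    have h7 : u * (x : GL D.Idx F) * u⁻¹ * (x : GL D.Idx F)⁻¹ ∈ D.posUnipotent F := by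
      have e : u * (x : GL D.Idx F) * u⁻¹ * (x : GL D.Idx F)⁻¹ =
          u * ((x : GL D.Idx F) * u⁻¹ * (x : GL D.Idx F)⁻¹) := by group
      rw [e]
      exact mul_mem huU h6
    have h8 : u * (x : GL D.Idx F) * u⁻¹ * (x : GL D.Idx F)⁻¹ ∈
        D.posUnipotent F ⊓ D.diagonalSubgroup F := Subgroup.mem_inf.mpr ⟨h7, h5⟩
    rw [(Cfsg.Agent.S1036.result (F := F) D hD).2, Subgroup.mem_bot] at h8
    calc u * (x : GL D.Idx F)
        = (u * (x : GL D.Idx F) * u⁻¹ * (x : GL D.Idx F)⁻¹) * ((x : GL D.Idx F) * u) := by group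
      _ = (x : GL D.Idx F) * u := by rw [h8, one_mul]
  have hr : (x : GL D.Idx F) ∈ (Phi (F := F) D).range := by
    rw [← diag_eq_range D hD]
    exact hxH
  obtain ⟨c, hc⟩ := hr
  have hE : E (Cm D) c = 1 := by
    funext i
    obtain ⟨u, hu1, huU, hs, j, hne⟩ := hu i.val i.isLt
    have hcm := hcomm u hu1 huU
    have hm : (u : Matrix D.Idx D.Idx F) * ((x : GL D.Idx F) : Matrix D.Idx D.Idx F) =
        ((x : GL D.Idx F) : Matrix D.Idx D.Idx F) * (u : Matrix D.Idx D.Idx F) := by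
      rw [← Units.val_mul, ← Units.val_mul, hcm]
    rw [← hc, Phi_val] at hm
    have hent := congrFun (congrFun hm (Sum.inr ⟨D.simple i, hs⟩)) (Sum.inl j)
    unfold ChevalleyDatum.charDiag at hent
    rw [Matrix.mul_diagonal, Matrix.diagonal_mul, Sum.elim_inl, Sum.elim_inr, mul_one] at hent
    have h1 : ((torusChi D (ext D c) (D.simple i) : Fˣ) : F) = 1 := by
      have h2 : (1 : F) * (u : Matrix D.Idx D.Idx F) (Sum.inr ⟨D.simple i, hs⟩) (Sum.inl j) =
          ((torusChi D (ext D c) (D.simple i) : Fˣ) : F) *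
            (u : Matrix D.Idx D.Idx F) (Sum.inr ⟨D.simple i, hs⟩) (Sum.inl j) := by
        rw [one_mul]
        exact hent
      exact (mul_right_cancel₀ hne h2).symm
    have h3 : torusChi D (ext D c) (D.simple i) = 1 := Units.ext h1
    rw [torusChi_ext] at h3
    exact h3
  have h9 := (ker_Phi D hD c).mpr hE
  apply Subtype.ext
  rw [← hc, h9]
  rfl

theorem test_elem (D : ChevalleyDatum) (hD : D ∈ [chevG2, chevB2, chevD4, chevF4, chevE6, chevE7, chevE8])
    (G1 : Subgroup (GL D.Idx F)) (p : ℤ) (hp : ((p : ℤ) : F) = 0) (W : List (ℕ × Poly)) (a b : F)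
    (hG : wordGL D hD (W.map fun x => (x.1, eval a b x.2)) ∈ G1)
    (hpos : W.all (fun x => decide (D.IsPosRoot x.1)) = true)
    (k : ℕ) (hs : D.simple k < D.nroots) (i : Fin D.rank) (c : ℤ) (hc : ((c : ℤ) : F) ≠ 0)
    (h : entChk p D.rank D.nroots (fnsOf D) W i.val (D.rank + D.simple k) c = true) :
    ∃ u ∈ G1, u ∈ D.posUnipotent F ∧ ∃ (hs : D.simple k < D.nroots) (i : Fin D.rank),
      (u : Matrix D.Idx D.Idx F) (Sum.inr ⟨D.simple k, hs⟩) (Sum.inl i) ≠ 0 := by
  refine ⟨wordGL D hD (W.map fun x => (x.1, eval a b x.2)), hG, ?_, hs, i, ?_⟩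
  · apply wordGL_mem_of D hD
    intro q hq
    rw [List.mem_map] at hq
    obtain ⟨x, hx, rfl⟩ := hq
    rw [List.all_eq_true] at hpos
    exact xGL_mem_U D hD x.1 (of_decide_eq_true (hpos x hx)) _
  · rw [wordGL_val, wordMat_eq]
    have h' : entChk p D.rank D.nroots (fnsOf D) W i.val
        (code (Sum.inr ⟨D.simple k, hs⟩ : Ix D.rank D.nroots)) c = true := h
    rw [entChk_sound p hp D.rank D.nroots (fnsOf D) a b W i (Sum.inr ⟨D.simple k, hs⟩) c h']
    exact hc

theorem gen_mem (D : ChevalleyDatum) (hD : D ∈ [chevG2, chevB2, chevD4, chevF4, chevE6, chevE7, chevE8])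
    (S : Set (List (ℕ × F))) (w : List (ℕ × F)) (hw : w ∈ S) : wordGL D hD w ∈ D.genSubgroup F S :=
  Subgroup.subset_closure ⟨w, hw, wordGL_val D hD w⟩

theorem neg_one_pow_card {K : Type*} [Field K] [Fintype K] (q k : ℕ) (hk : k ≠ 0)
    (hK : Fintype.card K = q ^ k) : (-1 : K) ^ q = -1 := by
  rcases Nat.even_or_odd q with he | ho
  · have h2 : ringChar K = 2 := by
      rw [FiniteField.even_card_iff_char_two, hK]
      exact Nat.even_iff.mp ((Nat.even_pow.mpr ⟨he, hk⟩))
    have h3 : (-1 : K) = 1 := neg_one_eq_one_iff.mpr h2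
    rw [h3, one_pow]
  · exact ho.neg_one_pow

theorem char_of_card {K : Type*} [Field K] [Fintype K] (p k : ℕ) (hK : Fintype.card K = p ^ k) :
    ((p : ℕ) : K) = 0 := by
  have h := Nat.cast_card_eq_zero K
  rw [hK, Nat.cast_pow] at h
  exact eq_zero_of_pow_eq_zero h

end

end Cfsg.Agent.Lib.Helper7.TwCore
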