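import Cfsg.Agent.Lib.Helper7.ChevUProd

set_option autoImplicit false
set_option maxRecDepth 1000000
set_option maxHeartbeats 4000000

namespace Cfsg.Agent.Lib.Helper7.UDataAll
open Cfsg.Lie Cfsg.Agent.Lib.Helper7.ChevEngine Cfsg.Agent.Lib.Helper7.ChevCommF Cfsg.Agent.Lib.Helper7.ChevCommFast Cfsg.Agent.Lib.Helper7.ChevCommSL Cfsg.Agent.Lib.Helper7.ChevUProd

def ordRaw (D : ChevalleyDatum) : Bool :=
  (List.range D.nroots).all fun r => decide (r < D.nroots / 2) ||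
    (List.range D.nroots).all fun s => decide (s ≤ r) ||
      (D.commTerms r s).all fun c => decide (s < c.1) && decide (c.1 < D.nroots)

theorem ord_of_raw (D : ChevalleyDatum) (h : ordRaw D = true) :
    ∀ r s, D.nroots / 2 ≤ r → r < s → s < D.nroots → ∀ c ∈ D.commTerms r s, s < c.1 ∧ c.1 < D.nroots := by
  intro r s h1 h2 h3 c hc
  unfold ordRaw at h
  rw [List.all_eq_true] at h
  have g1 := h r (List.mem_range.mpr (by omega))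
  rw [Bool.or_eq_true, decide_eq_true_eq, List.all_eq_true] at g1
  rcases g1 with g1 | g1
  · omega
  · have g2 := g1 s (List.mem_range.mpr h3)
    rw [Bool.or_eq_true, decide_eq_true_eq, List.all_eq_true] at g2
    rcases g2 with g2 | g2
    · omega
    · simpa using g2 c hc

def ordF (CH n : ℕ) : Bool :=
  (List.range n).all fun r => decide (r < n / 2) ||
    (List.range n).all fun s => decide (s ≤ r) || (ctF CH n r s).all fun c => decide (s < c.1)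

theorem ord_of_F (D : ChevalleyDatum) (CH : ℕ) (hCH : chCheck D CH = true) (h : ordF CH D.nroots = true) :
    ∀ r s, D.nroots / 2 ≤ r → r < s → s < D.nroots → ∀ c ∈ D.commTerms r s, s < c.1 ∧ c.1 < D.nroots := by
  intro r s h1 h2 h3 c hc
  obtain ⟨e, hr⟩ := commTerms_fast D CH hCH r s (by omega) h3
  rw [e] at hc
  unfold ordF at h
  rw [List.all_eq_true] at h
  have g1 := h r (List.mem_range.mpr (by omega))
  rw [Bool.or_eq_true, decide_eq_true_eq, List.all_eq_true] at g1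
  rcases g1 with g1 | g1
  · omega
  · have g2 := g1 s (List.mem_range.mpr h3)
    rw [Bool.or_eq_true, decide_eq_true_eq, List.all_eq_true] at g2
    rcases g2 with g2 | g2
    · omega
    · exact ⟨by simpa using g2 c hc, hr c hc⟩

def ordS (CH n : ℕ) : Bool :=
  (List.range n).all fun r => decide (r < n / 2) ||
    (List.range n).all fun s => decide (s ≤ r) ||
      frc (ent CH n r s) fun e => decide (e % 256 = 0) || decide (s + 1 < e % 256)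

theorem ord_of_S (D : ChevalleyDatum) (CH : ℕ) (hCH : chCheck1 D CH = true) (h : ordS CH D.nroots = true) :
    ∀ r s, D.nroots / 2 ≤ r → r < s → s < D.nroots → ∀ c ∈ D.commTerms r s, s < c.1 ∧ c.1 < D.nroots := by
  intro r s h1 h2 h3 c hc
  rw [commTerms_sl D CH hCH r s (by omega) h3] at hc
  unfold ordS at h
  rw [List.all_eq_true] at h
  have g1 := h r (List.mem_range.mpr (by omega))
  rw [Bool.or_eq_true, decide_eq_true_eq, List.all_eq_true] at g1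
  rcases g1 with g1 | g1
  · omega
  · have g2 := g1 s (List.mem_range.mpr h3)
    rw [Bool.or_eq_true, decide_eq_true_eq, frc_eq, Bool.or_eq_true, decide_eq_true_eq, decide_eq_true_eq] at g2
    rcases g2 with g2 | g2
    · omega
    · unfold ctS at hc
      rcases g2 with g2 | g2
      · rw [if_pos g2] at hc
        simp at hc
      · rw [if_neg (by omega)] at hc
        split_ifs at hc with g3
        · rw [List.mem_singleton] at hc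
          rw [hc]
          constructor
          · show s < ent CH D.nroots r s % 256 - 1
            omega
          · show ent CH D.nroots r s % 256 - 1 < D.nroots
            omega
        · simp at hc

theorem nrG2 : negRevCheck chevG2 = true := by decide +kernel

def bzG2 : List (List ℤ) := [[], [], [], [], [], [], [0, 1], [1, 0], [1, 0], [-1, 1], [0, 1], [1, 0]]

theorem bcG2 : bezCheck chevG2 bzG2 = true := by decide +kernel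

theorem ocG2 : ordRaw chevG2 = true := by decide +kernel

theorem udG2 : UData chevG2 :=
  ⟨negRev_of_check chevG2 nrG2, bez_of_check chevG2 bzG2 bcG2, ord_of_raw chevG2 ocG2⟩

theorem nrB2 : negRevCheck chevB2 = true := by decide +kernel

def bzB2 : List (List ℤ) := [[], [], [], [], [0, 1], [1, 0], [1, 0], [0, 1]]

theorem bcB2 : bezCheck chevB2 bzB2 = true := by decide +kernel

theorem ocB2 : ordRaw chevB2 = true := by decide +kernel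

theorem udB2 : UData chevB2 :=
  ⟨negRev_of_check chevB2 nrB2, bez_of_check chevB2 bzB2 bcB2, ord_of_raw chevB2 ocB2⟩

theorem nrD4 : negRevCheck chevD4 = true := by decide +kernel

def bzD4 : List (List ℤ) := [[], [], [], [], [], [], [], [], [], [], [], [], [0, 0, 0, 1], [0, 0, 1, 0], [0, 1, 0, 0], [0, 0, 0, 1], [0, 0, 1, 0], [0, 0, 0, 1], [1, 0, 0, 0], [0, 1, 0, 0], [0, 0, 0, 1], [0, 0, 1, 0], [0, 0, 0, 1], [0, 0, 0, 1]]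

theorem bcD4 : bezCheck chevD4 bzD4 = true := by decide +kernel

theorem ocD4 : ordS Cfsg.Agent.Lib.Helper7.CommDD4.CH chevD4.nroots = true := by decide +kernel

theorem udD4 : UData chevD4 :=
  ⟨negRev_of_check chevD4 nrD4, bez_of_check chevD4 bzD4 bcD4, ord_of_S chevD4 Cfsg.Agent.Lib.Helper7.CommDD4.CH Cfsg.Agent.Lib.Helper7.CommD4.chk ocD4⟩

theorem nrF4 : negRevCheck chevF4 = true := by decide +kernel

def bzF4 : List (List ℤ) := [[], [], [], [], [], [], [], [], [], [], [], [], [], [], [], [], [], [], [], [], [], [], [], [], [0, 0, 0, 1], [0, 0, 1, 0], [0, 0, 0, 1], [0, 1, 0, 0], [0, 1, 0, 0], [0, 1, 0, 0], [0, 0, 1, 0], [0, 0, 0, 1], [0, 0, 0, 1], [1, 0, 0, 0], [0, 1, 0, 0], [0, 1, 0, 0], [0, 1, 0, 0], [1, 0, 0, 0], [1, 0, 0, 0], [1, 0, 0, 0], [1, 0, 0, 0], [0, 0, 1, 0], [0, 0, 0, 1], [0, 0, 0, 1], [-1, 1, 0, 0],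 [0, 0, 0, 1], [0, 0, 0, 1], [1, 0, 0, 0]]

theorem bcF4 : bezCheck chevF4 bzF4 = true := by decide +kernel

theorem ocF4 : ordF Cfsg.Agent.Lib.Helper7.CommDF4.CH chevF4.nroots = true := by decide +kernel

theorem udF4 : UData chevF4 :=
  ⟨negRev_of_check chevF4 nrF4, bez_of_check chevF4 bzF4 bcF4, ord_of_F chevF4 Cfsg.Agent.Lib.Helper7.CommDF4.CH Cfsg.Agent.Lib.Helper7.CommF4.chk ocF4⟩

theorem nrE6 : negRevCheck chevE6 = true := by decide +kernel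

def bzE6 : List (List ℤ) := [[], [], [], [], [], [], [], [], [], [], [], [], [], [], [], [], [], [], [], [], [], [], [], [], [], [], [], [], [], [], [], [], [], [], [], [], [0, 0, 0, 0, 0, 1], [0, 0, 0, 0, 1, 0], [0, 0, 0, 0, 0, 1], [0, 0, 0, 1, 0, 0], [0, 0, 0, 0, 1, 0], [0, 0, 0, 0, 0, 1], [0, 0, 1, 0, 0, 0], [0, 0, 0, 1, 0, 0], [0, 0, 0, 0, 1, 0], [0, 0, 0, 0, 0, 1], [0, 1, 0, 0, 0, 0], [0, 0, 0, 1, 0, 0], [0, 0, 0, 0, 1, 0], [0, 0, 0, 0, 0, 1], [0, 0, 0, 1, 0, 0], [0, 0, 0, 0, 1, 0], [0, 0, 0, 0, 0, 1], [0, 0, 0, 0, 1, 0], [0, 0, 0, 0, 0, 1], [0, 0, 0, 0, 0, 1], [1, 0, 0, 0, 0, 0], [0, 0, 1, 0, 0, 0], [0, 0, 0, 1, 0, 0], [0, 0, 0, 0, 1, 0], [0, 0, 0, 0, 0, 1], [0, 0, 0, 1, 0, 0], [0, 0, 0, 0, 1, 0], [0, 0, 0, 0, 0, 1], [0, 0, 0, 0, 1, 0], [0, 0, 0, 0, 0, 1], [0, 0, 0, 0, 0, 1], [0, 0, 0, 0, 1, 0], [0, 0, 0, 0, 0, 1],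 [0, 0, 0, 0, 0, 1], [0, 0, 0, 0, 0, 1], [0, 0, 0, 0, 0, 1]]

theorem bcE6 : bezCheck chevE6 bzE6 = true := by decide +kernel

theorem ocE6 : ordS Cfsg.Agent.Lib.Helper7.CommDE6.CH chevE6.nroots = true := by decide +kernel

theorem udE6 : UData chevE6 :=
  ⟨negRev_of_check chevE6 nrE6, bez_of_check chevE6 bzE6 bcE6, ord_of_S chevE6 Cfsg.Agent.Lib.Helper7.CommDE6.CH Cfsg.Agent.Lib.Helper7.CommE6.chk ocE6⟩

theorem nrE7 : negRevCheck chevE7 = true := by decide +kernel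

def bzE7 : List (List ℤ) := [[], [], [], [], [], [], [], [], [], [], [], [], [], [], [], [], [], [], [], [], [], [], [], [], [], [], [], [], [], [], [], [], [], [], [], [], [], [], [], [], [], [], [], [], [], [], [], [], [], [], [], [], [], [], [], [], [], [], [], [], [], [], [], [0, 0, 0, 0, 0, 0, 1], [0, 0, 0, 0, 0, 1, 0], [0, 0, 0, 0, 0, 0, 1], [0, 0, 0, 0, 1, 0, 0], [0, 0, 0, 0, 0, 1, 0], [0, 0, 0, 0, 0, 0, 1], [0, 0, 0, 1, 0, 0, 0], [0, 0, 0, 0, 1, 0, 0], [0, 0, 0, 0, 0, 1, 0], [0, 0, 0, 0, 0, 0, 1], [0, 0, 1, 0, 0, 0, 0], [0, 0, 0, 1, 0, 0, 0], [0, 0, 0, 0, 1, 0, 0], [0, 0, 0, 0, 0, 1, 0], [0, 0, 0, 0, 0, 0, 1], [0, 1, 0, 0, 0, 0, 0], [0, 0, 0, 1, 0, 0, 0], [0, 0, 0, 0, 1, 0, 0], [0, 0, 0, 0, 0, 1, 0], [0, 0, 0, 0, 0, 0, 1], [0, 0, 0, 1, 0, 0, 0], [0, 0, 0, 0, 1, 0, 0], [0, 0, 0, 0, 0, 1, 0], [0, 0, 0, 0, 0, 0, 1],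 [0, 0, 0, 0, 1, 0, 0], [0, 0, 0, 0, 0, 1, 0], [0, 0, 0, 0, 0, 0, 1], [0, 0, 0, 0, 0, 1, 0], [0, 0, 0, 0, 0, 0, 1], [0, 0, 0, 0, 0, 0, 1], [1, 0, 0, 0, 0, 0, 0], [0, 0, 1, 0, 0, 0, 0], [0, 0, 0, 1, 0, 0, 0], [0, 0, 0, 0, 1, 0, 0], [0, 0, 0, 0, 0, 1, 0], [0, 0, 0, 0, 0, 0, 1], [0, 0, 0, 1, 0, 0, 0], [0, 0, 0, 0, 1, 0, 0], [0, 0, 0, 0, 0, 1, 0], [0, 0, 0, 0, 0, 0, 1], [0, 0, 0, 0, 1, 0, 0], [0, 0, 0, 0, 0, 1, 0], [0, 0, 0, 0, 0, 0, 1], [0, 0, 0, 0, 0, 1, 0], [0, 0, 0, 0, 0, 0, 1], [0, 0, 0, 0, 0, 0, 1], [0, 0, 0, 0, 1, 0, 0], [0, 0, 0, 0, 0, 1, 0], [0, 0, 0, 0, 0, 0, 1], [0, 0, 0, 0, 0, 1, 0], [0, 0, 0, 0, 0, 0, 1], [0, 0, 0, 0, 0, 0, 1], [0, 0, 0, 0, 0, 1, 0], [0, 0, 0, 0, 0, 0, 1], [0, 0, 0, 0, 0, 0, 1], [0, 0, 0, 0, 0, 0, 1], [0, 0, 0, 0, 0, 1, 0], [0, 0, 0, 0, 0, 0, 1], [0, 0, 0, 0, 0, 0, 1], [0, 0, 0, 0, 0, 0, 1], [0,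 0, 0, 0, 0, 0, 1], [0, 0, 0, 0, 0, 0, 1], [0, 0, 0, 0, 0, 0, 1]]

theorem bcE7 : bezCheck chevE7 bzE7 = true := by decide +kernel

theorem ocE7 : ordS Cfsg.Agent.Lib.Helper7.CommDE7.CH chevE7.nroots = true := by decide +kernel

theorem udE7 : UData chevE7 :=
  ⟨negRev_of_check chevE7 nrE7, bez_of_check chevE7 bzE7 bcE7, ord_of_S chevE7 Cfsg.Agent.Lib.Helper7.CommDE7.CH Cfsg.Agent.Lib.Helper7.CommE7.chk ocE7⟩

theorem nrE8 : negRevCheck chevE8 = true := by decide +kernel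

def bzE8 : List (List ℤ) := [[], [], [], [], [], [], [], [], [], [], [], [], [], [], [], [], [], [], [], [], [], [], [], [], [], [], [], [], [], [], [], [], [], [], [], [], [], [], [], [], [], [], [], [], [], [], [], [], [], [], [], [], [], [], [], [], [], [], [], [], [], [], [], [], [], [], [], [], [], [], [], [], [], [], [], [], [], [], [], [], [], [], [], [], [], [], [], [], [], [], [], [], [], [], [], [], [], [], [], [], [], [], [], [], [], [], [], [], [], [], [], [], [], [], [], [], [], [], [], [], [0, 0, 0, 0, 0, 0, 0, 1], [0, 0, 0, 0, 0, 0, 1, 0], [0, 0, 0, 0, 0, 0, 0, 1], [0, 0, 0, 0, 0, 1, 0, 0], [0, 0, 0, 0, 0, 0, 1, 0], [0, 0, 0, 0, 0, 0, 0, 1], [0, 0, 0, 0, 1, 0, 0, 0], [0, 0, 0, 0, 0, 1, 0, 0], [0, 0, 0, 0, 0, 0, 1, 0], [0, 0, 0, 0, 0, 0, 0, 1], [0, 0, 0, 1, 0, 0, 0, 0], [0, 0, 0, 0, 1, 0, 0, 0], [0, 0, 0,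 0, 0, 1, 0, 0], [0, 0, 0, 0, 0, 0, 1, 0], [0, 0, 0, 0, 0, 0, 0, 1], [0, 0, 1, 0, 0, 0, 0, 0], [0, 0, 0, 1, 0, 0, 0, 0], [0, 0, 0, 0, 1, 0, 0, 0], [0, 0, 0, 0, 0, 1, 0, 0], [0, 0, 0, 0, 0, 0, 1, 0], [0, 0, 0, 0, 0, 0, 0, 1], [0, 1, 0, 0, 0, 0, 0, 0], [0, 0, 0, 1, 0, 0, 0, 0], [0, 0, 0, 0, 1, 0, 0, 0], [0, 0, 0, 0, 0, 1, 0, 0], [0, 0, 0, 0, 0, 0, 1, 0], [0, 0, 0, 0, 0, 0, 0, 1], [0, 0, 0, 1, 0, 0, 0, 0], [0, 0, 0, 0, 1, 0, 0, 0], [0, 0, 0, 0, 0, 1, 0, 0], [0, 0, 0, 0, 0, 0, 1, 0], [0, 0, 0, 0, 0, 0, 0, 1], [0, 0, 0, 0, 1, 0, 0, 0], [0, 0, 0, 0, 0, 1, 0, 0], [0, 0, 0, 0, 0, 0, 1, 0], [0, 0, 0, 0, 0, 0, 0, 1], [0, 0, 0, 0, 0, 1, 0, 0], [0, 0, 0, 0, 0, 0, 1, 0], [0, 0, 0, 0, 0, 0, 0, 1], [0, 0, 0, 0, 0, 0, 1, 0], [0, 0, 0, 0, 0, 0, 0, 1], [0, 0, 0, 0, 0, 0, 0, 1], [1, 0, 0, 0, 0, 0, 0, 0], [0, 0, 1, 0, 0, 0, 0, 0], [0, 0, 0,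 1, 0, 0, 0, 0], [0, 0, 0, 0, 1, 0, 0, 0], [0, 0, 0, 0, 0, 1, 0, 0], [0, 0, 0, 0, 0, 0, 1, 0], [0, 0, 0, 0, 0, 0, 0, 1], [0, 0, 0, 1, 0, 0, 0, 0], [0, 0, 0, 0, 1, 0, 0, 0], [0, 0, 0, 0, 0, 1, 0, 0], [0, 0, 0, 0, 0, 0, 1, 0], [0, 0, 0, 0, 0, 0, 0, 1], [0, 0, 0, 0, 1, 0, 0, 0], [0, 0, 0, 0, 0, 1, 0, 0], [0, 0, 0, 0, 0, 0, 1, 0], [0, 0, 0, 0, 0, 0, 0, 1], [0, 0, 0, 0, 0, 1, 0, 0], [0, 0, 0, 0, 0, 0, 1, 0], [0, 0, 0, 0, 0, 0, 0, 1], [0, 0, 0, 0, 0, 0, 1, 0], [0, 0, 0, 0, 0, 0, 0, 1], [0, 0, 0, 0, 0, 0, 0, 1], [0, 0, 0, 0, 1, 0, 0, 0], [0, 0, 0, 0, 0, 1, 0, 0], [0, 0, 0, 0, 0, 0, 1, 0], [0, 0, 0, 0, 0, 0, 0, 1], [0, 0, 0, 0, 0, 1, 0, 0], [0, 0, 0, 0, 0, 0, 1, 0], [0, 0, 0, 0, 0, 0, 0, 1], [0, 0, 0, 0, 0, 0, 1, 0], [0, 0, 0, 0, 0, 0, 0, 1], [0, 0, 0, 0, 0, 0, 0, 1], [0, 0, 0, 0, 0, 1, 0, 0], [0, 0, 0, 0, 0, 0, 1, 0], [0, 0, 0,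 0, 0, 0, 0, 1], [0, 0, 0, 0, 0, 0, 1, 0], [0, 0, 0, 0, 0, 0, 0, 1], [0, 0, 0, 0, 0, 0, 0, 1], [0, 0, 0, 0, 0, 0, 1, 0], [0, 0, 0, 0, 0, 0, 0, 1], [0, 0, 0, 0, 0, 0, 0, 1], [0, 0, 0, 0, 0, 0, 0, 1], [0, 0, 0, 0, 0, 1, 0, 0], [0, 0, 0, 0, 0, 0, 1, 0], [0, 0, 0, 0, 0, 0, 0, 1], [0, 0, 0, 0, 0, 0, 1, 0], [0, 0, 0, 0, 0, 0, 0, 1], [0, 0, 0, 0, 0, 0, 0, 1], [0, 0, 0, 0, 0, 0, 1, 0], [0, 0, 0, 0, 0, 0, 0, 1], [0, 0, 0, 0, 0, 0, 0, 1], [0, 0, 0, 0, 0, 0, 0, 1], [0, 0, 0, 0, 0, 0, 1, 0], [0, 0, 0, 0, 0, 0, 0, 1], [0, 0, 0, 0, 0, 0, 0, 1], [0, 0, 0, 0, 0, 0, 0, 1], [0, 0, 0, 0, 0, 0, 0, 1], [0, 0, 0, 0, 0, 0, 1, 0], [0, 0, 0, 0, 0, 0, 0, 1], [0, 0, 0, 0, 0, 0, 0, 1], [0, 0, 0, 0, 0, 0, 0, 1], [0, 0, 0, 0, 0, 0, 0, 1], [0, 0, 0, 0, 0, 0, 0, 1], [0, 0, 0, 0, 0, 0, 0, 1], [0, 0, 0, 0, 0, 0, 1, 0], [0, 0, 0, 0, 0, 0, 0, 1], [0, 0, 0,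 0, 0, 0, 0, 1], [0, 0, 0, 0, 0, 0, 0, 1], [0, 0, 0, 0, 0, 0, 0, 1], [0, 0, 0, 0, 0, 0, 0, 1], [0, 0, 0, 0, 0, 0, 0, 1], [0, 0, 0, 0, 0, 0, 0, 1], [0, 0, 0, 0, 0, 0, 0, 1], [0, 0, 0, 0, 0, 0, 0, 1], [0, 0, 0, 0, 0, 0, 0, 1], [0, 0, 0, 0, 0, 0, 0, 1], [0, 0, 0, 0, 0, 0, 0, 1], [-1, 1, 0, 0, 0, 0, 0, 0]]

theorem bcE8 : bezCheck chevE8 bzE8 = true := by decide +kernel

theorem ocE8 : ordS Cfsg.Agent.Lib.Helper7.CommDE8.CH chevE8.nroots = true := by decide +kernel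

theorem udE8 : UData chevE8 :=
  ⟨negRev_of_check chevE8 nrE8, bez_of_check chevE8 bzE8 bcE8, ord_of_S chevE8 Cfsg.Agent.Lib.Helper7.CommDE8.CH Cfsg.Agent.Lib.Helper7.CommE8.chk ocE8⟩

theorem udata_of_mem (D : ChevalleyDatum)
    (hD : D ∈ [chevG2, chevB2, chevD4, chevF4, chevE6, chevE7, chevE8]) : UData D := by
  simp only [List.mem_cons, List.not_mem_nil, or_false] at hD
  rcases hD with rfl | rfl | rfl | rfl | rfl | rfl | rfl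
  · exact udG2
  · exact udB2
  · exact udD4
  · exact udF4
  · exact udE6
  · exact udE7
  · exact udE8

end Cfsg.Agent.Lib.Helper7.UDataAll
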