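import Cfsg.Agent.Lib.Helper7.ReeId
import Cfsg.Agent.Lib.Helper7.SpecData
import Cfsg.Agent.Lib.Helper7.TwCore
import Cfsg.Agent.Lib.Helper7.UDataAll
import Cfsg.Agent.S1080

set_option autoImplicit false

namespace Cfsg.Agent.Lib.Helper7.ReeFix
open Cfsg.Lie Cfsg.Agent.Lib.Helper7.ChevEngine Cfsg.Agent.Lib.Helper7.MvEngine
  Cfsg.Agent.Lib.Helper7.MvWord Cfsg.Agent.Lib.Helper7.ChevTorus Cfsg.Agent.Lib.Helper7.ReeId
  Cfsg.Agent.Lib.Helper7.ChevSpec Cfsg.Agent.Lib.Helper7.SpecData Cfsg.Agent.Lib.Helper7.ChevGen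
  Cfsg.Agent.Lib.Helper7.ChevUProd Cfsg.Agent.Lib.Helper7.TwCore

section
variable {K : Type*} [Field K]

theorem hG2 : chevG2 ∈ [chevG2, chevB2, chevD4, chevF4, chevE6, chevE7, chevE8] := by simp

def envL (t T u U v V : K) : ℕ → K := fun i => [t, T, u, U, v, V].getD i 0

theorem wordGL_eq_of_chk (h3 : ((3 : ℕ) : K) = 0) (ρ : ℕ → K) (w1 w2 : List (ℕ × Poly6))
    (h : eqChkAll 3 chevG2.rank chevG2.nroots (fnsOf chevG2) w1 w2 = true) :
    wordGL chevG2 hG2 (w1.map fun x => (x.1, eval6 ρ x.2)) =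
      wordGL chevG2 hG2 (w2.map fun x => (x.1, eval6 ρ x.2)) := by
  apply Units.ext
  rw [wordGL_val, wordGL_val, wordMat_eq, wordMat_eq]
  exact eqChk6_sound 3 (by exact_mod_cast h3) _ _ _ ρ w1 w2 h

theorem id1 (h3 : ((3 : ℕ) : K) = 0) (t T u U v V : K) :
    wordGL chevG2 hG2 [(7, T), (6, t), (8, T * t + U), (9, T ^ 2 * t + V), (10, u), (11, v)] =
    wordGL chevG2 hG2 [(6, t), (7, T), (10, t * T ^ 3 + u), (11, t ^ 2 * T ^ 3 + v), (8, U), (9, V)] := by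
  have h := wordGL_eq_of_chk h3 (envL t T u U v V) W1a W1b chk1
  have e1 : W1a.map (fun x => (x.1, eval6 (envL t T u U v V) x.2)) =
      [(7, T), (6, t), (8, T * t + U), (9, T ^ 2 * t + V), (10, u), (11, v)] := by
    simp [W1a, eval6, evalM6, eex, envL]
    all_goals first | done | (refine ⟨?_, ?_⟩ <;> ring)
  have e2 : W1b.map (fun x => (x.1, eval6 (envL t T u U v V) x.2)) =
      [(6, t), (7, T), (10, t * T ^ 3 + u), (11, t ^ 2 * T ^ 3 + v), (8, U), (9, V)] := by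
    simp [W1b, eval6, evalM6, eex, envL]
    all_goals first | done | (refine ⟨?_, ?_⟩ <;> ring)
  rw [e1, e2] at h
  exact h

theorem id2 (h3 : ((3 : ℕ) : K) = 0) (t T u U v V : K) :
    wordGL chevG2 hG2 [(4, -T), (5, -t), (3, -(T * t + U)), (2, -(T ^ 2 * t + V)), (1, -u), (0, -v)] =
    wordGL chevG2 hG2 [(5, -t), (4, -T), (1, -(t * T ^ 3 + u)), (0, -(t ^ 2 * T ^ 3 + v)), (3, -U), (2, -V)] := by
  have h := wordGL_eq_of_chk h3 (envL t T u U v V) W2a W2b chk2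
  have e1 : W2a.map (fun x => (x.1, eval6 (envL t T u U v V) x.2)) =
      [(4, -T), (5, -t), (3, -(T * t + U)), (2, -(T ^ 2 * t + V)), (1, -u), (0, -v)] := by
    simp [W2a, eval6, evalM6, eex, envL]
    all_goals first | done | (refine ⟨?_, ?_⟩ <;> ring)
  have e2 : W2b.map (fun x => (x.1, eval6 (envL t T u U v V) x.2)) =
      [(5, -t), (4, -T), (1, -(t * T ^ 3 + u)), (0, -(t ^ 2 * T ^ 3 + v)), (3, -U), (2, -V)] := by
    simp [W2b, eval6, evalM6, eex, envL]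
    all_goals first | done | (refine ⟨?_, ?_⟩ <;> ring)
  rw [e1, e2] at h
  exact h

theorem id3 (h3 : ((3 : ℕ) : K) = 0) (t T u U v V : K) :
    wordGL chevG2 hG2 [(7, T), (6, t), (8, T * t + U), (9, T ^ 2 * t + V), (10, u), (11, v)] =
    wordGL chevG2 hG2 [(6, t), (7, T), (8, U), (9, V), (10, u + t * T ^ 3), (11, v + t ^ 2 * T ^ 3)] := by
  have h := wordGL_eq_of_chk h3 (envL t T u U v V) W1a W3 chk3
  have e1 : W1a.map (fun x => (x.1, eval6 (envL t T u U v V) x.2)) =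
      [(7, T), (6, t), (8, T * t + U), (9, T ^ 2 * t + V), (10, u), (11, v)] := by
    simp [W1a, eval6, evalM6, eex, envL]
    all_goals first | done | (refine ⟨?_, ?_⟩ <;> ring)
  have e2 : W3.map (fun x => (x.1, eval6 (envL t T u U v V) x.2)) =
      [(6, t), (7, T), (8, U), (9, V), (10, u + t * T ^ 3), (11, v + t ^ 2 * T ^ 3)] := by
    simp [W3, eval6, evalM6, eex, envL]
    all_goals first | done | (refine ⟨?_, ?_⟩ <;> ring)
  rw [e1, e2] at h
  exact h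

theorem id4 (h3 : ((3 : ℕ) : K) = 0) (d1 d2 d3 d4 d5 d6 : K) :
    wordGL chevG2 hG2 [(7, d1), (6, d2), (10, d3), (11, d4), (8, d5), (9, d6)] =
    wordGL chevG2 hG2 [(6, d2), (7, d1), (8, d5 - d1 * d2), (9, d6 - d1 ^ 2 * d2), (10, d3 + d1 ^ 3 * d2),
      (11, d4 + d1 ^ 3 * d2 ^ 2)] := by
  have h := wordGL_eq_of_chk h3 (envL d1 d2 d3 d4 d5 d6) W4a W4b chk4
  have e1 : W4a.map (fun x => (x.1, eval6 (envL d1 d2 d3 d4 d5 d6) x.2)) =
      [(7, d1), (6, d2), (10, d3), (11, d4), (8, d5), (9, d6)] := by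
    simp [W4a, eval6, evalM6, eex, envL]
    all_goals first | done | (refine ⟨?_, ?_⟩ <;> ring)
  have e2 : W4b.map (fun x => (x.1, eval6 (envL d1 d2 d3 d4 d5 d6) x.2)) =
      [(6, d2), (7, d1), (8, d5 - d1 * d2), (9, d6 - d1 ^ 2 * d2), (10, d3 + d1 ^ 3 * d2),
        (11, d4 + d1 ^ 3 * d2 ^ 2)] := by
    simp [W4b, eval6, evalM6, eex, envL]
    all_goals first | done | (refine ⟨?_, ?_⟩ <;> ring)
  rw [e1, e2] at h
  exact h

end

end Cfsg.Agent.Lib.Helper7.ReeFix
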