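import Cfsg.Agent.Lib.Helper7.ReeOrder

set_option autoImplicit false
set_option maxHeartbeats 400000

namespace Cfsg.Agent.Lib.Helper7.ReeH
open Cfsg.Lie Cfsg.Agent.Lib.Helper7.ChevEngine Cfsg.Agent.Lib.Helper7.ChevTorus
  Cfsg.Agent.Lib.Helper7.ReeFix Cfsg.Agent.Lib.Helper7.ReeMain Cfsg.Agent.Lib.Helper7.ReeSg
  Cfsg.Agent.Lib.Helper7.ReeTorus Cfsg.Agent.Lib.Helper7.ReeTorMem Cfsg.Agent.Lib.Helper7.ReeOrder

section
variable {K : Type*} [Field K]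

theorem th_mul (m : ℕ) (μ ν : Kˣ) : th m (μ * ν) = th m μ * th m ν := by
  unfold th
  rw [hh_mul, mul_pow]

theorem mem_H1 [Fintype K] {m : ℕ} (hK : Fintype.card K = 3 ^ (2 * m + 1)) (h : GL chevG2.Idx K) :
    h ∈ chevG2.diagonalSubgroup K ⊓ twistedG2 K (3 ^ m) ↔ ∃ μ : Kˣ, h = th m μ := by
  have fr := frob_of_card hK
  constructor
  · intro hh'
    obtain ⟨σ, hσ⟩ := exists_sigma fr
    have hfix := ((mem_Fx_iff σ h).mp (twisted_le_Fx fr σ hσ hh'.2)).2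
    obtain ⟨c0, c1, rfl⟩ := exists_hh h hh'.1
    rw [hh_fix_iff fr σ hσ] at hfix
    subst hfix
    exact ⟨c1, rfl⟩
  · rintro ⟨μ, rfl⟩
    exact Subgroup.mem_inf.mpr ⟨th_memH m μ, hfix_mem hK μ⟩

noncomputable def thHom [Fintype K] {m : ℕ} (hK : Fintype.card K = 3 ^ (2 * m + 1)) :
    Kˣ →* ↥(chevG2.diagonalSubgroup K ⊓ twistedG2 K (3 ^ m)) :=
  MonoidHom.mk' (fun μ => ⟨th m μ, (mem_H1 hK _).mpr ⟨μ, rfl⟩⟩)
    (fun μ ν => Subtype.ext (th_mul m μ ν))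

theorem thHom_bij [Fintype K] {m : ℕ} (hK : Fintype.card K = 3 ^ (2 * m + 1)) :
    Function.Bijective (thHom hK) := by
  constructor
  · intro μ ν h
    exact th_inj m μ ν (congrArg Subtype.val h)
  · rintro ⟨h, hh'⟩
    obtain ⟨μ, rfl⟩ := (mem_H1 hK h).mp hh'
    exact ⟨μ, rfl⟩

theorem card_H1 [Fintype K] {m : ℕ} (hK : Fintype.card K = 3 ^ (2 * m + 1)) :
    Nat.card ↥(chevG2.diagonalSubgroup K ⊓ twistedG2 K (3 ^ m)) = 3 ^ (2 * m + 1) - 1 := by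
  rw [← Nat.card_congr (Equiv.ofBijective _ (thHom_bij hK)), Nat.card_units, Nat.card_eq_fintype_card, hK]

theorem cyclic_H1 [Fintype K] {m : ℕ} (hK : Fintype.card K = 3 ^ (2 * m + 1)) :
    IsCyclic ↥(chevG2.diagonalSubgroup K ⊓ twistedG2 K (3 ^ m)) :=
  isCyclic_of_surjective (thHom hK) (thHom_bij hK).2

end

end Cfsg.Agent.Lib.Helper7.ReeH
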