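import Cfsg.Agent.Lib.Helper7.ReePerf
import Cfsg.Agent.Lib.Helper7.ReeH

set_option autoImplicit false
set_option maxHeartbeats 400000

namespace Cfsg.Agent.Lib.Helper7.ReeFpf
open Cfsg.Lie Cfsg.Agent.Lib.Helper7.ChevEngine Cfsg.Agent.Lib.Helper7.ChevTorus
  Cfsg.Agent.Lib.Helper7.ReeFix Cfsg.Agent.Lib.Helper7.ReeMain Cfsg.Agent.Lib.Helper7.ReeSg
  Cfsg.Agent.Lib.Helper7.ReeTorus Cfsg.Agent.Lib.Helper7.ReeTorMem Cfsg.Agent.Lib.Helper7.ReeOrder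
  Cfsg.Agent.Lib.Helper7.ReeBN Cfsg.Agent.Lib.Helper7.ReePerf Cfsg.Agent.Lib.Helper7.ReeH
  Cfsg.Agent.Lib.Helper7.ReeU

section
variable {K : Type*} [Field K]

theorem conj_th {m : ℕ} (fr : Frob K m) (μ : Kˣ) (t u v : K) :
    th m μ * uu m (t, u, v) * (th m μ)⁻¹ =
      uu m ((((μ : K) ^ (3 ^ m))⁻¹) ^ 3 * (μ : K) ^ 2 * t, ((μ : K) ^ (3 ^ m)) ^ 3 * (μ : K)⁻¹ * u,
        (μ : K) * v) := by
  show hh (μ ^ (3 ^ m)) μ * wordGL chevG2 hG2 (reeWordU (3 ^ m) t u v) * (hh (μ ^ (3 ^ m)) μ)⁻¹ =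
    wordGL chevG2 hG2 (reeWordU (3 ^ m) ((((μ : K) ^ (3 ^ m))⁻¹) ^ 3 * (μ : K) ^ 2 * t)
      (((μ : K) ^ (3 ^ m)) ^ 3 * (μ : K)⁻¹ * u) ((μ : K) * v))
  rw [ree_eq, ree_eq, hh_conj_word _ _ _ (six_lt _ _ _ _ _ _), mul_inv_cancel_right]
  congr 1
  simp only [List.map_cons, List.map_nil, chi7, chi6, chi8, chi9, chi10, chi11,
    Units.val_pow_eq_pow_val]
  have hμ : (μ : K) ≠ 0 := μ.ne_zero
  have hA : (μ : K) ^ (3 ^ m) ≠ 0 := pow_ne_zero _ hμ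
  have hW : (((μ : K) ^ (3 ^ m)) ^ (3 ^ m)) ^ 3 = (μ : K) := fr.tri _
  have e6 : ((((μ : K) ^ (3 ^ m))⁻¹) ^ 3 * (μ : K) ^ 2 * t) ^ (3 ^ m) =
      ((μ : K) ^ (3 ^ m)) ^ 2 * (μ : K)⁻¹ * t ^ (3 ^ m) := by
    rw [mul_pow, mul_pow]
    have e : ((((μ : K) ^ (3 ^ m))⁻¹) ^ 3) ^ (3 ^ m) = ((((μ : K) ^ (3 ^ m)) ^ (3 ^ m)) ^ 3)⁻¹ := by
      rw [inv_pow, inv_pow]
      congr 1
      ring
    have e' : ((μ : K) ^ 2) ^ (3 ^ m) = ((μ : K) ^ (3 ^ m)) ^ 2 := by ring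
    rw [e, hW, e']
    ring
  have e10 : (((μ : K) ^ (3 ^ m)) ^ 3 * (μ : K)⁻¹ * u) ^ (3 ^ m) =
      ((μ : K) ^ (3 ^ m))⁻¹ * (μ : K) * u ^ (3 ^ m) := by
    rw [mul_pow, mul_pow, inv_pow]
    have e : (((μ : K) ^ (3 ^ m)) ^ 3) ^ (3 ^ m) = (((μ : K) ^ (3 ^ m)) ^ (3 ^ m)) ^ 3 := by ring
    rw [e, hW]
    ring
  have e11 : ((μ : K) * v) ^ (3 ^ m) = (μ : K) ^ (3 ^ m) * v ^ (3 ^ m) := mul_pow _ _ _
  rw [e6, e10, e11]
  simp only [List.cons.injEq, Prod.mk.injEq, true_and, and_true]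
  refine ⟨?_, ?_⟩
  · field_simp
  · field_simp

theorem uu_zero {m : ℕ} (fr : Frob K m) : uu m ((0 : K), (0 : K), (0 : K)) = 1 := by
  have h := uu_z_add fr (0 : K) 0
  rw [add_zero] at h
  exact mul_eq_left.mp h

theorem th_one (m : ℕ) : th m (1 : Kˣ) = 1 := by
  have h := th_mul m (1 : Kˣ) 1
  rw [mul_one] at h
  exact (mul_eq_left.mp h.symm)

theorem card_odd_units [Fintype K] {m : ℕ} (hK : Fintype.card K = 3 ^ (2 * m + 1)) :
    2 * Nat.card {μ : Kˣ // Odd (orderOf μ)} = 3 ^ (2 * m + 1) - 1 := by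
  have fr := frob_of_card hK
  have h3' : (3 : K) = 0 := by
    have e : (3 : K) = ((3 : ℕ) : K) := by norm_num
    rw [e]
    exact fr.h3
  have hcU : Nat.card Kˣ = 3 ^ (2 * m + 1) - 1 := by
    rw [Nat.card_units, Nat.card_eq_fintype_card, hK]
  obtain ⟨j, hj⟩ : ∃ j, 3 ^ (2 * m + 1) = 4 * j + 3 := by
    have h9 : 3 ^ (2 * m + 1) % 4 = 3 := by
      rw [pow_succ, pow_mul, Nat.mul_mod, Nat.pow_mod]
      norm_num
    exact ⟨3 ^ (2 * m + 1) / 4, by omega⟩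
  have hker : Nat.card (powMonoidHom 2 : Kˣ →* Kˣ).ker = 2 := by
    rw [Nat.card_eq_two_iff]
    have hm1 : (-1 : Kˣ) ∈ (powMonoidHom 2 : Kˣ →* Kˣ).ker := by
      rw [MonoidHom.mem_ker, powMonoidHom_apply]
      exact neg_one_sq
    refine ⟨1, ⟨-1, hm1⟩, ?_, ?_⟩
    · intro h
      have h2 : (1 : Kˣ) = -1 := congrArg Subtype.val h
      have h4 : (1 : K) = -1 := by
        have := congrArg Units.val h2
        rw [Units.val_neg, Units.val_one] at this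
        exact this
      have h5 : (1 : K) = 0 := by linear_combination (-1 : K) * h4 + h3'
      exact one_ne_zero h5
    · ext z
      simp only [Set.mem_insert_iff, Set.mem_singleton_iff, Set.mem_univ, iff_true]
      have hz := z.2
      rw [MonoidHom.mem_ker, powMonoidHom_apply] at hz
      have hz' : ((z : Kˣ) : K) ^ 2 = 1 := by
        rw [← Units.val_pow_eq_pow_val, hz, Units.val_one]
      rcases sq_eq_one_iff.mp hz' with h | h
      · left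
        exact Subtype.ext (Units.ext h)
      · right
        exact Subtype.ext (Units.ext (by rw [h, Units.val_neg, Units.val_one]))
  have hrange : ∀ μ : Kˣ, μ ∈ (powMonoidHom 2 : Kˣ →* Kˣ).range ↔ Odd (orderOf μ) := by
    intro μ
    constructor
    · rintro ⟨ν, rfl⟩
      rw [powMonoidHom_apply]
      have h1 : (ν ^ 2) ^ (2 * j + 1) = 1 := by
        rw [← pow_mul]
        have e : 2 * (2 * j + 1) = Nat.card Kˣ := by rw [hcU, hj]; omega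
        rw [e]
        exact pow_card_eq_one'
      exact Odd.of_dvd_nat ⟨j, rfl⟩ (orderOf_dvd_of_pow_eq_one h1)
    · rintro ⟨i, hi⟩
      refine ⟨μ ^ (i + 1), ?_⟩
      rw [powMonoidHom_apply, ← pow_mul]
      have e : (i + 1) * 2 = orderOf μ + 1 := by rw [hi]; ring
      rw [e, pow_succ, pow_orderOf_eq_one, one_mul]
  have h1 := Subgroup.card_mul_index (powMonoidHom 2 : Kˣ →* Kˣ).ker
  rw [Subgroup.index_ker, hker, hcU] at h1
  rw [← h1]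
  congr 1
  exact Nat.card_congr (Equiv.subtypeEquivRight (fun μ => (hrange μ).symm))

theorem card_odd_H1 [Fintype K] {m : ℕ} (hK : Fintype.card K = 3 ^ (2 * m + 1)) :
    2 * Nat.card {h : ↥(chevG2.diagonalSubgroup K ⊓ twistedG2 K (3 ^ m)) // Odd (orderOf h)} =
      3 ^ (2 * m + 1) - 1 := by
  rw [← card_odd_units hK]
  congr 1
  let e : Kˣ ≃* ↥(chevG2.diagonalSubgroup K ⊓ twistedG2 K (3 ^ m)) :=
    MulEquiv.ofBijective (thHom hK) (thHom_bij hK)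
  exact (Nat.card_congr (Equiv.subtypeEquiv e.toEquiv (fun μ => by
    show Odd (orderOf μ) ↔ Odd (orderOf (e μ))
    rw [MulEquiv.orderOf_eq]))).symm

theorem fpf_H1 [Fintype K] {m : ℕ} (hK : Fintype.card K = 3 ^ (2 * m + 1)) :
    ∀ h ∈ (chevG2.diagonalSubgroup K ⊓ twistedG2 K (3 ^ m)), h ≠ 1 → Odd (orderOf h) →
      (chevG2.posUnipotent K ⊓ twistedG2 K (3 ^ m)) ⊓ Subgroup.centralizer {h} = ⊥ := by
  have fr := frob_of_card hK
  intro h hh' hne hodd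
  obtain ⟨μ, rfl⟩ := (mem_H1 hK h).mp hh'
  have hμ0 : (μ : K) ≠ 0 := μ.ne_zero
  have hA0 : (μ : K) ^ (3 ^ m) ≠ 0 := pow_ne_zero _ hμ0
  have hW : (((μ : K) ^ (3 ^ m)) ^ (3 ^ m)) ^ 3 = (μ : K) := fr.tri _
  have hμ1 : (μ : K) ≠ 1 := by
    intro h1
    have : μ = 1 := Units.ext h1
    rw [this, th_one] at hne
    exact hne rfl
  have hμ2 : (μ : K) ^ 2 ≠ 1 := by
    intro h2
    have e : μ ^ 2 = 1 := Units.ext (by rw [Units.val_pow_eq_pow_val, h2, Units.val_one])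
    have h3 : th m μ ^ 2 = 1 := by
      rw [pow_two, ← th_mul, ← pow_two, e, th_one]
    have h4 := orderOf_dvd_of_pow_eq_one h3
    have h5 : orderOf (th m μ) = 1 := by
      rcases (Nat.dvd_prime Nat.prime_two).mp h4 with h | h
      · exact h
      · rw [h] at hodd
        exact absurd hodd (by decide)
    exact hne (orderOf_eq_one_iff.mp h5)
  rw [eq_bot_iff]
  intro g hg
  rw [Subgroup.mem_bot]
  obtain ⟨hg1, hg2⟩ := Subgroup.mem_inf.mp hg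
  obtain ⟨t, u, v, rfl⟩ := mem_imp fr g hg1
  have hcomm := Subgroup.mem_centralizer_iff.mp hg2 (th m μ) (Set.mem_singleton _)
  have hc : th m μ * uu m (t, u, v) * (th m μ)⁻¹ = uu m (t, u, v) := by
    show th m μ * wordGL chevG2 hG2 (reeWordU (3 ^ m) t u v) * (th m μ)⁻¹ = _
    rw [hcomm, mul_inv_cancel_right]
    rfl
  rw [conj_th fr] at hc
  have hp := uu_inj fr _ _ hc
  have ht : (((μ : K) ^ (3 ^ m))⁻¹) ^ 3 * (μ : K) ^ 2 * t = t := congrArg (fun p : K × K × K => p.1) hp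
  have hu : ((μ : K) ^ (3 ^ m)) ^ 3 * (μ : K)⁻¹ * u = u := congrArg (fun p : K × K × K => p.2.1) hp
  have hv : (μ : K) * v = v := congrArg (fun p : K × K × K => p.2.2) hp
  have v0 : v = 0 := by
    have h1 : ((μ : K) - 1) * v = 0 := by rw [sub_mul, hv, one_mul, sub_self]
    rcases mul_eq_zero.mp h1 with h | h
    · exact absurd (sub_eq_zero.mp h) hμ1
    · exact h
  have u0 : u = 0 := by
    by_contra hu0
    have h1 : ((μ : K) ^ (3 ^ m)) ^ 3 * (μ : K)⁻¹ = 1 := by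
      have h2 : (((μ : K) ^ (3 ^ m)) ^ 3 * (μ : K)⁻¹ - 1) * u = 0 := by rw [sub_mul, hu, one_mul, sub_self]
      rcases mul_eq_zero.mp h2 with h | h
      · exact sub_eq_zero.mp h
      · exact absurd h hu0
    have h3 : ((μ : K) ^ (3 ^ m)) ^ 3 = (μ : K) := by
      have : ((μ : K) ^ (3 ^ m)) ^ 3 = ((μ : K) ^ (3 ^ m)) ^ 3 * (μ : K)⁻¹ * (μ : K) := by
        rw [mul_assoc, inv_mul_cancel₀ hμ0, mul_one]
      rw [this, h1, one_mul]
    have h4 : (μ : K) ^ (3 ^ m) = (μ : K) := by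
      have e1 : (((μ : K) ^ (3 ^ m)) ^ 3) ^ (3 ^ m) = (((μ : K) ^ (3 ^ m)) ^ (3 ^ m)) ^ 3 := by ring
      have e2 : (((μ : K) ^ (3 ^ m)) ^ 3) ^ (3 ^ m) = (μ : K) ^ (3 ^ m) := by rw [h3]
      rw [e1, hW] at e2
      exact e2.symm
    rw [h4] at h3
    apply hμ2
    have h5 : (μ : K) * ((μ : K) ^ 2 - 1) = 0 := by linear_combination h3
    rcases mul_eq_zero.mp h5 with h | h
    · exact absurd h hμ0
    · exact sub_eq_zero.mp h
  have t0 : t = 0 := by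
    by_contra ht0
    have h1 : (((μ : K) ^ (3 ^ m))⁻¹) ^ 3 * (μ : K) ^ 2 = 1 := by
      have h2 : ((((μ : K) ^ (3 ^ m))⁻¹) ^ 3 * (μ : K) ^ 2 - 1) * t = 0 := by
        rw [sub_mul, ht, one_mul, sub_self]
      rcases mul_eq_zero.mp h2 with h | h
      · exact sub_eq_zero.mp h
      · exact absurd h ht0
    have h3 : (μ : K) ^ 2 = ((μ : K) ^ (3 ^ m)) ^ 3 := by
      have : (μ : K) ^ 2 = ((μ : K) ^ (3 ^ m)) ^ 3 * ((((μ : K) ^ (3 ^ m))⁻¹) ^ 3 * (μ : K) ^ 2) := by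
        field_simp
      rw [this, h1, mul_one]
    have h4 : ((μ : K) ^ (3 ^ m)) ^ 2 = (μ : K) := by
      have e1 : (((μ : K) ^ (3 ^ m)) ^ 3) ^ (3 ^ m) = (((μ : K) ^ (3 ^ m)) ^ (3 ^ m)) ^ 3 := by ring
      have e0 : ((μ : K) ^ 2) ^ (3 ^ m) = ((μ : K) ^ (3 ^ m)) ^ 2 := by ring
      have e2 : ((μ : K) ^ 2) ^ (3 ^ m) = (((μ : K) ^ (3 ^ m)) ^ 3) ^ (3 ^ m) := by rw [h3]
      rw [e1, hW, e0] at e2
      exact e2
    have h5 : (μ : K) ^ (3 ^ m) = 1 := by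
      have h6 : ((μ : K) ^ (3 ^ m)) ^ 3 * ((μ : K) ^ (3 ^ m) - 1) = 0 := by
        have : ((μ : K) ^ (3 ^ m)) ^ 4 = ((μ : K) ^ (3 ^ m)) ^ 3 := by
          calc ((μ : K) ^ (3 ^ m)) ^ 4 = (((μ : K) ^ (3 ^ m)) ^ 2) ^ 2 := by ring
            _ = (μ : K) ^ 2 := by rw [h4]
            _ = ((μ : K) ^ (3 ^ m)) ^ 3 := h3
        linear_combination this
      rcases mul_eq_zero.mp h6 with h | h
      · exact absurd (pow_eq_zero_iff (by norm_num) |>.mp h) hA0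
      · exact sub_eq_zero.mp h
    apply hμ1
    rw [← h4, h5, one_pow]
  rw [t0, u0, v0]
  exact uu_zero fr

end

end Cfsg.Agent.Lib.Helper7.ReeFpf
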