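import Cfsg.Agent.Lib.Helper7.ReeId

set_option autoImplicit false

namespace Cfsg.Agent.Lib.Helper7.ReeGenId
open Cfsg.Lie Cfsg.Agent.Lib.Helper7.ChevEngine Cfsg.Agent.Lib.Helper7.MvEngine
  Cfsg.Agent.Lib.Helper7.MvWord Cfsg.Agent.Lib.Helper7.ChevTorus

def Wea : List (ℕ × Poly6) := [(7, [(1, 0, 1, 0, 0, 0, 0)]), (6, [(1, 1, 0, 0, 0, 0, 0)]), (8, [(1, 1, 1, 0, 0, 0, 0), (1, 1, 1, 0, 0, 0, 0)]), (9, [(1, 1, 2, 0, 0, 0, 0)]), (10, [(1, 1, 3, 0, 0, 0, 0)]), (11, []), (7, [(1, 0, 0, 0, 1, 0, 0)]), (6, [(1, 0, 0, 1, 0, 0, 0)]), (8, [(1, 0, 0, 1, 1, 0, 0), (1, 0, 0, 1, 1, 0, 0)]), (9, [(1, 0, 0, 1, 2, 0, 0)]), (10, [(1, 0, 0, 1, 3, 0, 0)]), (11, [])]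
def Web : List (ℕ × Poly6) := [(7, [(1, 0, 1, 0, 0, 0, 0), (1, 0, 0, 0, 1, 0, 0)]), (6, [(1, 1, 0, 0, 0, 0, 0), (1, 0, 0, 1, 0, 0, 0)]), (8, [(2, 1, 1, 0, 0, 0, 0), (1, 1, 0, 0, 1, 0, 0), (2, 0, 0, 1, 1, 0, 0)]), (9, [(1, 1, 2, 0, 0, 0, 0), (1, 1, 1, 0, 1, 0, 0), (3, 0, 1, 1, 1, 0, 0), (1, 1, 0, 0, 2, 0, 0), (1, 0, 0, 1, 2, 0, 0)]), (10, [(1, 0, 0, 1, 3, 0, 0), (-1, 1, 0, 0, 3, 0, 0), (1, 1, 3, 0, 0, 0, 0)]), (11, [(1, 1, 0, 1, 3, 0, 0), (-1, 1, 3, 1, 0, 0, 0), (-1, 2, 0, 0, 3, 0, 0)])]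

theorem chke : eqChkAll 3 chevG2.rank chevG2.nroots (fnsOf chevG2) Wea Web = true := by decide +kernel

end Cfsg.Agent.Lib.Helper7.ReeGenId
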