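import Cfsg.Agent.Lib.Helper7.ReeOrd3
import Cfsg.Agent.Lib.Helper7.ReeGenId
import Cfsg.Agent.Lib.Helper7.ReeStab

set_option autoImplicit false
set_option maxHeartbeats 400000

namespace Cfsg.Agent.Lib.Helper7.ReeGen
open Cfsg.Lie Cfsg.Agent.Lib.Helper7.ChevEngine Cfsg.Agent.Lib.Helper7.ChevTorus
  Cfsg.Agent.Lib.Helper7.ReeFix Cfsg.Agent.Lib.Helper7.ReeMain Cfsg.Agent.Lib.Helper7.ReeSg
  Cfsg.Agent.Lib.Helper7.ReeTorus Cfsg.Agent.Lib.Helper7.ReeTorMem Cfsg.Agent.Lib.Helper7.ReeOrder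
  Cfsg.Agent.Lib.Helper7.ReeBN Cfsg.Agent.Lib.Helper7.ReePerf Cfsg.Agent.Lib.Helper7.ReeH
  Cfsg.Agent.Lib.Helper7.ReeU Cfsg.Agent.Lib.Helper7.ReeFpf Cfsg.Agent.Lib.Helper7.ReeGenId
  Cfsg.Agent.Lib.Helper7.MvEngine Cfsg.Agent.Lib.Helper7.MvWord Cfsg.Agent.Lib.Helper7.ChevRel
  Cfsg.Agent.Lib.Helper7.ReeOrd3 Cfsg.Agent.Lib.Helper7.ReeStab

section
variable {K : Type*} [Field K]

theorem e_id (h3 : ((3 : ℕ) : K) = 0) (t T s S : K) :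
    wordGL chevG2 hG2 [(7, T), (6, t), (8, T * t + T * t), (9, T ^ 2 * t), (10, t * T ^ 3), (11, 0)] *
      wordGL chevG2 hG2 [(7, S), (6, s), (8, S * s + S * s), (9, S ^ 2 * s), (10, s * S ^ 3), (11, 0)] =
    wordGL chevG2 hG2 [(7, T + S), (6, t + s), (8, (T + S) * (t + s) + (S * s - T * s + T * t)),
      (9, (T + S) ^ 2 * (t + s) + (T * S * s - T * t * S - T ^ 2 * s)),
      (10, s * S ^ 3 - t * S ^ 3 + t * T ^ 3), (11, t * s * S ^ 3 - t * T ^ 3 * s - t ^ 2 * S ^ 3)] := by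
  have h := wordGL_eq_of_chk h3 (envL t T s S 0 0) Wea Web chke
  have e1 : Wea.map (fun x => (x.1, eval6 (envL t T s S 0 0) x.2)) =
      [(7, T), (6, t), (8, T * t + T * t), (9, T ^ 2 * t), (10, t * T ^ 3), (11, 0)] ++
        [(7, S), (6, s), (8, S * s + S * s), (9, S ^ 2 * s), (10, s * S ^ 3), (11, 0)] := by
    simp [Wea, eval6, evalM6, eex, envL]
    refine ⟨?_, ?_, ?_, ?_⟩ <;> ring
  have e2 : Web.map (fun x => (x.1, eval6 (envL t T s S 0 0) x.2)) =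
      [(7, T + S), (6, t + s), (8, (T + S) * (t + s) + (S * s - T * s + T * t)),
        (9, (T + S) ^ 2 * (t + s) + (T * S * s - T * t * S - T ^ 2 * s)),
        (10, s * S ^ 3 - t * S ^ 3 + t * T ^ 3), (11, t * s * S ^ 3 - t * T ^ 3 * s - t ^ 2 * S ^ 3)] := by
    simp [Web, eval6, evalM6, eex, envL]
    refine ⟨?_, ?_, ?_, ?_⟩ <;> ring
  rw [e1, e2, wordGL_append] at h
  exact h

theorem cq1 (t T : K) (ht : t ≠ 0) (hT : T ≠ 0) :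
    ((T ^ 2 * t)⁻¹) ^ 3 * (t ^ 2 * T ^ 3) ^ 2 = t := by
  field_simp

theorem cq2 (t T : K) (ht : t ≠ 0) (hT : T ≠ 0) :
    (T ^ 2 * t) ^ 3 * (t ^ 2 * T ^ 3)⁻¹ = t * T ^ 3 := by
  field_simp

theorem cq3 (t T : K) (ht : t ≠ 0) (hT : T ≠ 0) :
    (T * t) ^ 3 * (t * T ^ 3)⁻¹ = t ^ 2 := by
  field_simp

theorem frob3 {m : ℕ} (fr : Frob K m) (x : K) : ((x ^ (3 ^ m)) ^ 3) ^ (3 ^ m) = x := by
  have e : ((x ^ (3 ^ m)) ^ 3) ^ (3 ^ m) = ((x ^ (3 ^ m)) ^ (3 ^ m)) ^ 3 := by ring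
  rw [e, fr.tri]

theorem frobE {m : ℕ} (fr : Frob K m) (x : K) :
    (x * (x ^ (3 ^ m)) ^ 3) ^ (3 ^ m) = x ^ (3 ^ m) * x := by
  rw [mul_pow, frob3 fr]

theorem uu_e_mul {m : ℕ} (fr : Frob K m) (t s : K) :
    uu m (t, t * (t ^ (3 ^ m)) ^ 3, 0) * uu m (s, s * (s ^ (3 ^ m)) ^ 3, 0) =
      uu m (t + s, s * (s ^ (3 ^ m)) ^ 3 - t * (s ^ (3 ^ m)) ^ 3 + t * (t ^ (3 ^ m)) ^ 3,
        t * s * (s ^ (3 ^ m)) ^ 3 - t * (t ^ (3 ^ m)) ^ 3 * s - t ^ 2 * (s ^ (3 ^ m)) ^ 3) := by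
  show wordGL chevG2 hG2 (reeWordU (3 ^ m) t (t * (t ^ (3 ^ m)) ^ 3) 0) *
      wordGL chevG2 hG2 (reeWordU (3 ^ m) s (s * (s ^ (3 ^ m)) ^ 3) 0) =
    wordGL chevG2 hG2 (reeWordU (3 ^ m) (t + s)
      (s * (s ^ (3 ^ m)) ^ 3 - t * (s ^ (3 ^ m)) ^ 3 + t * (t ^ (3 ^ m)) ^ 3)
      (t * s * (s ^ (3 ^ m)) ^ 3 - t * (t ^ (3 ^ m)) ^ 3 * s - t ^ 2 * (s ^ (3 ^ m)) ^ 3))
  rw [ree_eq, ree_eq, ree_eq]
  have z : (0 : K) ^ (3 ^ m) = 0 := zero_pow (pow_ne_zero m (by norm_num))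
  have ey : (s * (s ^ (3 ^ m)) ^ 3 - t * (s ^ (3 ^ m)) ^ 3 + t * (t ^ (3 ^ m)) ^ 3) ^ (3 ^ m) =
      s ^ (3 ^ m) * s - t ^ (3 ^ m) * s + t ^ (3 ^ m) * t := by
    rw [fr.add, fr.sub, frobE fr s, frobE fr t, mul_pow, frob3 fr]
  have h1 : (t * s * (s ^ (3 ^ m)) ^ 3) ^ (3 ^ m) = t ^ (3 ^ m) * s ^ (3 ^ m) * s := by
    rw [mul_pow, mul_pow, frob3 fr]
  have h2 : (t * (t ^ (3 ^ m)) ^ 3 * s) ^ (3 ^ m) = t ^ (3 ^ m) * t * s ^ (3 ^ m) := by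
    rw [mul_pow, mul_pow, frob3 fr]
  have h3 : (t ^ 2 * (s ^ (3 ^ m)) ^ 3) ^ (3 ^ m) = (t ^ (3 ^ m)) ^ 2 * s := by
    rw [mul_pow, frob3 fr]
    have e2 : (t ^ 2) ^ (3 ^ m) = (t ^ (3 ^ m)) ^ 2 := by ring
    rw [e2]
  have ez : (t * s * (s ^ (3 ^ m)) ^ 3 - t * (t ^ (3 ^ m)) ^ 3 * s - t ^ 2 * (s ^ (3 ^ m)) ^ 3) ^ (3 ^ m) =
      t ^ (3 ^ m) * s ^ (3 ^ m) * s - t ^ (3 ^ m) * t * s ^ (3 ^ m) - (t ^ (3 ^ m)) ^ 2 * s := by
    rw [fr.sub, fr.sub, h1, h2, h3]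
  rw [frobE fr t, frobE fr s, z, add_zero, add_zero, ey, ez, fr.add]
  exact e_id fr.h3 t (t ^ (3 ^ m)) s (s ^ (3 ^ m))

theorem sum_two_sq [Fintype K] (hodd : Fintype.card K % 2 = 1) (x : K) :
    ∃ a b : K, a ^ 2 + b ^ 2 = x := by
  obtain ⟨a, b, hab⟩ : ∃ a b, (Polynomial.X ^ 2 : Polynomial K).eval a +
      (Polynomial.X ^ 2 - Polynomial.C x : Polynomial K).eval b = 0 :=
    FiniteField.exists_root_sum_quadratic (Polynomial.degree_X_pow 2)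
      (Polynomial.degree_X_pow_sub_C (by decide) _) hodd
  refine ⟨a, b, ?_⟩
  rw [← sub_eq_zero]
  simpa only [Polynomial.eval_C, Polynomial.eval_X, Polynomial.eval_pow, Polynomial.eval_sub,
    ← add_sub_assoc] using hab

theorem gen_ree [Fintype K] {m : ℕ} (hm : 1 ≤ m) (hK : Fintype.card K = 3 ^ (2 * m + 1))
    (ζ : Kˣ) (hζ : ∀ μ : Kˣ, μ ∈ Subgroup.zpowers ζ) (G0 : Subgroup (GL chevG2.Idx K))
    (hh0 : th m ζ ∈ G0) (hb : uu m ((1 : K), (0 : K), (0 : K)) * n0 K ∈ G0) :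
    twistedG2 K (3 ^ m) ≤ G0 := by
  have fr := frob_of_card hK
  have h3' : (3 : K) = 0 := by
    have e : (3 : K) = ((3 : ℕ) : K) := by norm_num
    rw [e]
    exact fr.h3
  have hth : ∀ μ : Kˣ, th m μ ∈ G0 := by
    intro μ
    obtain ⟨k, rfl⟩ := Subgroup.mem_zpowers_iff.mp (hζ μ)
    have e : th m (ζ ^ k) = (th m ζ) ^ k :=
      map_zpow (MonoidHom.mk' (th (K := K) m) (th_mul m)) ζ k
    rw [e]
    exact zpow_mem hh0 k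
  obtain ⟨hn0N, -⟩ := n0_map (K := K)
  have hn0R := n0_mem hK
  have hthR : ∀ μ : Kˣ, th m μ ∈ twistedG2 K (3 ^ m) := fun μ => hfix_mem hK μ
  obtain ⟨ν, hν⟩ : ∃ ν : Kˣ, (n0 K)⁻¹ * th m (-1) * n0 K = th m ν := by
    apply (mem_H1 hK _).mp
    exact Subgroup.mem_inf.mpr ⟨conj_inv_H _ (th_memH m _),
      mul_mem (mul_mem (inv_mem hn0R) (hthR _)) hn0R⟩
  have h1 : uu m ((1 : K), (0 : K), (0 : K)) * th m (-1) * (uu m ((1 : K), (0 : K), (0 : K)))⁻¹ ∈ G0 := by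
    have h := mul_mem (mul_mem hb (hth ν)) (inv_mem hb)
    have e : uu m ((1 : K), (0 : K), (0 : K)) * n0 K * th m ν *
        (uu m ((1 : K), (0 : K), (0 : K)) * n0 K)⁻¹ =
        uu m ((1 : K), (0 : K), (0 : K)) * th m (-1) * (uu m ((1 : K), (0 : K), (0 : K)))⁻¹ := by
      rw [← hν]
      group
    rw [e] at h
    exact h
  have hw : uu m ((1 : K), (1 : K), (1 : K)) ∈ G0 := by
    have h := mul_mem (hth (-1)) (inv_mem h1)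
    have e : th m (-1) * (uu m ((1 : K), (0 : K), (0 : K)) * th m (-1) *
        (uu m ((1 : K), (0 : K), (0 : K)))⁻¹)⁻¹ =
        (th m (-1) * uu m ((1 : K), (0 : K), (0 : K)) * (th m (-1))⁻¹) *
          (uu m ((1 : K), (0 : K), (0 : K)))⁻¹ := by group
    rw [e, conj_neg fr, neg_zero, uu_comm fr (1 : K)] at h
    have e1 : (1 : K) * ((1 : K) ^ (3 ^ m)) ^ 3 = 1 := by rw [one_pow, one_pow, mul_one]
    have e2 : (1 : K) ^ 2 * ((1 : K) ^ (3 ^ m)) ^ 3 = 1 := by rw [one_pow, one_pow, one_pow, mul_one]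
    rw [e1, e2] at h
    exact h
  have hZ : ∀ v : K, uu m ((0 : K), (0 : K), v) ∈ G0 := by
    intro v
    by_cases hv : v = 0
    · rw [hv, uu_zero fr]
      exact one_mem _
    · have hc := pow_mem hw 3
      rw [uu_cube fr] at hc
      have e1 : -((1 : K) ^ 2 * ((1 : K) ^ (3 ^ m)) ^ 3) = -1 := by
        rw [one_pow, one_pow, one_pow, mul_one]
      rw [e1] at hc
      have h := mul_mem (mul_mem (hth (Units.mk0 (-v) (neg_ne_zero.mpr hv))) hc)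
        (inv_mem (hth (Units.mk0 (-v) (neg_ne_zero.mpr hv))))
      rw [conj_th fr, mul_zero, mul_zero, Units.val_mk0, mul_neg, mul_one, neg_neg] at h
      exact h
  have hE : ∀ t : K, t ≠ 0 → uu m (t, t * (t ^ (3 ^ m)) ^ 3, 0) ∈ G0 := by
    intro t ht
    have hT : t ^ (3 ^ m) ≠ 0 := pow_ne_zero _ ht
    have hμ0 : t ^ 2 * (t ^ (3 ^ m)) ^ 3 ≠ 0 := mul_ne_zero (pow_ne_zero _ ht) (pow_ne_zero _ hT)
    have h := mul_mem (mul_mem (hth (Units.mk0 _ hμ0)) hw) (inv_mem (hth (Units.mk0 _ hμ0)))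
    rw [conj_th fr, Units.val_mk0, mul_one, mul_one, mul_one] at h
    have eθ : (t ^ 2 * (t ^ (3 ^ m)) ^ 3) ^ (3 ^ m) = (t ^ (3 ^ m)) ^ 2 * t := by
      rw [mul_pow, frob3 fr]
      have e1 : (t ^ 2) ^ (3 ^ m) = (t ^ (3 ^ m)) ^ 2 := by ring
      rw [e1]
    rw [eθ, cq1 t _ ht hT, cq2 t _ ht hT] at h
    have d1 := uu_decomp fr t (t * (t ^ (3 ^ m)) ^ 3) (t ^ 2 * (t ^ (3 ^ m)) ^ 3)
    have d2 := uu_decomp fr t (t * (t ^ (3 ^ m)) ^ 3) 0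
    rw [uu_zero fr, mul_one] at d2
    rw [d2]
    have h2 := mul_mem h (inv_mem (hZ (t ^ 2 * (t ^ (3 ^ m)) ^ 3)))
    rw [d1, mul_inv_cancel_right] at h2
    exact h2
  have hstrip : ∀ a y z φ : K, uu m (a, y, z) ∈ G0 → uu m (a, φ, 0) ∈ G0 →
      uu m ((0 : K), y - φ, (0 : K)) ∈ G0 := by
    intro a y z φ k1 k2
    have d1 := uu_decomp fr a y z
    have d2 := uu_decomp fr a φ 0
    rw [uu_zero fr, mul_one] at d2
    have ya := uu_y_add fr φ (y - φ)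
    rw [add_sub_cancel] at ya
    have k3 := mul_mem (mul_mem (inv_mem k2) k1) (inv_mem (hZ z))
    rw [d1, d2] at k3
    have e : (uu m (a, 0, 0) * uu m (0, φ, 0))⁻¹ * (uu m (a, 0, 0) * uu m (0, y, 0) * uu m (0, 0, z)) *
        (uu m (0, 0, z))⁻¹ = (uu m (0, φ, 0))⁻¹ * uu m (0, y, 0) := by group
    rw [e, ← ya, inv_mul_cancel_left] at k3
    exact k3
  have hY0 : ∀ t s : K, t ≠ 0 → s ≠ 0 → t + s ≠ 0 →
      uu m ((0 : K), s * (s ^ (3 ^ m)) ^ 3 - t * (s ^ (3 ^ m)) ^ 3 + t * (t ^ (3 ^ m)) ^ 3 -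
        (t + s) * ((t + s) ^ (3 ^ m)) ^ 3, (0 : K)) ∈ G0 := by
    intro t s ht hs hts
    have h := mul_mem (hE t ht) (hE s hs)
    rw [uu_e_mul fr] at h
    exact hstrip _ _ _ _ h (hE (t + s) hts)
  have hYadd : ∀ a b : K, uu m ((0 : K), a, (0 : K)) ∈ G0 → uu m ((0 : K), b, (0 : K)) ∈ G0 →
      uu m ((0 : K), a + b, (0 : K)) ∈ G0 := by
    intro a b ha hb'
    rw [← uu_y_add fr]
    exact mul_mem ha hb'
  have hYsq : ∀ a ν : K, uu m ((0 : K), a, (0 : K)) ∈ G0 → uu m ((0 : K), ν ^ 2 * a, (0 : K)) ∈ G0 := by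
    intro a ν ha
    by_cases hν0 : ν = 0
    · have e : ν ^ 2 * a = 0 := by rw [hν0]; ring
      rw [e, uu_zero fr]
      exact one_mem _
    · have hT : ν ^ (3 ^ m) ≠ 0 := pow_ne_zero _ hν0
      have hμ0 : ν * (ν ^ (3 ^ m)) ^ 3 ≠ 0 := mul_ne_zero hν0 (pow_ne_zero _ hT)
      have h := mul_mem (mul_mem (hth (Units.mk0 _ hμ0)) ha) (inv_mem (hth (Units.mk0 _ hμ0)))
      rw [conj_y fr, Units.val_mk0, frobE fr, cq3 ν _ hν0 hT] at h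
      exact h
  obtain ⟨μ, hμ⟩ := exists_mu hm hK
  have ht0 : (μ : K) ≠ 0 := μ.ne_zero
  have ht1 : (μ : K) + 1 ≠ 0 := by
    intro h
    apply hμ
    have e : (μ : K) = -1 := eq_neg_of_add_eq_zero_left h
    rw [e, Odd.neg_one_pow (Odd.pow (by decide)), Odd.neg_one_pow (by decide), inv_neg_one,
      neg_mul_neg, one_mul]
  have hseed := hY0 (μ : K) 1 ht0 one_ne_zero ht1
  have ea : 1 * ((1 : K) ^ (3 ^ m)) ^ 3 - (μ : K) * ((1 : K) ^ (3 ^ m)) ^ 3 +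
      (μ : K) * ((μ : K) ^ (3 ^ m)) ^ 3 - ((μ : K) + 1) * (((μ : K) + 1) ^ (3 ^ m)) ^ 3 =
      (μ : K) - ((μ : K) ^ (3 ^ m)) ^ 3 := by
    rw [fr.add, fr.add3, one_pow, one_pow]
    linear_combination (-(μ : K)) * h3'
  rw [ea] at hseed
  have ha0 : (μ : K) - ((μ : K) ^ (3 ^ m)) ^ 3 ≠ 0 := by
    intro h
    apply hμ
    rw [← sub_eq_zero.mp h, mul_inv_cancel₀ ht0]
  have hodd : Fintype.card K % 2 = 1 := by
    rw [hK]
    exact Nat.odd_iff.mp (Odd.pow (by decide))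
  have hY : ∀ y : K, uu m ((0 : K), y, (0 : K)) ∈ G0 := by
    intro y
    obtain ⟨a, b, hab⟩ := sum_two_sq hodd (y / ((μ : K) - ((μ : K) ^ (3 ^ m)) ^ 3))
    have h := hYadd _ _ (hYsq _ a hseed) (hYsq _ b hseed)
    have e : a ^ 2 * ((μ : K) - ((μ : K) ^ (3 ^ m)) ^ 3) + b ^ 2 * ((μ : K) - ((μ : K) ^ (3 ^ m)) ^ 3) =
        y := by
      rw [← add_mul, hab, div_mul_cancel₀ _ ha0]
    rw [e] at h
    exact h
  have hU : ∀ p : K × K × K, uu m p ∈ G0 := by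
    rintro ⟨t, y, v⟩
    rw [uu_decomp fr]
    refine mul_mem (mul_mem ?_ (hY y)) (hZ v)
    by_cases ht : t = 0
    · rw [ht, uu_zero fr]
      exact one_mem _
    · have d2 := uu_decomp fr t (t * (t ^ (3 ^ m)) ^ 3) 0
      rw [uu_zero fr, mul_one] at d2
      have h := mul_mem (hE t ht) (inv_mem (hY (t * (t ^ (3 ^ m)) ^ 3)))
      rw [d2, mul_inv_cancel_right] at h
      exact h
  have hn0 : n0 K ∈ G0 := by
    have h := mul_mem (inv_mem (hU ((1 : K), (0 : K), (0 : K)))) hb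
    rw [inv_mul_cancel_left] at h
    exact h
  intro g hg
  obtain ⟨σ, hσ⟩ := exists_sigma fr
  rcases fx_eq hK σ hσ g (twisted_le_Fx fr σ hσ hg) with ⟨p, μ', rfl⟩ | ⟨p, μ', p', rfl⟩
  · exact mul_mem (hU p) (hth μ')
  · exact mul_mem (mul_mem (mul_mem (hU p) (hth μ')) hn0) (hU p')

theorem two_gen [Fintype K] {m : ℕ} (hm : 1 ≤ m) (hK : Fintype.card K = 3 ^ (2 * m + 1)) :
    ∃ a b : ↥(twistedG2 K (3 ^ m)), Subgroup.closure ({a, b} : Set ↥(twistedG2 K (3 ^ m))) = ⊤ := by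
  obtain ⟨ζ, hζ⟩ := IsCyclic.exists_generator (α := Kˣ)
  refine ⟨⟨th m ζ, hfix_mem hK ζ⟩, ⟨uu m ((1 : K), (0 : K), (0 : K)) * n0 K,
    mul_mem (uu_memR m _) (n0_mem hK)⟩, ?_⟩
  rw [eq_top_iff]
  intro x _
  have h := gen_ree hm hK ζ hζ ((Subgroup.closure ({⟨th m ζ, hfix_mem hK ζ⟩,
      ⟨uu m ((1 : K), (0 : K), (0 : K)) * n0 K, mul_mem (uu_memR m _) (n0_mem hK)⟩} :
      Set ↥(twistedG2 K (3 ^ m)))).map (twistedG2 K (3 ^ m)).subtype)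
    (Subgroup.mem_map_of_mem _ (Subgroup.subset_closure (Set.mem_insert _ _)))
    (Subgroup.mem_map_of_mem _ (Subgroup.subset_closure (Set.mem_insert_of_mem _ (Set.mem_singleton _))))
    x.2
  obtain ⟨y, hy, e⟩ := Subgroup.mem_map.mp h
  have e2 : y = x := Subtype.ext e
  rw [← e2]
  exact hy

end

end Cfsg.Agent.Lib.Helper7.ReeGen
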