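import Cfsg.Agent.Lib.Helper7.MvWord
import Cfsg.Agent.Lib.Helper7.ChevTorus
import Cfsg.Prelude.Def_ChevG2

set_option autoImplicit false

namespace Cfsg.Agent.Lib.Helper7.ReeId
open Cfsg.Lie Cfsg.Agent.Lib.Helper7.ChevEngine Cfsg.Agent.Lib.Helper7.MvEngine
  Cfsg.Agent.Lib.Helper7.MvWord Cfsg.Agent.Lib.Helper7.ChevTorus

def W1a : List (ℕ × Poly6) := [(7, [(1, 0, 1, 0, 0, 0, 0)]), (6, [(1, 1, 0, 0, 0, 0, 0)]), (8, [(1, 1, 1, 0, 0, 0, 0), (1, 0, 0, 0, 1, 0, 0)]), (9, [(1, 1, 2, 0, 0, 0, 0), (1, 0, 0, 0, 0, 0, 1)]), (10, [(1, 0, 0, 1, 0, 0, 0)]), (11, [(1, 0, 0, 0, 0, 1, 0)])]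
def W1b : List (ℕ × Poly6) := [(6, [(1, 1, 0, 0, 0, 0, 0)]), (7, [(1, 0, 1, 0, 0, 0, 0)]), (10, [(1, 1, 3, 0, 0, 0, 0), (1, 0, 0, 1, 0, 0, 0)]), (11, [(1, 2, 3, 0, 0, 0, 0), (1, 0, 0, 0, 0, 1, 0)]), (8, [(1, 0, 0, 0, 1, 0, 0)]), (9, [(1, 0, 0, 0, 0, 0, 1)])]
def W2a : List (ℕ × Poly6) := [(4, [(-1, 0, 1, 0, 0, 0, 0)]), (5, [(-1, 1, 0, 0, 0, 0, 0)]), (3, [(-1, 1, 1, 0, 0, 0, 0), (-1, 0, 0, 0, 1, 0, 0)]), (2, [(-1, 1, 2, 0, 0, 0, 0), (-1, 0, 0, 0, 0, 0, 1)]), (1, [(-1, 0, 0, 1, 0, 0, 0)]), (0, [(-1, 0, 0, 0, 0, 1, 0)])]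
def W2b : List (ℕ × Poly6) := [(5, [(-1, 1, 0, 0, 0, 0, 0)]), (4, [(-1, 0, 1, 0, 0, 0, 0)]), (1, [(-1, 1, 3, 0, 0, 0, 0), (-1, 0, 0, 1, 0, 0, 0)]), (0, [(-1, 2, 3, 0, 0, 0, 0), (-1, 0, 0, 0, 0, 1, 0)]), (3, [(-1, 0, 0, 0, 1, 0, 0)]), (2, [(-1, 0, 0, 0, 0, 0, 1)])]
def W3 : List (ℕ × Poly6) := [(6, [(1, 1, 0, 0, 0, 0, 0)]), (7, [(1, 0, 1, 0, 0, 0, 0)]), (8, [(1, 0, 0, 0, 1, 0, 0)]), (9, [(1, 0, 0, 0, 0, 0, 1)]), (10, [(1, 0, 0, 1, 0, 0, 0), (1, 1, 3, 0, 0, 0, 0)]), (11, [(1, 0, 0, 0, 0, 1, 0), (1, 2, 3, 0, 0, 0, 0)])]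
def W4a : List (ℕ × Poly6) := [(7, [(1, 1, 0, 0, 0, 0, 0)]), (6, [(1, 0, 1, 0, 0, 0, 0)]), (10, [(1, 0, 0, 1, 0, 0, 0)]), (11, [(1, 0, 0, 0, 1, 0, 0)]), (8, [(1, 0, 0, 0, 0, 1, 0)]), (9, [(1, 0, 0, 0, 0, 0, 1)])]
def W4b : List (ℕ × Poly6) := [(6, [(1, 0, 1, 0, 0, 0, 0)]), (7, [(1, 1, 0, 0, 0, 0, 0)]), (8, [(1, 0, 0, 0, 0, 1, 0), (-1, 1, 1, 0, 0, 0, 0)]), (9, [(1, 0, 0, 0, 0, 0, 1), (-1, 2, 1, 0, 0, 0, 0)]), (10, [(1, 0, 0, 1, 0, 0, 0), (1, 3, 1, 0, 0, 0, 0)]), (11, [(1, 0, 0, 0, 1, 0, 0), (1, 3, 2, 0, 0, 0, 0)])]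

theorem chk1 : eqChkAll 3 chevG2.rank chevG2.nroots (fnsOf chevG2) W1a W1b = true := by decide +kernel
theorem chk2 : eqChkAll 3 chevG2.rank chevG2.nroots (fnsOf chevG2) W2a W2b = true := by decide +kernel
theorem chk3 : eqChkAll 3 chevG2.rank chevG2.nroots (fnsOf chevG2) W1a W3 = true := by decide +kernel
theorem chk4 : eqChkAll 3 chevG2.rank chevG2.nroots (fnsOf chevG2) W4a W4b = true := by decide +kernel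

end Cfsg.Agent.Lib.Helper7.ReeId
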