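import Cfsg.Agent.Lib.Helper7.ReeFix
import Cfsg.Agent.Lib.Helper7.ChevBN3
import Cfsg.Prelude.Def_LieTwisted

set_option autoImplicit false

namespace Cfsg.Agent.Lib.Helper7.ReeMain
open Cfsg.Lie Cfsg.Agent.Lib.Helper7.ChevEngine Cfsg.Agent.Lib.Helper7.ChevTorus
  Cfsg.Agent.Lib.Helper7.ChevSpec Cfsg.Agent.Lib.Helper7.SpecData Cfsg.Agent.Lib.Helper7.ChevGen
  Cfsg.Agent.Lib.Helper7.ChevUProd Cfsg.Agent.Lib.Helper7.TwCore Cfsg.Agent.Lib.Helper7.ReeFix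
  Cfsg.Agent.Lib.Helper7.ChevRel Cfsg.Agent.Lib.Helper7.ChevBN3

section
variable {K : Type*} [Field K]

structure Frob (K : Type*) [Field K] (m : ℕ) : Prop where
  h3 : ((3 : ℕ) : K) = 0
  add : ∀ x y : K, (x + y) ^ (3 ^ m) = x ^ (3 ^ m) + y ^ (3 ^ m)
  add3 : ∀ x y : K, (x + y) ^ 3 = x ^ 3 + y ^ 3
  tri : ∀ x : K, ((x ^ (3 ^ m)) ^ (3 ^ m)) ^ 3 = x

theorem frob_of_card [Fintype K] {m : ℕ} (hK : Fintype.card K = 3 ^ (2 * m + 1)) : Frob K m := by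
  have h3 : ((3 : ℕ) : K) = 0 := char_of_card 3 (2 * m + 1) hK
  haveI : CharP K 3 := (CharP.charP_iff_prime_eq_zero Nat.prime_three).mpr h3
  haveI : Fact (Nat.Prime 3) := ⟨Nat.prime_three⟩
  refine ⟨h3, fun x y => add_pow_char_pow x y 3 m, fun x y => ?_, fun x => ?_⟩
  · have := add_pow_char_pow x y 3 1
    simpa using this
  · rw [← pow_mul, ← pow_mul]
    have e : 3 ^ m * (3 ^ m * 3) = Fintype.card K := by
      rw [hK, pow_succ, two_mul, pow_add, mul_assoc]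
    rw [e, FiniteField.pow_card]

theorem Frob.neg {m : ℕ} (_fr : Frob K m) (x : K) : (-x) ^ (3 ^ m) = -(x ^ (3 ^ m)) :=
  Odd.neg_pow (Odd.pow (by decide)) x

theorem Frob.sub {m : ℕ} (fr : Frob K m) (x y : K) : (x - y) ^ (3 ^ m) = x ^ (3 ^ m) - y ^ (3 ^ m) := by
  rw [sub_eq_add_neg, fr.add, fr.neg, ← sub_eq_add_neg]

theorem neg3 (x : K) : (-x) ^ 3 = -(x ^ 3) := Odd.neg_pow (by decide) x

theorem lt_nil : ∀ p ∈ ([] : List (ℕ × K)), p.1 < chevG2.nroots := by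
  intro p hp
  simp at hp

theorem lt_cons (r : ℕ) (a : K) (w : List (ℕ × K)) (h1 : r < 12)
    (h2 : ∀ p ∈ w, p.1 < chevG2.nroots) : ∀ p ∈ (r, a) :: w, p.1 < chevG2.nroots := by
  intro p hp
  rw [List.mem_cons] at hp
  rcases hp with rfl | hp
  · have : chevG2.nroots = 12 := by decide
    rw [this]
    exact h1
  · exact h2 p hp

theorem lt_six (r1 r2 r3 r4 r5 r6 : ℕ) (a1 a2 a3 a4 a5 a6 : K) (h1 : r1 < 12) (h2 : r2 < 12)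
    (h3 : r3 < 12) (h4 : r4 < 12) (h5 : r5 < 12) (h6 : r6 < 12) :
    ∀ p ∈ [(r1, a1), (r2, a2), (r3, a3), (r4, a4), (r5, a5), (r6, a6)], p.1 < chevG2.nroots :=
  lt_cons _ _ _ h1 (lt_cons _ _ _ h2 (lt_cons _ _ _ h3 (lt_cons _ _ _ h4 (lt_cons _ _ _ h5
    (lt_cons _ _ _ h6 lt_nil)))))

def tauW (m : ℕ) (w : List (ℕ × K)) : List (ℕ × K) :=
  w.map fun p => (rhoG2.getD p.1 0, (p.2 ^ (3 ^ m)) ^ lamG2.getD p.1 0)

def SigOk (m : ℕ) (σ : ↥(chevG2.group K) →* ↥(chevG2.group K)) : Prop :=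
  ∀ (g : ↥(chevG2.group K)) (r : ℕ) (t : K), r < chevG2.nroots →
    ((g : GL chevG2.Idx K) : Matrix chevG2.Idx chevG2.Idx K) = chevG2.x K r t →
    ((σ g : GL chevG2.Idx K) : Matrix chevG2.Idx chevG2.Idx K) =
      chevG2.x K (rhoG2.getD r 0) ((t ^ (3 ^ m)) ^ lamG2.getD r 0)

theorem exists_sigma [Fintype K] {m : ℕ} (fr : Frob K m) :
    ∃ σ : ↥(chevG2.group K) →* ↥(chevG2.group K), SigOk m σ := by
  have hperf : ∀ x : K, ∃ y : K, y ^ 3 = x := fun x => ⟨_, fr.tri x⟩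
  let f0 : K →+* K :=
    { toFun := fun x => x ^ (3 ^ m)
      map_one' := one_pow _
      map_mul' := fun x y => mul_pow x y _
      map_zero' := zero_pow (by positivity)
      map_add' := fr.add }
  let f : K ≃+* K := RingEquiv.ofBijective f0 ((Finite.injective_iff_bijective).mp f0.injective)
  obtain ⟨α, hα⟩ := Cfsg.Agent.S1080.result chevG2 hG2 f
  obtain ⟨β, hβ⟩ := spec_aut (F := K) chevG2 hG2 3 fr.h3 hperf sdG2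
  refine ⟨β.toMonoidHom.comp α.toMonoidHom, fun g r t hr hg => ?_⟩
  have h1 := hα g r t hr hg
  exact hβ (α g) r (f t) hr h1

theorem sigma_x {m : ℕ} (σ : ↥(chevG2.group K) →* ↥(chevG2.group K)) (hσ : SigOk m σ) (r : ℕ)
    (hr : r < chevG2.nroots) (t : K) :
    ((σ ⟨xGL chevG2 hG2 r t, xGL_mem_group chevG2 hG2 r t⟩ : ↥(chevG2.group K)) : GL chevG2.Idx K) =
      xGL chevG2 hG2 (rhoG2.getD r 0) ((t ^ (3 ^ m)) ^ lamG2.getD r 0) := by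
  apply Units.ext
  rw [xGL_val]
  exact hσ _ r t hr (xGL_val chevG2 hG2 r t)

theorem sigma_word {m : ℕ} (σ : ↥(chevG2.group K) →* ↥(chevG2.group K)) (hσ : SigOk m σ)
    (w : List (ℕ × K)) (hw : ∀ p ∈ w, p.1 < chevG2.nroots) :
    ((σ ⟨wordGL chevG2 hG2 w, wordGL_mem_group chevG2 hG2 w⟩ : ↥(chevG2.group K)) : GL chevG2.Idx K) =
      wordGL chevG2 hG2 (tauW m w) := by
  induction w with
  | nil =>
    have e : (⟨wordGL chevG2 hG2 ([] : List (ℕ × K)), wordGL_mem_group chevG2 hG2 []⟩ : ↥(chevG2.group K)) = 1 :=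
      rfl
    rw [e, map_one]
    rfl
  | cons p w ih =>
    have e : (⟨wordGL chevG2 hG2 (p :: w), wordGL_mem_group chevG2 hG2 (p :: w)⟩ : ↥(chevG2.group K)) =
        ⟨xGL chevG2 hG2 p.1 p.2, xGL_mem_group chevG2 hG2 p.1 p.2⟩ *
          ⟨wordGL chevG2 hG2 w, wordGL_mem_group chevG2 hG2 w⟩ := by
      apply Subtype.ext
      exact wordGL_cons chevG2 hG2 p w
    rw [e, map_mul, Subgroup.coe_mul, ih (fun q hq => hw q (List.mem_cons_of_mem _ hq)),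
      sigma_x σ hσ p.1 (hw p List.mem_cons_self)]
    unfold tauW
    rw [List.map_cons, wordGL_cons]

def Fx (σ : ↥(chevG2.group K) →* ↥(chevG2.group K)) : Subgroup (GL chevG2.Idx K) :=
  (σ.eqLocus (MonoidHom.id _)).map (chevG2.group K).subtype

theorem word_mem_Fx {m : ℕ} (σ : ↥(chevG2.group K) →* ↥(chevG2.group K)) (hσ : SigOk m σ)
    (w : List (ℕ × K)) (hw : ∀ p ∈ w, p.1 < chevG2.nroots)
    (h : wordGL chevG2 hG2 (tauW m w) = wordGL chevG2 hG2 w) : wordGL chevG2 hG2 w ∈ Fx σ := by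
  refine ⟨⟨wordGL chevG2 hG2 w, wordGL_mem_group chevG2 hG2 w⟩, ?_, rfl⟩
  show σ _ = MonoidHom.id _ _
  apply Subtype.ext
  rw [sigma_word σ hσ w hw, h]
  rfl

theorem word_of_mem_Fx {m : ℕ} (σ : ↥(chevG2.group K) →* ↥(chevG2.group K)) (hσ : SigOk m σ)
    (w : List (ℕ × K)) (hw : ∀ p ∈ w, p.1 < chevG2.nroots)
    (h : wordGL chevG2 hG2 w ∈ Fx σ) : wordGL chevG2 hG2 (tauW m w) = wordGL chevG2 hG2 w := by
  obtain ⟨y, hy, hyv⟩ := h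
  have e : y = ⟨wordGL chevG2 hG2 w, wordGL_mem_group chevG2 hG2 w⟩ := Subtype.ext hyv
  have hy' : σ y = y := hy
  rw [e] at hy'
  rw [← sigma_word σ hσ w hw, hy']

theorem ree_eq (m : ℕ) (t u v : K) :
    reeWordU (3 ^ m) t u v = [(7, t ^ (3 ^ m)), (6, t), (8, t ^ (3 ^ m) * t + u ^ (3 ^ m)),
      (9, (t ^ (3 ^ m)) ^ 2 * t + v ^ (3 ^ m)), (10, u), (11, v)] := by
  unfold reeWordU
  rw [pow_succ, pow_succ, show 2 * 3 ^ m = 3 ^ m * 2 from mul_comm _ _, pow_mul]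
  rfl

theorem reeV_eq (m : ℕ) (t u v : K) :
    reeWordV (3 ^ m) t u v = [(4, -(t ^ (3 ^ m))), (5, -t), (3, -(t ^ (3 ^ m) * t + u ^ (3 ^ m))),
      (2, -((t ^ (3 ^ m)) ^ 2 * t + v ^ (3 ^ m))), (1, -u), (0, -v)] := by
  unfold reeWordV ChevalleyDatum.negWord
  rw [ree_eq]
  rfl

theorem c3 {m : ℕ} (fr : Frob K m) (t u : K) :
    ((t ^ (3 ^ m) * t + u ^ (3 ^ m)) ^ (3 ^ m)) ^ 3 = t * (t ^ (3 ^ m)) ^ 3 + u := by
  rw [fr.add, fr.add3, mul_pow, mul_pow, fr.tri, fr.tri]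

theorem c4 {m : ℕ} (fr : Frob K m) (t v : K) :
    (((t ^ (3 ^ m)) ^ 2 * t + v ^ (3 ^ m)) ^ (3 ^ m)) ^ 3 = t ^ 2 * (t ^ (3 ^ m)) ^ 3 + v := by
  rw [fr.add, fr.add3, mul_pow, mul_pow, fr.tri]
  have e : (((t ^ (3 ^ m)) ^ 2) ^ (3 ^ m)) ^ 3 = (((t ^ (3 ^ m)) ^ (3 ^ m)) ^ 3) ^ 2 := by ring
  rw [e, fr.tri]

theorem twisted_le_Fx {m : ℕ} (fr : Frob K m) (σ : ↥(chevG2.group K) →* ↥(chevG2.group K))
    (hσ : SigOk m σ) : twistedG2 K (3 ^ m) ≤ Fx σ := by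
  unfold twistedG2 ChevalleyDatum.genSubgroup
  rw [Subgroup.closure_le]
  rintro g ⟨w, hw, hg⟩
  have e : g = wordGL chevG2 hG2 w := Units.ext (by rw [hg, wordGL_val])
  rw [e]
  obtain ⟨t, u, v, rfl | rfl⟩ := hw
  · rw [ree_eq]
    apply word_mem_Fx σ hσ _ (lt_six _ _ _ _ _ _ _ _ _ _ _ _ (by norm_num) (by norm_num) (by norm_num)
      (by norm_num) (by norm_num) (by norm_num))
    have e2 : tauW m [(7, t ^ (3 ^ m)), (6, t), (8, t ^ (3 ^ m) * t + u ^ (3 ^ m)),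
        (9, (t ^ (3 ^ m)) ^ 2 * t + v ^ (3 ^ m)), (10, u), (11, v)] =
        [(6, t), (7, t ^ (3 ^ m)), (10, t * (t ^ (3 ^ m)) ^ 3 + u), (11, t ^ 2 * (t ^ (3 ^ m)) ^ 3 + v),
          (8, u ^ (3 ^ m)), (9, v ^ (3 ^ m))] := by
      have a1 : ((t ^ (3 ^ m)) ^ (3 ^ m)) ^ 3 = t := fr.tri t
      have a2 : (t ^ (3 ^ m)) ^ 1 = t ^ (3 ^ m) := pow_one _
      have a3 := c3 fr t u
      have a4 := c4 fr t v
      have a5 : (u ^ (3 ^ m)) ^ 1 = u ^ (3 ^ m) := pow_one _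
      have a6 : (v ^ (3 ^ m)) ^ 1 = v ^ (3 ^ m) := pow_one _
      show [(6, ((t ^ (3 ^ m)) ^ (3 ^ m)) ^ 3), (7, (t ^ (3 ^ m)) ^ 1),
        (10, ((t ^ (3 ^ m) * t + u ^ (3 ^ m)) ^ (3 ^ m)) ^ 3),
        (11, (((t ^ (3 ^ m)) ^ 2 * t + v ^ (3 ^ m)) ^ (3 ^ m)) ^ 3), (8, (u ^ (3 ^ m)) ^ 1),
        (9, (v ^ (3 ^ m)) ^ 1)] = _
      rw [a1, a2, a3, a4, a5, a6]
    rw [e2]
    exact (id1 fr.h3 t (t ^ (3 ^ m)) u (u ^ (3 ^ m)) v (v ^ (3 ^ m))).symm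
  · rw [reeV_eq]
    apply word_mem_Fx σ hσ _ (lt_six _ _ _ _ _ _ _ _ _ _ _ _ (by norm_num) (by norm_num) (by norm_num)
      (by norm_num) (by norm_num) (by norm_num))
    have e2 : tauW m [(4, -(t ^ (3 ^ m))), (5, -t), (3, -(t ^ (3 ^ m) * t + u ^ (3 ^ m))),
        (2, -((t ^ (3 ^ m)) ^ 2 * t + v ^ (3 ^ m))), (1, -u), (0, -v)] =
        [(5, -t), (4, -(t ^ (3 ^ m))), (1, -(t * (t ^ (3 ^ m)) ^ 3 + u)),
          (0, -(t ^ 2 * (t ^ (3 ^ m)) ^ 3 + v)), (3, -(u ^ (3 ^ m))), (2, -(v ^ (3 ^ m)))] := by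
      have a1 : ((-(t ^ (3 ^ m))) ^ (3 ^ m)) ^ 3 = -t := by rw [fr.neg, neg3, fr.tri]
      have a2 : ((-t) ^ (3 ^ m)) ^ 1 = -(t ^ (3 ^ m)) := by rw [pow_one, fr.neg]
      have a3 : ((-(t ^ (3 ^ m) * t + u ^ (3 ^ m))) ^ (3 ^ m)) ^ 3 = -(t * (t ^ (3 ^ m)) ^ 3 + u) := by
        rw [fr.neg, neg3, c3 fr]
      have a4 : ((-((t ^ (3 ^ m)) ^ 2 * t + v ^ (3 ^ m))) ^ (3 ^ m)) ^ 3 =
          -(t ^ 2 * (t ^ (3 ^ m)) ^ 3 + v) := by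
        rw [fr.neg, neg3, c4 fr]
      have a5 : ((-u) ^ (3 ^ m)) ^ 1 = -(u ^ (3 ^ m)) := by rw [pow_one, fr.neg]
      have a6 : ((-v) ^ (3 ^ m)) ^ 1 = -(v ^ (3 ^ m)) := by rw [pow_one, fr.neg]
      show [(5, ((-(t ^ (3 ^ m))) ^ (3 ^ m)) ^ 3), (4, ((-t) ^ (3 ^ m)) ^ 1),
        (1, ((-(t ^ (3 ^ m) * t + u ^ (3 ^ m))) ^ (3 ^ m)) ^ 3),
        (0, ((-((t ^ (3 ^ m)) ^ 2 * t + v ^ (3 ^ m))) ^ (3 ^ m)) ^ 3), (3, ((-u) ^ (3 ^ m)) ^ 1),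
        (2, ((-v) ^ (3 ^ m)) ^ 1)] = _
      rw [a1, a2, a3, a4, a5, a6]
    rw [e2]
    exact (id2 fr.h3 t (t ^ (3 ^ m)) u (u ^ (3 ^ m)) v (v ^ (3 ^ m))).symm

end

end Cfsg.Agent.Lib.Helper7.ReeMain
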