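import Cfsg.Agent.Lib.Helper7.ReeFpf
import Cfsg.Agent.Lib.Helper7.ReeCubeId

set_option autoImplicit false
set_option maxHeartbeats 400000

namespace Cfsg.Agent.Lib.Helper7.ReeOrd3
open Cfsg.Lie Cfsg.Agent.Lib.Helper7.ChevEngine Cfsg.Agent.Lib.Helper7.ChevTorus
  Cfsg.Agent.Lib.Helper7.ReeFix Cfsg.Agent.Lib.Helper7.ReeMain Cfsg.Agent.Lib.Helper7.ReeSg
  Cfsg.Agent.Lib.Helper7.ReeTorus Cfsg.Agent.Lib.Helper7.ReeTorMem Cfsg.Agent.Lib.Helper7.ReeOrder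
  Cfsg.Agent.Lib.Helper7.ReeBN Cfsg.Agent.Lib.Helper7.ReePerf Cfsg.Agent.Lib.Helper7.ReeH
  Cfsg.Agent.Lib.Helper7.ReeU Cfsg.Agent.Lib.Helper7.ReeFpf Cfsg.Agent.Lib.Helper7.ReeCubeId
  Cfsg.Agent.Lib.Helper7.MvEngine Cfsg.Agent.Lib.Helper7.MvWord Cfsg.Agent.Lib.Helper7.ChevRel

section
variable {K : Type*} [Field K]

theorem cube_id (h3 : ((3 : ℕ) : K) = 0) (t T u U v V : K) :
    wordGL chevG2 hG2 [(7, T), (6, t), (8, T * t + U), (9, T ^ 2 * t + V), (10, u), (11, v)] ^ 3 =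
    wordGL chevG2 hG2 [(7, 0), (6, 0), (8, 0), (9, -(t * T ^ 2)), (10, 0), (11, -(t ^ 2 * T ^ 3))] := by
  have h := wordGL_eq_of_chk h3 (envL t T u U v V) Wqa Wqb chkq
  have e1 : Wqa.map (fun x => (x.1, eval6 (envL t T u U v V) x.2)) =
      [(7, T), (6, t), (8, T * t + U), (9, T ^ 2 * t + V), (10, u), (11, v)] ++
        ([(7, T), (6, t), (8, T * t + U), (9, T ^ 2 * t + V), (10, u), (11, v)] ++
          [(7, T), (6, t), (8, T * t + U), (9, T ^ 2 * t + V), (10, u), (11, v)]) := by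
    simp [Wqa, eval6, evalM6, eex, envL]
    all_goals first | done | (refine ⟨?_, ?_, ?_, ?_, ?_, ?_⟩ <;> ring)
  have e2 : Wqb.map (fun x => (x.1, eval6 (envL t T u U v V) x.2)) =
      [(7, 0), (6, 0), (8, 0), (9, -(t * T ^ 2)), (10, 0), (11, -(t ^ 2 * T ^ 3))] := by
    simp [Wqb, eval6, evalM6, eex, envL]
  rw [e1, e2, wordGL_append, wordGL_append] at h
  rw [pow_succ, pow_succ, pow_one, mul_assoc]
  exact h

theorem uu_cube {m : ℕ} (fr : Frob K m) (t u v : K) :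
    uu m (t, u, v) ^ 3 = uu m (0, 0, -(t ^ 2 * (t ^ (3 ^ m)) ^ 3)) := by
  show wordGL chevG2 hG2 (reeWordU (3 ^ m) t u v) ^ 3 =
    wordGL chevG2 hG2 (reeWordU (3 ^ m) 0 0 (-(t ^ 2 * (t ^ (3 ^ m)) ^ 3)))
  rw [ree_eq, reeZ0, cube_id fr.h3]
  have e : (-(t ^ 2 * (t ^ (3 ^ m)) ^ 3)) ^ (3 ^ m) = -(t * (t ^ (3 ^ m)) ^ 2) := by
    have hodd : Odd (3 ^ m) := Odd.pow (by decide)
    rw [Odd.neg_pow hodd, mul_pow]
    have e2 : ((t ^ (3 ^ m)) ^ 3) ^ (3 ^ m) = ((t ^ (3 ^ m)) ^ (3 ^ m)) ^ 3 := by ring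
    rw [e2, fr.tri]
    ring
  rw [e]

theorem ord3_iff [Fintype K] {m : ℕ} (hK : Fintype.card K = 3 ^ (2 * m + 1))
    (x : ↥(chevG2.posUnipotent K ⊓ twistedG2 K (3 ^ m))) :
    orderOf x = 3 ↔ ∃ p : K × K, p ≠ 0 ∧ (x : GL chevG2.Idx K) = uu m (0, p.1, p.2) := by
  have fr := frob_of_card hK
  haveI : Fact (Nat.Prime 3) := ⟨by norm_num⟩
  rw [orderOf_eq_prime_iff]
  obtain ⟨t, u, v, e⟩ := mem_imp fr x.1 x.2
  have e' : (x : GL chevG2.Idx K) = uu m (t, u, v) := e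
  have z : (0 : K) ^ (3 ^ m) = 0 := zero_pow (pow_ne_zero m (by norm_num))
  constructor
  · rintro ⟨h1, h2⟩
    have h3 : (x : GL chevG2.Idx K) ^ 3 = 1 := by
      rw [← Subgroup.coe_pow, h1]
      rfl
    rw [e', uu_cube fr, ← uu_zero fr] at h3
    have h4 := uu_inj fr _ _ h3
    have h5 : -(t ^ 2 * (t ^ (3 ^ m)) ^ 3) = 0 := congrArg (fun p : K × K × K => p.2.2) h4
    have ht : t = 0 := by
      rw [neg_eq_zero, mul_eq_zero] at h5
      rcases h5 with h | h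
      · exact pow_eq_zero_iff (by norm_num) |>.mp h
      · exact pow_eq_zero_iff (pow_ne_zero m (by norm_num)) |>.mp
          (pow_eq_zero_iff (by norm_num) |>.mp h)
    subst ht
    refine ⟨(u, v), ?_, e'⟩
    intro h0
    apply h2
    apply Subtype.ext
    rw [e']
    have hu : u = 0 := congrArg Prod.fst h0
    have hv : v = 0 := congrArg Prod.snd h0
    subst hu
    subst hv
    exact uu_zero fr
  · rintro ⟨p, hp, hx⟩
    constructor
    · apply Subtype.ext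
      rw [Subgroup.coe_pow, hx, uu_cube fr, z]
      have e0 : -((0 : K) ^ 2 * (0 : K) ^ 3) = 0 := by norm_num
      rw [e0]
      exact uu_zero fr
    · intro h1
      apply hp
      have h6 : uu m ((0 : K), p.1, p.2) = uu m ((0 : K), (0 : K), (0 : K)) := by
        rw [← hx, h1, uu_zero fr]
        rfl
      have h4 := uu_inj fr _ _ h6
      have h7 : p.1 = 0 := congrArg (fun p : K × K × K => p.2.1) h4
      have h8 : p.2 = 0 := congrArg (fun p : K × K × K => p.2.2) h4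
      exact Prod.ext h7 h8

theorem ord3_count [Fintype K] {m : ℕ} (hK : Fintype.card K = 3 ^ (2 * m + 1)) :
    Nat.card {u : ↥(chevG2.posUnipotent K ⊓ twistedG2 K (3 ^ m)) // orderOf u = 3} =
      (3 ^ (2 * m + 1)) ^ 2 - 1 := by
  classical
  have fr := frob_of_card hK
  let f : {p : K × K // p ≠ 0} → {u : ↥(chevG2.posUnipotent K ⊓ twistedG2 K (3 ^ m)) // orderOf u = 3} :=
    fun p => ⟨⟨uu m (0, p.1.1, p.1.2), ree_mem m _ _ _⟩, (ord3_iff hK _).mpr ⟨p.1, p.2, rfl⟩⟩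
  have hf : Function.Bijective f := by
    constructor
    · intro p p' h
      have h1 : uu m ((0 : K), p.1.1, p.1.2) = uu m ((0 : K), p'.1.1, p'.1.2) :=
        congrArg (fun u : {u : ↥(chevG2.posUnipotent K ⊓ twistedG2 K (3 ^ m)) // orderOf u = 3} =>
          ((u : ↥(chevG2.posUnipotent K ⊓ twistedG2 K (3 ^ m))) : GL chevG2.Idx K)) h
      have h4 := uu_inj fr _ _ h1
      have h7 : p.1.1 = p'.1.1 := congrArg (fun p : K × K × K => p.2.1) h4
      have h8 : p.1.2 = p'.1.2 := congrArg (fun p : K × K × K => p.2.2) h4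
      exact Subtype.ext (Prod.ext h7 h8)
    · rintro ⟨x, hx⟩
      obtain ⟨p, hp, e⟩ := (ord3_iff hK x).mp hx
      exact ⟨⟨p, hp⟩, Subtype.ext (Subtype.ext e.symm)⟩
  rw [← Nat.card_congr (Equiv.ofBijective f hf), Nat.card_eq_fintype_card,
    Fintype.card_subtype_compl, Fintype.card_subtype_eq, Fintype.card_prod, hK, sq]

end

end Cfsg.Agent.Lib.Helper7.ReeOrd3
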