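import Cfsg.Agent.Lib.Helper7.ReeTorMem
import Cfsg.Agent.Lib.Helper7.ReeDich
import Cfsg.Agent.S1117

set_option autoImplicit false

namespace Cfsg.Agent.Lib.Helper7.ReeOrder
open Cfsg.Lie Cfsg.Agent.Lib.Helper7.ChevEngine Cfsg.Agent.Lib.Helper7.ChevTorus
  Cfsg.Agent.Lib.Helper7.ChevSpec Cfsg.Agent.Lib.Helper7.SpecData Cfsg.Agent.Lib.Helper7.ChevGen
  Cfsg.Agent.Lib.Helper7.ChevUProd Cfsg.Agent.Lib.Helper7.TwCore Cfsg.Agent.Lib.Helper7.ReeFix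
  Cfsg.Agent.Lib.Helper7.ChevRel Cfsg.Agent.Lib.Helper7.ChevBN3 Cfsg.Agent.Lib.Helper7.ReeMain
  Cfsg.Agent.Lib.Helper7.ReeU Cfsg.Agent.Lib.Helper7.ChevBruhat Cfsg.Agent.Lib.Helper7.ChevBNP
  Cfsg.Agent.Lib.Helper7.ChevW0 Cfsg.Agent.Lib.Helper7.ChevNW Cfsg.Agent.Lib.Helper7.ChevExch
  Cfsg.Agent.Lib.Helper7.ReeSg Cfsg.Agent.Lib.Helper7.ReeDich Cfsg.Agent.Lib.Helper7.ReeTorus
  Cfsg.Agent.Lib.Helper7.ReeTorMem Cfsg.Agent.Lib.Helper7.W0All Cfsg.Agent.S1117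

section
variable {K : Type*} [Field K]

noncomputable def n0 (K : Type*) [Field K] : GL chevG2.Idx K := nWordGL chevG2 hG2 [0, 1, 0, 1, 0, 1]

theorem n0_map : n0 K ∈ chevG2.monomialSubgroup K ∧
    (chevG2.posUnipotent K).map (MulAut.conj (n0 K)).toMonoidHom = chevG2.negUnipotent K :=
  w0_map (F := K) chevG2 hG2 wtG2 woG2 blocks.flatten w0c

theorem n0_mem [Fintype K] {m : ℕ} (hK : Fintype.card K = 3 ^ (2 * m + 1)) :
    n0 K ∈ twistedG2 K (3 ^ m) := by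
  have h3n : ((3 : ℕ) : K) = 0 := char_of_card 3 (2 * m + 1) hK
  have h3' : (3 : K) = 0 := by
    have e : (3 : K) = ((3 : ℕ) : K) := by norm_num
    rw [e]
    exact h3n
  have h3 : (((3 : ℤ)) : K) = 0 := by
    have e : (((3 : ℤ)) : K) = (3 : K) := by norm_num
    rw [e]
    exact h3'
  have he : (3 : ℕ) ^ m ≠ 0 := pow_ne_zero m (by norm_num)
  have ho : Odd ((3 : ℕ) ^ m) := Odd.pow (by decide)
  have z1 : (0 : K) ^ (3 ^ m) = 0 := zero_pow he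
  have z2 : (0 : K) ^ (3 ^ m + 1) = 0 := zero_pow (Nat.succ_ne_zero _)
  have z3 : (0 : K) ^ (2 * 3 ^ m + 1) = 0 := zero_pow (Nat.succ_ne_zero _)
  have n1 : (-1 : K) ^ (3 ^ m) = -1 := ho.neg_one_pow
  have n2 : (-1 : K) ^ (3 ^ m + 1) = 1 := by rw [pow_succ, n1]; ring
  have n3 : (-1 : K) ^ (2 * 3 ^ m + 1) = -1 := (odd_two_mul_add_one _).neg_one_pow
  have cU001 : wordGL chevG2 hG2 (([(7, []), (6, []), (8, []), (9, one), (10, []), (11, one)] :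
      List (ℕ × Poly)).map fun x => (x.1, eval (1 : K) 1 x.2)) ∈ twistedG2 K (3 ^ m) := by
    refine gen_mem chevG2 hG2 (g2Words K (3 ^ m)) _ ⟨0, 0, 1, Or.inl ?_⟩
    simp [reeWordU, g2a, g2b, g2ab, g2aab, g2aaab, g2aaabb, eval, evalM, one, z1, z2, z3]
  have cV222 : wordGL chevG2 hG2 (([(4, one), (5, one), (3, []), (2, two), (1, one), (0, one)] :
      List (ℕ × Poly)).map fun x => (x.1, eval (1 : K) 1 x.2)) ∈ twistedG2 K (3 ^ m) := by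
    refine gen_mem chevG2 hG2 (g2Words K (3 ^ m)) _ ⟨-1, -1, -1, Or.inr ?_⟩
    simp [reeWordV, reeWordU, ChevalleyDatum.negWord, g2a, g2b, g2ab, g2aab, g2aaab, g2aaabb, eval, evalM,
      one, two, n1, n2, n3]
    exact ⟨by decide, by decide, by decide, ⟨by decide, by norm_num⟩, by decide, by decide⟩
  have cU201 : wordGL chevG2 hG2 (([(7, mone), (6, mone), (8, one), (9, []), (10, []), (11, one)] :
      List (ℕ × Poly)).map fun x => (x.1, eval (1 : K) 1 x.2)) ∈ twistedG2 K (3 ^ m) := by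
    refine gen_mem chevG2 hG2 (g2Words K (3 ^ m)) _ ⟨-1, 0, 1, Or.inl ?_⟩
    simp [reeWordU, g2a, g2b, g2ab, g2aab, g2aaab, g2aaabb, eval, evalM, one, mone, z1, n1, n2, n3]
  apply block_mem chevG2 hG2 (twistedG2 K (3 ^ m)) 3 h3 [0, 1, 0, 1, 0, 1] wsA 1 1 chkA
  intro w hw
  simp only [wsA, List.mem_cons, List.not_mem_nil, or_false] at hw
  rcases hw with rfl | rfl | rfl
  · exact cU001
  · exact cV222
  · exact cU201

noncomputable def uu (m : ℕ) (p : K × K × K) : GL chevG2.Idx K :=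
  wordGL chevG2 hG2 (reeWordU (3 ^ m) p.1 p.2.1 p.2.2)

noncomputable def th (m : ℕ) (μ : Kˣ) : GL chevG2.Idx K := hh (μ ^ (3 ^ m)) μ

theorem uu_memR (m : ℕ) (p : K × K × K) : uu m p ∈ twistedG2 K (3 ^ m) := (ree_mem m _ _ _).2

theorem uu_memU (m : ℕ) (p : K × K × K) : uu m p ∈ chevG2.posUnipotent K := (ree_mem m _ _ _).1

theorem th_memH (m : ℕ) (μ : Kˣ) : th m μ ∈ chevG2.diagonalSubgroup K := hh_mem_H _ _

theorem uu_inj {m : ℕ} (fr : Frob K m) (p p' : K × K × K) (h : uu m p = uu m p') : p = p' := by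
  obtain ⟨t, u, v⟩ := p
  obtain ⟨t', u', v'⟩ := p'
  obtain ⟨rfl, rfl, rfl⟩ := ree_inj fr t u v t' u' v' h
  rfl

theorem th_inj (m : ℕ) (μ μ' : Kˣ) (h : th m μ = th m μ') : μ = μ' := (hh_inj _ _ _ _ h).2

theorem UH_unique (u u' h h' : GL chevG2.Idx K) (hu : u ∈ chevG2.posUnipotent K)
    (hu' : u' ∈ chevG2.posUnipotent K) (hh1 : h ∈ chevG2.diagonalSubgroup K)
    (hh2 : h' ∈ chevG2.diagonalSubgroup K) (e : u * h = u' * h') : u = u' ∧ h = h' := by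
  have e2 : u'⁻¹ * u = h' * h⁻¹ := by
    have : u = u' * h' * h⁻¹ := by rw [← e]; group
    rw [this]
    group
  have h1 : u'⁻¹ * u ∈ chevG2.posUnipotent K ⊓ chevG2.diagonalSubgroup K :=
    Subgroup.mem_inf.mpr ⟨mul_mem (inv_mem hu') hu, by rw [e2]; exact mul_mem hh2 (inv_mem hh1)⟩
  rw [(Cfsg.Agent.S1036.result (F := K) chevG2 hG2).2, Subgroup.mem_bot] at h1
  have huu : u = u' := (inv_mul_eq_one.mp h1).symm
  subst huu
  exact ⟨rfl, mul_left_cancel e⟩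

theorem n0_not_H : n0 K ∉ chevG2.diagonalSubgroup K := by
  intro hcon
  obtain ⟨-, hmap⟩ := n0_map (K := K)
  have hnorm := (Cfsg.Agent.S1036.result (F := K) chevG2 hG2).1 hcon
  have hx : xGL chevG2 hG2 7 (1 : K) ∈ chevG2.posUnipotent K := xGL_mem_U chevG2 hG2 7 (by decide) 1
  have h1 := (Subgroup.mem_normalizer_iff.mp hnorm _).mp hx
  have h2 : n0 K * xGL chevG2 hG2 7 (1 : K) * (n0 K)⁻¹ ∈ chevG2.negUnipotent K := by
    rw [← hmap]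
    exact Subgroup.mem_map_of_mem _ hx
  exact not_P_and_N (n0 K) 7 (by norm_num) h1 h2

theorem cellB (u1 h1 v1 u2 h2 v2 : GL chevG2.Idx K) (hu1 : u1 ∈ chevG2.posUnipotent K)
    (hh1 : h1 ∈ chevG2.diagonalSubgroup K) (hv1 : v1 ∈ chevG2.posUnipotent K)
    (hu2 : u2 ∈ chevG2.posUnipotent K) (hh2 : h2 ∈ chevG2.diagonalSubgroup K)
    (hv2 : v2 ∈ chevG2.posUnipotent K) (e : u1 * h1 * n0 K * v1 = u2 * h2 * n0 K * v2) :
    u1 = u2 ∧ h1 = h2 ∧ v1 = v2 := by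
  obtain ⟨hn0N, hmap⟩ := n0_map (K := K)
  have hU0 := U_le_Un (n0 K) hmap
  obtain ⟨-, huniq⟩ := bruhat_unique chevG2 hG2 (u1 * h1) (u2 * h2) (n0 K) (n0 K) v1 v2
    (mul_mem (U_le_B chevG2 hu1) (H_le_B chevG2 hh1)) (mul_mem (U_le_B chevG2 hu2) (H_le_B chevG2 hh2))
    hn0N hn0N (hU0 hv1) (hU0 hv2) e
  obtain ⟨e1, e2⟩ := huniq rfl
  obtain ⟨e3, e4⟩ := UH_unique u1 u2 h1 h2 hu1 hu2 hh1 hh2 e1
  exact ⟨e3, e4, e2⟩

theorem cellAB (u1 h1 u2 h2 v2 : GL chevG2.Idx K) (hu1 : u1 ∈ chevG2.posUnipotent K)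
    (hh1 : h1 ∈ chevG2.diagonalSubgroup K)
    (hu2 : u2 ∈ chevG2.posUnipotent K) (hh2 : h2 ∈ chevG2.diagonalSubgroup K)
    (hv2 : v2 ∈ chevG2.posUnipotent K) (e : u1 * h1 = u2 * h2 * n0 K * v2) : False := by
  obtain ⟨hn0N, -⟩ := n0_map (K := K)
  have e' : u1 * h1 * 1 * 1 = u2 * h2 * n0 K * v2 := by rw [mul_one, mul_one]; exact e
  have h := cell_inj chevG2 hG2 (u1 * h1) (u2 * h2) 1 (n0 K) 1 v2
    (mul_mem (U_le_B chevG2 hu1) (H_le_B chevG2 hh1)) (mul_mem (U_le_B chevG2 hu2) (H_le_B chevG2 hh2))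
    (one_mem _) hn0N (one_mem _) (U_le_B chevG2 hv2) e'
  rw [inv_one, one_mul] at h
  exact n0_not_H h

theorem fx_eq [Fintype K] {m : ℕ} (hK : Fintype.card K = 3 ^ (2 * m + 1))
    (σ : ↥(chevG2.group K) →* ↥(chevG2.group K)) (hσ : SigOk m σ) :
    ∀ g : GL chevG2.Idx K, g ∈ Fx σ →
      (∃ p : K × K × K, ∃ μ : Kˣ, g = uu m p * th m μ) ∨
      (∃ p : K × K × K, ∃ μ : Kˣ, ∃ p' : K × K × K, g = uu m p * th m μ * n0 K * uu m p') := by
  have fr := frob_of_card hK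
  obtain ⟨hn0N, hmap⟩ := n0_map (K := K)
  have hn0fix : sg σ (n0 K) = n0 K := ((mem_Fx_iff σ _).mp (twisted_le_Fx fr σ hσ (n0_mem hK))).2
  have hu : ∀ u ∈ chevG2.posUnipotent K, sg σ u = u → ∃ p : K × K × K, u = uu m p := by
    intro u huU hfix
    obtain ⟨t, a, b, e⟩ := mem_fx_imp fr σ hσ u huU ((mem_Fx_iff σ u).mpr ⟨U_le_G huU, hfix⟩)
    exact ⟨(t, a, b), e⟩
  have hh' : ∀ h ∈ chevG2.diagonalSubgroup K, sg σ h = h → ∃ μ : Kˣ, h = th m μ := by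
    intro h hH hfix
    obtain ⟨c0, c1, rfl⟩ := exists_hh h hH
    rw [hh_fix_iff fr σ hσ] at hfix
    subst hfix
    exact ⟨c1, rfl⟩
  intro g hg
  rcases fx_struct fr σ hσ (n0 K) hn0N hmap hn0fix g hg with
    ⟨u, huU, h, hH, hsu, hsh, rfl⟩ | ⟨u, huU, h, hH, u', hu'U, hsu, hsh, hsu', rfl⟩
  · left
    obtain ⟨p, rfl⟩ := hu u huU hsu
    obtain ⟨μ, rfl⟩ := hh' h hH hsh
    exact ⟨p, μ, rfl⟩
  · right
    obtain ⟨p, rfl⟩ := hu u huU hsu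
    obtain ⟨μ, rfl⟩ := hh' h hH hsh
    obtain ⟨p', rfl⟩ := hu u' hu'U hsu'
    exact ⟨p, μ, p', rfl⟩

theorem card_ree [Fintype K] {m : ℕ} (hK : Fintype.card K = 3 ^ (2 * m + 1)) :
    Nat.card ↥(twistedG2 K (3 ^ m)) =
      (3 ^ (2 * m + 1)) ^ 3 * (3 ^ (2 * m + 1) - 1) * ((3 ^ (2 * m + 1)) ^ 3 + 1) := by
  have fr := frob_of_card hK
  obtain ⟨σ, hσ⟩ := exists_sigma fr
  have hthR : ∀ μ : Kˣ, th m μ ∈ twistedG2 K (3 ^ m) := fun μ => hfix_mem hK μ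
  have hn0R := n0_mem hK
  let Φ : ((K × K × K) × Kˣ) ⊕ (((K × K × K) × Kˣ) × (K × K × K)) → ↥(twistedG2 K (3 ^ m)) :=
    Sum.elim (fun a => ⟨uu m a.1 * th m a.2, mul_mem (uu_memR m _) (hthR _)⟩)
      (fun a => ⟨uu m a.1.1 * th m a.1.2 * n0 K * uu m a.2,
        mul_mem (mul_mem (mul_mem (uu_memR m _) (hthR _)) hn0R) (uu_memR m _)⟩)
  have hbij : Function.Bijective Φ := by
    constructor
    · rintro (⟨p, μ⟩ | ⟨⟨p, μ⟩, p'⟩) (⟨q, ν⟩ | ⟨⟨q, ν⟩, q'⟩) h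
      · have h' : uu m p * th m μ = uu m q * th m ν := congrArg Subtype.val h
        obtain ⟨e1, e2⟩ := UH_unique _ _ _ _ (uu_memU m p) (uu_memU m q) (th_memH m μ) (th_memH m ν) h'
        rw [uu_inj fr p q e1, th_inj m μ ν e2]
      · exfalso
        have h' : uu m p * th m μ = uu m q * th m ν * n0 K * uu m q' := congrArg Subtype.val h
        exact cellAB _ _ _ _ _ (uu_memU m p) (th_memH m μ) (uu_memU m q) (th_memH m ν) (uu_memU m q') h'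
      · exfalso
        have h' : uu m p * th m μ * n0 K * uu m p' = uu m q * th m ν := congrArg Subtype.val h
        exact cellAB _ _ _ _ _ (uu_memU m q) (th_memH m ν) (uu_memU m p) (th_memH m μ) (uu_memU m p') h'.symm
      · have h' : uu m p * th m μ * n0 K * uu m p' = uu m q * th m ν * n0 K * uu m q' :=
          congrArg Subtype.val h
        obtain ⟨e1, e2, e3⟩ := cellB _ _ _ _ _ _ (uu_memU m p) (th_memH m μ) (uu_memU m p') (uu_memU m q)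
          (th_memH m ν) (uu_memU m q') h'
        rw [uu_inj fr p q e1, th_inj m μ ν e2, uu_inj fr p' q' e3]
    · rintro ⟨g, hg⟩
      rcases fx_eq hK σ hσ g (twisted_le_Fx fr σ hσ hg) with ⟨p, μ, e⟩ | ⟨p, μ, p', e⟩
      · exact ⟨Sum.inl (p, μ), Subtype.ext e.symm⟩
      · exact ⟨Sum.inr ((p, μ), p'), Subtype.ext e.symm⟩
  have hcK : Nat.card K = 3 ^ (2 * m + 1) := by rw [Nat.card_eq_fintype_card, hK]
  have hcU : Nat.card Kˣ = 3 ^ (2 * m + 1) - 1 := by rw [Nat.card_units, hcK]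
  rw [← Nat.card_congr (Equiv.ofBijective Φ hbij)]
  simp only [Nat.card_sum, Nat.card_prod, hcK, hcU]
  ring

end

end Cfsg.Agent.Lib.Helper7.ReeOrder
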