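import Cfsg.Agent.Lib.Helper7.ReeBN
import Cfsg.Agent.Lib.Helper7.ReePerfId

set_option autoImplicit false
set_option maxHeartbeats 400000

namespace Cfsg.Agent.Lib.Helper7.ReePerf
open Cfsg.Lie Cfsg.Agent.Lib.Helper7.ChevEngine Cfsg.Agent.Lib.Helper7.ChevTorus
  Cfsg.Agent.Lib.Helper7.ChevSpec Cfsg.Agent.Lib.Helper7.SpecData Cfsg.Agent.Lib.Helper7.ChevGen
  Cfsg.Agent.Lib.Helper7.ChevUProd Cfsg.Agent.Lib.Helper7.TwCore Cfsg.Agent.Lib.Helper7.ReeFix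
  Cfsg.Agent.Lib.Helper7.ChevRel Cfsg.Agent.Lib.Helper7.ChevBN3 Cfsg.Agent.Lib.Helper7.ReeMain
  Cfsg.Agent.Lib.Helper7.ReeU Cfsg.Agent.Lib.Helper7.ChevBruhat Cfsg.Agent.Lib.Helper7.ChevBNP
  Cfsg.Agent.Lib.Helper7.ChevW0 Cfsg.Agent.Lib.Helper7.ChevNW Cfsg.Agent.Lib.Helper7.ChevExch
  Cfsg.Agent.Lib.Helper7.ReeSg Cfsg.Agent.Lib.Helper7.ReeDich Cfsg.Agent.Lib.Helper7.ReeTorus
  Cfsg.Agent.Lib.Helper7.ReeTorMem Cfsg.Agent.Lib.Helper7.W0All Cfsg.Agent.Lib.Helper7.ReeOrder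
  Cfsg.Agent.Lib.Helper7.ReeBN Cfsg.Agent.Lib.Helper7.ReePerfId Cfsg.Agent.Lib.Helper7.MvEngine
  Cfsg.Agent.Lib.Helper7.MvWord Cfsg.Agent.Lib.Helper7.ChevPerf

open scoped commutatorElement

section abs
variable {K : Type*} [Field K]

def Cm (R : Subgroup (GL chevG2.Idx K)) : Subgroup (GL chevG2.Idx K) := (commutator ↥R).map R.subtype

theorem comm_mem (R : Subgroup (GL chevG2.Idx K)) (a b : GL chevG2.Idx K) (ha : a ∈ R) (hb : b ∈ R) :
    a * b * a⁻¹ * b⁻¹ ∈ Cm R := by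
  refine ⟨⁅(⟨a, ha⟩ : ↥R), ⟨b, hb⟩⁆, ?_, ?_⟩
  · exact Subgroup.commutator_mem_commutator (Subgroup.mem_top _) (Subgroup.mem_top _)
  · rw [commutatorElement_def]
    rfl

theorem Cm_conj (R : Subgroup (GL chevG2.Idx K)) (g : GL chevG2.Idx K) (hg : g ∈ Cm R)
    (r : GL chevG2.Idx K) (hr : r ∈ R) : r * g * r⁻¹ ∈ Cm R := by
  obtain ⟨x, hx, rfl⟩ := hg
  have hn : (commutator ↥R).Normal := inferInstance
  exact ⟨(⟨r, hr⟩ : ↥R) * x * (⟨r, hr⟩ : ↥R)⁻¹, hn.conj_mem x hx _, rfl⟩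

theorem top_of (R : Subgroup (GL chevG2.Idx K)) (h : R ≤ Cm R) : commutator ↥R = ⊤ := by
  rw [eq_top_iff]
  intro x _
  obtain ⟨y, hy, e⟩ := h x.2
  have e2 : y = x := Subtype.ext e
  rw [← e2]
  exact hy

theorem gen_le (S : Set (List (ℕ × K))) (X : Subgroup (GL chevG2.Idx K))
    (h : ∀ w ∈ S, wordGL chevG2 hG2 w ∈ X) : chevG2.genSubgroup K S ≤ X := by
  unfold ChevalleyDatum.genSubgroup
  rw [Subgroup.closure_le]
  rintro g ⟨w, hw, hg⟩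
  have e : g = wordGL chevG2 hG2 w := Units.ext (by rw [hg, wordGL_val])
  rw [e]
  exact h w hw

theorem wordGL_inv (w : List (ℕ × K)) :
    (wordGL chevG2 hG2 w)⁻¹ = wordGL chevG2 hG2 (w.reverse.map fun p => (p.1, -p.2)) := by
  induction w with
  | nil =>
    rw [List.reverse_nil, List.map_nil, wordGL_nil, inv_one]
  | cons p w ih =>
    rw [wordGL_cons, mul_inv_rev, ih, List.reverse_cons, List.map_append, wordGL_append, List.map_cons,
      List.map_nil, wordGL_cons, wordGL_nil, mul_one, xGL_neg]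

def chi (c0 c1 : Kˣ) (r : ℕ) : K := (c0 : K) ^ (chevG2.cartan 0 r) * (c1 : K) ^ (chevG2.cartan 1 r)

theorem hh_conj' (c0 c1 : Kˣ) (r : ℕ) (hr : r < 12) (t : K) :
    hh c0 c1 * xGL chevG2 hG2 r t = xGL chevG2 hG2 r (chi c0 c1 r * t) * hh c0 c1 := by
  rw [hh_conj c0 c1 r hr t]
  unfold chi
  rw [mul_assoc]

theorem hh_conj_word (c0 c1 : Kˣ) (w : List (ℕ × K)) (hw : ∀ p ∈ w, p.1 < chevG2.nroots) :
    hh c0 c1 * wordGL chevG2 hG2 w =
      wordGL chevG2 hG2 (w.map fun p => (p.1, chi c0 c1 p.1 * p.2)) * hh c0 c1 := by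
  induction w with
  | nil => rw [List.map_nil, wordGL_nil, mul_one, one_mul]
  | cons p w ih =>
    have hp : p.1 < 12 := by
      rw [← nroots_eq]
      exact hw p List.mem_cons_self
    rw [List.map_cons, wordGL_cons, wordGL_cons, ← mul_assoc, hh_conj' c0 c1 p.1 hp, mul_assoc,
      ih (fun q hq => hw q (List.mem_cons_of_mem _ hq)), mul_assoc]

theorem c07 : chevG2.cartan 0 7 = 2 := by decide
theorem c17 : chevG2.cartan 1 7 = -1 := by decide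
theorem c06 : chevG2.cartan 0 6 = -3 := by decide
theorem c16 : chevG2.cartan 1 6 = 2 := by decide
theorem c08 : chevG2.cartan 0 8 = -1 := by decide
theorem c18 : chevG2.cartan 1 8 = 1 := by decide
theorem c09 : chevG2.cartan 0 9 = 1 := by decide
theorem c19 : chevG2.cartan 1 9 = 0 := by decide
theorem c010 : chevG2.cartan 0 10 = 3 := by decide
theorem c110 : chevG2.cartan 1 10 = -1 := by decide
theorem c011 : chevG2.cartan 0 11 = 0 := by decide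
theorem c111 : chevG2.cartan 1 11 = 1 := by decide

theorem chi7 (c0 c1 : Kˣ) : chi c0 c1 7 = (c0 : K) ^ 2 * (c1 : K)⁻¹ := by
  unfold chi
  rw [c07, c17, zpow_neg_one, zpow_ofNat]

theorem chi6 (c0 c1 : Kˣ) : chi c0 c1 6 = ((c0 : K)⁻¹) ^ 3 * (c1 : K) ^ 2 := by
  unfold chi
  rw [c06, c16, zpow_neg, zpow_ofNat, zpow_ofNat, inv_pow]

theorem chi8 (c0 c1 : Kˣ) : chi c0 c1 8 = (c0 : K)⁻¹ * (c1 : K) := by
  unfold chi
  rw [c08, c18, zpow_neg_one, zpow_one]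

theorem chi9 (c0 c1 : Kˣ) : chi c0 c1 9 = (c0 : K) := by
  unfold chi
  rw [c09, c19, zpow_one, zpow_zero, mul_one]

theorem chi10 (c0 c1 : Kˣ) : chi c0 c1 10 = (c0 : K) ^ 3 * (c1 : K)⁻¹ := by
  unfold chi
  rw [c010, c110, zpow_neg_one, zpow_ofNat]

theorem chi11 (c0 c1 : Kˣ) : chi c0 c1 11 = (c1 : K) := by
  unfold chi
  rw [c011, c111, zpow_zero, zpow_one, one_mul]

end abs

section
variable {K : Type*} [Field K]

theorem th_neg (m : ℕ) : th m (-1 : Kˣ) = hh (-1) (-1) := by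
  unfold th
  rw [(Odd.pow (by decide) : Odd (3 ^ m)).neg_one_pow]

theorem six_lt (a1 a2 a3 a4 a5 a6 : K) :
    ∀ p ∈ [(7, a1), (6, a2), (8, a3), (9, a4), (10, a5), (11, a6)], p.1 < chevG2.nroots :=
  lt_six _ _ _ _ _ _ _ _ _ _ _ _ (by norm_num) (by norm_num) (by norm_num) (by norm_num) (by norm_num)
    (by norm_num)

theorem conj_neg {m : ℕ} (fr : Frob K m) (t u v : K) :
    th m (-1 : Kˣ) * uu m (t, u, v) * (th m (-1 : Kˣ))⁻¹ = uu m (-t, u, -v) := by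
  rw [th_neg]
  show hh (-1) (-1) * wordGL chevG2 hG2 (reeWordU (3 ^ m) t u v) * (hh (-1) (-1))⁻¹ =
    wordGL chevG2 hG2 (reeWordU (3 ^ m) (-t) u (-v))
  rw [ree_eq, ree_eq, hh_conj_word _ _ _ (six_lt _ _ _ _ _ _), mul_inv_cancel_right]
  congr 1
  simp only [List.map_cons, List.map_nil, chi7, chi6, chi8, chi9, chi10, chi11, Units.val_neg,
    Units.val_one]
  rw [fr.neg, fr.neg]
  simp only [List.cons.injEq, Prod.mk.injEq, true_and, and_true]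
  refine ⟨?_, ?_, ?_, ?_, ?_, ?_⟩ <;> norm_num <;> ring

theorem conj_y {m : ℕ} (fr : Frob K m) (μ : Kˣ) (u : K) :
    th m μ * uu m (0, u, 0) * (th m μ)⁻¹ =
      uu m (0, ((μ : K) ^ (3 ^ m)) ^ 3 * (μ : K)⁻¹ * u, 0) := by
  show hh (μ ^ (3 ^ m)) μ * wordGL chevG2 hG2 (reeWordU (3 ^ m) 0 u 0) * (hh (μ ^ (3 ^ m)) μ)⁻¹ =
    wordGL chevG2 hG2 (reeWordU (3 ^ m) 0 (((μ : K) ^ (3 ^ m)) ^ 3 * (μ : K)⁻¹ * u) 0)
  rw [reeU0, reeU0, hh_conj_word _ _ _ (six_lt _ _ _ _ _ _), mul_inv_cancel_right]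
  congr 1
  simp only [List.map_cons, List.map_nil, chi7, chi6, chi8, chi9, chi10, chi11, mul_zero,
    Units.val_pow_eq_pow_val]
  have e : (((μ : K) ^ (3 ^ m)) ^ 3 * (μ : K)⁻¹ * u) ^ (3 ^ m) =
      ((μ : K) ^ (3 ^ m))⁻¹ * (μ : K) * u ^ (3 ^ m) := by
    rw [mul_pow, mul_pow, inv_pow]
    have e2 : (((μ : K) ^ (3 ^ m)) ^ 3) ^ (3 ^ m) = (((μ : K) ^ (3 ^ m)) ^ (3 ^ m)) ^ 3 := by ring
    rw [e2, fr.tri]
    ring
  rw [e]

theorem reeZ0 (m : ℕ) (v : K) :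
    reeWordU (3 ^ m) 0 0 v = [(7, 0), (6, 0), (8, 0), (9, v ^ (3 ^ m)), (10, 0), (11, v)] := by
  have z : (0 : K) ^ (3 ^ m) = 0 := zero_pow (pow_ne_zero m (by norm_num))
  rw [ree_eq, z]
  norm_num

theorem reeA0 (m : ℕ) (t : K) :
    reeWordU (3 ^ m) t 0 0 = [(7, t ^ (3 ^ m)), (6, t), (8, t ^ (3 ^ m) * t), (9, (t ^ (3 ^ m)) ^ 2 * t),
      (10, 0), (11, 0)] := by
  have z : (0 : K) ^ (3 ^ m) = 0 := zero_pow (pow_ne_zero m (by norm_num))
  rw [ree_eq, z]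
  norm_num

theorem z_id (h3 : ((3 : ℕ) : K) = 0) (v V v' V' : K) :
    wordGL chevG2 hG2 [(7, 0), (6, 0), (8, 0), (9, V), (10, 0), (11, v)] *
      wordGL chevG2 hG2 [(7, 0), (6, 0), (8, 0), (9, V'), (10, 0), (11, v')] =
    wordGL chevG2 hG2 [(7, 0), (6, 0), (8, 0), (9, V + V'), (10, 0), (11, v + v')] := by
  have h := wordGL_eq_of_chk h3 (envL v V v' V' 0 0) Wza Wzb chkz
  have e1 : Wza.map (fun x => (x.1, eval6 (envL v V v' V' 0 0) x.2)) =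
      [(7, 0), (6, 0), (8, 0), (9, V), (10, 0), (11, v)] ++
        [(7, 0), (6, 0), (8, 0), (9, V'), (10, 0), (11, v')] := by
    simp [Wza, eval6, evalM6, eex, envL]
  have e2 : Wzb.map (fun x => (x.1, eval6 (envL v V v' V' 0 0) x.2)) =
      [(7, 0), (6, 0), (8, 0), (9, V + V'), (10, 0), (11, v + v')] := by
    simp [Wzb, eval6, evalM6, eex, envL]
  rw [e1, e2, wordGL_append] at h
  exact h

theorem y_id (h3 : ((3 : ℕ) : K) = 0) (u U u' U' : K) :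
    wordGL chevG2 hG2 [(7, 0), (6, 0), (8, U), (9, 0), (10, u), (11, 0)] *
      wordGL chevG2 hG2 [(7, 0), (6, 0), (8, U'), (9, 0), (10, u'), (11, 0)] =
    wordGL chevG2 hG2 [(7, 0), (6, 0), (8, U + U'), (9, 0), (10, u + u'), (11, 0)] := by
  have h := wordGL_eq_of_chk h3 (envL u U u' U' 0 0) Wya Wyb chky
  have e1 : Wya.map (fun x => (x.1, eval6 (envL u U u' U' 0 0) x.2)) =
      [(7, 0), (6, 0), (8, U), (9, 0), (10, u), (11, 0)] ++
        [(7, 0), (6, 0), (8, U'), (9, 0), (10, u'), (11, 0)] := by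
    simp [Wya, eval6, evalM6, eex, envL]
  have e2 : Wyb.map (fun x => (x.1, eval6 (envL u U u' U' 0 0) x.2)) =
      [(7, 0), (6, 0), (8, U + U'), (9, 0), (10, u + u'), (11, 0)] := by
    simp [Wyb, eval6, evalM6, eex, envL]
  rw [e1, e2, wordGL_append] at h
  exact h

theorem d_id (h3 : ((3 : ℕ) : K) = 0) (t T u U v V : K) :
    wordGL chevG2 hG2 [(7, T), (6, t), (8, T * t + U), (9, T ^ 2 * t + V), (10, u), (11, v)] =
    wordGL chevG2 hG2 [(7, T), (6, t), (8, T * t), (9, T ^ 2 * t), (10, 0), (11, 0)] *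
      wordGL chevG2 hG2 [(7, 0), (6, 0), (8, U), (9, 0), (10, u), (11, 0)] *
      wordGL chevG2 hG2 [(7, 0), (6, 0), (8, 0), (9, V), (10, 0), (11, v)] := by
  have h := wordGL_eq_of_chk h3 (envL t T u U v V) Wda Wdb chkd
  have e1 : Wda.map (fun x => (x.1, eval6 (envL t T u U v V) x.2)) =
      [(7, T), (6, t), (8, T * t + U), (9, T ^ 2 * t + V), (10, u), (11, v)] := by
    simp [Wda, eval6, evalM6, eex, envL]
    all_goals first | done | (refine ⟨?_, ?_⟩ <;> ring)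
  have e2 : Wdb.map (fun x => (x.1, eval6 (envL t T u U v V) x.2)) =
      [(7, T), (6, t), (8, T * t), (9, T ^ 2 * t), (10, 0), (11, 0)] ++
        [(7, 0), (6, 0), (8, U), (9, 0), (10, u), (11, 0)] ++
        [(7, 0), (6, 0), (8, 0), (9, V), (10, 0), (11, v)] := by
    simp [Wdb, eval6, evalM6, eex, envL]
    all_goals first | done | (refine ⟨?_, ?_⟩ <;> ring)
  rw [e1, e2, wordGL_append, wordGL_append] at h
  exact h

theorem c_id (h3 : ((3 : ℕ) : K) = 0) (t T : K) :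
    wordGL chevG2 hG2 [(7, -T), (6, -t), (8, T * t), (9, -(T ^ 2 * t)), (10, 0), (11, 0)] *
      (wordGL chevG2 hG2 [(7, T), (6, t), (8, T * t), (9, T ^ 2 * t), (10, 0), (11, 0)])⁻¹ =
    wordGL chevG2 hG2 [(7, T), (6, t), (8, T * t + T * t), (9, T ^ 2 * t + T ^ 2 * t), (10, t * T ^ 3),
      (11, t ^ 2 * T ^ 3)] := by
  have h := wordGL_eq_of_chk h3 (envL t T 0 0 0 0) Wca Wcb chkc
  have e1 : Wca.map (fun x => (x.1, eval6 (envL t T 0 0 0 0) x.2)) =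
      [(7, -T), (6, -t), (8, T * t), (9, -(T ^ 2 * t)), (10, 0), (11, 0)] ++
        ([(7, T), (6, t), (8, T * t), (9, T ^ 2 * t), (10, 0), (11, 0)].reverse.map
          fun p => (p.1, -p.2)) := by
    simp [Wca, eval6, evalM6, eex, envL]
    refine ⟨?_, ?_, ?_⟩ <;> ring
  have e2 : Wcb.map (fun x => (x.1, eval6 (envL t T 0 0 0 0) x.2)) =
      [(7, T), (6, t), (8, T * t + T * t), (9, T ^ 2 * t + T ^ 2 * t), (10, t * T ^ 3),
        (11, t ^ 2 * T ^ 3)] := by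
    simp [Wcb, eval6, evalM6, eex, envL]
    all_goals first | done | (refine ⟨?_, ?_⟩ <;> ring)
  rw [e1, e2, wordGL_append, ← wordGL_inv] at h
  exact h

theorem uu_z_add {m : ℕ} (fr : Frob K m) (v v' : K) :
    uu m (0, 0, v) * uu m (0, 0, v') = uu m (0, 0, v + v') := by
  show wordGL chevG2 hG2 (reeWordU (3 ^ m) 0 0 v) * wordGL chevG2 hG2 (reeWordU (3 ^ m) 0 0 v') =
    wordGL chevG2 hG2 (reeWordU (3 ^ m) 0 0 (v + v'))
  rw [reeZ0, reeZ0, reeZ0, z_id fr.h3, fr.add]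

theorem uu_y_add {m : ℕ} (fr : Frob K m) (u u' : K) :
    uu m (0, u, 0) * uu m (0, u', 0) = uu m (0, u + u', 0) := by
  show wordGL chevG2 hG2 (reeWordU (3 ^ m) 0 u 0) * wordGL chevG2 hG2 (reeWordU (3 ^ m) 0 u' 0) =
    wordGL chevG2 hG2 (reeWordU (3 ^ m) 0 (u + u') 0)
  rw [reeU0, reeU0, reeU0, y_id fr.h3, fr.add]

theorem uu_decomp {m : ℕ} (fr : Frob K m) (t u v : K) :
    uu m (t, u, v) = uu m (t, 0, 0) * uu m (0, u, 0) * uu m (0, 0, v) := by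
  show wordGL chevG2 hG2 (reeWordU (3 ^ m) t u v) = wordGL chevG2 hG2 (reeWordU (3 ^ m) t 0 0) *
    wordGL chevG2 hG2 (reeWordU (3 ^ m) 0 u 0) * wordGL chevG2 hG2 (reeWordU (3 ^ m) 0 0 v)
  rw [ree_eq, reeA0, reeU0, reeZ0]
  exact d_id fr.h3 _ _ _ _ _ _

theorem uu_comm {m : ℕ} (fr : Frob K m) (t : K) :
    uu m (-t, 0, 0) * (uu m (t, 0, 0))⁻¹ =
      uu m (t, t * (t ^ (3 ^ m)) ^ 3, t ^ 2 * (t ^ (3 ^ m)) ^ 3) := by
  show wordGL chevG2 hG2 (reeWordU (3 ^ m) (-t) 0 0) * (wordGL chevG2 hG2 (reeWordU (3 ^ m) t 0 0))⁻¹ =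
    wordGL chevG2 hG2 (reeWordU (3 ^ m) t (t * (t ^ (3 ^ m)) ^ 3) (t ^ 2 * (t ^ (3 ^ m)) ^ 3))
  rw [reeA0, reeA0, ree_eq, fr.neg]
  have e1 : (t * (t ^ (3 ^ m)) ^ 3) ^ (3 ^ m) = t ^ (3 ^ m) * t := by
    rw [mul_pow]
    have e : ((t ^ (3 ^ m)) ^ 3) ^ (3 ^ m) = ((t ^ (3 ^ m)) ^ (3 ^ m)) ^ 3 := by ring
    rw [e, fr.tri]
  have e2 : (t ^ 2 * (t ^ (3 ^ m)) ^ 3) ^ (3 ^ m) = (t ^ (3 ^ m)) ^ 2 * t := by
    rw [mul_pow]
    have e : ((t ^ (3 ^ m)) ^ 3) ^ (3 ^ m) = ((t ^ (3 ^ m)) ^ (3 ^ m)) ^ 3 := by ring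
    rw [e, fr.tri]
    ring
  rw [e1, e2]
  have h := c_id fr.h3 t (t ^ (3 ^ m))
  have e3 : -(t ^ (3 ^ m)) * -t = t ^ (3 ^ m) * t := by ring
  have e4 : (-(t ^ (3 ^ m))) ^ 2 * -t = -((t ^ (3 ^ m)) ^ 2 * t) := by ring
  rw [e3, e4]
  exact h

theorem exists_mu [Fintype K] {m : ℕ} (hm : 1 ≤ m) (hK : Fintype.card K = 3 ^ (2 * m + 1)) :
    ∃ μ : Kˣ, ((μ : K) ^ (3 ^ m)) ^ 3 * (μ : K)⁻¹ ≠ 1 := by
  by_contra hall
  have hall : ∀ μ : Kˣ, ((μ : K) ^ (3 ^ m)) ^ 3 * (μ : K)⁻¹ = 1 := by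
    intro μ
    by_contra h
    exact hall ⟨μ, h⟩
  have hroot : ∀ x : K, x ^ (3 ^ m * 3) = x := by
    intro x
    by_cases hx : x = 0
    · rw [hx, zero_pow (by positivity)]
    · have h1 := hall (Units.mk0 x hx)
      rw [Units.val_mk0] at h1
      rw [pow_mul]
      have h2 : (x ^ (3 ^ m)) ^ 3 = (x ^ (3 ^ m)) ^ 3 * x⁻¹ * x := by
        rw [mul_assoc, inv_mul_cancel₀ hx, mul_one]
      rw [h2, h1, one_mul]
  have hlt : 1 < 3 ^ m * 3 := by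
    have : 0 < 3 ^ m := by positivity
    omega
  have hne := FiniteField.X_pow_card_sub_X_ne_zero K hlt
  have hdeg := FiniteField.X_pow_card_sub_X_natDegree_eq K hlt
  have hsub : (Finset.univ : Finset K).val ⊆
      (Polynomial.X ^ (3 ^ m * 3) - Polynomial.X : Polynomial K).roots := by
    intro x _
    rw [Polynomial.mem_roots hne, Polynomial.IsRoot.def]
    simp [hroot x]
  have hcard := Polynomial.card_le_degree_of_subset_roots hsub
  rw [hdeg, Finset.card_univ, hK] at hcard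
  have e : 3 ^ (2 * m + 1) = 3 ^ m * 3 ^ m * 3 := by ring
  have h3m : 3 ≤ 3 ^ m := by
    calc 3 = 3 ^ 1 := rfl
      _ ≤ 3 ^ m := Nat.pow_le_pow_right (by norm_num) hm
  rw [e] at hcard
  nlinarith

theorem perf_ree [Fintype K] {m : ℕ} (hm : 1 ≤ m) (hK : Fintype.card K = 3 ^ (2 * m + 1)) :
    commutator ↥(twistedG2 K (3 ^ m)) = ⊤ := by
  have fr := frob_of_card hK
  have h3' : (3 : K) = 0 := by
    have e : (3 : K) = ((3 : ℕ) : K) := by norm_num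
    rw [e]
    exact fr.h3
  apply top_of
  have hthR : ∀ μ : Kˣ, th m μ ∈ twistedG2 K (3 ^ m) := fun μ => hfix_mem hK μ
  have hz : ∀ v : K, uu m (0, 0, v) ∈ Cm (twistedG2 K (3 ^ m)) := by
    intro v
    have h1 := comm_mem (twistedG2 K (3 ^ m)) (th m (-1)) (uu m (0, 0, v)) (hthR _) (uu_memR m _)
    rw [conj_neg fr, neg_zero] at h1
    have e : uu m (0, 0, -v) = uu m (0, 0, v) * uu m (0, 0, v) := by
      rw [uu_z_add fr]
      have e2 : -v = v + v := by linear_combination (-v) * h3'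
      rw [e2]
    rw [e, mul_inv_cancel_right] at h1
    exact h1
  obtain ⟨μ, hμ⟩ := exists_mu hm hK
  have hy : ∀ w : K, uu m (0, w, 0) ∈ Cm (twistedG2 K (3 ^ m)) := by
    intro w
    obtain ⟨X, hX⟩ : ∃ X : K, X = ((μ : K) ^ (3 ^ m)) ^ 3 * (μ : K)⁻¹ := ⟨_, rfl⟩
    rw [← hX] at hμ
    have hX1 : X - 1 ≠ 0 := sub_ne_zero.mpr hμ
    have h1 := comm_mem (twistedG2 K (3 ^ m)) (th m μ) (uu m (0, w / (X - 1), 0)) (hthR _)
      (uu_memR m _)
    rw [conj_y fr, ← hX] at h1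
    have e : uu m (0, X * (w / (X - 1)), 0) = uu m (0, w, 0) * uu m (0, w / (X - 1), 0) := by
      rw [uu_y_add fr]
      have e2 : X * (w / (X - 1)) = w + w / (X - 1) := by
        field_simp
        ring
      rw [e2]
    rw [e, mul_inv_cancel_right] at h1
    exact h1
  have ha : ∀ t : K, uu m (t, 0, 0) ∈ Cm (twistedG2 K (3 ^ m)) := by
    intro t
    have h1 := comm_mem (twistedG2 K (3 ^ m)) (th m (-1)) (uu m (t, 0, 0)) (hthR _) (uu_memR m _)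
    rw [conj_neg fr, neg_zero, uu_comm fr t, uu_decomp fr] at h1
    have h2 := mul_mem (mul_mem h1 (inv_mem (hz (t ^ 2 * (t ^ (3 ^ m)) ^ 3))))
      (inv_mem (hy (t * (t ^ (3 ^ m)) ^ 3)))
    rw [mul_inv_cancel_right, mul_inv_cancel_right] at h2
    exact h2
  have hU : ∀ p : K × K × K, uu m p ∈ Cm (twistedG2 K (3 ^ m)) := by
    rintro ⟨t, u, v⟩
    rw [uu_decomp fr]
    exact mul_mem (mul_mem (ha t) (hy u)) (hz v)
  obtain ⟨hn0N, hmap⟩ := n0_map (K := K)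
  have hn0R := n0_mem hK
  apply gen_le (g2Words K (3 ^ m))
  rintro w ⟨t, u, v, rfl | rfl⟩
  · exact hU (t, u, v)
  · have hgR : wordGL chevG2 hG2 (reeWordV (3 ^ m) t u v) ∈ twistedG2 K (3 ^ m) :=
      gen_mem chevG2 hG2 (g2Words K (3 ^ m)) _ ⟨t, u, v, Or.inr rfl⟩
    have hgV : wordGL chevG2 hG2 (reeWordV (3 ^ m) t u v) ∈ chevG2.negUnipotent K := by
      rw [reeV_eq]
      apply wordGL_mem_of chevG2 hG2
      intro p hp
      simp only [List.mem_cons, List.not_mem_nil, or_false] at hp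
      rcases hp with rfl | rfl | rfl | rfl | rfl | rfl
      · exact xGL_mem_neg chevG2 hG2 4 (by decide) _
      · exact xGL_mem_neg chevG2 hG2 5 (by decide) _
      · exact xGL_mem_neg chevG2 hG2 3 (by decide) _
      · exact xGL_mem_neg chevG2 hG2 2 (by decide) _
      · exact xGL_mem_neg chevG2 hG2 1 (by decide) _
      · exact xGL_mem_neg chevG2 hG2 0 (by decide) _
    have hU' : (n0 K)⁻¹ * wordGL chevG2 hG2 (reeWordV (3 ^ m) t u v) * n0 K ∈ chevG2.posUnipotent K := by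
      rw [← hmap] at hgV
      obtain ⟨x, hx, e⟩ := hgV
      rw [← e]
      have e2 : (n0 K)⁻¹ * (MulAut.conj (n0 K)).toMonoidHom x * n0 K = x := by
        show (n0 K)⁻¹ * (n0 K * x * (n0 K)⁻¹) * n0 K = x
        group
      rw [e2]
      exact hx
    obtain ⟨t', u', v', e⟩ := mem_imp fr _
      (Subgroup.mem_inf.mpr ⟨hU', mul_mem (mul_mem (inv_mem hn0R) hgR) hn0R⟩)
    have h5 := Cm_conj (twistedG2 K (3 ^ m)) _ (hU (t', u', v')) (n0 K) hn0R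
    have e3 : n0 K * uu m (t', u', v') * (n0 K)⁻¹ = wordGL chevG2 hG2 (reeWordV (3 ^ m) t u v) := by
      show n0 K * wordGL chevG2 hG2 (reeWordU (3 ^ m) t' u' v') * (n0 K)⁻¹ = _
      rw [← e]
      group
    rw [e3] at h5
    exact h5

end

end Cfsg.Agent.Lib.Helper7.ReePerf
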