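import Cfsg.Agent.Lib.Helper7.ReeU
import Cfsg.Agent.Lib.Helper7.ChevBruhat

set_option autoImplicit false

namespace Cfsg.Agent.Lib.Helper7.ReeSg
open Cfsg.Lie Cfsg.Agent.Lib.Helper7.ChevEngine Cfsg.Agent.Lib.Helper7.ChevTorus
  Cfsg.Agent.Lib.Helper7.ChevSpec Cfsg.Agent.Lib.Helper7.SpecData Cfsg.Agent.Lib.Helper7.ChevGen
  Cfsg.Agent.Lib.Helper7.ChevUProd Cfsg.Agent.Lib.Helper7.TwCore Cfsg.Agent.Lib.Helper7.ReeFix
  Cfsg.Agent.Lib.Helper7.ChevRel Cfsg.Agent.Lib.Helper7.ChevBN3 Cfsg.Agent.Lib.Helper7.ReeMain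
  Cfsg.Agent.Lib.Helper7.ReeU Cfsg.Agent.Lib.Helper7.ChevBruhat Cfsg.Agent.Lib.Helper7.ChevBNP
  Cfsg.Agent.Lib.Helper7.ChevW0 Cfsg.Agent.Lib.Helper7.ChevNW Cfsg.Agent.Lib.Helper7.ChevExch

section
variable {K : Type*} [Field K]

noncomputable def sg (σ : ↥(chevG2.group K) →* ↥(chevG2.group K)) (g : GL chevG2.Idx K) :
    GL chevG2.Idx K := by
  classical
  exact if h : g ∈ chevG2.group K then ((σ ⟨g, h⟩ : ↥(chevG2.group K)) : GL chevG2.Idx K) else 1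

theorem sg_of_mem (σ : ↥(chevG2.group K) →* ↥(chevG2.group K)) (g : GL chevG2.Idx K)
    (h : g ∈ chevG2.group K) : sg σ g = ((σ ⟨g, h⟩ : ↥(chevG2.group K)) : GL chevG2.Idx K) := by
  unfold sg
  exact dif_pos h

theorem sg_mem (σ : ↥(chevG2.group K) →* ↥(chevG2.group K)) (g : GL chevG2.Idx K) :
    sg σ g ∈ chevG2.group K := by
  by_cases h : g ∈ chevG2.group K
  · rw [sg_of_mem σ g h]
    exact (σ ⟨g, h⟩).2
  · unfold sg
    rw [dif_neg h]
    exact one_mem _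

theorem sg_mul (σ : ↥(chevG2.group K) →* ↥(chevG2.group K)) (a b : GL chevG2.Idx K)
    (ha : a ∈ chevG2.group K) (hb : b ∈ chevG2.group K) : sg σ (a * b) = sg σ a * sg σ b := by
  rw [sg_of_mem σ a ha, sg_of_mem σ b hb, sg_of_mem σ (a * b) (mul_mem ha hb), ← Subgroup.coe_mul,
    ← map_mul]
  rfl

theorem sg_one (σ : ↥(chevG2.group K) →* ↥(chevG2.group K)) : sg σ 1 = 1 := by
  rw [sg_of_mem σ 1 (one_mem _)]
  have : (⟨1, one_mem _⟩ : ↥(chevG2.group K)) = 1 := rfl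
  rw [this, map_one]
  rfl

theorem sg_inv (σ : ↥(chevG2.group K) →* ↥(chevG2.group K)) (a : GL chevG2.Idx K)
    (ha : a ∈ chevG2.group K) : sg σ a⁻¹ = (sg σ a)⁻¹ := by
  have h := sg_mul σ a a⁻¹ ha (inv_mem ha)
  rw [mul_inv_cancel, sg_one] at h
  exact (inv_eq_of_mul_eq_one_right h.symm).symm

theorem sg_word {m : ℕ} (σ : ↥(chevG2.group K) →* ↥(chevG2.group K)) (hσ : SigOk m σ)
    (w : List (ℕ × K)) (hw : ∀ p ∈ w, p.1 < chevG2.nroots) :
    sg σ (wordGL chevG2 hG2 w) = wordGL chevG2 hG2 (tauW m w) := by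
  rw [sg_of_mem σ _ (wordGL_mem_group chevG2 hG2 w)]
  exact sigma_word σ hσ w hw

theorem sg_x {m : ℕ} (σ : ↥(chevG2.group K) →* ↥(chevG2.group K)) (hσ : SigOk m σ)
    (r : ℕ) (hr : r < chevG2.nroots) (t : K) :
    sg σ (xGL chevG2 hG2 r t) = xGL chevG2 hG2 (rhoG2.getD r 0) ((t ^ (3 ^ m)) ^ lamG2.getD r 0) := by
  rw [sg_of_mem σ _ (xGL_mem_group chevG2 hG2 r t)]
  exact sigma_x σ hσ r hr t

theorem mem_Fx_iff (σ : ↥(chevG2.group K) →* ↥(chevG2.group K)) (g : GL chevG2.Idx K) :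
    g ∈ Fx σ ↔ g ∈ chevG2.group K ∧ sg σ g = g := by
  constructor
  · rintro ⟨y, hy, rfl⟩
    change (y : GL chevG2.Idx K) ∈ chevG2.group K ∧ sg σ (y : GL chevG2.Idx K) = y
    refine ⟨y.2, ?_⟩
    rw [sg_of_mem σ _ y.2]
    have hy' : σ y = y := hy
    exact congrArg Subtype.val hy'
  · rintro ⟨hg, h⟩
    refine ⟨⟨g, hg⟩, ?_, rfl⟩
    show σ _ = MonoidHom.id _ _
    apply Subtype.ext
    rw [sg_of_mem σ g hg] at h
    exact h

theorem sg_closure (σ : ↥(chevG2.group K) →* ↥(chevG2.group K)) (S : Set (GL chevG2.Idx K))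
    (X : Subgroup (GL chevG2.Idx K)) (h : ∀ x ∈ S, x ∈ chevG2.group K ∧ sg σ x ∈ X) :
    ∀ g ∈ Subgroup.closure S, g ∈ chevG2.group K ∧ sg σ g ∈ X := by
  intro g hg
  induction hg using Subgroup.closure_induction with
  | mem x hx => exact h x hx
  | one => exact ⟨one_mem _, by rw [sg_one]; exact one_mem _⟩
  | mul a b _ _ iha ihb =>
    exact ⟨mul_mem iha.1 ihb.1, by rw [sg_mul σ a b iha.1 ihb.1]; exact mul_mem iha.2 ihb.2⟩
  | inv a _ iha => exact ⟨inv_mem iha.1, by rw [sg_inv σ a iha.1]; exact inv_mem iha.2⟩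

theorem rho_pos : ∀ r < 12, chevG2.IsPosRoot r → chevG2.IsPosRoot (rhoG2.getD r 0) := by decide

theorem rho_neg : ∀ r < 12, chevG2.IsNegRoot r → chevG2.IsNegRoot (rhoG2.getD r 0) := by decide

theorem rho_lt : ∀ r < 12, rhoG2.getD r 0 < 12 := by decide

theorem rho_rho : ∀ r < 12, rhoG2.getD (rhoG2.getD r 0) 0 = r := by decide

theorem rho_negIdx : ∀ r < 12, rhoG2.getD (chevG2.neg r) 0 = chevG2.neg (rhoG2.getD r 0) := by decide

theorem lam_negIdx : ∀ r < 12, lamG2.getD (chevG2.neg r) 0 = lamG2.getD r 0 := by decide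

theorem lam_val : ∀ r < 12, lamG2.getD r 0 = 1 ∨ lamG2.getD r 0 = 3 := by decide

theorem nroots_eq : chevG2.nroots = 12 := by decide

theorem sg_U {m : ℕ} (σ : ↥(chevG2.group K) →* ↥(chevG2.group K)) (hσ : SigOk m σ) :
    ∀ g ∈ chevG2.posUnipotent K, g ∈ chevG2.group K ∧ sg σ g ∈ chevG2.posUnipotent K := by
  apply sg_closure
  rintro x ⟨r, t, hr, hx⟩
  have e : x = xGL chevG2 hG2 r t := Units.ext (by rw [hx, xGL_val])
  subst e
  refine ⟨xGL_mem_group chevG2 hG2 r t, ?_⟩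
  rw [sg_x σ hσ r hr.1 t]
  exact xGL_mem_U chevG2 hG2 _ (rho_pos r (by rw [← nroots_eq]; exact hr.1) hr) _

theorem xGL_mem_V (r : ℕ) (hr : chevG2.IsNegRoot r) (t : K) :
    xGL chevG2 hG2 r t ∈ chevG2.negUnipotent K :=
  Subgroup.subset_closure ⟨r, t, hr, xGL_val chevG2 hG2 r t⟩

theorem sg_V {m : ℕ} (σ : ↥(chevG2.group K) →* ↥(chevG2.group K)) (hσ : SigOk m σ) :
    ∀ g ∈ chevG2.negUnipotent K, g ∈ chevG2.group K ∧ sg σ g ∈ chevG2.negUnipotent K := by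
  apply sg_closure
  rintro x ⟨r, t, hr, hx⟩
  have e : x = xGL chevG2 hG2 r t := Units.ext (by rw [hx, xGL_val])
  subst e
  refine ⟨xGL_mem_group chevG2 hG2 r t, ?_⟩
  rw [sg_x σ hσ r hr.1 t]
  exact xGL_mem_V _ (rho_neg r (by rw [← nroots_eq]; exact hr.1) hr) _

theorem pw_neg_inv (m l : ℕ) (hl : l = 1 ∨ l = 3) (t : K) :
    ((-t⁻¹) ^ (3 ^ m)) ^ l = -((t ^ (3 ^ m)) ^ l)⁻¹ := by
  have ho : Odd (3 ^ m * l) := by
    apply Odd.mul (Odd.pow (by decide))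
    rcases hl with rfl | rfl <;> decide
  rw [← pow_mul, ← pow_mul, ho.neg_pow, inv_pow]

theorem pw_neg_one (m l : ℕ) (hl : l = 1 ∨ l = 3) : ((-1 : K) ^ (3 ^ m)) ^ l = -1 := by
  have ho : Odd (3 ^ m * l) := by
    apply Odd.mul (Odd.pow (by decide))
    rcases hl with rfl | rfl <;> decide
  rw [← pow_mul, ho.neg_one_pow]

theorem tau_nWord (m : ℕ) (r : ℕ) (hr : r < 12) (t : K) :
    tauW m (chevG2.nWord r t) =
      chevG2.nWord (rhoG2.getD r 0) ((t ^ (3 ^ m)) ^ lamG2.getD r 0) := by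
  unfold tauW ChevalleyDatum.nWord
  simp only [List.map_cons, List.map_nil]
  rw [rho_negIdx r hr, lam_negIdx r hr, pw_neg_inv m _ (lam_val r hr)]

theorem tau_append (m : ℕ) (a b : List (ℕ × K)) : tauW m (a ++ b) = tauW m a ++ tauW m b := by
  unfold tauW
  rw [List.map_append]

theorem tau_hWord (m : ℕ) (r : ℕ) (hr : r < 12) (t : K) :
    tauW m (chevG2.hWord r t) =
      chevG2.hWord (rhoG2.getD r 0) ((t ^ (3 ^ m)) ^ lamG2.getD r 0) := by
  unfold ChevalleyDatum.hWord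
  rw [tau_append, tau_nWord m r hr, tau_nWord m r hr, pw_neg_one m _ (lam_val r hr)]

theorem nWord_lt (r : ℕ) (hr : r < 12) (t : K) : ∀ p ∈ chevG2.nWord r t, p.1 < chevG2.nroots := by
  have hn : chevG2.neg r < 12 := by
    revert r
    decide
  intro p hp
  unfold ChevalleyDatum.nWord at hp
  simp only [List.mem_cons, List.not_mem_nil, or_false] at hp
  rw [nroots_eq]
  rcases hp with rfl | rfl | rfl
  · exact hr
  · exact hn
  · exact hr

theorem hWord_lt (r : ℕ) (hr : r < 12) (t : K) : ∀ p ∈ chevG2.hWord r t, p.1 < chevG2.nroots := by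
  intro p hp
  unfold ChevalleyDatum.hWord at hp
  rw [List.mem_append] at hp
  rcases hp with hp | hp
  · exact nWord_lt r hr t p hp
  · exact nWord_lt r hr (-1) p hp

theorem pw_ne_zero (m l : ℕ) (t : K) (ht : t ≠ 0) : (t ^ (3 ^ m)) ^ l ≠ 0 :=
  pow_ne_zero _ (pow_ne_zero _ ht)

theorem H_le_G : chevG2.diagonalSubgroup K ≤ chevG2.group K :=
  (H_le_B chevG2).trans (Cfsg.Agent.S1043.result (F := K) chevG2 hG2).1

theorem U_le_G : chevG2.posUnipotent K ≤ chevG2.group K :=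
  (U_le_B chevG2).trans (Cfsg.Agent.S1043.result (F := K) chevG2 hG2).1

theorem B_le_G : chevG2.borelSubgroup K ≤ chevG2.group K :=
  (Cfsg.Agent.S1043.result (F := K) chevG2 hG2).1

theorem N_le_G : chevG2.monomialSubgroup K ≤ chevG2.group K :=
  (Cfsg.Agent.S1043.result (F := K) chevG2 hG2).2.1

theorem sg_H {m : ℕ} (σ : ↥(chevG2.group K) →* ↥(chevG2.group K)) (hσ : SigOk m σ) :
    ∀ g ∈ chevG2.diagonalSubgroup K, g ∈ chevG2.group K ∧ sg σ g ∈ chevG2.diagonalSubgroup K := by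
  apply sg_closure
  rintro x ⟨r, t, hr, ht, hx⟩
  have hr' : r < 12 := by rw [← nroots_eq]; exact hr
  have e : x = wordGL chevG2 hG2 (chevG2.hWord r t) := Units.ext (by rw [hx, wordGL_val]; rfl)
  subst e
  refine ⟨wordGL_mem_group chevG2 hG2 _, ?_⟩
  rw [sg_word σ hσ _ (hWord_lt r hr' t), tau_hWord m r hr']
  refine Subgroup.subset_closure ⟨rhoG2.getD r 0, (t ^ (3 ^ m)) ^ lamG2.getD r 0, ?_,
    pw_ne_zero m _ t ht, ?_⟩
  · rw [nroots_eq]
    exact rho_lt r hr'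
  · rw [wordGL_val]
    rfl

theorem sg_N {m : ℕ} (σ : ↥(chevG2.group K) →* ↥(chevG2.group K)) (hσ : SigOk m σ) :
    ∀ g ∈ chevG2.monomialSubgroup K, g ∈ chevG2.group K ∧ sg σ g ∈ chevG2.monomialSubgroup K := by
  have e : chevG2.monomialSubgroup K = Subgroup.closure ((chevG2.diagonalSubgroup K : Set (GL chevG2.Idx K)) ∪
      {g | ∃ r : ℕ, r < chevG2.nroots ∧ (g : Matrix chevG2.Idx chevG2.Idx K) = chevG2.nMat K r 1}) := by
    unfold ChevalleyDatum.monomialSubgroup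
    rw [Subgroup.closure_union, Subgroup.closure_eq]
  rw [e]
  apply sg_closure
  rintro x (hx | ⟨r, hr, hx⟩)
  · have h := sg_H σ hσ x hx
    refine ⟨h.1, ?_⟩
    rw [← e]
    exact H_le_N chevG2 h.2
  · have hr' : r < 12 := by rw [← nroots_eq]; exact hr
    have e2 : x = wordGL chevG2 hG2 (chevG2.nWord r 1) := Units.ext (by rw [hx, wordGL_val]; rfl)
    subst e2
    refine ⟨wordGL_mem_group chevG2 hG2 _, ?_⟩
    rw [sg_word σ hσ _ (nWord_lt r hr' 1), tau_nWord m r hr', one_pow, one_pow]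
    refine Subgroup.subset_closure (Or.inr ⟨rhoG2.getD r 0, ?_, ?_⟩)
    · rw [nroots_eq]
      exact rho_lt r hr'
    · rw [wordGL_val]
      rfl

theorem sg_B {m : ℕ} (σ : ↥(chevG2.group K) →* ↥(chevG2.group K)) (hσ : SigOk m σ) :
    ∀ g ∈ chevG2.borelSubgroup K, g ∈ chevG2.group K ∧ sg σ g ∈ chevG2.borelSubgroup K := by
  have e : chevG2.borelSubgroup K = Subgroup.closure ((chevG2.posUnipotent K : Set (GL chevG2.Idx K)) ∪
      (chevG2.diagonalSubgroup K : Set (GL chevG2.Idx K))) := by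
    unfold ChevalleyDatum.borelSubgroup
    rw [Subgroup.closure_union, Subgroup.closure_eq, Subgroup.closure_eq]
  rw [e]
  apply sg_closure
  rintro x (hx | hx)
  · have h := sg_U σ hσ x hx
    refine ⟨h.1, ?_⟩
    rw [← e]
    exact U_le_B chevG2 h.2
  · have h := sg_H σ hσ x hx
    refine ⟨h.1, ?_⟩
    rw [← e]
    exact H_le_B chevG2 h.2

theorem sg_surj {m : ℕ} (fr : Frob K m) (σ : ↥(chevG2.group K) →* ↥(chevG2.group K)) (hσ : SigOk m σ)
    (r : ℕ) (hr : r < 12) (s : K) :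
    ∃ t : K, sg σ (xGL chevG2 hG2 (rhoG2.getD r 0) t) = xGL chevG2 hG2 r s := by
  have h1 := rho_lt r hr
  have h2 := rho_rho r hr
  rcases lam_val _ h1 with hl | hl
  · refine ⟨(s ^ (3 ^ m)) ^ 3, ?_⟩
    rw [sg_x σ hσ _ (by rw [nroots_eq]; exact h1), h2, hl, pow_one]
    have : ((s ^ (3 ^ m)) ^ 3) ^ (3 ^ m) = ((s ^ (3 ^ m)) ^ (3 ^ m)) ^ 3 := by ring
    rw [this, fr.tri]
  · refine ⟨s ^ (3 ^ m), ?_⟩
    rw [sg_x σ hσ _ (by rw [nroots_eq]; exact h1), h2, hl, fr.tri]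

end

end Cfsg.Agent.Lib.Helper7.ReeSg
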