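import Cfsg.Agent.Lib.Helper7.ReeCent

set_option autoImplicit false
set_option maxHeartbeats 400000

namespace Cfsg.Agent.Lib.Helper7.ReeSyl2
open Cfsg.Lie Cfsg.Agent.Lib.Helper7.ChevEngine Cfsg.Agent.Lib.Helper7.ChevTorus
  Cfsg.Agent.Lib.Helper7.ReeFix Cfsg.Agent.Lib.Helper7.ReeMain Cfsg.Agent.Lib.Helper7.ReeSg
  Cfsg.Agent.Lib.Helper7.ReeTorus Cfsg.Agent.Lib.Helper7.ReeTorMem Cfsg.Agent.Lib.Helper7.ReeOrder
  Cfsg.Agent.Lib.Helper7.ReeBN Cfsg.Agent.Lib.Helper7.ReePerf Cfsg.Agent.Lib.Helper7.ReeH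
  Cfsg.Agent.Lib.Helper7.ReeU Cfsg.Agent.Lib.Helper7.ReeFpf
  Cfsg.Agent.Lib.Helper7.ChevRel
  Cfsg.Agent.Lib.Helper7.ReeStab Cfsg.Agent.Lib.Helper7.SL2Hom
  Cfsg.Agent.Lib.Helper7.TwCore Cfsg.Agent.Lib.Helper7.ReeCent

abbrev M2 := Multiplicative (ZMod 2)

abbrev Z3 := M2 × (M2 × M2)

def sgm (t : Z3) : Z3 := (t.1, (t.2.2, t.2.1 * t.2.2))

def gA3 : Z3 := (Multiplicative.ofAdd 1, (1, 1))

def gB3 : Z3 := (1, (Multiplicative.ofAdd 1, 1))

def gC3 : Z3 := (1, (1, Multiplicative.ofAdd 1))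

def chk3 (O' : Finset Z3) : Bool :=
  !(decide (gA3 ∈ O')) || decide ((1 : Z3) ∈ O') || !(decide (∀ t ∈ O', sgm t ∈ O')) ||
    !(decide (∃ t ∈ O', t ≠ gA3)) || decide (16 ∣ O'.card * 24) || decide (O'.card = 7)

set_option maxRecDepth 1000000 in
theorem comb3 : ∀ O' : Finset Z3, chk3 O' = true := by
  decide

theorem comb3' (O' : Finset Z3) (h1 : gA3 ∈ O') (h2 : (1 : Z3) ∉ O') (h3 : ∀ t ∈ O', sgm t ∈ O')
    (h4 : ∃ t ∈ O', t ≠ gA3) (h5 : ¬ 16 ∣ O'.card * 24) : O'.card = 7 := by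
  have h := comb3 O'
  unfold chk3 at h
  simp only [Bool.or_eq_true, Bool.not_eq_true', decide_eq_false_iff_not, decide_eq_true_eq] at h
  rcases h with ((((h | h) | h) | h) | h) | h
  · exact absurd h1 h
  · exact absurd h h2
  · exact absurd h3 h
  · exact absurd h4 h
  · exact absurd h h5
  · exact h

theorem sgm_mul : ∀ s t : Z3, sgm (s * t) = sgm s * sgm t := by decide

def sgmHom : Z3 →* Z3 := MonoidHom.mk' sgm sgm_mul

theorem hom_ext3 {G : Type*} [Group G] (f1 f2 : Z3 →* G) (hA : f1 gA3 = f2 gA3) (hB : f1 gB3 = f2 gB3)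
    (hC : f1 gC3 = f2 gC3) : ∀ t : Z3, f1 t = f2 t := by
  rintro ⟨i, j, k⟩
  have e : ((i, (j, k)) : Z3) = ((i, (1, 1)) : Z3) * (((1, (j, 1)) : Z3) * ((1, (1, k)) : Z3)) := by
    simp
  rw [e, map_mul, map_mul, map_mul, map_mul]
  congr 1
  · rcases z2_cases i with rfl | rfl
    · exact (map_one f1).trans (map_one f2).symm
    · exact hA
  · congr 1
    · rcases z2_cases j with rfl | rfl
      · exact (map_one f1).trans (map_one f2).symm
      · exact hB
    · rcases z2_cases k with rfl | rfl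
      · exact (map_one f1).trans (map_one f2).symm
      · exact hC

section
variable {K : Type*} [Field K]

noncomputable def PhiR {m : ℕ} (fr : Frob K m) : S2 K →* ↥(twistedG2 K (3 ^ m)) :=
  (Phi fr).codRestrict (twistedG2 K (3 ^ m)) (Phi_memR fr)

theorem PhiR_val {m : ℕ} (fr : Frob K m) (g : S2 K) :
    ((PhiR fr g : ↥(twistedG2 K (3 ^ m))) : GL chevG2.Idx K) = Phi fr g := rfl

noncomputable def aR {m : ℕ} (fr : Frob K m) : ↥(twistedG2 K (3 ^ m)) :=
  ⟨th m (-1 : Kˣ), by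
    rw [th_neg]
    exact hneg_mem m fr.h3⟩

theorem aR_val {m : ℕ} (fr : Frob K m) :
    ((aR fr : ↥(twistedG2 K (3 ^ m))) : GL chevG2.Idx K) = th m (-1 : Kˣ) := rfl

theorem aR_sq {m : ℕ} (fr : Frob K m) : aR fr * aR fr = 1 := Subtype.ext (a_sq m)

theorem aR_ne {m : ℕ} (fr : Frob K m) : aR fr ≠ 1 := fun h => a_ne fr (congrArg Subtype.val h)

theorem aR_comm {m : ℕ} (fr : Frob K m) (g : S2 K) : aR fr * PhiR fr g = PhiR fr g * aR fr :=
  Subtype.ext (a_comm_Phi fr g)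

theorem PhiR_center {m : ℕ} (fr : Frob K m) (g : S2 K) (hg : g ∈ Subgroup.center (S2 K)) :
    PhiR fr g = 1 := Subtype.ext (Phi_center fr g hg)

theorem wS_sq_center : wS K * wS K ∈ Subgroup.center (S2 K) := by
  rw [center_iff]
  refine ⟨?_, ?_, ?_⟩ <;> simp only [mul_entry, wS_00, wS_01, wS_10, wS_11] <;> ring

theorem w2_sq_center (α β : K) (h : α ^ 2 + β ^ 2 = -1) :
    w2 α β h * w2 α β h ∈ Subgroup.center (S2 K) := by
  rw [center_iff]
  refine ⟨?_, ?_, ?_⟩ <;> simp only [mul_entry, w2_00, w2_01, w2_10, w2_11] <;> ring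

theorem ww_sq_center (α β : K) (h : α ^ 2 + β ^ 2 = -1) :
    (wS K * w2 α β h) * (wS K * w2 α β h) ∈ Subgroup.center (S2 K) := by
  rw [center_iff]
  refine ⟨?_, ?_, ?_⟩ <;>
    simp only [mul_entry, wS_00, wS_01, wS_10, wS_11, w2_00, w2_01, w2_10, w2_11] <;> ring

theorem bR_sq {m : ℕ} (fr : Frob K m) : PhiR fr (wS K) * PhiR fr (wS K) = 1 := by
  rw [← map_mul]
  exact PhiR_center fr _ wS_sq_center

theorem cR_sq {m : ℕ} (fr : Frob K m) (α β : K) (h : α ^ 2 + β ^ 2 = -1) :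
    PhiR fr (w2 α β h) * PhiR fr (w2 α β h) = 1 := by
  rw [← map_mul]
  exact PhiR_center fr _ (w2_sq_center α β h)

theorem bc_comm {m : ℕ} (fr : Frob K m) (α β : K) (h : α ^ 2 + β ^ 2 = -1) :
    PhiR fr (wS K) * PhiR fr (w2 α β h) = PhiR fr (w2 α β h) * PhiR fr (wS K) := by
  have e : wS K * w2 α β h = (wS K * wS K) * (w2 α β h * wS K) := by
    apply ext2 <;>
      simp only [mul_entry, wS_00, wS_01, wS_10, wS_11, w2_00, w2_01, w2_10, w2_11] <;> ring
  rw [← map_mul, e, map_mul, PhiR_center fr _ wS_sq_center, one_mul, map_mul]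

noncomputable def qq (α β : K) (h : α ^ 2 + β ^ 2 = -1) (t : M2 × M2) : S2 K :=
  (if t.1 = 1 then 1 else wS K) * (if t.2 = 1 then 1 else w2 α β h)

theorem qq_11 (α β : K) (h : α ^ 2 + β ^ 2 = -1) : qq α β h (1, 1) = 1 := by
  show (if (1 : M2) = 1 then (1 : S2 K) else wS K) * (if (1 : M2) = 1 then 1 else w2 α β h) = 1
  rw [if_pos rfl, if_pos rfl, one_mul]

theorem qq_1g (α β : K) (h : α ^ 2 + β ^ 2 = -1) :
    qq α β h (1, Multiplicative.ofAdd 1) = w2 α β h := by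
  show (if (1 : M2) = 1 then (1 : S2 K) else wS K) *
    (if (Multiplicative.ofAdd (1 : ZMod 2)) = 1 then 1 else w2 α β h) = _
  rw [if_pos rfl, if_neg z2_ne, one_mul]

theorem qq_g1 (α β : K) (h : α ^ 2 + β ^ 2 = -1) :
    qq α β h (Multiplicative.ofAdd 1, 1) = wS K := by
  show (if (Multiplicative.ofAdd (1 : ZMod 2)) = 1 then (1 : S2 K) else wS K) *
    (if (1 : M2) = 1 then 1 else w2 α β h) = _
  rw [if_pos rfl, if_neg z2_ne, mul_one]

theorem qq_gg (α β : K) (h : α ^ 2 + β ^ 2 = -1) :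
    qq α β h (Multiplicative.ofAdd 1, Multiplicative.ofAdd 1) = wS K * w2 α β h := by
  show (if (Multiplicative.ofAdd (1 : ZMod 2)) = 1 then (1 : S2 K) else wS K) *
    (if (Multiplicative.ofAdd (1 : ZMod 2)) = 1 then 1 else w2 α β h) = _
  rw [if_neg z2_ne, if_neg z2_ne]

theorem qq_center (α β : K) (h : α ^ 2 + β ^ 2 = -1) (h3 : (3 : K) = 0) (t : M2 × M2)
    (hc : qq α β h t ∈ Subgroup.center (S2 K)) : t = 1 := by
  have hz : ∀ x : K, x = -x → x = 0 := fun x hx => by linear_combination x * h3 - hx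
  have hno : ¬ (α = 0 ∧ β = 0) := by
    rintro ⟨rfl, rfl⟩
    simp at h
  obtain ⟨j, k⟩ := t
  rcases z2_cases j with rfl | rfl <;> rcases z2_cases k with rfl | rfl
  · rfl
  · exfalso
    rw [qq_1g] at hc
    obtain ⟨h01, -, h00⟩ := (center_iff _).mp hc
    rw [w2_01] at h01
    rw [w2_00, w2_11] at h00
    exact hno ⟨hz α h00, h01⟩
  · exfalso
    rw [qq_g1] at hc
    obtain ⟨h01, -, -⟩ := (center_iff _).mp hc
    rw [wS_01] at h01
    exact one_ne_zero h01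
  · exfalso
    rw [qq_gg] at hc
    obtain ⟨h01, -, h00⟩ := (center_iff _).mp hc
    simp only [mul_entry, wS_00, wS_01, wS_10, wS_11, w2_00, w2_01, w2_10, w2_11] at h01 h00
    have hα : α = 0 := by linear_combination (-1 : K) * h01
    have hβ : β = 0 := by
      apply hz
      linear_combination h00
    exact hno ⟨hα, hβ⟩

noncomputable def F23 {m : ℕ} (fr : Frob K m) (α β : K) (h : α ^ 2 + β ^ 2 = -1) :
    M2 × M2 →* ↥(twistedG2 K (3 ^ m)) :=
  (zf (PhiR fr (wS K)) (bR_sq fr)).noncommCoprod (zf (PhiR fr (w2 α β h)) (cR_sq fr α β h)) (by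
    intro j k
    rcases z2_cases j with rfl | rfl <;> rcases z2_cases k with rfl | rfl
    · rw [map_one (zf (PhiR fr (wS K)) (bR_sq fr))]
      exact Commute.one_left _
    · rw [map_one (zf (PhiR fr (wS K)) (bR_sq fr))]
      exact Commute.one_left _
    · rw [map_one (zf (PhiR fr (w2 α β h)) (cR_sq fr α β h))]
      exact Commute.one_right _
    · rw [zf_gen, zf_gen]
      exact bc_comm fr α β h)

theorem F23_eq {m : ℕ} (fr : Frob K m) (α β : K) (h : α ^ 2 + β ^ 2 = -1) (t : M2 × M2) :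
    F23 fr α β h t = PhiR fr (qq α β h t) := by
  obtain ⟨j, k⟩ := t
  have hval : F23 fr α β h (j, k) =
      zf (PhiR fr (wS K)) (bR_sq fr) j * zf (PhiR fr (w2 α β h)) (cR_sq fr α β h) k := rfl
  rw [hval]
  rcases z2_cases j with rfl | rfl <;> rcases z2_cases k with rfl | rfl
  · rw [map_one, map_one, qq_11, map_one, one_mul]
  · rw [map_one (zf (PhiR fr (wS K)) (bR_sq fr)), one_mul, zf_gen, qq_1g]
  · rw [map_one (zf (PhiR fr (w2 α β h)) (cR_sq fr α β h)), mul_one, zf_gen, qq_g1]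
  · rw [zf_gen, zf_gen, qq_gg, map_mul]

noncomputable def FF {m : ℕ} (fr : Frob K m) (α β : K) (h : α ^ 2 + β ^ 2 = -1) :
    Z3 →* ↥(twistedG2 K (3 ^ m)) :=
  (zf (aR fr) (aR_sq fr)).noncommCoprod (F23 fr α β h) (by
    intro i y
    rw [F23_eq]
    rcases z2_cases i with rfl | rfl
    · rw [map_one]
      exact Commute.one_left _
    · rw [zf_gen]
      exact aR_comm fr _)

theorem FF_apply {m : ℕ} (fr : Frob K m) (α β : K) (h : α ^ 2 + β ^ 2 = -1) (i : M2) (t : M2 × M2) :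
    FF fr α β h (i, t) = zf (aR fr) (aR_sq fr) i * PhiR fr (qq α β h t) := by
  have hval : FF fr α β h (i, t) = zf (aR fr) (aR_sq fr) i * F23 fr α β h t := rfl
  rw [hval, F23_eq]

theorem zf_val {m : ℕ} (fr : Frob K m) (i : M2) :
    ((zf (aR fr) (aR_sq fr) i : ↥(twistedG2 K (3 ^ m))) : GL chevG2.Idx K) = 1 ∨
      ((zf (aR fr) (aR_sq fr) i : ↥(twistedG2 K (3 ^ m))) : GL chevG2.Idx K) = th m (-1 : Kˣ) := by
  rcases z2_cases i with rfl | rfl
  · left
    rw [map_one]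
    rfl
  · right
    rw [zf_gen]
    rfl

theorem zf_one_iff {m : ℕ} (fr : Frob K m) (i : M2)
    (hi : ((zf (aR fr) (aR_sq fr) i : ↥(twistedG2 K (3 ^ m))) : GL chevG2.Idx K) = 1) : i = 1 := by
  rcases z2_cases i with rfl | rfl
  · rfl
  · exfalso
    rw [zf_gen] at hi
    exact a_ne fr hi

theorem FF_inj {m : ℕ} (fr : Frob K m) (α β : K) (h : α ^ 2 + β ^ 2 = -1) :
    Function.Injective (FF fr α β h) := by
  have h3' : (3 : K) = 0 := by
    have e : (3 : K) = ((3 : ℕ) : K) := by norm_num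
    rw [e]
    exact fr.h3
  rw [injective_iff_map_eq_one]
  rintro ⟨i, t⟩ ht
  rw [FF_apply] at ht
  have h2 : ((zf (aR fr) (aR_sq fr) i : ↥(twistedG2 K (3 ^ m))) : GL chevG2.Idx K) *
      Phi fr (qq α β h t) = 1 := congrArg Subtype.val ht
  obtain ⟨h4, h5⟩ := key_inj fr _ (zf_val fr i) _ h2
  rw [zf_one_iff fr i h4, qq_center α β h h3' t h5]
  rfl

theorem FF_A {m : ℕ} (fr : Frob K m) (α β : K) (h : α ^ 2 + β ^ 2 = -1) :
    FF fr α β h gA3 = aR fr := by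
  show FF fr α β h (Multiplicative.ofAdd 1, (1, 1)) = _
  rw [FF_apply, zf_gen, qq_11, map_one, mul_one]

theorem FF_B {m : ℕ} (fr : Frob K m) (α β : K) (h : α ^ 2 + β ^ 2 = -1) :
    FF fr α β h gB3 = PhiR fr (wS K) := by
  show FF fr α β h (1, (Multiplicative.ofAdd 1, 1)) = _
  rw [FF_apply, map_one, one_mul, qq_g1]

theorem FF_C {m : ℕ} (fr : Frob K m) (α β : K) (h : α ^ 2 + β ^ 2 = -1) :
    FF fr α β h gC3 = PhiR fr (w2 α β h) := by
  show FF fr α β h (1, (1, Multiplicative.ofAdd 1)) = _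
  rw [FF_apply, map_one, one_mul, qq_1g]

theorem comm_sign {m : ℕ} (fr : Frob K m) (x y : S2 K)
    (h : Phi fr x * Phi fr y = Phi fr y * Phi fr x) :
    ∃ ε : K, (ε = 1 ∨ ε = -1) ∧
      ∀ i : Fin 2, (x * y) i 0 = ε * (y * x) i 0 ∧ (x * y) i 1 = ε * (y * x) i 1 := by
  obtain ⟨z, hz⟩ : ∃ z : S2 K, z = (y * x)⁻¹ * (x * y) := ⟨_, rfl⟩
  have hPz : Phi fr z = 1 := by
    rw [hz, map_mul, map_inv, map_mul, map_mul, h, inv_mul_cancel]
  obtain ⟨⟨z01, z10, z00⟩, -⟩ := Phi_ker fr z (Or.inl hPz)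
  have hdet := det_eq z
  rw [z01, zero_mul, sub_zero, ← z00] at hdet
  have e : x * y = (y * x) * z := by
    rw [hz]
    group
  refine ⟨z 0 0, mul_self_eq_one_iff.mp hdet, fun i => ⟨?_, ?_⟩⟩
  · rw [e, mul_entry (y * x) z, z10, mul_zero, add_zero, mul_comm]
  · rw [e, mul_entry (y * x) z, z01, mul_zero, zero_add, ← z00, mul_comm]

theorem four_cases {m : ℕ} (fr : Frob K m) (α β : K) (h : α ^ 2 + β ^ 2 = -1) (g : S2 K)
    (h1 : Phi fr g * Phi fr (wS K) = Phi fr (wS K) * Phi fr g)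
    (h2 : Phi fr g * Phi fr (w2 α β h) = Phi fr (w2 α β h) * Phi fr g) :
    ∃ t : M2 × M2, Phi fr g = Phi fr (qq α β h t) := by
  have h3' : (3 : K) = 0 := by
    have e : (3 : K) = ((3 : ℕ) : K) := by norm_num
    rw [e]
    exact fr.h3
  have half : ∀ x : K, x + x = 0 → x = 0 := fun x hx => by linear_combination x * h3' - hx
  have hx0 : ∀ x : K, α * x = 0 → β * x = 0 → x = 0 := fun x ha hb => by
    linear_combination x * h - α * ha - β * hb
  have close : ∀ w : S2 K, w * w ∈ Subgroup.center (S2 K) → g * w ∈ Subgroup.center (S2 K) →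
      Phi fr g = Phi fr w := by
    intro w hw hgw
    have e1 : Phi fr g * Phi fr w = 1 := by
      rw [← map_mul]
      exact Phi_center fr _ hgw
    have e2 : Phi fr w * Phi fr w = 1 := by
      rw [← map_mul]
      exact Phi_center fr _ hw
    exact mul_right_cancel (e1.trans e2.symm)
  obtain ⟨ε, hε, hA⟩ := comm_sign fr g (wS K) h1
  obtain ⟨ε', hε', hB⟩ := comm_sign fr g (w2 α β h) h2
  obtain ⟨A1, A2⟩ := hA 0
  obtain ⟨B1, B2⟩ := hB 0
  simp only [mul_entry, wS_00, wS_01, wS_10, wS_11, w2_00, w2_01, w2_10, w2_11] at A1 A2 B1 B2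
  rcases hε with rfl | rfl <;> rcases hε' with rfl | rfl
  · refine ⟨(1, 1), ?_⟩
    rw [qq_11, map_one]
    have hq : g 0 1 = 0 := hx0 _ (half _ (by linear_combination β * A2 - B2))
      (half _ (by linear_combination B1 - β * A1))
    apply Phi_center
    rw [center_iff]
    refine ⟨hq, ?_, ?_⟩
    · linear_combination (-1 : K) * A1 - hq
    · linear_combination A2
  · refine ⟨(Multiplicative.ofAdd 1, 1), ?_⟩
    rw [qq_g1]
    apply close _ wS_sq_center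
    have hp : g 0 0 = 0 := hx0 _ (half _ (by linear_combination B1 + β * A1))
      (half _ (by linear_combination B2 + β * A2))
    rw [center_iff]
    simp only [mul_entry, wS_00, wS_01, wS_10, wS_11]
    refine ⟨?_, ?_, ?_⟩
    · linear_combination hp
    · linear_combination A2 - hp
    · linear_combination A1
  · refine ⟨(1, Multiplicative.ofAdd 1), ?_⟩
    rw [qq_1g]
    apply close _ (w2_sq_center α β h)
    have hk : β * g 0 0 - α * g 0 1 = 0 := half _ (by linear_combination B2 + β * A2)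
    rw [center_iff]
    simp only [mul_entry, w2_00, w2_01, w2_10, w2_11]
    refine ⟨?_, ?_, ?_⟩
    · linear_combination hk
    · linear_combination α * A1 + β * A2 - hk
    · linear_combination α * A2 - β * A1
  · refine ⟨(Multiplicative.ofAdd 1, Multiplicative.ofAdd 1), ?_⟩
    rw [qq_gg]
    apply close _ (ww_sq_center α β h)
    have hk : α * g 0 0 + β * g 0 1 = 0 := half _ (by linear_combination B1 - β * A1)
    rw [center_iff]
    simp only [mul_entry, wS_00, wS_01, wS_10, wS_11, w2_00, w2_01, w2_10, w2_11]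
    refine ⟨?_, ?_, ?_⟩
    · linear_combination (-1 : K) * hk
    · linear_combination hk + β * A1 - α * A2
    · linear_combination β * A2 + α * A1

theorem cent_E [Fintype K] {m : ℕ} (hK : Fintype.card K = 3 ^ (2 * m + 1)) (fr : Frob K m)
    (α β : K) (h : α ^ 2 + β ^ 2 = -1) (x : ↥(twistedG2 K (3 ^ m)))
    (ha : aR fr * x = x * aR fr) (hb : x * PhiR fr (wS K) = PhiR fr (wS K) * x)
    (hc : x * PhiR fr (w2 α β h) = PhiR fr (w2 α β h) * x) : x ∈ (FF fr α β h).range := by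
  have ha' : th m (-1 : Kˣ) * (x : GL chevG2.Idx K) = (x : GL chevG2.Idx K) * th m (-1 : Kˣ) :=
    congrArg Subtype.val ha
  have hb' : (x : GL chevG2.Idx K) * Phi fr (wS K) = Phi fr (wS K) * (x : GL chevG2.Idx K) :=
    congrArg Subtype.val hb
  have hc' : (x : GL chevG2.Idx K) * Phi fr (w2 α β h) = Phi fr (w2 α β h) * (x : GL chevG2.Idx K) :=
    congrArg Subtype.val hc
  obtain ⟨g, hg | hg⟩ := (mem_M_iff fr _).mp (cent_mem_M hK fr _ x.2 ha')
  · rw [hg] at hb' hc'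
    obtain ⟨t, ht⟩ := four_cases fr α β h g hb' hc'
    refine ⟨(1, t), ?_⟩
    apply Subtype.ext
    rw [FF_apply, map_one, one_mul, hg, ht]
    rfl
  · rw [hg] at hb' hc'
    have h1 : Phi fr g * Phi fr (wS K) = Phi fr (wS K) * Phi fr g := by
      rw [mul_assoc, ← mul_assoc (Phi fr (wS K)), ← a_comm_Phi fr (wS K), mul_assoc] at hb'
      exact mul_left_cancel hb'
    have h2 : Phi fr g * Phi fr (w2 α β h) = Phi fr (w2 α β h) * Phi fr g := by
      rw [mul_assoc, ← mul_assoc (Phi fr (w2 α β h)), ← a_comm_Phi fr (w2 α β h), mul_assoc] at hc'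
      exact mul_left_cancel hc'
    obtain ⟨t, ht⟩ := four_cases fr α β h g h1 h2
    refine ⟨(Multiplicative.ofAdd 1, t), ?_⟩
    apply Subtype.ext
    rw [FF_apply, zf_gen, hg, ht]
    rfl

theorem three_zero {m : ℕ} (fr : Frob K m) : (3 : K) = 0 := by
  have e : (3 : K) = ((3 : ℕ) : K) := by norm_num
  rw [e]
  exact fr.h3

noncomputable def u3 (α β : K) (h : α ^ 2 + β ^ 2 = -1) (h3 : (3 : K) = 0) : S2 K :=
  ⟨!![-1 - α - β, -1 + α - β; 1 + α - β, -1 + α + β], by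
    rw [Matrix.det_fin_two_of]
    linear_combination (-2 : K) * h + h3⟩

theorem u3_00 (α β : K) (h : α ^ 2 + β ^ 2 = -1) (h3 : (3 : K) = 0) :
    (u3 α β h h3) 0 0 = -1 - α - β := rfl
theorem u3_01 (α β : K) (h : α ^ 2 + β ^ 2 = -1) (h3 : (3 : K) = 0) :
    (u3 α β h h3) 0 1 = -1 + α - β := rfl
theorem u3_10 (α β : K) (h : α ^ 2 + β ^ 2 = -1) (h3 : (3 : K) = 0) :
    (u3 α β h h3) 1 0 = 1 + α - β := rfl
theorem u3_11 (α β : K) (h : α ^ 2 + β ^ 2 = -1) (h3 : (3 : K) = 0) :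
    (u3 α β h h3) 1 1 = -1 + α + β := rfl

theorem u3_b (α β : K) (h : α ^ 2 + β ^ 2 = -1) (h3 : (3 : K) = 0) :
    u3 α β h h3 * wS K = w2 α β h * u3 α β h h3 := by
  apply ext2 <;>
    simp only [mul_entry, wS_00, wS_01, wS_10, wS_11, w2_00, w2_01, w2_10, w2_11, u3_00, u3_01,
      u3_10, u3_11] <;>
    first | ring1 | linear_combination h | linear_combination (-1 : K) * h

theorem u3_c (α β : K) (h : α ^ 2 + β ^ 2 = -1) (h3 : (3 : K) = 0) :
    u3 α β h h3 * w2 α β h = (wS K * w2 α β h) * u3 α β h h3 := by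
  apply ext2 <;>
    simp only [mul_entry, wS_00, wS_01, wS_10, wS_11, w2_00, w2_01, w2_10, w2_11, u3_00, u3_01,
      u3_10, u3_11] <;>
    first | ring1 | linear_combination h | linear_combination (-1 : K) * h

noncomputable def vR {m : ℕ} (fr : Frob K m) (α β : K) (h : α ^ 2 + β ^ 2 = -1) :
    ↥(twistedG2 K (3 ^ m)) := PhiR fr (u3 α β h (three_zero fr))

theorem sgm_A : sgm gA3 = gA3 := by decide
theorem sgm_B : sgm gB3 = gC3 := by decide
theorem sgm_C : sgm gC3 = gB3 * gC3 := by decide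
theorem sgm3 : ∀ t : Z3, sgm (sgm (sgm t)) = t := by decide

theorem v_conj {m : ℕ} (fr : Frob K m) (α β : K) (h : α ^ 2 + β ^ 2 = -1) (t : Z3) :
    vR fr α β h * FF fr α β h t * (vR fr α β h)⁻¹ = FF fr α β h (sgm t) := by
  have key := hom_ext3 ((MulAut.conj (vR fr α β h)).toMonoidHom.comp (FF fr α β h))
    ((FF fr α β h).comp sgmHom) ?_ ?_ ?_ t
  · exact key
  · show vR fr α β h * FF fr α β h gA3 * (vR fr α β h)⁻¹ = FF fr α β h (sgm gA3)
    rw [sgm_A, FF_A]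
    unfold vR
    rw [← aR_comm, mul_inv_cancel_right]
  · show vR fr α β h * FF fr α β h gB3 * (vR fr α β h)⁻¹ = FF fr α β h (sgm gB3)
    rw [sgm_B, FF_B, FF_C]
    unfold vR
    rw [← map_mul, u3_b, map_mul, mul_inv_cancel_right]
  · show vR fr α β h * FF fr α β h gC3 * (vR fr α β h)⁻¹ = FF fr α β h (sgm gC3)
    rw [sgm_C, map_mul, FF_B, FF_C]
    unfold vR
    rw [← map_mul, u3_c, map_mul, mul_inv_cancel_right, map_mul]

theorem E_comm {m : ℕ} (fr : Frob K m) (α β : K) (h : α ^ 2 + β ^ 2 = -1)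
    (x y : ↥(twistedG2 K (3 ^ m))) (hx : x ∈ (FF fr α β h).range) (hy : y ∈ (FF fr α β h).range) :
    x * y = y * x := by
  obtain ⟨s, rfl⟩ := hx
  obtain ⟨t, rfl⟩ := hy
  rw [← map_mul, ← map_mul, mul_comm]

theorem E_sq {m : ℕ} (fr : Frob K m) (α β : K) (h : α ^ 2 + β ^ 2 = -1)
    (x : ↥(twistedG2 K (3 ^ m))) (hx : x ∈ (FF fr α β h).range) : x * x = 1 := by
  obtain ⟨s, rfl⟩ := hx
  rw [← map_mul]
  have e : s * s = 1 := by
    revert s
    decide
  rw [e, map_one]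

theorem v_norm {m : ℕ} (fr : Frob K m) (α β : K) (h : α ^ 2 + β ^ 2 = -1) :
    vR fr α β h ∈ Subgroup.normalizer (((FF fr α β h).range : Subgroup ↥(twistedG2 K (3 ^ m))) :
      Set ↥(twistedG2 K (3 ^ m))) := by
  rw [Subgroup.mem_normalizer_iff]
  intro x
  constructor
  · rintro ⟨t, rfl⟩
    rw [v_conj]
    exact ⟨_, rfl⟩
  · rintro ⟨t, ht⟩
    have e : FF fr α β h t = vR fr α β h * FF fr α β h (sgm (sgm t)) * (vR fr α β h)⁻¹ := by
      rw [v_conj, sgm3]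
    rw [e] at ht
    have e2 : x = FF fr α β h (sgm (sgm t)) := by
      have e3 := mul_right_cancel ht
      exact (mul_left_cancel e3).symm
    rw [e2]
    exact ⟨_, rfl⟩

theorem E_card {m : ℕ} (fr : Frob K m) (α β : K) (h : α ^ 2 + β ^ 2 = -1) :
    Nat.card ↥(FF fr α β h).range = 8 := by
  rw [← Nat.card_congr (MonoidHom.ofInjective (FF_inj fr α β h)).toEquiv, Nat.card_eq_fintype_card]
  rfl

theorem E_sylow [Fintype K] {m : ℕ} (hK : Fintype.card K = 3 ^ (2 * m + 1)) (fr : Frob K m)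
    (α β : K) (h : α ^ 2 + β ^ 2 = -1) :
    ∃ Q : Sylow 2 ↥(twistedG2 K (3 ^ m)),
      (Q : Subgroup ↥(twistedG2 K (3 ^ m))) = (FF fr α β h).range := by
  have hE8 := E_card fr α β h
  have hP : IsPGroup 2 ↥(FF fr α β h).range := IsPGroup.of_card (n := 3) (by rw [hE8]; norm_num)
  obtain ⟨Q, hQ⟩ := hP.exists_le_sylow
  exact ⟨Q, (Subgroup.eq_of_le_of_card_ge hQ (by rw [syl2_card hK Q, hE8])).symm⟩

theorem conj_E [Fintype K] {m : ℕ} (hK : Fintype.card K = 3 ^ (2 * m + 1)) (fr : Frob K m)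
    (α β : K) (h : α ^ 2 + β ^ 2 = -1) (n : ↥(twistedG2 K (3 ^ m)))
    (hn : n ∈ Subgroup.normalizer (((FF fr α β h).range : Subgroup ↥(twistedG2 K (3 ^ m))) :
      Set ↥(twistedG2 K (3 ^ m))))
    (ha : aR fr * n = n * aR fr) (t : M2 × M2) :
    ∃ t' : M2 × M2, n * FF fr α β h (1, t) * n⁻¹ = FF fr α β h (1, t') := by
  have ha' : th m (-1 : Kˣ) * (n : GL chevG2.Idx K) = (n : GL chevG2.Idx K) * th m (-1 : Kˣ) :=
    congrArg Subtype.val ha
  have hy : n * FF fr α β h (1, t) * n⁻¹ ∈ (FF fr α β h).range :=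
    (Subgroup.mem_normalizer_iff.mp hn _).mp ⟨_, rfl⟩
  obtain ⟨⟨i, t'⟩, hit⟩ := hy
  have hval : ∃ g' : S2 K, ((n * FF fr α β h (1, t) * n⁻¹ : ↥(twistedG2 K (3 ^ m))) :
      GL chevG2.Idx K) = Phi fr g' := by
    obtain ⟨g, hg | hg⟩ := (mem_M_iff fr _).mp (cent_mem_M hK fr _ n.2 ha')
    · refine ⟨g * qq α β h t * g⁻¹, ?_⟩
      rw [FF_apply, map_one (zf (aR fr) (aR_sq fr)), one_mul]
      show (n : GL chevG2.Idx K) * Phi fr (qq α β h t) * (n : GL chevG2.Idx K)⁻¹ = _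
      rw [hg, map_mul, map_mul, map_inv]
    · refine ⟨g * qq α β h t * g⁻¹, ?_⟩
      rw [FF_apply, map_one (zf (aR fr) (aR_sq fr)), one_mul]
      show (n : GL chevG2.Idx K) * Phi fr (qq α β h t) * (n : GL chevG2.Idx K)⁻¹ = _
      rw [hg, map_mul, map_mul, map_inv, mul_inv_rev]
      have e := a_comm_Phi fr (g * qq α β h t * g⁻¹)
      rw [map_mul, map_mul, map_inv] at e
      calc th m (-1 : Kˣ) * Phi fr g * Phi fr (qq α β h t) * ((Phi fr g)⁻¹ * (th m (-1 : Kˣ))⁻¹)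
          = (th m (-1 : Kˣ) * (Phi fr g * Phi fr (qq α β h t) * (Phi fr g)⁻¹)) *
            (th m (-1 : Kˣ))⁻¹ := by group
        _ = Phi fr g * Phi fr (qq α β h t) * (Phi fr g)⁻¹ := by rw [e, mul_inv_cancel_right]
  obtain ⟨g', hg'⟩ := hval
  rw [← hit, FF_apply] at hg'
  have hg'' : ((zf (aR fr) (aR_sq fr) i : ↥(twistedG2 K (3 ^ m))) : GL chevG2.Idx K) *
      Phi fr (qq α β h t') = Phi fr g' := hg'
  have h2 : ((zf (aR fr) (aR_sq fr) i : ↥(twistedG2 K (3 ^ m))) : GL chevG2.Idx K) *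
      Phi fr (qq α β h t' * g'⁻¹) = 1 := by
    rw [map_mul, map_inv, ← mul_assoc, hg'', mul_inv_cancel]
  obtain ⟨h4, -⟩ := key_inj fr _ (zf_val fr i) _ h2
  refine ⟨t', ?_⟩
  rw [← hit, zf_one_iff fr i h4]

theorem sq_comm_aux {G : Type*} [Group G] (n b c : G) (hb : n * b = b * n) (hc : n * c = b * c * n)
    (hbb : b * b = 1) : n * n * c = c * (n * n) := by
  calc n * n * c = n * (n * c) := by group
    _ = n * (b * c * n) := by rw [hc]
    _ = (n * b) * c * n := by group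
    _ = b * (n * c) * n := by rw [hb]; group
    _ = b * (b * c * n) * n := by rw [hc]
    _ = (b * b) * c * (n * n) := by group
    _ = c * (n * n) := by rw [hbb, one_mul]

theorem conj_shift {G : Type*} [Group G] (v n b c : G) (hn : n * b * n⁻¹ = c)
    (hv : v * b * v⁻¹ = c) : (v⁻¹ * n) * b * (v⁻¹ * n)⁻¹ = b := by
  have e : n * b * n⁻¹ = v * b * v⁻¹ := hn.trans hv.symm
  calc (v⁻¹ * n) * b * (v⁻¹ * n)⁻¹ = v⁻¹ * (n * b * n⁻¹) * v := by group
    _ = v⁻¹ * (v * b * v⁻¹) * v := by rw [e]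
    _ = b := by group

theorem comm_inv_mul {G : Type*} [Group G] (a v n : G) (hv : a * v = v * a) (hn : a * n = n * a) :
    a * (v⁻¹ * n) = (v⁻¹ * n) * a := by
  have hv' : a * v⁻¹ = v⁻¹ * a := by
    calc a * v⁻¹ = v⁻¹ * (v * a) * v⁻¹ := by group
      _ = v⁻¹ * (a * v) * v⁻¹ := by rw [hv]
      _ = v⁻¹ * a := by group
  rw [← mul_assoc, hv', mul_assoc, hn, mul_assoc]

theorem ne_B1 : gB3 ≠ 1 := by decide
theorem ne_C1 : gC3 ≠ 1 := by decide
theorem ne_CB : gC3 ≠ gB3 := by decide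
theorem ne_A1 : gA3 ≠ 1 := by decide
theorem eq_BC : ((1, (Multiplicative.ofAdd 1, Multiplicative.ofAdd 1)) : Z3) = gB3 * gC3 := by decide

theorem stab_b [Fintype K] {m : ℕ} (hK : Fintype.card K = 3 ^ (2 * m + 1)) (fr : Frob K m)
    (α β : K) (h : α ^ 2 + β ^ 2 = -1) (n : ↥(twistedG2 K (3 ^ m)))
    (hn : n ∈ Subgroup.normalizer (((FF fr α β h).range : Subgroup ↥(twistedG2 K (3 ^ m))) :
      Set ↥(twistedG2 K (3 ^ m))))
    (ha : aR fr * n = n * aR fr) (hb : n * PhiR fr (wS K) * n⁻¹ = PhiR fr (wS K)) :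
    n ∈ (FF fr α β h).range := by
  obtain ⟨Q, hQ⟩ := E_sylow hK fr α β h
  obtain ⟨t', ht'⟩ := conj_E hK fr α β h n hn ha (1, Multiplicative.ofAdd 1)
  have hC : FF fr α β h (1, (1, Multiplicative.ofAdd 1)) = PhiR fr (w2 α β h) := FF_C fr α β h
  rw [hC] at ht'
  have hb' : n * PhiR fr (wS K) = PhiR fr (wS K) * n := mul_inv_eq_iff_eq_mul.mp hb
  obtain ⟨j, k⟩ := t'
  rcases z2_cases j with rfl | rfl <;> rcases z2_cases k with rfl | rfl
  · exfalso
    have e1 : FF fr α β h (1, ((1 : M2), (1 : M2))) = 1 := map_one _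
    rw [e1] at ht'
    have e2 : PhiR fr (w2 α β h) = 1 := by
      have e3 : n * PhiR fr (w2 α β h) = n * 1 := by
        rw [mul_one]
        exact mul_inv_eq_one.mp ht'
      exact mul_left_cancel e3
    rw [← FF_C fr α β h, ← map_one (FF fr α β h)] at e2
    exact ne_C1 (FF_inj fr α β h e2)
  · rw [hC] at ht'
    have hc' : n * PhiR fr (w2 α β h) = PhiR fr (w2 α β h) * n := mul_inv_eq_iff_eq_mul.mp ht'
    exact cent_E hK fr α β h n ha hb' hc'
  · exfalso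
    have e1 : FF fr α β h (1, (Multiplicative.ofAdd 1, (1 : M2))) = PhiR fr (wS K) := FF_B fr α β h
    rw [e1, ← hb] at ht'
    have e2 : PhiR fr (w2 α β h) = PhiR fr (wS K) := by
      have e3 := mul_right_cancel ht'
      exact mul_left_cancel e3
    rw [← FF_C fr α β h, ← FF_B fr α β h] at e2
    exact ne_CB (FF_inj fr α β h e2)
  · exfalso
    have e1 : FF fr α β h (1, (Multiplicative.ofAdd 1, Multiplicative.ofAdd 1)) =
        PhiR fr (wS K) * PhiR fr (w2 α β h) := by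
      rw [eq_BC, map_mul, FF_B, FF_C]
    rw [e1] at ht'
    have e4 : n * PhiR fr (w2 α β h) = PhiR fr (wS K) * PhiR fr (w2 α β h) * n :=
      mul_inv_eq_iff_eq_mul.mp ht'
    have hnn : n * n ∈ (FF fr α β h).range := by
      apply cent_E hK fr α β h (n * n)
      · rw [← mul_assoc, ha, mul_assoc, ha, mul_assoc]
      · rw [mul_assoc, hb', ← mul_assoc, hb', mul_assoc]
      · exact sq_comm_aux n _ _ hb' e4 (bR_sq fr)
    have hn4 : n ^ 4 = 1 := by
      have e5 := E_sq fr α β h _ hnn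
      rw [show (4 : ℕ) = 2 + 2 from rfl, pow_add, pow_two]
      exact e5
    have hP : IsPGroup 2 ↥(Subgroup.zpowers n) := by
      rintro ⟨g, hg⟩
      obtain ⟨j, rfl⟩ := Subgroup.mem_zpowers_iff.mp hg
      refine ⟨2, Subtype.ext ?_⟩
      show (n ^ j) ^ (2 ^ 2) = 1
      rw [← zpow_natCast, ← zpow_mul, mul_comm, zpow_mul, zpow_natCast]
      norm_num [hn4]
    have hmem : n ∈ Subgroup.zpowers n ⊓ Subgroup.normalizer (Q : Set ↥(twistedG2 K (3 ^ m))) := by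
      refine ⟨Subgroup.mem_zpowers n, ?_⟩
      have e8 : (Q : Set ↥(twistedG2 K (3 ^ m))) =
          (((FF fr α β h).range : Subgroup ↥(twistedG2 K (3 ^ m))) : Set ↥(twistedG2 K (3 ^ m))) := by
        rw [← hQ]
        rfl
      rw [e8]
      exact hn
    rw [hP.inf_normalizer_sylow Q] at hmem
    have hnE : n ∈ (FF fr α β h).range := by
      rw [← hQ]
      exact hmem.2
    have e5 := E_comm fr α β h n (PhiR fr (w2 α β h)) hnE ⟨gC3, FF_C fr α β h⟩
    rw [e5, mul_inv_cancel_right] at ht'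
    have e6 : (1 : ↥(twistedG2 K (3 ^ m))) * PhiR fr (w2 α β h) =
        PhiR fr (wS K) * PhiR fr (w2 α β h) := by
      rw [one_mul]
      exact ht'
    have e7 := mul_right_cancel e6
    rw [← FF_B fr α β h, ← map_one (FF fr α β h)] at e7
    exact ne_B1 (FF_inj fr α β h e7.symm)

theorem vpow_conj {m : ℕ} (fr : Frob K m) (α β : K) (h : α ^ 2 + β ^ 2 = -1) (j : ℕ) (t : Z3) :
    vR fr α β h ^ j * FF fr α β h t * (vR fr α β h ^ j)⁻¹ = FF fr α β h (sgm^[j] t) := by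
  induction j generalizing t with
  | zero => simp
  | succ j ih =>
    rw [pow_succ, Function.iterate_succ, Function.comp_apply, ← ih (sgm t), ← v_conj]
    group

theorem S0_form [Fintype K] {m : ℕ} (hK : Fintype.card K = 3 ^ (2 * m + 1)) (fr : Frob K m)
    (α β : K) (h : α ^ 2 + β ^ 2 = -1) (n : ↥(twistedG2 K (3 ^ m)))
    (hn : n ∈ Subgroup.normalizer (((FF fr α β h).range : Subgroup ↥(twistedG2 K (3 ^ m))) :
      Set ↥(twistedG2 K (3 ^ m))))
    (ha : aR fr * n = n * aR fr) :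
    ∃ e ∈ (FF fr α β h).range, ∃ j : Fin 3, n = e * vR fr α β h ^ (j : ℕ) := by
  obtain ⟨t', ht'⟩ := conj_E hK fr α β h n hn ha (Multiplicative.ofAdd 1, 1)
  have hB : FF fr α β h (1, (Multiplicative.ofAdd 1, 1)) = PhiR fr (wS K) := FF_B fr α β h
  rw [hB] at ht'
  have hv := v_norm fr α β h
  have hva : aR fr * vR fr α β h = vR fr α β h * aR fr := aR_comm fr _
  have hvb : vR fr α β h * PhiR fr (wS K) * (vR fr α β h)⁻¹ = PhiR fr (w2 α β h) := by
    have e := v_conj fr α β h gB3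
    rw [sgm_B, FF_B, FF_C] at e
    exact e
  have hvc : vR fr α β h * PhiR fr (w2 α β h) * (vR fr α β h)⁻¹ =
      PhiR fr (wS K) * PhiR fr (w2 α β h) := by
    have e := v_conj fr α β h gC3
    rw [sgm_C, map_mul, FF_B, FF_C] at e
    exact e
  obtain ⟨j, k⟩ := t'
  rcases z2_cases j with rfl | rfl <;> rcases z2_cases k with rfl | rfl
  · exfalso
    have e1 : FF fr α β h (1, ((1 : M2), (1 : M2))) = 1 := map_one _
    rw [e1] at ht'
    have e2 : PhiR fr (wS K) = 1 := by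
      have e3 : n * PhiR fr (wS K) = n * 1 := by
        rw [mul_one]
        exact mul_inv_eq_one.mp ht'
      exact mul_left_cancel e3
    rw [← FF_B fr α β h, ← map_one (FF fr α β h)] at e2
    exact ne_B1 (FF_inj fr α β h e2)
  · have hC : FF fr α β h (1, (1, Multiplicative.ofAdd 1)) = PhiR fr (w2 α β h) := FF_C fr α β h
    rw [hC] at ht'
    have hn1 : (vR fr α β h)⁻¹ * n ∈ (FF fr α β h).range :=
      stab_b hK fr α β h _ (mul_mem (inv_mem hv) hn) (comm_inv_mul _ _ _ hva ha)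
        (conj_shift _ _ _ _ ht' hvb)
    refine ⟨vR fr α β h * ((vR fr α β h)⁻¹ * n) * (vR fr α β h)⁻¹,
      (Subgroup.mem_normalizer_iff.mp hv _).mp hn1, ⟨1, by norm_num⟩, ?_⟩
    show n = vR fr α β h * ((vR fr α β h)⁻¹ * n) * (vR fr α β h)⁻¹ * vR fr α β h ^ 1
    group
  · rw [hB] at ht'
    refine ⟨n, stab_b hK fr α β h n hn ha ht', ⟨0, by norm_num⟩, ?_⟩
    show n = n * vR fr α β h ^ 0
    rw [pow_zero, mul_one]
  · have e1 : FF fr α β h (1, (Multiplicative.ofAdd 1, Multiplicative.ofAdd 1)) =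
        PhiR fr (wS K) * PhiR fr (w2 α β h) := by
      rw [eq_BC, map_mul, FF_B, FF_C]
    rw [e1] at ht'
    have hvv : (vR fr α β h * vR fr α β h) * PhiR fr (wS K) * (vR fr α β h * vR fr α β h)⁻¹ =
        PhiR fr (wS K) * PhiR fr (w2 α β h) := by
      rw [← hvc, ← hvb]
      group
    have hvva : aR fr * (vR fr α β h * vR fr α β h) = (vR fr α β h * vR fr α β h) * aR fr := by
      rw [← mul_assoc, hva, mul_assoc, hva, mul_assoc]
    have hvvN := mul_mem hv hv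
    have hn1 : (vR fr α β h * vR fr α β h)⁻¹ * n ∈ (FF fr α β h).range :=
      stab_b hK fr α β h _ (mul_mem (inv_mem hvvN) hn) (comm_inv_mul _ _ _ hvva ha)
        (conj_shift _ _ _ _ ht' hvv)
    refine ⟨(vR fr α β h * vR fr α β h) * ((vR fr α β h * vR fr α β h)⁻¹ * n) *
      (vR fr α β h * vR fr α β h)⁻¹, (Subgroup.mem_normalizer_iff.mp hvvN _).mp hn1,
      ⟨2, by norm_num⟩, ?_⟩
    show n = (vR fr α β h * vR fr α β h) * ((vR fr α β h * vR fr α β h)⁻¹ * n) *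
      (vR fr α β h * vR fr α β h)⁻¹ * vR fr α β h ^ 2
    group

theorem iter_inj : ∀ j j' : Fin 3, sgm^[(j : ℕ)] gB3 = sgm^[(j' : ℕ)] gB3 → j = j' := by decide

theorem S0_card [Fintype K] {m : ℕ} (hK : Fintype.card K = 3 ^ (2 * m + 1)) (fr : Frob K m)
    (α β : K) (h : α ^ 2 + β ^ 2 = -1) :
    Nat.card ↥(Subgroup.normalizer (((FF fr α β h).range : Subgroup ↥(twistedG2 K (3 ^ m))) :
      Set ↥(twistedG2 K (3 ^ m))) ⊓ Subgroup.centralizer {aR fr}) = 24 := by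
  have hv := v_norm fr α β h
  have hva : aR fr * vR fr α β h = vR fr α β h * aR fr := aR_comm fr _
  have hEN : (FF fr α β h).range ≤ Subgroup.normalizer
      (((FF fr α β h).range : Subgroup ↥(twistedG2 K (3 ^ m))) : Set ↥(twistedG2 K (3 ^ m))) :=
    Subgroup.le_normalizer
  have haE : aR fr ∈ (FF fr α β h).range := ⟨gA3, FF_A fr α β h⟩
  have hmem : ∀ (e : ↥(FF fr α β h).range) (j : Fin 3),
      (e : ↥(twistedG2 K (3 ^ m))) * vR fr α β h ^ (j : ℕ) ∈
      Subgroup.normalizer (((FF fr α β h).range : Subgroup ↥(twistedG2 K (3 ^ m))) :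
        Set ↥(twistedG2 K (3 ^ m))) ⊓ Subgroup.centralizer {aR fr} := by
    intro e j
    have hc1 : (e : ↥(twistedG2 K (3 ^ m))) ∈ Subgroup.centralizer {aR fr} :=
      Subgroup.mem_centralizer_singleton_iff.mpr (E_comm fr α β h _ _ e.2 haE)
    have hc2 : vR fr α β h ∈ Subgroup.centralizer {aR fr} :=
      Subgroup.mem_centralizer_singleton_iff.mpr hva.symm
    exact Subgroup.mem_inf.mpr ⟨mul_mem (hEN e.2) (pow_mem hv _), mul_mem hc1 (pow_mem hc2 _)⟩
  let f : ↥(FF fr α β h).range × Fin 3 →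
      ↥(Subgroup.normalizer (((FF fr α β h).range : Subgroup ↥(twistedG2 K (3 ^ m))) :
        Set ↥(twistedG2 K (3 ^ m))) ⊓ Subgroup.centralizer {aR fr}) :=
    fun p => ⟨(p.1 : ↥(twistedG2 K (3 ^ m))) * vR fr α β h ^ (p.2 : ℕ), hmem p.1 p.2⟩
  have hbij : Function.Bijective f := by
    constructor
    · rintro ⟨e, j⟩ ⟨e', j'⟩ hff
      have h1 : (e : ↥(twistedG2 K (3 ^ m))) * vR fr α β h ^ (j : ℕ) =
          (e' : ↥(twistedG2 K (3 ^ m))) * vR fr α β h ^ (j' : ℕ) :=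
        congrArg (fun y : ↥(Subgroup.normalizer (((FF fr α β h).range :
          Subgroup ↥(twistedG2 K (3 ^ m))) : Set ↥(twistedG2 K (3 ^ m))) ⊓
          Subgroup.centralizer {aR fr}) => (y : ↥(twistedG2 K (3 ^ m)))) hff
      have hc : ∀ (e : ↥(FF fr α β h).range) (j : ℕ),
          ((e : ↥(twistedG2 K (3 ^ m))) * vR fr α β h ^ j) * FF fr α β h gB3 *
            ((e : ↥(twistedG2 K (3 ^ m))) * vR fr α β h ^ j)⁻¹ = FF fr α β h (sgm^[j] gB3) := by
        intro e j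
        have e1 : ((e : ↥(twistedG2 K (3 ^ m))) * vR fr α β h ^ j) * FF fr α β h gB3 *
            ((e : ↥(twistedG2 K (3 ^ m))) * vR fr α β h ^ j)⁻¹ =
            (e : ↥(twistedG2 K (3 ^ m))) *
              (vR fr α β h ^ j * FF fr α β h gB3 * (vR fr α β h ^ j)⁻¹) *
              (e : ↥(twistedG2 K (3 ^ m)))⁻¹ := by group
        rw [e1, vpow_conj, E_comm fr α β h _ _ e.2 ⟨_, rfl⟩, mul_inv_cancel_right]
      have h2 := hc e j
      rw [h1, hc e' j'] at h2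
      have hj : j' = j := iter_inj j' j (FF_inj fr α β h h2)
      subst hj
      have he : (e : ↥(twistedG2 K (3 ^ m))) = e' := mul_right_cancel h1
      rw [Subtype.ext he]
    · rintro ⟨n, hn⟩
      obtain ⟨e, he, j, hj⟩ := S0_form hK fr α β h n hn.1
        (Subgroup.mem_centralizer_singleton_iff.mp hn.2).symm
      exact ⟨(⟨e, he⟩, j), Subtype.ext hj.symm⟩
  rw [← Nat.card_congr (Equiv.ofBijective f hbij), Nat.card_prod, E_card, Nat.card_eq_fintype_card,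
    Fintype.card_fin]

theorem exists_fused [Fintype K] {m : ℕ} (hm : 1 ≤ m) (hK : Fintype.card K = 3 ^ (2 * m + 1))
    (fr : Frob K m) (α β : K) (h : α ^ 2 + β ^ 2 = -1) :
    ∃ g₀ : ↥(twistedG2 K (3 ^ m)), g₀⁻¹ * aR fr * g₀ ∈ (FF fr α β h).range ∧ g₀⁻¹ * aR fr * g₀ ≠ aR fr := by
  by_contra hcon
  push_neg at hcon
  have haE : aR fr ∈ (FF fr α β h).range := ⟨gA3, FF_A fr α β h⟩
  have hϕ : ∃ ϕ : ↥(FF fr α β h).range →* M2, ϕ ⟨aR fr, haE⟩ = Multiplicative.ofAdd 1 := by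
    refine ⟨(MonoidHom.fst M2 (M2 × M2)).comp
      (MonoidHom.ofInjective (FF_inj fr α β h)).symm.toMonoidHom, ?_⟩
    have e1 : (MonoidHom.ofInjective (FF_inj fr α β h)).symm ⟨aR fr, haE⟩ = gA3 := by
      rw [MulEquiv.symm_apply_eq]
      apply Subtype.ext
      exact (FF_A fr α β h).symm
    show ((MonoidHom.ofInjective (FF_inj fr α β h)).symm ⟨aR fr, haE⟩).1 = _
    rw [e1]
    rfl
  obtain ⟨ϕ, hϕa⟩ := hϕ
  have key : ∀ (k : ℕ) (g₀ : ↥(twistedG2 K (3 ^ m))), g₀⁻¹ * aR fr ^ k * g₀ ∈ (FF fr α β h).range →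
      g₀⁻¹ * aR fr ^ k * g₀ = aR fr ^ k := by
    intro k g₀ hk
    rcases Nat.even_or_odd k with ⟨j, rfl⟩ | ⟨j, rfl⟩
    · have e2 : aR fr ^ (j + j) = 1 := by
        rw [← two_mul, pow_mul, pow_two, aR_sq, one_pow]
      rw [e2, mul_one, inv_mul_cancel]
    · have e2 : aR fr ^ (2 * j + 1) = aR fr := by
        rw [pow_succ, pow_mul, pow_two, aR_sq, one_pow, one_mul]
      rw [e2] at hk ⊢
      exact hcon g₀ hk
  have htr := MonoidHom.transfer_eq_pow ϕ (aR fr) key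
  have hidx : (FF fr α β h).range.index % 2 = 1 := by
    have h1 := Subgroup.card_mul_index (FF fr α β h).range
    rw [E_card, card_ree hK] at h1
    have h2 := card_mod16 m
    rw [← h1] at h2
    omega
  have hpow : aR fr ^ (FF fr α β h).range.index = aR fr := by
    obtain ⟨j, hj⟩ := Nat.odd_iff.mpr hidx
    rw [hj, pow_succ, pow_mul, pow_two, aR_sq, one_pow, one_mul]
  have hperf := perf_ree hm hK
  have htriv : ϕ.transfer (aR fr) = 1 := by
    have hker := Abelianization.commutator_subset_ker ϕ.transfer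
    rw [hperf] at hker
    exact hker (Subgroup.mem_top _)
  rw [htriv] at htr
  have e3 : ∀ (hx : aR fr ^ (FF fr α β h).range.index ∈ (FF fr α β h).range),
      ϕ ⟨aR fr ^ (FF fr α β h).range.index, hx⟩ = ϕ ⟨aR fr, haE⟩ :=
    fun hx => congrArg ϕ (Subtype.ext hpow)
  rw [e3, hϕa] at htr
  exact z2_ne htr.symm

theorem exists_norm_move [Fintype K] {m : ℕ} (hm : 1 ≤ m) (hK : Fintype.card K = 3 ^ (2 * m + 1))
    (fr : Frob K m) (α β : K) (h : α ^ 2 + β ^ 2 = -1) :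
    ∃ n ∈ Subgroup.normalizer (((FF fr α β h).range : Subgroup ↥(twistedG2 K (3 ^ m))) : Set ↥(twistedG2 K (3 ^ m))), n⁻¹ * aR fr * n ∈ (FF fr α β h).range ∧ n⁻¹ * aR fr * n ≠ aR fr := by
  obtain ⟨g₀, hg1, hg2⟩ := exists_fused hm hK fr α β h
  obtain ⟨Q, hQ⟩ := E_sylow hK fr α β h
  have e8 : (Q : Set ↥(twistedG2 K (3 ^ m))) = (((FF fr α β h).range : Subgroup ↥(twistedG2 K (3 ^ m))) : Set ↥(twistedG2 K (3 ^ m))) := by
    rw [← hQ]
    rfl
  have hcent : ∀ x ∈ (FF fr α β h).range, x ∈ Subgroup.centralizer (Q : Set ↥(twistedG2 K (3 ^ m))) := by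
    intro x hx
    rw [Subgroup.mem_centralizer_iff]
    intro y hy
    rw [e8] at hy
    exact E_comm fr α β h y x hy hx
  obtain ⟨n, hn, hn2⟩ := Sylow.conj_eq_normalizer_conj_of_mem_centralizer Q (aR fr) g₀
    (hcent _ ⟨gA3, FF_A fr α β h⟩) (hcent _ hg1)
  rw [e8] at hn
  refine ⟨n, hn, ?_, ?_⟩
  · rw [← hn2]
    exact hg1
  · rw [← hn2]
    exact hg2

theorem norm_card [Fintype K] {m : ℕ} (hm : 1 ≤ m) (hK : Fintype.card K = 3 ^ (2 * m + 1))
    (fr : Frob K m) (α β : K) (h : α ^ 2 + β ^ 2 = -1) :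
    Nat.card ↥(Subgroup.normalizer (((FF fr α β h).range : Subgroup ↥(twistedG2 K (3 ^ m))) : Set ↥(twistedG2 K (3 ^ m)))) = 168 := by
  classical
  have hv := v_norm fr α β h
  have haE : aR fr ∈ (FF fr α β h).range := ⟨gA3, FF_A fr α β h⟩
  obtain ⟨O', hO'⟩ : ∃ O' : Finset Z3, ∀ t, t ∈ O' ↔
      ∃ n ∈ Subgroup.normalizer (((FF fr α β h).range : Subgroup ↥(twistedG2 K (3 ^ m))) : Set ↥(twistedG2 K (3 ^ m))), n * aR fr * n⁻¹ = FF fr α β h t :=
    ⟨Finset.univ.filter (fun t => ∃ n ∈ Subgroup.normalizer (((FF fr α β h).range : Subgroup ↥(twistedG2 K (3 ^ m))) : Set ↥(twistedG2 K (3 ^ m))), n * aR fr * n⁻¹ = FF fr α β h t), fun t => by simp⟩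
  have hch : ∀ t : {t : Z3 // t ∈ O'}, ∃ n ∈ Subgroup.normalizer (((FF fr α β h).range : Subgroup ↥(twistedG2 K (3 ^ m))) : Set ↥(twistedG2 K (3 ^ m))), n * aR fr * n⁻¹ = FF fr α β h t.1 :=
    fun t => (hO' t.1).mp t.2
  choose nn hnnN hnn using hch
  let Ψ : {t : Z3 // t ∈ O'} × ↥(Subgroup.normalizer (((FF fr α β h).range : Subgroup ↥(twistedG2 K (3 ^ m))) : Set ↥(twistedG2 K (3 ^ m))) ⊓ Subgroup.centralizer {aR fr}) → ↥(Subgroup.normalizer (((FF fr α β h).range : Subgroup ↥(twistedG2 K (3 ^ m))) : Set ↥(twistedG2 K (3 ^ m)))) :=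
    fun p => ⟨nn p.1 * (p.2 : ↥(twistedG2 K (3 ^ m))), mul_mem (hnnN p.1) p.2.2.1⟩
  have hs : ∀ (t : {t : Z3 // t ∈ O'}) (s : ↥(Subgroup.normalizer (((FF fr α β h).range : Subgroup ↥(twistedG2 K (3 ^ m))) : Set ↥(twistedG2 K (3 ^ m))) ⊓ Subgroup.centralizer {aR fr})),
      (nn t * (s : ↥(twistedG2 K (3 ^ m)))) * aR fr * (nn t * (s : ↥(twistedG2 K (3 ^ m))))⁻¹ = FF fr α β h t.1 := by
    intro t s
    have hsa : (s : ↥(twistedG2 K (3 ^ m))) * aR fr = aR fr * (s : ↥(twistedG2 K (3 ^ m))) :=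
      Subgroup.mem_centralizer_singleton_iff.mp s.2.2
    have e1 : (nn t * (s : ↥(twistedG2 K (3 ^ m)))) * aR fr * (nn t * (s : ↥(twistedG2 K (3 ^ m))))⁻¹ =
        nn t * ((s : ↥(twistedG2 K (3 ^ m))) * aR fr * (s : ↥(twistedG2 K (3 ^ m)))⁻¹) * (nn t)⁻¹ := by group
    rw [e1, hsa, mul_inv_cancel_right, hnn]
  have hΨ : Function.Bijective Ψ := by
    constructor
    · rintro ⟨t, s⟩ ⟨t', s'⟩ hp
      have h1 : nn t * (s : ↥(twistedG2 K (3 ^ m))) = nn t' * (s' : ↥(twistedG2 K (3 ^ m))) :=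
        congrArg (fun y : ↥(Subgroup.normalizer (((FF fr α β h).range : Subgroup ↥(twistedG2 K (3 ^ m))) : Set ↥(twistedG2 K (3 ^ m)))) => (y : ↥(twistedG2 K (3 ^ m)))) hp
      have h2 := hs t s
      rw [h1, hs t' s'] at h2
      have ht : t' = t := Subtype.ext (FF_inj fr α β h h2)
      subst ht
      have hs' : (s : ↥(twistedG2 K (3 ^ m))) = s' := mul_left_cancel h1
      rw [Subtype.ext hs']
    · rintro ⟨n, hn⟩
      have hy : n * aR fr * n⁻¹ ∈ (FF fr α β h).range := (Subgroup.mem_normalizer_iff.mp hn _).mp haE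
      obtain ⟨t, ht⟩ := hy
      have htO : t ∈ O' := (hO' t).mpr ⟨n, hn, ht.symm⟩
      have hsN : (nn ⟨t, htO⟩)⁻¹ * n ∈ Subgroup.normalizer (((FF fr α β h).range : Subgroup ↥(twistedG2 K (3 ^ m))) : Set ↥(twistedG2 K (3 ^ m))) := mul_mem (inv_mem (hnnN _)) hn
      have hsC : (nn ⟨t, htO⟩)⁻¹ * n ∈ Subgroup.centralizer {aR fr} := by
        rw [Subgroup.mem_centralizer_singleton_iff]
        have e2 : n * aR fr * n⁻¹ = nn ⟨t, htO⟩ * aR fr * (nn ⟨t, htO⟩)⁻¹ := by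
          rw [hnn]
          exact ht.symm
        calc (nn ⟨t, htO⟩)⁻¹ * n * aR fr = (nn ⟨t, htO⟩)⁻¹ * (n * aR fr * n⁻¹) * n := by group
          _ = (nn ⟨t, htO⟩)⁻¹ * (nn ⟨t, htO⟩ * aR fr * (nn ⟨t, htO⟩)⁻¹) * n := by rw [e2]
          _ = aR fr * ((nn ⟨t, htO⟩)⁻¹ * n) := by group
      refine ⟨(⟨t, htO⟩, ⟨_, Subgroup.mem_inf.mpr ⟨hsN, hsC⟩⟩), ?_⟩
      apply Subtype.ext
      show nn ⟨t, htO⟩ * ((nn ⟨t, htO⟩)⁻¹ * n) = n
      group
  have hcard : Nat.card ↥(Subgroup.normalizer (((FF fr α β h).range : Subgroup ↥(twistedG2 K (3 ^ m))) : Set ↥(twistedG2 K (3 ^ m)))) = O'.card * 24 := by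
    rw [← Nat.card_congr (Equiv.ofBijective Ψ hΨ), Nat.card_prod, S0_card hK fr α β h,
      Nat.card_eq_fintype_card, Fintype.card_coe]
  have h1 : gA3 ∈ O' := (hO' _).mpr ⟨1, one_mem _, by rw [FF_A]; group⟩
  have h2 : (1 : Z3) ∉ O' := by
    intro hc
    obtain ⟨n, -, hn⟩ := (hO' _).mp hc
    rw [map_one] at hn
    apply aR_ne fr
    have e : aR fr = n⁻¹ * (n * aR fr * n⁻¹) * n := by group
    rw [e, hn]
    group
  have h3 : ∀ t ∈ O', sgm t ∈ O' := by
    intro t ht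
    obtain ⟨n, hn, hnt⟩ := (hO' _).mp ht
    refine (hO' _).mpr ⟨vR fr α β h * n, mul_mem hv hn, ?_⟩
    rw [← v_conj, ← hnt]
    group
  have h4 : ∃ t ∈ O', t ≠ gA3 := by
    obtain ⟨n, hn, hn1, hn2⟩ := exists_norm_move hm hK fr α β h
    obtain ⟨t, ht⟩ := hn1
    refine ⟨t, (hO' _).mpr ⟨n⁻¹, inv_mem hn, ?_⟩, ?_⟩
    · rw [ht, inv_inv]
    · intro hc
      apply hn2
      rw [← ht, hc, FF_A]
  have h5 : ¬ 16 ∣ O'.card * 24 := by
    rw [← hcard]
    intro hd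
    have hd2 := hd.trans (Subgroup.card_subgroup_dvd_card (Subgroup.normalizer (((FF fr α β h).range : Subgroup ↥(twistedG2 K (3 ^ m))) : Set ↥(twistedG2 K (3 ^ m)))))
    rw [card_ree hK] at hd2
    have h6 := Nat.mod_eq_zero_of_dvd hd2
    have h7 := card_mod16 m
    rw [h6] at h7
    norm_num at h7
  rw [hcard, comb3' O' h1 h2 h3 h4 h5]

theorem syl2_main [Fintype K] {m : ℕ} (hm : 1 ≤ m) (hK : Fintype.card K = 3 ^ (2 * m + 1))
    (S : Sylow 2 ↥(twistedG2 K (3 ^ m))) :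
    Subgroup.centralizer ((S : Subgroup ↥(twistedG2 K (3 ^ m))) : Set ↥(twistedG2 K (3 ^ m))) = S ∧
      Nat.card (Subgroup.normalizer ((S : Subgroup ↥(twistedG2 K (3 ^ m))) : Set ↥(twistedG2 K (3 ^ m)))) = 168 := by
  have fr := frob_of_card hK
  have hodd : Fintype.card K % 2 = 1 := by
    rw [hK]
    exact Nat.odd_iff.mp (Odd.pow (by decide))
  obtain ⟨α, β, h⟩ := ReeGen.sum_two_sq hodd (-1 : K)
  obtain ⟨Q, hQ⟩ := E_sylow hK fr α β h
  obtain ⟨g, rfl⟩ := MulAction.exists_smul_eq ↥(twistedG2 K (3 ^ m)) Q S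
  have hmem : ∀ x : ↥(twistedG2 K (3 ^ m)), x ∈ ((g • Q : Sylow 2 ↥(twistedG2 K (3 ^ m))) : Subgroup ↥(twistedG2 K (3 ^ m))) ↔
      g⁻¹ * x * g ∈ (FF fr α β h).range := by
    intro x
    rw [Sylow.coe_subgroup_smul, Subgroup.mem_pointwise_smul_iff_inv_smul_mem, MulAut.smul_def,
      ← map_inv, MulAut.conj_apply, inv_inv, hQ]
  constructor
  · ext x
    rw [hmem, Subgroup.mem_centralizer_iff]
    constructor
    · intro hx
      have hc : ∀ y ∈ (FF fr α β h).range, (g⁻¹ * x * g) * y = y * (g⁻¹ * x * g) := by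
        intro y hy
        have hy' : g * y * g⁻¹ ∈ ((g • Q : Sylow 2 ↥(twistedG2 K (3 ^ m))) : Subgroup ↥(twistedG2 K (3 ^ m))) := by
          rw [hmem]
          have e0 : g⁻¹ * (g * y * g⁻¹) * g = y := by group
          rw [e0]
          exact hy
        have e := hx _ hy'
        calc (g⁻¹ * x * g) * y = g⁻¹ * (x * (g * y * g⁻¹)) * g := by group
          _ = g⁻¹ * ((g * y * g⁻¹) * x) * g := by rw [e]
          _ = y * (g⁻¹ * x * g) := by group
      exact cent_E hK fr α β h _ (hc _ ⟨gA3, FF_A fr α β h⟩).symm (hc _ ⟨gB3, FF_B fr α β h⟩)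
        (hc _ ⟨gC3, FF_C fr α β h⟩)
    · intro hx y hy
      have hy' : g⁻¹ * y * g ∈ (FF fr α β h).range := (hmem y).mp hy
      have e := E_comm fr α β h _ _ hy' hx
      calc y * x = g * ((g⁻¹ * y * g) * (g⁻¹ * x * g)) * g⁻¹ := by group
        _ = g * ((g⁻¹ * x * g) * (g⁻¹ * y * g)) * g⁻¹ := by rw [e]
        _ = x * y := by group
  · have hnorm : ∀ n : ↥(twistedG2 K (3 ^ m)),
        n ∈ Subgroup.normalizer (((g • Q : Sylow 2 ↥(twistedG2 K (3 ^ m))) : Subgroup ↥(twistedG2 K (3 ^ m))) : Set ↥(twistedG2 K (3 ^ m))) ↔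
        (MulAut.conj g⁻¹).toEquiv n ∈ Subgroup.normalizer (((FF fr α β h).range : Subgroup ↥(twistedG2 K (3 ^ m))) : Set ↥(twistedG2 K (3 ^ m))) := by
      intro n
      have en : (MulAut.conj g⁻¹).toEquiv n = g⁻¹ * n * g := by
        show g⁻¹ * n * g⁻¹⁻¹ = _
        rw [inv_inv]
      rw [en, Subgroup.mem_normalizer_iff, Subgroup.mem_normalizer_iff]
      constructor
      · intro hx y
        have e1 := hx (g * y * g⁻¹)
        rw [hmem, hmem] at e1
        have e2 : g⁻¹ * (g * y * g⁻¹) * g = y := by group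
        have e3 : g⁻¹ * (n * (g * y * g⁻¹) * n⁻¹) * g = g⁻¹ * n * g * y * (g⁻¹ * n * g)⁻¹ := by group
        rw [e2, e3] at e1
        exact e1
      · intro hy x
        have e1 := hy (g⁻¹ * x * g)
        have e3 : g⁻¹ * n * g * (g⁻¹ * x * g) * (g⁻¹ * n * g)⁻¹ = g⁻¹ * (n * x * n⁻¹) * g := by group
        rw [e3] at e1
        rw [hmem, hmem]
        exact e1
    rw [Nat.card_congr (Equiv.subtypeEquiv (MulAut.conj g⁻¹).toEquiv hnorm)]
    exact norm_card hm hK fr α β h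

end

end Cfsg.Agent.Lib.Helper7.ReeSyl2
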