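import Cfsg.Agent.Lib.Helper7.ReeId

set_option autoImplicit false

namespace Cfsg.Agent.Lib.Helper7.ReeTorId
open Cfsg.Lie Cfsg.Agent.Lib.Helper7.ChevEngine Cfsg.Agent.Lib.Helper7.MvEngine
  Cfsg.Agent.Lib.Helper7.MvWord Cfsg.Agent.Lib.Helper7.ChevTorus

def W6a : List (ℕ × Poly6) := [(7, []), (6, []), (8, [(1, 0, 1, 0, 0, 0, 0)]), (9, []), (10, [(1, 1, 0, 0, 0, 0, 0)]), (11, []), (4, []), (5, []), (3, [(-1, 0, 0, 0, 1, 0, 0)]), (2, []), (1, [(-1, 0, 0, 1, 0, 0, 0)]), (0, []), (7, []), (6, []), (8, [(1, 0, 1, 0, 0, 0, 0)]), (9, []), (10, [(1, 1, 0, 0, 0, 0, 0)]), (11, []), (7, []), (6, []), (8, [(-1, 0, 0, 0, 0, 0, 0)]), (9, []), (10, [(-1, 0, 0, 0, 0, 0, 0)]), (11, []), (4, []), (5, []), (3, [(1, 0, 0, 0, 0, 0, 0)]), (2, []), (1, [(1, 0, 0, 0, 0,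 0, 0)]), (0, []), (7, []), (6, []), (8, [(-1, 0, 0, 0, 0, 0, 0)]), (9, []), (10, [(-1, 0, 0, 0, 0, 0, 0)]), (11, [])]
def W6b : List (ℕ × Poly6) := [(8, [(1, 0, 1, 0, 0, 0, 0)]), (3, [(-1, 0, 0, 0, 1, 0, 0)]), (8, [(1, 0, 1, 0, 0, 0, 0)]), (8, [(-1, 0, 0, 0, 0, 0, 0)]), (3, [(1, 0, 0, 0, 0, 0, 0)]), (8, [(-1, 0, 0, 0, 0, 0, 0)]), (10, [(1, 1, 0, 0, 0, 0, 0)]), (1, [(-1, 0, 0, 1, 0, 0, 0)]), (10, [(1, 1, 0, 0, 0, 0, 0)]), (10, [(-1, 0, 0, 0, 0, 0, 0)]), (1, [(1, 0, 0, 0, 0, 0, 0)]), (10, [(-1, 0, 0, 0, 0, 0, 0)])]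
def W7a : List (ℕ × Poly6) := [(7, []), (6, []), (8, []), (9, [(1, 0, 0, 0, 0, 0, 0)]), (10, []), (11, [(1, 0, 0, 0, 0, 0, 0)]), (4, []), (5, []), (3, []), (2, [(-1, 0, 0, 0, 0, 0, 0)]), (1, []), (0, [(-1, 0, 0, 0, 0, 0, 0)]), (7, [(1, 0, 0, 0, 0, 0, 0)]), (6, [(1, 0, 0, 0, 0, 0, 0)]), (8, [(2, 0, 0, 0, 0, 0, 0)]), (9, [(2, 0, 0, 0, 0, 0, 0)]), (10, [(1, 0, 0, 0, 0, 0, 0)]), (11, [(1, 0, 0, 0, 0, 0, 0)]), (4, [(1, 0, 0, 0, 0, 0, 0)]), (5, [(1, 0, 0, 0, 0, 0, 0)]), (3, [(-2, 0, 0, 0, 0, 0, 0)]), (2, [(2, 0, 0, 0, 0, 0, 0)]), (1, [(-1, 0, 0, 0, 0, 0, 0)]), (0, [(1, 0, 0, 0, 0, 0, 0)])]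
def W7b : List (ℕ × Poly6) := [(7, [(-1, 0, 0, 0, 0, 0, 0)]), (4, [(1, 0, 0, 0, 0, 0, 0)]), (7, [(-1, 0, 0, 0, 0, 0, 0)]), (7, [(-1, 0, 0, 0, 0, 0, 0)]), (4, [(1, 0, 0, 0, 0, 0, 0)]), (7, [(-1, 0, 0, 0, 0, 0, 0)]), (6, [(-1, 0, 0, 0, 0, 0, 0)]), (5, [(1, 0, 0, 0, 0, 0, 0)]), (6, [(-1, 0, 0, 0, 0, 0, 0)]), (6, [(-1, 0, 0, 0, 0, 0, 0)]), (5, [(1, 0, 0, 0, 0, 0, 0)]), (6, [(-1, 0, 0, 0, 0, 0, 0)])]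

theorem chk6 : eqChkAll 3 chevG2.rank chevG2.nroots (fnsOf chevG2) W6a W6b = true := by decide +kernel
theorem chk7 : eqChkAll 3 chevG2.rank chevG2.nroots (fnsOf chevG2) W7a W7b = true := by decide +kernel

end Cfsg.Agent.Lib.Helper7.ReeTorId
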