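import Cfsg.Agent.Lib.Helper7.ReeTorus

set_option autoImplicit false

namespace Cfsg.Agent.Lib.Helper7.ReeTorMem
open Cfsg.Lie Cfsg.Agent.Lib.Helper7.ChevEngine Cfsg.Agent.Lib.Helper7.ChevTorus
  Cfsg.Agent.Lib.Helper7.ChevSpec Cfsg.Agent.Lib.Helper7.SpecData Cfsg.Agent.Lib.Helper7.ChevGen
  Cfsg.Agent.Lib.Helper7.ChevUProd Cfsg.Agent.Lib.Helper7.TwCore Cfsg.Agent.Lib.Helper7.ReeFix
  Cfsg.Agent.Lib.Helper7.ChevRel Cfsg.Agent.Lib.Helper7.ChevBN3 Cfsg.Agent.Lib.Helper7.ReeMain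
  Cfsg.Agent.Lib.Helper7.ReeU Cfsg.Agent.Lib.Helper7.ChevBNP
  Cfsg.Agent.Lib.Helper7.ReeSg Cfsg.Agent.Lib.Helper7.ReeTorId Cfsg.Agent.Lib.Helper7.MvEngine
  Cfsg.Agent.Lib.Helper7.MvWord Cfsg.Agent.Lib.Helper7.ChevPerf Cfsg.Agent.Lib.Helper7.ReeTorus

section
variable {K : Type*} [Field K]

theorem reeU0 (m : ℕ) (u : K) :
    reeWordU (3 ^ m) 0 u 0 = [(7, 0), (6, 0), (8, u ^ (3 ^ m)), (9, 0), (10, u), (11, 0)] := by
  have z : (0 : K) ^ (3 ^ m) = 0 := zero_pow (pow_ne_zero m (by norm_num))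
  rw [ree_eq, z]
  norm_num

theorem reeV0 (m : ℕ) (u : K) :
    reeWordV (3 ^ m) 0 u 0 = [(4, 0), (5, 0), (3, -(u ^ (3 ^ m))), (2, 0), (1, -u), (0, 0)] := by
  have z : (0 : K) ^ (3 ^ m) = 0 := zero_pow (pow_ne_zero m (by norm_num))
  rw [reeV_eq, z]
  norm_num

theorem hS_mem (m : ℕ) (h3 : ((3 : ℕ) : K) = 0) (u : Kˣ) :
    hh (u ^ (3 ^ m) * u) ((u ^ (3 ^ m)) ^ 3 * u) ∈ twistedG2 K (3 ^ m) := by
  have hU : ∀ x : K, wordGL chevG2 hG2 [(7, 0), (6, 0), (8, x ^ (3 ^ m)), (9, 0), (10, x), (11, 0)] ∈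
      twistedG2 K (3 ^ m) := by
    intro x
    rw [← reeU0]
    exact gen_mem chevG2 hG2 (g2Words K (3 ^ m)) _ ⟨0, x, 0, Or.inl rfl⟩
  have hV : ∀ x : K, wordGL chevG2 hG2 [(4, 0), (5, 0), (3, -(x ^ (3 ^ m))), (2, 0), (1, -x), (0, 0)] ∈
      twistedG2 K (3 ^ m) := by
    intro x
    rw [← reeV0]
    exact gen_mem chevG2 hG2 (g2Words K (3 ^ m)) _ ⟨0, x, 0, Or.inr rfl⟩
  have n1 : (-1 : K) ^ (3 ^ m) = -1 := (Odd.pow (by decide)).neg_one_pow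
  have key := wordGL_eq_of_chk h3 (envL (u : K) ((u : K) ^ (3 ^ m)) (u : K)⁻¹ ((u : K)⁻¹ ^ (3 ^ m)) 0 0)
    W6a W6b chk6
  have e1 : W6a.map (fun x => (x.1, eval6 (envL (u : K) ((u : K) ^ (3 ^ m)) (u : K)⁻¹
      ((u : K)⁻¹ ^ (3 ^ m)) 0 0) x.2)) =
      [(7, 0), (6, 0), (8, (u : K) ^ (3 ^ m)), (9, 0), (10, (u : K)), (11, 0)] ++
      [(4, 0), (5, 0), (3, -((u : K)⁻¹ ^ (3 ^ m))), (2, 0), (1, -(u : K)⁻¹), (0, 0)] ++
      [(7, 0), (6, 0), (8, (u : K) ^ (3 ^ m)), (9, 0), (10, (u : K)), (11, 0)] ++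
      [(7, 0), (6, 0), (8, (-1 : K) ^ (3 ^ m)), (9, 0), (10, -1), (11, 0)] ++
      [(4, 0), (5, 0), (3, -((-1 : K) ^ (3 ^ m))), (2, 0), (1, -(-1 : K)), (0, 0)] ++
      [(7, 0), (6, 0), (8, (-1 : K) ^ (3 ^ m)), (9, 0), (10, -1), (11, 0)] := by
    rw [n1]
    simp [W6a, eval6, evalM6, eex, envL]
  have e2 : W6b.map (fun x => (x.1, eval6 (envL (u : K) ((u : K) ^ (3 ^ m)) (u : K)⁻¹
      ((u : K)⁻¹ ^ (3 ^ m)) 0 0) x.2)) =
      chevG2.hWord 8 ((u : K) ^ (3 ^ m)) ++ chevG2.hWord 10 (u : K) := by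
    have n8 : chevG2.neg 8 = 3 := by decide
    have n10 : chevG2.neg 10 = 1 := by decide
    unfold ChevalleyDatum.hWord ChevalleyDatum.nWord
    rw [n8, n10]
    simp [W6b, eval6, evalM6, eex, envL]
  rw [e1, e2] at key
  have hmem : wordGL chevG2 hG2 (chevG2.hWord 8 ((u : K) ^ (3 ^ m)) ++ chevG2.hWord 10 (u : K)) ∈
      twistedG2 K (3 ^ m) := by
    rw [← key, wordGL_append, wordGL_append, wordGL_append, wordGL_append, wordGL_append]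
    exact mul_mem (mul_mem (mul_mem (mul_mem (mul_mem (hU _) (hV _)) (hU _)) (hU (-1))) (hV (-1))) (hU (-1))
  have e3 : wordGL chevG2 hG2 (chevG2.hWord 8 ((u : K) ^ (3 ^ m)) ++ chevG2.hWord 10 (u : K)) =
      hh (u ^ (3 ^ m) * u) ((u ^ (3 ^ m)) ^ 3 * u) := by
    apply Units.ext
    rw [wordGL_append, Units.val_mul, hh_val, ← Units.val_pow_eq_pow_val, hW_val 8 (by norm_num),
      hW_val 10 (by norm_num), charDiag_mul, ← torusChi_mul]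
    congr 1
    apply torusChi_congr
    · show (u ^ (3 ^ m)) ^ ((fnsOf chevG2).cor 8 0) * u ^ ((fnsOf chevG2).cor 10 0) = u ^ (3 ^ m) * u
      rw [cor80, cor100, zpow_one, zpow_one]
    · show (u ^ (3 ^ m)) ^ ((fnsOf chevG2).cor 8 1) * u ^ ((fnsOf chevG2).cor 10 1) =
        (u ^ (3 ^ m)) ^ 3 * u
      rw [cor81, cor101, zpow_one]
      rfl
  rw [← e3]
  exact hmem

theorem hsq_mem {m : ℕ} (fr : Frob K m) (ν : Kˣ) :
    hh ((ν ^ 2) ^ (3 ^ m)) (ν ^ 2) ∈ twistedG2 K (3 ^ m) := by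
  have h := hS_mem m fr.h3 ((ν ^ (3 ^ m)) ^ 3 * ν⁻¹)
  have e1 : ((ν ^ (3 ^ m)) ^ 3 * ν⁻¹) ^ (3 ^ m) = ν * (ν ^ (3 ^ m))⁻¹ := by
    rw [mul_pow, inv_pow, ← pow_mul, mul_comm 3 (3 ^ m), pow_mul, tri_units fr]
  rw [e1] at h
  have e2 : ν * (ν ^ (3 ^ m))⁻¹ * ((ν ^ (3 ^ m)) ^ 3 * ν⁻¹) = (ν ^ 2) ^ (3 ^ m) := by
    apply Units.ext
    simp only [Units.val_mul, Units.val_pow_eq_pow_val, Units.val_inv_eq_inv_val]
    have hν : (ν : K) ≠ 0 := ν.ne_zero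
    have hA : (ν : K) ^ (3 ^ m) ≠ 0 := pow_ne_zero _ hν
    field_simp
    ring
  have e3 : (ν * (ν ^ (3 ^ m))⁻¹) ^ 3 * ((ν ^ (3 ^ m)) ^ 3 * ν⁻¹) = ν ^ 2 := by
    apply Units.ext
    simp only [Units.val_mul, Units.val_pow_eq_pow_val, Units.val_inv_eq_inv_val]
    have hν : (ν : K) ≠ 0 := ν.ne_zero
    have hA : (ν : K) ^ (3 ^ m) ≠ 0 := pow_ne_zero _ hν
    field_simp
  rw [e2, e3] at h
  exact h

theorem hneg_mem (m : ℕ) (h3 : ((3 : ℕ) : K) = 0) : hh (-1 : Kˣ) (-1) ∈ twistedG2 K (3 ^ m) := by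
  have z : (0 : K) ^ (3 ^ m) = 0 := zero_pow (pow_ne_zero m (by norm_num))
  have n1 : (-1 : K) ^ (3 ^ m) = -1 := (Odd.pow (by decide)).neg_one_pow
  have c1 : wordGL chevG2 hG2 ([(7, 0), (6, 0), (8, 0), (9, 1), (10, 0), (11, 1)] : List (ℕ × K)) ∈
      twistedG2 K (3 ^ m) := by
    have e : reeWordU (3 ^ m) (0 : K) 0 1 = [(7, 0), (6, 0), (8, 0), (9, 1), (10, 0), (11, 1)] := by
      rw [ree_eq, z, one_pow]
      norm_num
    rw [← e]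
    exact gen_mem chevG2 hG2 (g2Words K (3 ^ m)) _ ⟨0, 0, 1, Or.inl rfl⟩
  have c2 : wordGL chevG2 hG2 ([(4, 0), (5, 0), (3, 0), (2, -1), (1, 0), (0, -1)] : List (ℕ × K)) ∈
      twistedG2 K (3 ^ m) := by
    have e : reeWordV (3 ^ m) (0 : K) 0 1 = [(4, 0), (5, 0), (3, 0), (2, -1), (1, 0), (0, -1)] := by
      rw [reeV_eq, z, one_pow]
      norm_num
    rw [← e]
    exact gen_mem chevG2 hG2 (g2Words K (3 ^ m)) _ ⟨0, 0, 1, Or.inr rfl⟩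
  have c3 : wordGL chevG2 hG2 ([(7, 1), (6, 1), (8, 2), (9, 2), (10, 1), (11, 1)] : List (ℕ × K)) ∈
      twistedG2 K (3 ^ m) := by
    have e : reeWordU (3 ^ m) (1 : K) 1 1 = [(7, 1), (6, 1), (8, 2), (9, 2), (10, 1), (11, 1)] := by
      rw [ree_eq, one_pow]
      norm_num
    rw [← e]
    exact gen_mem chevG2 hG2 (g2Words K (3 ^ m)) _ ⟨1, 1, 1, Or.inl rfl⟩
  have c4 : wordGL chevG2 hG2 ([(4, 1), (5, 1), (3, -2), (2, 2), (1, -1), (0, 1)] : List (ℕ × K)) ∈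
      twistedG2 K (3 ^ m) := by
    have e : reeWordV (3 ^ m) (-1 : K) 1 (-1) = [(4, 1), (5, 1), (3, -2), (2, 2), (1, -1), (0, 1)] := by
      rw [reeV_eq, n1, one_pow]
      norm_num
    rw [← e]
    exact gen_mem chevG2 hG2 (g2Words K (3 ^ m)) _ ⟨-1, 1, -1, Or.inr rfl⟩
  have key := wordGL_eq_of_chk h3 (envL (0 : K) 0 0 0 0 0) W7a W7b chk7
  have e1 : W7a.map (fun x => (x.1, eval6 (envL (0 : K) 0 0 0 0 0) x.2)) =
      [(7, 0), (6, 0), (8, 0), (9, 1), (10, 0), (11, 1)] ++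
      [(4, 0), (5, 0), (3, 0), (2, -1), (1, 0), (0, -1)] ++
      [(7, 1), (6, 1), (8, 2), (9, 2), (10, 1), (11, 1)] ++
      [(4, 1), (5, 1), (3, -2), (2, 2), (1, -1), (0, 1)] := by
    simp [W7a, eval6, evalM6, eex, envL]
  have e2 : W7b.map (fun x => (x.1, eval6 (envL (0 : K) 0 0 0 0 0) x.2)) =
      chevG2.hWord 7 (((-1 : Kˣ) : K)) ++ chevG2.hWord 6 (((-1 : Kˣ) : K)) := by
    have n7 : chevG2.neg 7 = 4 := by decide
    have n6 : chevG2.neg 6 = 5 := by decide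
    unfold ChevalleyDatum.hWord ChevalleyDatum.nWord
    rw [n7, n6]
    simp [W7b, eval6, evalM6, eex, envL]
  rw [e1, e2] at key
  have e3 : hh (-1 : Kˣ) (-1) =
      wordGL chevG2 hG2 (chevG2.hWord 7 (((-1 : Kˣ) : K)) ++ chevG2.hWord 6 (((-1 : Kˣ) : K))) := by
    rw [wordGL_append]
    rfl
  rw [e3, ← key, wordGL_append, wordGL_append, wordGL_append]
  exact mul_mem (mul_mem (mul_mem c1 c2) c3) c4

theorem hfix_mem [Fintype K] {m : ℕ} (hK : Fintype.card K = 3 ^ (2 * m + 1)) (μ : Kˣ) :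
    hh (μ ^ (3 ^ m)) μ ∈ twistedG2 K (3 ^ m) := by
  have fr := frob_of_card hK
  obtain ⟨k, hk⟩ : ∃ k, 3 ^ (2 * m + 1) + 1 = 4 * k := by
    have h9 : 3 ^ (2 * m + 1) % 4 = 3 := by
      rw [pow_succ, pow_mul, Nat.mul_mod, Nat.pow_mod]
      norm_num
    exact ⟨(3 ^ (2 * m + 1) + 1) / 4, by omega⟩
  have hq : (μ : K) ^ (3 ^ (2 * m + 1)) = μ := by
    rw [← hK]
    exact FiniteField.pow_card _
  have h4 : (((μ : K) ^ k) ^ 2) ^ 2 = (μ : K) ^ 2 := by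
    rw [← pow_mul, ← pow_mul]
    have e : k * (2 * 2) = 4 * k := by ring
    rw [e, ← hk, pow_succ, hq]
    ring
  rcases eq_or_eq_neg_of_sq_eq_sq _ _ h4 with h | h
  · have e : (μ ^ k) ^ 2 = μ := Units.ext (by
      rw [Units.val_pow_eq_pow_val, Units.val_pow_eq_pow_val]
      exact h)
    have h5 := hsq_mem fr (μ ^ k)
    rw [e] at h5
    exact h5
  · have e : -1 * (μ ^ k) ^ 2 = μ := Units.ext (by
      rw [Units.val_mul, Units.val_neg, Units.val_one, Units.val_pow_eq_pow_val,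
        Units.val_pow_eq_pow_val, h]
      ring)
    have e2 : -1 * ((μ ^ k) ^ 2) ^ (3 ^ m) = μ ^ (3 ^ m) := by
      conv_rhs => rw [← e]
      rw [mul_pow, (Odd.pow (by decide) : Odd (3 ^ m)).neg_one_pow]
    have e3 : hh (μ ^ (3 ^ m)) μ = hh (-1 * ((μ ^ k) ^ 2) ^ (3 ^ m)) (-1 * (μ ^ k) ^ 2) := by
      rw [e2, e]
    rw [e3, ← hh_mul]
    exact mul_mem (hneg_mem m fr.h3) (hsq_mem fr (μ ^ k))

theorem Hfix_mem [Fintype K] {m : ℕ} (hK : Fintype.card K = 3 ^ (2 * m + 1))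
    (σ : ↥(chevG2.group K) →* ↥(chevG2.group K)) (hσ : SigOk m σ) (h : GL chevG2.Idx K)
    (hh' : h ∈ chevG2.diagonalSubgroup K) (hfix : sg σ h = h) : h ∈ twistedG2 K (3 ^ m) := by
  have fr := frob_of_card hK
  obtain ⟨c0, c1, rfl⟩ := exists_hh h hh'
  rw [hh_fix_iff fr σ hσ] at hfix
  subst hfix
  exact hfix_mem hK c1

end

end Cfsg.Agent.Lib.Helper7.ReeTorMem
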