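import Cfsg.Agent.Lib.Helper7.ReeSg
import Cfsg.Agent.Lib.Helper7.ReeTorId
import Cfsg.Agent.S1034
import Cfsg.Agent.S1032

set_option autoImplicit false

namespace Cfsg.Agent.Lib.Helper7.ReeTorus
open Cfsg.Lie Cfsg.Agent.Lib.Helper7.ChevEngine Cfsg.Agent.Lib.Helper7.ChevTorus
  Cfsg.Agent.Lib.Helper7.ChevSpec Cfsg.Agent.Lib.Helper7.SpecData Cfsg.Agent.Lib.Helper7.ChevGen
  Cfsg.Agent.Lib.Helper7.ChevUProd Cfsg.Agent.Lib.Helper7.TwCore Cfsg.Agent.Lib.Helper7.ReeFix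
  Cfsg.Agent.Lib.Helper7.ChevRel Cfsg.Agent.Lib.Helper7.ChevBN3 Cfsg.Agent.Lib.Helper7.ReeMain
  Cfsg.Agent.Lib.Helper7.ReeU Cfsg.Agent.Lib.Helper7.ChevBNP
  Cfsg.Agent.Lib.Helper7.ReeSg Cfsg.Agent.Lib.Helper7.ReeTorId Cfsg.Agent.Lib.Helper7.MvEngine
  Cfsg.Agent.Lib.Helper7.MvWord Cfsg.Agent.Lib.Helper7.ChevPerf

section
variable {K : Type*} [Field K]

def cv (c0 c1 : Kˣ) : ℕ → Kˣ := fun k => if k = 0 then c0 else c1

theorem torusChi_congr (c c' : ℕ → Kˣ) (h0 : c 0 = c' 0) (h1 : c 1 = c' 1) :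
    torusChi chevG2 c = torusChi chevG2 c' := by
  funext s
  unfold torusChi
  have e : chevG2.rank = 2 := rfl
  rw [e, Finset.prod_range_succ, Finset.prod_range_one, Finset.prod_range_succ, Finset.prod_range_one,
    h0, h1]

theorem wordGL_append (a b : List (ℕ × K)) :
    wordGL chevG2 hG2 (a ++ b) = wordGL chevG2 hG2 a * wordGL chevG2 hG2 b := by
  unfold wordGL
  rw [List.map_append, List.prod_append]

noncomputable def hA (c : Kˣ) : GL chevG2.Idx K := wordGL chevG2 hG2 (chevG2.hWord 7 (c : K))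

noncomputable def hB (c : Kˣ) : GL chevG2.Idx K := wordGL chevG2 hG2 (chevG2.hWord 6 (c : K))

noncomputable def hh (c0 c1 : Kˣ) : GL chevG2.Idx K := hA c0 * hB c1

theorem hW_val (r : ℕ) (hr : r < 12) (c : Kˣ) :
    ((wordGL chevG2 hG2 (chevG2.hWord r (c : K)) : GL chevG2.Idx K) : Matrix chevG2.Idx chevG2.Idx K) =
      chevG2.charDiag K (torusChi chevG2 (fun k => c ^ ((fnsOf chevG2).cor r k))) := by
  rw [wordGL_val]
  have h := hMat_torus (F := K) chevG2 hG2 r (by rw [nroots_eq]; exact hr) (c : K) c.ne_zero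
  rw [Units.mk0_val] at h
  exact h

theorem cor70 : (fnsOf chevG2).cor 7 0 = 1 := by decide
theorem cor71 : (fnsOf chevG2).cor 7 1 = 0 := by decide
theorem cor60 : (fnsOf chevG2).cor 6 0 = 0 := by decide
theorem cor61 : (fnsOf chevG2).cor 6 1 = 1 := by decide
theorem cor80 : (fnsOf chevG2).cor 8 0 = 1 := by decide
theorem cor81 : (fnsOf chevG2).cor 8 1 = 3 := by decide
theorem cor100 : (fnsOf chevG2).cor 10 0 = 1 := by decide
theorem cor101 : (fnsOf chevG2).cor 10 1 = 1 := by decide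

theorem hA_val (c : Kˣ) :
    ((hA c : GL chevG2.Idx K) : Matrix chevG2.Idx chevG2.Idx K) =
      chevG2.charDiag K (torusChi chevG2 (cv c 1)) := by
  unfold hA
  rw [hW_val 7 (by norm_num)]
  congr 1
  apply torusChi_congr
  · show c ^ ((fnsOf chevG2).cor 7 0) = c
    rw [cor70, zpow_one]
  · show c ^ ((fnsOf chevG2).cor 7 1) = 1
    rw [cor71, zpow_zero]

theorem hB_val (c : Kˣ) :
    ((hB c : GL chevG2.Idx K) : Matrix chevG2.Idx chevG2.Idx K) =
      chevG2.charDiag K (torusChi chevG2 (cv 1 c)) := by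
  unfold hB
  rw [hW_val 6 (by norm_num)]
  congr 1
  apply torusChi_congr
  · show c ^ ((fnsOf chevG2).cor 6 0) = 1
    rw [cor60, zpow_zero]
  · show c ^ ((fnsOf chevG2).cor 6 1) = c
    rw [cor61, zpow_one]

theorem hh_val (c0 c1 : Kˣ) :
    ((hh c0 c1 : GL chevG2.Idx K) : Matrix chevG2.Idx chevG2.Idx K) =
      chevG2.charDiag K (torusChi chevG2 (cv c0 c1)) := by
  unfold hh
  rw [Units.val_mul, hA_val, hB_val, charDiag_mul, ← torusChi_mul]
  congr 1
  apply torusChi_congr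
  · show c0 * 1 = c0
    rw [mul_one]
  · show 1 * c1 = c1
    rw [one_mul]

theorem hB_hA (c d : Kˣ) : hB d * hA c = hh c d := by
  apply Units.ext
  rw [Units.val_mul, hA_val, hB_val, hh_val, charDiag_mul, ← torusChi_mul]
  congr 1
  apply torusChi_congr
  · show 1 * c = c
    rw [one_mul]
  · show d * 1 = d
    rw [mul_one]

theorem hh_mul (c0 c1 d0 d1 : Kˣ) : hh c0 c1 * hh d0 d1 = hh (c0 * d0) (c1 * d1) := by
  apply Units.ext
  rw [Units.val_mul, hh_val, hh_val, hh_val, charDiag_mul, ← torusChi_mul]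
  congr 1

theorem hh_mem_H (c0 c1 : Kˣ) : hh c0 c1 ∈ chevG2.diagonalSubgroup K := by
  unfold hh hA hB
  apply mul_mem
  · exact Subgroup.subset_closure ⟨7, (c0 : K), by decide, c0.ne_zero, wordGL_val chevG2 hG2 _⟩
  · exact Subgroup.subset_closure ⟨6, (c1 : K), by decide, c1.ne_zero, wordGL_val chevG2 hG2 _⟩

theorem exists_hh (g : GL chevG2.Idx K) (hg : g ∈ chevG2.diagonalSubgroup K) :
    ∃ c0 c1 : Kˣ, g = hh c0 c1 := by
  obtain ⟨c, hc, hgv⟩ := Cfsg.Agent.S1034.result chevG2 hG2 g hg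
  refine ⟨Units.mk0 (c 0) (hc 0 (by decide)), Units.mk0 (c 1) (hc 1 (by decide)), ?_⟩
  apply Units.ext
  have e : (List.range chevG2.rank).flatMap (fun i => chevG2.hWord (chevG2.simple i) (c i)) =
      chevG2.hWord 7 (c 0) ++ chevG2.hWord 6 (c 1) := by
    have e2 : List.range chevG2.rank = [0, 1] := by decide
    rw [e2]
    simp only [List.flatMap_cons, List.flatMap_nil, List.append_nil]
    rfl
  rw [hgv, e]
  unfold hh hA hB
  rw [Units.val_mul, wordGL_val, wordGL_val, Cfsg.Agent.Lib.Helper7.ChevHAll.wordMat_append]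
  rfl

theorem hh_conj (c0 c1 : Kˣ) (r : ℕ) (hr : r < 12) (t : K) :
    hh c0 c1 * xGL chevG2 hG2 r t =
      xGL chevG2 hG2 r ((c0 : K) ^ (chevG2.cartan 0 r) * ((c1 : K) ^ (chevG2.cartan 1 r) * t)) *
        hh c0 c1 := by
  have hr' : r < chevG2.nroots := by rw [nroots_eq]; exact hr
  have a1 := Cfsg.Agent.S1032.result (F := K) chevG2 hG2 1 r (by decide) hr' (c1 : K) c1.ne_zero t
  have a0 := Cfsg.Agent.S1032.result (F := K) chevG2 hG2 0 r (by decide) hr' (c0 : K) c0.ne_zero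
    ((c1 : K) ^ (chevG2.cartan 1 r) * t)
  apply Units.ext
  unfold hh hA hB
  rw [Units.val_mul, Units.val_mul, Units.val_mul, Units.val_mul, wordGL_val, wordGL_val, xGL_val, xGL_val]
  show chevG2.hMat K 7 (c0 : K) * chevG2.hMat K 6 (c1 : K) * chevG2.x K r t = _ * (chevG2.hMat K 7 (c0 : K) *
    chevG2.hMat K 6 (c1 : K))
  have s0 : chevG2.simple 0 = 7 := by decide
  have s1 : chevG2.simple 1 = 6 := by decide
  rw [s1] at a1
  rw [s0] at a0
  rw [mul_assoc, a1, ← mul_assoc, a0, mul_assoc]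

theorem neg_lt12 : ∀ r < 12, chevG2.neg r < 12 := by decide

theorem neg_ne12 : ∀ r < 12, chevG2.neg r ≠ r := by decide

theorem xGL_inj (r : ℕ) (hr : r < 12) (a b : K) (h : xGL chevG2 hG2 r a = xGL chevG2 hG2 r b) : a = b := by
  by_contra hne
  have hr' : r < chevG2.nroots := by rw [nroots_eq]; exact hr
  have hn : chevG2.neg r < chevG2.nroots := by
    rw [nroots_eq]
    exact neg_lt12 r hr
  have hne2 : chevG2.neg r ≠ r := neg_ne12 r hr
  apply xGL_ne_one chevG2 hG2 r hr' hn hne2 (a - b) (sub_ne_zero.mpr hne)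
  rw [sub_eq_add_neg, ← xGL_add, xGL_neg, h, mul_inv_cancel]

theorem hh_inj (c0 c1 d0 d1 : Kˣ) (h : hh c0 c1 = hh d0 d1) : c0 = d0 ∧ c1 = d1 := by
  have c09 : chevG2.cartan 0 9 = 1 := by decide
  have c19 : chevG2.cartan 1 9 = 0 := by decide
  have c011 : chevG2.cartan 0 11 = 0 := by decide
  have c111 : chevG2.cartan 1 11 = 1 := by decide
  constructor
  · have h1 := hh_conj c0 c1 9 (by norm_num) 1
    have h2 := hh_conj d0 d1 9 (by norm_num) 1
    rw [h, h2] at h1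
    have h3 := xGL_inj 9 (by norm_num) _ _ (mul_right_cancel h1)
    rw [c09, c19] at h3
    simp only [zpow_one, zpow_zero, mul_one] at h3
    exact Units.ext h3.symm
  · have h1 := hh_conj c0 c1 11 (by norm_num) 1
    have h2 := hh_conj d0 d1 11 (by norm_num) 1
    rw [h, h2] at h1
    have h3 := xGL_inj 11 (by norm_num) _ _ (mul_right_cancel h1)
    rw [c011, c111] at h3
    simp only [zpow_one, zpow_zero, one_mul, mul_one] at h3
    exact Units.ext h3.symm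

theorem sg_hh {m : ℕ} (σ : ↥(chevG2.group K) →* ↥(chevG2.group K)) (hσ : SigOk m σ) (c0 c1 : Kˣ) :
    sg σ (hh c0 c1) = hh (c1 ^ (3 ^ m)) ((c0 ^ (3 ^ m)) ^ 3) := by
  have e : hh c0 c1 = wordGL chevG2 hG2 (chevG2.hWord 7 (c0 : K) ++ chevG2.hWord 6 (c1 : K)) := by
    rw [wordGL_append]
    rfl
  have hlt : ∀ p ∈ chevG2.hWord 7 (c0 : K) ++ chevG2.hWord 6 (c1 : K), p.1 < chevG2.nroots := by
    intro p hp
    rw [List.mem_append] at hp
    rcases hp with hp | hp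
    · exact hWord_lt 7 (by norm_num) _ p hp
    · exact hWord_lt 6 (by norm_num) _ p hp
  rw [e, sg_word σ hσ _ hlt, tau_append, tau_hWord m 7 (by norm_num), tau_hWord m 6 (by norm_num),
    wordGL_append, ← hB_hA]
  have r7 : rhoG2.getD 7 0 = 6 := rfl
  have r6 : rhoG2.getD 6 0 = 7 := rfl
  have l7 : lamG2.getD 7 0 = 3 := rfl
  have l6 : lamG2.getD 6 0 = 1 := rfl
  rw [r7, r6, l7, l6, pow_one]
  unfold hA hB
  rw [Units.val_pow_eq_pow_val, Units.val_pow_eq_pow_val, Units.val_pow_eq_pow_val]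

theorem tri_units {m : ℕ} (fr : Frob K m) (c : Kˣ) : ((c ^ (3 ^ m)) ^ (3 ^ m)) ^ 3 = c := by
  apply Units.ext
  rw [Units.val_pow_eq_pow_val, Units.val_pow_eq_pow_val, Units.val_pow_eq_pow_val]
  exact fr.tri _

theorem hh_fix_iff {m : ℕ} (fr : Frob K m) (σ : ↥(chevG2.group K) →* ↥(chevG2.group K)) (hσ : SigOk m σ)
    (c0 c1 : Kˣ) : sg σ (hh c0 c1) = hh c0 c1 ↔ c0 = c1 ^ (3 ^ m) := by
  rw [sg_hh σ hσ]
  constructor
  · intro h
    exact (hh_inj _ _ _ _ h).1.symm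
  · intro h
    rw [h, tri_units fr]

end

end Cfsg.Agent.Lib.Helper7.ReeTorus
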