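import Cfsg.Agent.Lib.Helper7.ReeMain

set_option autoImplicit false

namespace Cfsg.Agent.Lib.Helper7.ReeU
open Cfsg.Lie Cfsg.Agent.Lib.Helper7.ChevEngine Cfsg.Agent.Lib.Helper7.ChevTorus
  Cfsg.Agent.Lib.Helper7.ChevSpec Cfsg.Agent.Lib.Helper7.SpecData Cfsg.Agent.Lib.Helper7.ChevGen
  Cfsg.Agent.Lib.Helper7.ChevUProd Cfsg.Agent.Lib.Helper7.TwCore Cfsg.Agent.Lib.Helper7.ReeFix
  Cfsg.Agent.Lib.Helper7.ChevRel Cfsg.Agent.Lib.Helper7.ChevBN3 Cfsg.Agent.Lib.Helper7.ReeMain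

section
variable {K : Type*} [Field K]

def cf (a1 a2 a3 a4 a5 a6 : K) : ℕ → K := fun r => [a1, a2, a3, a4, a5, a6].getD (r - 6) 0

theorem wd_cf (a1 a2 a3 a4 a5 a6 : K) :
    wd (cf a1 a2 a3 a4 a5 a6) 6 6 = [(6, a1), (7, a2), (8, a3), (9, a4), (10, a5), (11, a6)] := rfl

theorem wd6 (c : ℕ → K) :
    wd c 6 6 = [(6, c 6), (7, c 7), (8, c 8), (9, c 9), (10, c 10), (11, c 11)] := rfl

theorem nf_exists (g : GL chevG2.Idx K) (hg : g ∈ chevG2.posUnipotent K) :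
    ∃ c : ℕ → K, g = wordGL chevG2 hG2 (wd c 6 6) := by
  have hU := Cfsg.Agent.Lib.Helper7.UDataAll.udata_of_mem chevG2 hG2
  have h := exists_wd (F := K) chevG2 hG2 hU 6 (by decide) g (by
    rw [show chevG2.nroots - 6 = chevG2.nroots / 2 from by decide, Uge_eq_U chevG2 hG2]
    exact hg)
  rw [show chevG2.nroots - 6 = 6 from by decide] at h
  exact h

theorem nf_unique (c c' : ℕ → K)
    (h : wordGL chevG2 hG2 (wd c 6 6) = wordGL chevG2 hG2 (wd c' 6 6)) (r : ℕ) (h1 : 6 ≤ r)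
    (h2 : r < 12) : c r = c' r := by
  have hU := Cfsg.Agent.Lib.Helper7.UDataAll.udata_of_mem chevG2 hG2
  have hu := unique_wd (F := K) chevG2 hG2 hU 6 (by decide) c c'
  rw [show chevG2.nroots - 6 = 6 from by decide] at hu
  exact hu h r h1 (by rw [show chevG2.nroots = 12 from by decide]; exact h2)

theorem mem_fx_imp {m : ℕ} (fr : Frob K m) (σ : ↥(chevG2.group K) →* ↥(chevG2.group K))
    (hσ : SigOk m σ) (g : GL chevG2.Idx K)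
    (hg : g ∈ chevG2.posUnipotent K) (hfx : g ∈ Fx σ) :
    ∃ t u v : K, g = wordGL chevG2 hG2 (reeWordU (3 ^ m) t u v) := by
  obtain ⟨c, rfl⟩ := nf_exists g hg
  rw [wd6] at hfx
  have h1 := word_of_mem_Fx σ hσ _ (lt_six _ _ _ _ _ _ _ _ _ _ _ _ (by norm_num) (by norm_num)
    (by norm_num) (by norm_num) (by norm_num) (by norm_num)) hfx
  have e2 : tauW m [(6, c 6), (7, c 7), (8, c 8), (9, c 9), (10, c 10), (11, c 11)] =
      [(7, (c 6 ^ (3 ^ m)) ^ 1), (6, (c 7 ^ (3 ^ m)) ^ 3), (10, (c 8 ^ (3 ^ m)) ^ 3),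
        (11, (c 9 ^ (3 ^ m)) ^ 3), (8, (c 10 ^ (3 ^ m)) ^ 1), (9, (c 11 ^ (3 ^ m)) ^ 1)] := rfl
  rw [e2, id4 fr.h3, ← wd_cf, ← wd6 c] at h1
  have k6 := nf_unique _ _ h1 6 (by norm_num) (by norm_num)
  have k7 := nf_unique _ _ h1 7 (by norm_num) (by norm_num)
  have k8 := nf_unique _ _ h1 8 (by norm_num) (by norm_num)
  have k9 := nf_unique _ _ h1 9 (by norm_num) (by norm_num)
  change (c 7 ^ (3 ^ m)) ^ 3 = c 6 at k6
  change (c 6 ^ (3 ^ m)) ^ 1 = c 7 at k7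
  change (c 10 ^ (3 ^ m)) ^ 1 - (c 6 ^ (3 ^ m)) ^ 1 * (c 7 ^ (3 ^ m)) ^ 3 = c 8 at k8
  change (c 11 ^ (3 ^ m)) ^ 1 - ((c 6 ^ (3 ^ m)) ^ 1) ^ 2 * (c 7 ^ (3 ^ m)) ^ 3 = c 9 at k9
  have k7' : c 6 ^ (3 ^ m) = c 7 := by rw [← k7, pow_one]
  have k8' : c 8 = c 10 ^ (3 ^ m) - c 6 ^ (3 ^ m) * c 6 := by rw [← k8, pow_one, pow_one, k6]
  have k9' : c 9 = c 11 ^ (3 ^ m) - (c 6 ^ (3 ^ m)) ^ 2 * c 6 := by rw [← k9, pow_one, pow_one, k6]
  have e3 : ((c 6 ^ (3 ^ m)) ^ 3) ^ (3 ^ m) = c 6 := by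
    have : ((c 6 ^ (3 ^ m)) ^ 3) ^ (3 ^ m) = ((c 6 ^ (3 ^ m)) ^ (3 ^ m)) ^ 3 := by ring
    rw [this, fr.tri]
  have hu : (c 10 - c 6 * (c 6 ^ (3 ^ m)) ^ 3) ^ (3 ^ m) = c 8 := by
    rw [fr.sub, mul_pow, k8', e3]
  have hv : (c 11 - c 6 ^ 2 * (c 6 ^ (3 ^ m)) ^ 3) ^ (3 ^ m) = c 9 := by
    have e4 : (c 6 ^ 2) ^ (3 ^ m) = (c 6 ^ (3 ^ m)) ^ 2 := by ring
    rw [fr.sub, mul_pow, k9', e3, e4]
  refine ⟨c 6, c 10 - c 6 * (c 6 ^ (3 ^ m)) ^ 3, c 11 - c 6 ^ 2 * (c 6 ^ (3 ^ m)) ^ 3, ?_⟩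
  rw [ree_eq, id3 fr.h3, hu, hv, sub_add_cancel, sub_add_cancel, k7', wd6]

theorem mem_imp [Fintype K] {m : ℕ} (fr : Frob K m) (g : GL chevG2.Idx K)
    (hg : g ∈ chevG2.posUnipotent K ⊓ twistedG2 K (3 ^ m)) :
    ∃ t u v : K, g = wordGL chevG2 hG2 (reeWordU (3 ^ m) t u v) := by
  obtain ⟨σ, hσ⟩ := exists_sigma fr
  exact mem_fx_imp fr σ hσ g hg.1 (twisted_le_Fx fr σ hσ hg.2)

theorem ree_mem (m : ℕ) (t u v : K) :
    wordGL chevG2 hG2 (reeWordU (3 ^ m) t u v) ∈ chevG2.posUnipotent K ⊓ twistedG2 K (3 ^ m) := by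
  constructor
  · rw [ree_eq]
    apply wordGL_mem_of chevG2 hG2
    intro p hp
    simp only [List.mem_cons, List.not_mem_nil, or_false] at hp
    rcases hp with rfl | rfl | rfl | rfl | rfl | rfl
    · exact xGL_mem_U chevG2 hG2 7 (by decide) _
    · exact xGL_mem_U chevG2 hG2 6 (by decide) _
    · exact xGL_mem_U chevG2 hG2 8 (by decide) _
    · exact xGL_mem_U chevG2 hG2 9 (by decide) _
    · exact xGL_mem_U chevG2 hG2 10 (by decide) _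
    · exact xGL_mem_U chevG2 hG2 11 (by decide) _
  · exact gen_mem chevG2 hG2 (g2Words K (3 ^ m)) _ ⟨t, u, v, Or.inl rfl⟩

theorem ree_inj {m : ℕ} (fr : Frob K m) (t u v t' u' v' : K)
    (h : wordGL chevG2 hG2 (reeWordU (3 ^ m) t u v) = wordGL chevG2 hG2 (reeWordU (3 ^ m) t' u' v')) :
    t = t' ∧ u = u' ∧ v = v' := by
  rw [ree_eq, ree_eq, id3 fr.h3, id3 fr.h3, ← wd_cf, ← wd_cf] at h
  have a6 := nf_unique _ _ h 6 (by norm_num) (by norm_num)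
  have a10 := nf_unique _ _ h 10 (by norm_num) (by norm_num)
  have a11 := nf_unique _ _ h 11 (by norm_num) (by norm_num)
  change t = t' at a6
  subst a6
  change u + t * (t ^ (3 ^ m)) ^ 3 = u' + t * (t ^ (3 ^ m)) ^ 3 at a10
  change v + t ^ 2 * (t ^ (3 ^ m)) ^ 3 = v' + t ^ 2 * (t ^ (3 ^ m)) ^ 3 at a11
  exact ⟨rfl, add_right_cancel a10, add_right_cancel a11⟩

theorem ree_main [Fintype K] {m : ℕ} (hK : Fintype.card K = 3 ^ (2 * m + 1)) :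
    (∀ g : GL chevG2.Idx K, g ∈ chevG2.posUnipotent K ⊓ twistedG2 K (3 ^ m) ↔
      ∃ t u v : K, (g : Matrix chevG2.Idx chevG2.Idx K) = chevG2.wordMat K (reeWordU (3 ^ m) t u v)) ∧
    Nat.card ↥(chevG2.posUnipotent K ⊓ twistedG2 K (3 ^ m)) = (3 ^ (2 * m + 1)) ^ 3 := by
  have fr := frob_of_card hK
  constructor
  · intro g
    constructor
    · intro hg
      obtain ⟨t, u, v, rfl⟩ := mem_imp fr g hg
      exact ⟨t, u, v, wordGL_val chevG2 hG2 _⟩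
    · rintro ⟨t, u, v, h⟩
      have : g = wordGL chevG2 hG2 (reeWordU (3 ^ m) t u v) := Units.ext (by rw [h, wordGL_val])
      rw [this]
      exact ree_mem m t u v
  · let Ψ : K × K × K → ↥(chevG2.posUnipotent K ⊓ twistedG2 K (3 ^ m)) :=
      fun p => ⟨wordGL chevG2 hG2 (reeWordU (3 ^ m) p.1 p.2.1 p.2.2), ree_mem m _ _ _⟩
    have hbij : Function.Bijective Ψ := by
      constructor
      · rintro ⟨t, u, v⟩ ⟨t', u', v'⟩ h
        have h' := congrArg Subtype.val h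
        obtain ⟨rfl, rfl, rfl⟩ := ree_inj fr t u v t' u' v' h'
        rfl
      · rintro ⟨g, hg⟩
        obtain ⟨t, u, v, rfl⟩ := mem_imp fr g hg
        exact ⟨(t, u, v), rfl⟩
    rw [← Nat.card_congr (Equiv.ofBijective Ψ hbij), Nat.card_prod, Nat.card_prod,
      Nat.card_eq_fintype_card, hK]
    ring

end

end Cfsg.Agent.Lib.Helper7.ReeU
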