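import Cfsg.Agent.Lib.Helper7.ChevRel

set_option autoImplicit false
set_option maxRecDepth 1000000

namespace Cfsg.Agent.Lib.Helper7.RelSmall
open Cfsg.Lie Cfsg.Agent.Lib.Helper7.ChevEngine Cfsg.Agent.Lib.Helper7.ChevTorus Cfsg.Agent.Lib.Helper7.ChevW0
  Cfsg.Agent.Lib.Helper7.ChevRel Cfsg.Agent.Lib.Helper7.W0All

theorem rcG2_0 : relCheck chevG2 7 6 [(8, [(-1, 1, 1)]), (9, [(1, 2, 1)]), (10, [(1, 3, 1)]), (11, [(1, 3, 2)])] = true := by decide +kernel
theorem rcG2_1 : relCheck chevG2 7 8 [(9, [(-2, 1, 1)]), (10, [(-3, 2, 1)]), (11, [(3, 1, 2)])] = true := by decide +kernel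
theorem rcG2_2 : relCheck chevG2 7 9 [(10, [(3, 1, 1)])] = true := by decide +kernel
theorem rcG2_3 : relCheck chevG2 7 10 [] = true := by decide +kernel
theorem rcG2_4 : relCheck chevG2 7 11 [] = true := by decide +kernel
theorem rcG2_5 : relCheck chevG2 6 7 [(8, [(1, 1, 1)]), (9, [(1, 1, 2)]), (10, [(-1, 1, 3)]), (11, [(-2, 2, 3)])] = true := by decide +kernel
theorem rcG2_6 : relCheck chevG2 6 8 [] = true := by decide +kernel
theorem rcG2_7 : relCheck chevG2 6 9 [] = true := by decide +kernel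
theorem rcG2_8 : relCheck chevG2 6 10 [(11, [(1, 1, 1)])] = true := by decide +kernel
theorem rcG2_9 : relCheck chevG2 6 11 [] = true := by decide +kernel

def bsG2 : List (ℕ × ℕ × List ℕ) := [(7, 6, [8, 9, 10, 11]), (7, 8, [9, 10, 11]), (7, 9, [10]), (7, 10, []), (7, 11, []), (6, 7, [8, 9, 10, 11]), (6, 8, []), (6, 9, []), (6, 10, [11]), (6, 11, [])]

theorem brG2 {F : Type*} [Field F] (hD : chevG2 ∈ [chevG2, chevB2, chevD4, chevF4, chevE6, chevE7, chevE8]) :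
    ∀ bs ∈ bsG2, Rel F chevG2 hD bs.1 bs.2.1 bs.2.2 := by
  intro bs hbs
  simp only [bsG2, List.mem_cons, List.not_mem_nil, or_false] at hbs
  rcases hbs with rfl | rfl | rfl | rfl | rfl | rfl | rfl | rfl | rfl | rfl
  · exact rel_of_check chevG2 hD _ _ _ rcG2_0
  · exact rel_of_check chevG2 hD _ _ _ rcG2_1
  · exact rel_of_check chevG2 hD _ _ _ rcG2_2
  · exact rel_of_check chevG2 hD _ _ _ rcG2_3
  · exact rel_of_check chevG2 hD _ _ _ rcG2_4
  · exact rel_of_check chevG2 hD _ _ _ rcG2_5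
  · exact rel_of_check chevG2 hD _ _ _ rcG2_6
  · exact rel_of_check chevG2 hD _ _ _ rcG2_7
  · exact rel_of_check chevG2 hD _ _ _ rcG2_8
  · exact rel_of_check chevG2 hD _ _ _ rcG2_9

theorem spG2_0 : chevG2.simple 0 = 7 := by decide +kernel
theorem smG2_0 : chevG2.neg 7 = 4 := by decide +kernel
def ctG2_0p : List (ℕ × ℕ) := [(0, 0), (0, 0), (0, 0), (0, 0), (0, 0), (0, 0), (0, 0), (0, 0), (1, 0), (2, 0), (3, 0), (4, 0)]
theorem ncG2_0p : normCheck chevG2 wtG2 bsG2 7 7 ctG2_0p = true := by decide +kernel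
def ctG2_0m : List (ℕ × ℕ) := [(0, 0), (0, 0), (0, 0), (0, 0), (0, 0), (0, 0), (3, 1), (0, 0), (2, 1), (1, 1), (0, 1), (4, 1)]
theorem ncG2_0m : normCheck chevG2 wtG2 bsG2 7 4 ctG2_0m = true := by decide +kernel
theorem spG2_1 : chevG2.simple 1 = 6 := by decide +kernel
theorem smG2_1 : chevG2.neg 6 = 5 := by decide +kernel
def ctG2_1p : List (ℕ × ℕ) := [(0, 0), (0, 0), (0, 0), (0, 0), (0, 0), (0, 0), (0, 0), (5, 0), (6, 0), (7, 0), (8, 0), (9, 0)]
theorem ncG2_1p : normCheck chevG2 wtG2 bsG2 6 6 ctG2_1p = true := by decide +kernel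
def ctG2_1m : List (ℕ × ℕ) := [(0, 0), (0, 0), (0, 0), (0, 0), (0, 0), (0, 0), (0, 0), (6, 2), (5, 2), (7, 2), (9, 2), (8, 2)]
theorem ncG2_1m : normCheck chevG2 wtG2 bsG2 6 5 ctG2_1m = true := by decide +kernel

theorem normG2 {F : Type*} [Field F] (hD : chevG2 ∈ [chevG2, chevB2, chevD4, chevF4, chevE6, chevE7, chevE8])
    (i : ℕ) (hi : i < chevG2.rank) :
    (∀ r, chevG2.IsPosRoot r → r ≠ chevG2.simple i → ∀ u t : F,
      xGL chevG2 hD (chevG2.simple i) u * xGL chevG2 hD r t * xGL chevG2 hD (chevG2.simple i) (-u) ∈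
        Up F chevG2 (chevG2.simple i)) ∧
    (∀ r, chevG2.IsPosRoot r → r ≠ chevG2.simple i → ∀ u t : F,
      xGL chevG2 hD (chevG2.neg (chevG2.simple i)) u * xGL chevG2 hD r t *
        xGL chevG2 hD (chevG2.neg (chevG2.simple i)) (-u) ∈ Up F chevG2 (chevG2.simple i)) := by
  have hi' : i < 2 := hi
  interval_cases i
  · rw [spG2_0, smG2_0]
    exact ⟨norm_of_check chevG2 hD wtG2 woG2 bsG2 (brG2 hD) _ _ ctG2_0p ncG2_0p,
      norm_of_check chevG2 hD wtG2 woG2 bsG2 (brG2 hD) _ _ ctG2_0m ncG2_0m⟩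
  · rw [spG2_1, smG2_1]
    exact ⟨norm_of_check chevG2 hD wtG2 woG2 bsG2 (brG2 hD) _ _ ctG2_1p ncG2_1p,
      norm_of_check chevG2 hD wtG2 woG2 bsG2 (brG2 hD) _ _ ctG2_1m ncG2_1m⟩

theorem rcB2_0 : relCheck chevB2 5 4 [(6, [(-1, 1, 1)]), (7, [(-1, 2, 1)])] = true := by decide +kernel
theorem rcB2_1 : relCheck chevB2 5 6 [(7, [(2, 1, 1)])] = true := by decide +kernel
theorem rcB2_2 : relCheck chevB2 5 7 [] = true := by decide +kernel
theorem rcB2_3 : relCheck chevB2 4 5 [(6, [(1, 1, 1)]), (7, [(-1, 1, 2)])] = true := by decide +kernel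
theorem rcB2_4 : relCheck chevB2 4 6 [] = true := by decide +kernel
theorem rcB2_5 : relCheck chevB2 4 7 [] = true := by decide +kernel

def bsB2 : List (ℕ × ℕ × List ℕ) := [(5, 4, [6, 7]), (5, 6, [7]), (5, 7, []), (4, 5, [6, 7]), (4, 6, []), (4, 7, [])]

theorem brB2 {F : Type*} [Field F] (hD : chevB2 ∈ [chevG2, chevB2, chevD4, chevF4, chevE6, chevE7, chevE8]) :
    ∀ bs ∈ bsB2, Rel F chevB2 hD bs.1 bs.2.1 bs.2.2 := by
  intro bs hbs
  simp only [bsB2, List.mem_cons, List.not_mem_nil, or_false] at hbs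
  rcases hbs with rfl | rfl | rfl | rfl | rfl | rfl
  · exact rel_of_check chevB2 hD _ _ _ rcB2_0
  · exact rel_of_check chevB2 hD _ _ _ rcB2_1
  · exact rel_of_check chevB2 hD _ _ _ rcB2_2
  · exact rel_of_check chevB2 hD _ _ _ rcB2_3
  · exact rel_of_check chevB2 hD _ _ _ rcB2_4
  · exact rel_of_check chevB2 hD _ _ _ rcB2_5

theorem spB2_0 : chevB2.simple 0 = 5 := by decide +kernel
theorem smB2_0 : chevB2.neg 5 = 2 := by decide +kernel
def ctB2_0p : List (ℕ × ℕ) := [(0, 0), (0, 0), (0, 0), (0, 0), (0, 0), (0, 0), (1, 0), (2, 0)]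
theorem ncB2_0p : normCheck chevB2 wtB2 bsB2 5 5 ctB2_0p = true := by decide +kernel
def ctB2_0m : List (ℕ × ℕ) := [(0, 0), (0, 0), (0, 0), (0, 0), (2, 1), (0, 0), (1, 1), (0, 1)]
theorem ncB2_0m : normCheck chevB2 wtB2 bsB2 5 2 ctB2_0m = true := by decide +kernel
theorem spB2_1 : chevB2.simple 1 = 4 := by decide +kernel
theorem smB2_1 : chevB2.neg 4 = 3 := by decide +kernel
def ctB2_1p : List (ℕ × ℕ) := [(0, 0), (0, 0), (0, 0), (0, 0), (0, 0), (3, 0), (4, 0), (5, 0)]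
theorem ncB2_1p : normCheck chevB2 wtB2 bsB2 4 4 ctB2_1p = true := by decide +kernel
def ctB2_1m : List (ℕ × ℕ) := [(0, 0), (0, 0), (0, 0), (0, 0), (0, 0), (4, 2), (3, 2), (5, 2)]
theorem ncB2_1m : normCheck chevB2 wtB2 bsB2 4 3 ctB2_1m = true := by decide +kernel

theorem normB2 {F : Type*} [Field F] (hD : chevB2 ∈ [chevG2, chevB2, chevD4, chevF4, chevE6, chevE7, chevE8])
    (i : ℕ) (hi : i < chevB2.rank) :
    (∀ r, chevB2.IsPosRoot r → r ≠ chevB2.simple i → ∀ u t : F,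
      xGL chevB2 hD (chevB2.simple i) u * xGL chevB2 hD r t * xGL chevB2 hD (chevB2.simple i) (-u) ∈
        Up F chevB2 (chevB2.simple i)) ∧
    (∀ r, chevB2.IsPosRoot r → r ≠ chevB2.simple i → ∀ u t : F,
      xGL chevB2 hD (chevB2.neg (chevB2.simple i)) u * xGL chevB2 hD r t *
        xGL chevB2 hD (chevB2.neg (chevB2.simple i)) (-u) ∈ Up F chevB2 (chevB2.simple i)) := by
  have hi' : i < 2 := hi
  interval_cases i
  · rw [spB2_0, smB2_0]
    exact ⟨norm_of_check chevB2 hD wtB2 woB2 bsB2 (brB2 hD) _ _ ctB2_0p ncB2_0p,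
      norm_of_check chevB2 hD wtB2 woB2 bsB2 (brB2 hD) _ _ ctB2_0m ncB2_0m⟩
  · rw [spB2_1, smB2_1]
    exact ⟨norm_of_check chevB2 hD wtB2 woB2 bsB2 (brB2 hD) _ _ ctB2_1p ncB2_1p,
      norm_of_check chevB2 hD wtB2 woB2 bsB2 (brB2 hD) _ _ ctB2_1m ncB2_1m⟩

theorem rcD4_0 : relCheck chevD4 18 12 [] = true := by decide +kernel
theorem rcD4_1 : relCheck chevD4 18 13 [] = true := by decide +kernel
theorem rcD4_2 : relCheck chevD4 18 14 [(19, [(-1, 1, 1)])] = true := by decide +kernel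
theorem rcD4_3 : relCheck chevD4 18 19 [] = true := by decide +kernel
theorem rcD4_4 : relCheck chevD4 18 23 [] = true := by decide +kernel

def bsD4 : List (ℕ × ℕ × List ℕ) := [(18, 12, []), (18, 13, []), (18, 14, [19]), (18, 19, []), (18, 23, [])]

theorem brD4 {F : Type*} [Field F] (hD : chevD4 ∈ [chevG2, chevB2, chevD4, chevF4, chevE6, chevE7, chevE8]) :
    ∀ bs ∈ bsD4, Rel F chevD4 hD bs.1 bs.2.1 bs.2.2 := by
  intro bs hbs
  simp only [bsD4, List.mem_cons, List.not_mem_nil, or_false] at hbs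
  rcases hbs with rfl | rfl | rfl | rfl | rfl
  · exact rel_of_check chevD4 hD _ _ _ rcD4_0
  · exact rel_of_check chevD4 hD _ _ _ rcD4_1
  · exact rel_of_check chevD4 hD _ _ _ rcD4_2
  · exact rel_of_check chevD4 hD _ _ _ rcD4_3
  · exact rel_of_check chevD4 hD _ _ _ rcD4_4

theorem spD4_0 : chevD4.simple 0 = 18 := by decide +kernel
theorem smD4_0 : chevD4.neg 18 = 5 := by decide +kernel
def ctD4_0p : List (ℕ × ℕ) := [(0, 0), (0, 0), (0, 0), (0, 0), (0, 0), (0, 0), (0, 0), (0, 0), (0, 0), (0, 0), (0, 0), (0, 0), (0, 0), (1, 0), (2, 0), (2, 4), (2, 3), (2, 52), (0, 0), (3, 0), (3, 4), (3, 3), (3, 52), (4, 0)]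
theorem ncD4_0p : normCheck chevD4 wtD4 bsD4 18 18 ctD4_0p = true := by decide +kernel
def ctD4_0m : List (ℕ × ℕ) := [(0, 0), (0, 0), (0, 0), (0, 0), (0, 0), (0, 0), (0, 0), (0, 0), (0, 0), (0, 0), (0, 0), (0, 0), (0, 1), (1, 1), (3, 1), (3, 20), (3, 19), (3, 308), (0, 0), (2, 1), (2, 20), (2, 19), (2, 308), (4, 1)]
theorem ncD4_0m : normCheck chevD4 wtD4 bsD4 18 5 ctD4_0m = true := by decide +kernel
theorem spD4_1 : chevD4.simple 1 = 14 := by decide +kernel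
theorem smD4_1 : chevD4.neg 14 = 9 := by decide +kernel
def ctD4_1p : List (ℕ × ℕ) := [(0, 0), (0, 0), (0, 0), (0, 0), (0, 0), (0, 0), (0, 0), (0, 0), (0, 0), (0, 0), (0, 0), (0, 0), (2, 1057), (2, 801), (0, 0), (3, 1057), (3, 801), (4, 33), (2, 13442880292), (3, 13442880292), (0, 33), (1, 33), (2, 13345), (3, 13345)]
theorem ncD4_1p : normCheck chevD4 wtD4 bsD4 14 14 ctD4_1p = true := by decide +kernel
def ctD4_1m : List (ℕ × ℕ) := [(0, 0), (0, 0), (0, 0), (0, 0), (0, 0), (0, 0), (0, 0), (0, 0), (0, 0), (0, 0), (0, 0), (0, 0), (3, 5153), (3, 4897), (0, 0), (2, 5153), (2, 4897), (4, 289), (3, 82162357028), (2, 82162357028), (0, 289), (1, 289), (3, 78881), (2, 78881)]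
theorem ncD4_1m : normCheck chevD4 wtD4 bsD4 14 9 ctD4_1m = true := by decide +kernel
theorem spD4_2 : chevD4.simple 2 = 13 := by decide +kernel
theorem smD4_2 : chevD4.neg 13 = 10 := by decide +kernel
def ctD4_2p : List (ℕ × ℕ) := [(0, 0), (0, 0), (0, 0), (0, 0), (0, 0), (0, 0), (0, 0), (0, 0), (0, 0), (0, 0), (0, 0), (0, 0), (4, 8498), (0, 0), (2, 4330276), (2, 270642), (3, 4330276), (3, 270642), (1, 8498), (2, 54661924), (2, 3416370), (3, 54661924), (3, 3416370), (0, 8498)]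
theorem ncD4_2p : normCheck chevD4 wtD4 bsD4 13 13 ctD4_2p = true := by decide +kernel
def ctD4_2m : List (ℕ × ℕ) := [(0, 0), (0, 0), (0, 0), (0, 0), (0, 0), (0, 0), (0, 0), (0, 0), (0, 0), (0, 0), (0, 0), (0, 0), (4, 74034), (0, 0), (3, 21107492), (3, 1319218), (2, 21107492), (2, 1319218), (1, 74034), (3, 323097380), (3, 20193586), (2, 323097380), (2, 20193586), (0, 74034)]
theorem ncD4_2m : normCheck chevD4 wtD4 bsD4 13 10 ctD4_2m = true := by decide +kernel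
theorem spD4_3 : chevD4.simple 3 = 12 := by decide +kernel
theorem smD4_3 : chevD4.neg 12 = 11 := by decide +kernel
def ctD4_3p : List (ℕ × ℕ) := [(0, 0), (0, 0), (0, 0), (0, 0), (0, 0), (0, 0), (0, 0), (0, 0), (0, 0), (0, 0), (0, 0), (0, 0), (0, 0), (4, 8514), (2, 3281955), (3, 3281955), (2, 205122), (3, 205122), (0, 8514), (2, 52511251), (3, 52511251), (2, 3281953), (3, 3281953), (1, 8514)]
theorem ncD4_3p : normCheck chevD4 wtD4 bsD4 12 12 ctD4_3p = true := by decide +kernel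
def ctD4_3m : List (ℕ × ℕ) := [(0, 0), (0, 0), (0, 0), (0, 0), (0, 0), (0, 0), (0, 0), (0, 0), (0, 0), (0, 0), (0, 0), (0, 0), (0, 0), (4, 74050), (3, 20059171), (2, 20059171), (3, 1253698), (2, 1253698), (0, 74050), (3, 320946707), (2, 320946707), (3, 20059169), (2, 20059169), (1, 74050)]
theorem ncD4_3m : normCheck chevD4 wtD4 bsD4 12 11 ctD4_3m = true := by decide +kernel

theorem normD4 {F : Type*} [Field F] (hD : chevD4 ∈ [chevG2, chevB2, chevD4, chevF4, chevE6, chevE7, chevE8])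
    (i : ℕ) (hi : i < chevD4.rank) :
    (∀ r, chevD4.IsPosRoot r → r ≠ chevD4.simple i → ∀ u t : F,
      xGL chevD4 hD (chevD4.simple i) u * xGL chevD4 hD r t * xGL chevD4 hD (chevD4.simple i) (-u) ∈
        Up F chevD4 (chevD4.simple i)) ∧
    (∀ r, chevD4.IsPosRoot r → r ≠ chevD4.simple i → ∀ u t : F,
      xGL chevD4 hD (chevD4.neg (chevD4.simple i)) u * xGL chevD4 hD r t *
        xGL chevD4 hD (chevD4.neg (chevD4.simple i)) (-u) ∈ Up F chevD4 (chevD4.simple i)) := by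
  have hi' : i < 4 := hi
  interval_cases i
  · rw [spD4_0, smD4_0]
    exact ⟨norm_of_check chevD4 hD wtD4 woD4 bsD4 (brD4 hD) _ _ ctD4_0p ncD4_0p,
      norm_of_check chevD4 hD wtD4 woD4 bsD4 (brD4 hD) _ _ ctD4_0m ncD4_0m⟩
  · rw [spD4_1, smD4_1]
    exact ⟨norm_of_check chevD4 hD wtD4 woD4 bsD4 (brD4 hD) _ _ ctD4_1p ncD4_1p,
      norm_of_check chevD4 hD wtD4 woD4 bsD4 (brD4 hD) _ _ ctD4_1m ncD4_1m⟩
  · rw [spD4_2, smD4_2]
    exact ⟨norm_of_check chevD4 hD wtD4 woD4 bsD4 (brD4 hD) _ _ ctD4_2p ncD4_2p,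
      norm_of_check chevD4 hD wtD4 woD4 bsD4 (brD4 hD) _ _ ctD4_2m ncD4_2m⟩
  · rw [spD4_3, smD4_3]
    exact ⟨norm_of_check chevD4 hD wtD4 woD4 bsD4 (brD4 hD) _ _ ctD4_3p ncD4_3p,
      norm_of_check chevD4 hD wtD4 woD4 bsD4 (brD4 hD) _ _ ctD4_3m ncD4_3m⟩

theorem rcF4_0 : relCheck chevF4 33 24 [] = true := by decide +kernel
theorem rcF4_1 : relCheck chevF4 33 27 [(34, [(-1, 1, 1)])] = true := by decide +kernel
theorem rcF4_2 : relCheck chevF4 33 30 [(37, [(-1, 1, 1)]), (41, [(-1, 2, 1)])] = true := by decide +kernel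
theorem rcF4_3 : relCheck chevF4 33 34 [] = true := by decide +kernel
theorem rcF4_4 : relCheck chevF4 33 37 [(41, [(2, 1, 1)])] = true := by decide +kernel
theorem rcF4_5 : relCheck chevF4 33 41 [] = true := by decide +kernel
theorem rcF4_6 : relCheck chevF4 25 24 [(26, [(-1, 1, 1)])] = true := by decide +kernel
theorem rcF4_7 : relCheck chevF4 25 26 [] = true := by decide +kernel
theorem rcF4_8 : relCheck chevF4 25 27 [(28, [(1, 1, 1)]), (30, [(-1, 1, 2)])] = true := by decide +kernel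
theorem rcF4_9 : relCheck chevF4 25 28 [] = true := by decide +kernel
theorem rcF4_10 : relCheck chevF4 25 29 [] = true := by decide +kernel
theorem rcF4_11 : relCheck chevF4 25 30 [] = true := by decide +kernel

def bsF4 : List (ℕ × ℕ × List ℕ) := [(33, 24, []), (33, 27, [34]), (33, 30, [37, 41]), (33, 34, []), (33, 37, [41]), (33, 41, []), (25, 24, [26]), (25, 26, []), (25, 27, [28, 30]), (25, 28, []), (25, 29, []), (25, 30, [])]

theorem brF4 {F : Type*} [Field F] (hD : chevF4 ∈ [chevG2, chevB2, chevD4, chevF4, chevE6, chevE7, chevE8]) :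
    ∀ bs ∈ bsF4, Rel F chevF4 hD bs.1 bs.2.1 bs.2.2 := by
  intro bs hbs
  simp only [bsF4, List.mem_cons, List.not_mem_nil, or_false] at hbs
  rcases hbs with rfl | rfl | rfl | rfl | rfl | rfl | rfl | rfl | rfl | rfl | rfl | rfl
  · exact rel_of_check chevF4 hD _ _ _ rcF4_0
  · exact rel_of_check chevF4 hD _ _ _ rcF4_1
  · exact rel_of_check chevF4 hD _ _ _ rcF4_2
  · exact rel_of_check chevF4 hD _ _ _ rcF4_3
  · exact rel_of_check chevF4 hD _ _ _ rcF4_4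
  · exact rel_of_check chevF4 hD _ _ _ rcF4_5
  · exact rel_of_check chevF4 hD _ _ _ rcF4_6
  · exact rel_of_check chevF4 hD _ _ _ rcF4_7
  · exact rel_of_check chevF4 hD _ _ _ rcF4_8
  · exact rel_of_check chevF4 hD _ _ _ rcF4_9
  · exact rel_of_check chevF4 hD _ _ _ rcF4_10
  · exact rel_of_check chevF4 hD _ _ _ rcF4_11

theorem spF4_0 : chevF4.simple 0 = 33 := by decide +kernel
theorem smF4_0 : chevF4.neg 33 = 14 := by decide +kernel
def ctF4_0p : List (ℕ × ℕ) := [(0, 0), (0, 0), (0, 0), (0, 0), (0, 0), (0, 0), (0, 0), (0, 0), (0, 0), (0, 0), (0, 0), (0, 0), (0, 0), (0, 0), (0, 0), (0, 0), (0, 0), (0, 0), (0, 0), (0, 0), (0, 0), (0, 0), (0, 0), (0, 0), (0, 0), (0, 52), (0, 3), (1, 0), (1, 3), (1, 52), (2, 0), (2, 4), (2, 67), (0, 0), (3, 0), (3, 3), (3, 52), (4, 0), (4, 4), (4, 67), (1, 13442949426), (5, 0), (5, 4), (5, 67), (3, 13442949426), (0, 34808114), (0, 556929827), (0, 8910877236)]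
theorem ncF4_0p : normCheck chevF4 wtF4 bsF4 33 33 ctF4_0p = true := by decide +kernel
def ctF4_0m : List (ℕ × ℕ) := [(0, 0), (0, 0), (0, 0), (0, 0), (0, 0), (0, 0), (0, 0), (0, 0), (0, 0), (0, 0), (0, 0), (0, 0), (0, 0), (0, 0), (0, 0), (0, 0), (0, 0), (0, 0), (0, 0), (0, 0), (0, 0), (0, 0), (0, 0), (0, 0), (0, 1), (0, 308), (0, 19), (3, 1), (3, 19), (3, 308), (5, 1), (5, 20), (5, 323), (0, 0), (1, 1), (1, 19), (1, 308), (4, 1), (4, 20), (4, 323), (3, 82162426162), (2, 1), (2, 20), (2, 323), (1, 82162426162), (0, 303243570), (0, 4851897123), (0, 77630353972)]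
theorem ncF4_0m : normCheck chevF4 wtF4 bsF4 33 14 ctF4_0m = true := by decide +kernel
theorem spF4_1 : chevF4.simple 1 = 27 := by decide +kernel
theorem smF4_1 : chevF4.neg 27 = 20 := by decide +kernel
def ctF4_1p : List (ℕ × ℕ) := [(0, 0), (0, 0), (0, 0), (0, 0), (0, 0), (0, 0), (0, 0), (0, 0), (0, 0), (0, 0), (0, 0), (0, 0), (0, 0), (0, 0), (0, 0), (0, 0), (0, 0), (0, 0), (0, 0), (0, 0), (0, 0), (0, 0), (0, 0), (0, 0), (0, 33), (2, 33), (2, 532), (0, 0), (4, 33), (4, 532), (5, 33), (5, 532), (0, 135971), (1, 3281699), (3, 3281699), (1, 801), (1, 12820), (3, 801), (3, 12820), (1, 52511523), (3, 52511523), (0, 12820), (0, 801), (2, 17185), (4, 17185), (5, 17185), (0, 3281699), (0, 52507188)]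
theorem ncF4_1p : normCheck chevF4 wtF4 bsF4 27 27 ctF4_1p = true := by decide +kernel
def ctF4_1m : List (ℕ × ℕ) := [(0, 0), (0, 0), (0, 0), (0, 0), (0, 0), (0, 0), (0, 0), (0, 0), (0, 0), (0, 0), (0, 0), (0, 0), (0, 0), (0, 0), (0, 0), (0, 0), (0, 0), (0, 0), (0, 0), (0, 0), (0, 0), (0, 0), (0, 0), (0, 0), (0, 289), (5, 289), (5, 4628), (0, 0), (4, 289), (4, 4628), (2, 289), (2, 4628), (0, 1184547), (3, 20058915), (1, 20058915), (3, 4897), (3, 78356), (1, 4897), (1, 78356), (3, 320946979), (1, 320946979), (0, 78356), (0, 4897), (5, 82721), (4, 82721), (2, 82721), (0, 20058915), (0, 320942644)]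
theorem ncF4_1m : normCheck chevF4 wtF4 bsF4 27 20 ctF4_1m = true := by decide +kernel
theorem spF4_2 : chevF4.simple 2 = 25 := by decide +kernel
theorem smF4_2 : chevF4.neg 25 = 22 := by decide +kernel
def ctF4_2p : List (ℕ × ℕ) := [(0, 0), (0, 0), (0, 0), (0, 0), (0, 0), (0, 0), (0, 0), (0, 0), (0, 0), (0, 0), (0, 0), (0, 0), (0, 0), (0, 0), (0, 0), (0, 0), (0, 0), (0, 0), (0, 0), (0, 0), (0, 0), (0, 0), (0, 0), (0, 0), (6, 0), (0, 0), (7, 0), (8, 0), (9, 0), (10, 0), (11, 0), (6, 562), (7, 562), (10, 1323572), (8, 1), (9, 1), (10, 1), (10, 4884542004), (8, 1323572), (9, 1323572), (10, 4658), (11, 1), (6, 8993), (7, 8993), (10, 74529), (6, 34808114), (7, 34808114), (11, 1323572)]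
theorem ncF4_2p : normCheck chevF4 wtF4 bsF4 25 25 ctF4_2p = true := by decide +kernel
def ctF4_2m : List (ℕ × ℕ) := [(0, 0), (0, 0), (0, 0), (0, 0), (0, 0), (0, 0), (0, 0), (0, 0), (0, 0), (0, 0), (0, 0), (0, 0), (0, 0), (0, 0), (0, 0), (0, 0), (0, 0), (0, 0), (0, 0), (0, 0), (0, 0), (0, 0), (0, 0), (0, 0), (7, 3), (0, 0), (6, 3), (9, 3), (8, 3), (10, 3), (11, 3), (7, 8995), (6, 8995), (10, 20197940), (9, 19), (8, 19), (10, 19), (10, 78151692852), (9, 20197940), (8, 20197940), (10, 74531), (11, 19), (7, 143891), (6, 143891), (10, 1192467), (7, 556929827), (6, 556929827), (11, 20197940)]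
theorem ncF4_2m : normCheck chevF4 wtF4 bsF4 25 22 ctF4_2m = true := by decide +kernel
theorem spF4_3 : chevF4.simple 3 = 24 := by decide +kernel
theorem smF4_3 : chevF4.neg 24 = 23 := by decide +kernel
def ctF4_3p : List (ℕ × ℕ) := [(0, 0), (0, 0), (0, 0), (0, 0), (0, 0), (0, 0), (0, 0), (0, 0), (0, 0), (0, 0), (0, 0), (0, 0), (0, 0), (0, 0), (0, 0), (0, 0), (0, 0), (0, 0), (0, 0), (0, 0), (0, 0), (0, 0), (0, 0), (0, 0), (0, 0), (6, 2303026), (7, 2303026), (10, 67), (8, 67), (9, 67), (6, 143939), (7, 143939), (11, 67), (10, 5170), (10, 323), (8, 323), (9, 323), (8, 5170), (9, 5170), (10, 19080242), (10, 1192515), (6, 2302275), (7, 2302275), (11, 323), (10, 19079491), (11, 5170), (6, 8910877251), (7, 8910877251)]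
theorem ncF4_3p : normCheck chevF4 wtF4 bsF4 24 24 ctF4_3p = true := by decide +kernel
def ctF4_3m : List (ℕ × ℕ) := [(0, 0), (0, 0), (0, 0), (0, 0), (0, 0), (0, 0), (0, 0), (0, 0), (0, 0), (0, 0), (0, 0), (0, 0), (0, 0), (0, 0), (0, 0), (0, 0), (0, 0), (0, 0), (0, 0), (0, 0), (0, 0), (0, 0), (0, 0), (0, 0), (0, 0), (7, 36844594), (6, 36844594), (10, 835), (9, 835), (8, 835), (7, 2302787), (6, 2302787), (11, 835), (10, 78898), (10, 4931), (9, 4931), (8, 4931), (9, 78898), (8, 78898), (10, 305280050), (10, 19080003), (7, 36836163), (6, 36836163), (11, 4931), (10, 305271619), (11, 78898), (7, 142574035779), (6, 142574035779)]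
theorem ncF4_3m : normCheck chevF4 wtF4 bsF4 24 23 ctF4_3m = true := by decide +kernel

theorem normF4 {F : Type*} [Field F] (hD : chevF4 ∈ [chevG2, chevB2, chevD4, chevF4, chevE6, chevE7, chevE8])
    (i : ℕ) (hi : i < chevF4.rank) :
    (∀ r, chevF4.IsPosRoot r → r ≠ chevF4.simple i → ∀ u t : F,
      xGL chevF4 hD (chevF4.simple i) u * xGL chevF4 hD r t * xGL chevF4 hD (chevF4.simple i) (-u) ∈
        Up F chevF4 (chevF4.simple i)) ∧
    (∀ r, chevF4.IsPosRoot r → r ≠ chevF4.simple i → ∀ u t : F,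
      xGL chevF4 hD (chevF4.neg (chevF4.simple i)) u * xGL chevF4 hD r t *
        xGL chevF4 hD (chevF4.neg (chevF4.simple i)) (-u) ∈ Up F chevF4 (chevF4.simple i)) := by
  have hi' : i < 4 := hi
  interval_cases i
  · rw [spF4_0, smF4_0]
    exact ⟨norm_of_check chevF4 hD wtF4 woF4 bsF4 (brF4 hD) _ _ ctF4_0p ncF4_0p,
      norm_of_check chevF4 hD wtF4 woF4 bsF4 (brF4 hD) _ _ ctF4_0m ncF4_0m⟩
  · rw [spF4_1, smF4_1]
    exact ⟨norm_of_check chevF4 hD wtF4 woF4 bsF4 (brF4 hD) _ _ ctF4_1p ncF4_1p,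
      norm_of_check chevF4 hD wtF4 woF4 bsF4 (brF4 hD) _ _ ctF4_1m ncF4_1m⟩
  · rw [spF4_2, smF4_2]
    exact ⟨norm_of_check chevF4 hD wtF4 woF4 bsF4 (brF4 hD) _ _ ctF4_2p ncF4_2p,
      norm_of_check chevF4 hD wtF4 woF4 bsF4 (brF4 hD) _ _ ctF4_2m ncF4_2m⟩
  · rw [spF4_3, smF4_3]
    exact ⟨norm_of_check chevF4 hD wtF4 woF4 bsF4 (brF4 hD) _ _ ctF4_3p ncF4_3p,
      norm_of_check chevF4 hD wtF4 woF4 bsF4 (brF4 hD) _ _ ctF4_3m ncF4_3m⟩

end Cfsg.Agent.Lib.Helper7.RelSmall
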