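import Cfsg.Agent.Lib.Helper7.MvEngine

set_option autoImplicit false

namespace Cfsg.Agent.Lib.Helper7.SL2Phi
open Cfsg.Lie Cfsg.Agent.Lib.Helper7.ChevEngine Cfsg.Agent.Lib.Helper7.MvEngine

abbrev Term : Type := ℤ × ℕ × ℕ × ℕ × ℕ

def symTab : List (List (List (List Term))) :=
  [[[[(1, 0, 0, 0, 0)]]],
   [[[(1, 1, 0, 0, 0)], [(1, 0, 1, 0, 0)]],
    [[(1, 0, 0, 1, 0)], [(1, 0, 0, 0, 1)]]],
   [[[(1, 2, 0, 0, 0)], [(2, 1, 1, 0, 0)], [(1, 0, 2, 0, 0)]],
    [[(1, 1, 0, 1, 0)], [(1, 1, 0, 0, 1), (1, 0, 1, 1, 0)], [(1, 0, 1, 0, 1)]],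
    [[(1, 0, 0, 2, 0)], [(2, 0, 0, 1, 1)], [(1, 0, 0, 0, 2)]]],
   [[[(1, 3, 0, 0, 0)], [(3, 2, 1, 0, 0)], [(3, 1, 2, 0, 0)], [(1, 0, 3, 0, 0)]],
    [[(1, 2, 0, 1, 0)], [(1, 2, 0, 0, 1), (2, 1, 1, 1, 0)], [(2, 1, 1, 0, 1), (1, 0, 2, 1, 0)], [(1, 0, 2, 0, 1)]],
    [[(1, 1, 0, 2, 0)], [(2, 1, 0, 1, 1), (1, 0, 1, 2, 0)], [(1, 1, 0, 0, 2), (2, 0, 1, 1, 1)], [(1, 0, 1, 0, 2)]],
    [[(1, 0, 0, 3, 0)], [(3, 0, 0, 2, 1)], [(3, 0, 0, 1, 2)], [(1, 0, 0, 0, 3)]]]]
def symT (m k i : ℕ) : List Term := ((symTab.getD m []).getD k []).getD i []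

def sgnT (c : ℤ) (T : List Term) : List Term := if 0 < c then T else T.map fun x => (-x.1, x.2)

def tmpl (l n : ℕ) (A : Fns) (r k : ℕ) : List (ℕ × List Term) :=
  if l + n ≤ k then []
  else if k < l then
    (k, [(1, 1, 0, 0, 1), (-1, 0, 1, 1, 0)]) :: (l + r, [(-(A.cart k r), 1, 1, 0, 0)]) ::
      (l + A.neg r, [(A.cart k r, 0, 0, 1, 1)]) ::
      (List.range l).map fun j => (j, [(A.cart k r * A.cor r j, 0, 1, 1, 0)])
  else if k - l = r then
    (l + r, [(1, 2, 0, 0, 0)]) :: (l + A.neg r, [(-1, 0, 0, 2, 0)]) ::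
      (List.range l).map fun j => (j, [(-(A.cor r j), 1, 0, 1, 0)])
  else if k - l = A.neg r then
    (l + r, [(-1, 0, 2, 0, 0)]) :: (l + A.neg r, [(1, 0, 0, 0, 2)]) ::
      (List.range l).map fun j => (j, [(A.cor r j, 0, 1, 0, 1)])
  else
    (k, symT ((A.ch (A.neg r) (k - l)).length + (A.ch r (k - l)).length) (A.ch r (k - l)).length
        (A.ch r (k - l)).length) ::
      ((A.ch r (k - l)).map fun x => (l + x.1, sgnT x.2.1
        (symT ((A.ch (A.neg r) (k - l)).length + (A.ch r (k - l)).length) ((A.ch r (k - l)).length - x.2.2)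
          (A.ch r (k - l)).length))) ++
      ((A.ch (A.neg r) (k - l)).map fun x => (l + x.1, sgnT x.2.1
        (symT ((A.ch (A.neg r) (k - l)).length + (A.ch r (k - l)).length) ((A.ch r (k - l)).length + x.2.2)
          (A.ch r (k - l)).length)))

def tpoly (pa pb pc pd : Poly6) (T : List Term) : Poly6 :=
  T.flatMap fun x => smul6 x.1 (pmul6 (ppow6 pa x.2.1) (pmul6 (ppow6 pb x.2.2.1)
    (pmul6 (ppow6 pc x.2.2.2.1) (ppow6 pd x.2.2.2.2))))

def phiCol (l n : ℕ) (A : Fns) (r : ℕ) (pa pb pc pd : Poly6) (k : ℕ) : SVec6 :=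
  (tmpl l n A r k).map fun x => (x.1, tpoly pa pb pc pd x.2)

def phiVec (l n : ℕ) (A : Fns) (r : ℕ) (pa pb pc pd : Poly6) (v : SVec6) : SVec6 :=
  v.flatMap fun x => (phiCol l n A r pa pb pc pd x.1).map fun y => (y.1, pmul6 x.2 y.2)

def LA : Poly6 := [(1, 1, 0, 0, 0, 0, 0)]
def LB : Poly6 := [(1, 0, 1, 0, 0, 0, 0)]
def LC : Poly6 := [(1, 0, 0, 1, 0, 0, 0)]
def LD : Poly6 := [(1, 0, 0, 0, 1, 0, 0)]
def LBu : Poly6 := [(1, 1, 0, 0, 0, 1, 0), (1, 0, 1, 0, 0, 0, 0)]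
def LDu : Poly6 := [(1, 0, 0, 1, 0, 1, 0), (1, 0, 0, 0, 1, 0, 0)]
def LAl : Poly6 := [(1, 1, 0, 0, 0, 0, 0), (1, 0, 1, 0, 0, 1, 0)]
def LCl : Poly6 := [(1, 0, 0, 1, 0, 0, 0), (1, 0, 0, 0, 1, 1, 0)]

def chkU (l n : ℕ) (A : Fns) (r k : ℕ) : Bool :=
  (normV6 (phiCol l n A r LA LBu LC LDu k ++
    negV6 (phiVec l n A r LA LB LC LD (embV (applyX l n A false r [(1, 1, 0)] k))))).isEmpty

def chkL (l n : ℕ) (A : Fns) (r k : ℕ) : Bool :=
  (normV6 (phiCol l n A r LAl LB LCl LD k ++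
    negV6 (phiVec l n A r LA LB LC LD (embV (applyX l n A false (A.neg r) [(1, 1, 0)] k))))).isEmpty

def chkI (l n : ℕ) (A : Fns) (r k : ℕ) : Bool :=
  (normV6 (phiCol l n A r one6 [] [] one6 k ++ negV6 [(k, one6)])).isEmpty

def chkRoot (l n : ℕ) (A : Fns) (r : ℕ) : Bool :=
  (List.range (l + n)).all fun k => chkU l n A r k && chkL l n A r k && chkI l n A r k

def chkRange (l n : ℕ) (A : Fns) (lo len : ℕ) : Bool :=
  (List.range' lo len).all fun r => chkRoot l n A r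

theorem chk_of_range (l n : ℕ) (A : Fns) (lo len : ℕ) (h : chkRange l n A lo len = true)
    (r : ℕ) (h1 : lo ≤ r) (h2 : r < lo + len) (k : ℕ) (hk : k < l + n) :
    chkU l n A r k = true ∧ chkL l n A r k = true ∧ chkI l n A r k = true := by
  unfold chkRange at h
  rw [List.all_eq_true] at h
  have h3 := h r (List.mem_range'_1.mpr ⟨h1, h2⟩)
  unfold chkRoot at h3
  rw [List.all_eq_true] at h3
  have h4 := h3 k (List.mem_range.mpr hk)
  simp only [Bool.and_eq_true] at h4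
  exact ⟨h4.1.1, h4.1.2, h4.2⟩

section Sem
variable {F : Type*} [Field F]

def tval (a b c d : F) (T : List Term) : F :=
  (T.map fun x => (x.1 : F) * a ^ x.2.1 * b ^ x.2.2.1 * c ^ x.2.2.2.1 * d ^ x.2.2.2.2).sum

def PhiM (l n : ℕ) (A : Fns) (F : Type*) [Field F] (r : ℕ) (a b c d : F) : Matrix (Ix l n) (Ix l n) F :=
  Matrix.of fun row col =>
    ((tmpl l n A r (code col)).map fun x => if code row = x.1 then tval a b c d x.2 else 0).sum

theorem eval6_tpoly (ρ : ℕ → F) (pa pb pc pd : Poly6) (T : List Term) :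
    eval6 ρ (tpoly pa pb pc pd T) = tval (eval6 ρ pa) (eval6 ρ pb) (eval6 ρ pc) (eval6 ρ pd) T := by
  induction T with
  | nil => rfl
  | cons x T ih =>
    have e1 : tpoly pa pb pc pd (x :: T) = smul6 x.1 (pmul6 (ppow6 pa x.2.1) (pmul6 (ppow6 pb x.2.2.1)
        (pmul6 (ppow6 pc x.2.2.2.1) (ppow6 pd x.2.2.2.2)))) ++ tpoly pa pb pc pd T := by
      simp [tpoly]
    rw [e1, eval6_append, ih, eval6_smul, eval6_pmul, eval6_pmul, eval6_pmul, eval6_ppow, eval6_ppow,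
      eval6_ppow, eval6_ppow]
    unfold tval
    rw [List.map_cons, List.sum_cons]
    congr 1
    ring

theorem phiCol_sound (l n : ℕ) (A : Fns) (r : ℕ) (ρ : ℕ → F) (pa pb pc pd : Poly6) (k : ℕ) :
    (PhiM l n A F r (eval6 ρ pa) (eval6 ρ pb) (eval6 ρ pc) (eval6 ρ pd)).mulVec (bvec l n F k) =
      evalV6 l n ρ (phiCol l n A r pa pb pc pd k) := by
  by_cases hk : l + n ≤ k
  · rw [mulVec_bvec_out _ _ hk]
    unfold phiCol tmpl
    rw [if_pos hk]
    rfl
  · obtain ⟨j, rfl⟩ : ∃ j : Ix l n, code j = k := by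
      by_cases hkl : k < l
      · exact ⟨Sum.inl ⟨k, hkl⟩, rfl⟩
      · exact ⟨Sum.inr ⟨k - l, by omega⟩, by simp only [code, Sum.elim_inr]; omega⟩
    rw [mulVec_bvec_code]
    funext row
    unfold PhiM evalV6 phiCol
    rw [Matrix.of_apply, List.map_map]
    congr 1
    apply List.map_congr_left
    intro x _
    simp only [Function.comp_apply, eval6_tpoly]

theorem phiVec_sound (l n : ℕ) (A : Fns) (r : ℕ) (ρ : ℕ → F) (pa pb pc pd : Poly6) (v : SVec6) :
    (PhiM l n A F r (eval6 ρ pa) (eval6 ρ pb) (eval6 ρ pc) (eval6 ρ pd)).mulVec (evalV6 l n ρ v) =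
      evalV6 l n ρ (phiVec l n A r pa pb pc pd v) := by
  induction v with
  | nil =>
    rw [evalV6_nil, Matrix.mulVec_zero]
    rfl
  | cons x v ih =>
    have e1 : phiVec l n A r pa pb pc pd (x :: v) =
        ((phiCol l n A r pa pb pc pd x.1).map fun y => (y.1, pmul6 x.2 y.2)) ++
          phiVec l n A r pa pb pc pd v := by
      simp [phiVec]
    rw [e1, evalV6_append, evalV6_cons, Matrix.mulVec_add, Matrix.mulVec_smul, ih, phiCol_sound,
      evalV6_map_pmul]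

def env (a b c d t : F) : ℕ → F := fun i => [a, b, c, d, t].getD i 0

theorem env_LA (a b c d t : F) : eval6 (env a b c d t) LA = a := by
  simp [LA, evalM6, eex, env]

theorem env_LB (a b c d t : F) : eval6 (env a b c d t) LB = b := by
  simp [LB, evalM6, eex, env]

theorem env_LC (a b c d t : F) : eval6 (env a b c d t) LC = c := by
  simp [LC, evalM6, eex, env]

theorem env_LD (a b c d t : F) : eval6 (env a b c d t) LD = d := by
  simp [LD, evalM6, eex, env]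

theorem env_LBu (a b c d t : F) : eval6 (env a b c d t) LBu = a * t + b := by
  simp [LBu, evalM6, eex, env]

theorem env_LDu (a b c d t : F) : eval6 (env a b c d t) LDu = c * t + d := by
  simp [LDu, evalM6, eex, env]

theorem env_LAl (a b c d t : F) : eval6 (env a b c d t) LAl = a + b * t := by
  simp [LAl, evalM6, eex, env]

theorem env_LCl (a b c d t : F) : eval6 (env a b c d t) LCl = c + d * t := by
  simp [LCl, evalM6, eex, env]

theorem xM_col (l n : ℕ) (A : Fns) (r k : ℕ) (a b c d t : F) :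
    (xM l n A F r t).mulVec (bvec l n F k) =
      evalV6 l n (env a b c d t) (embV (applyX l n A false r [(1, 1, 0)] k)) := by
  rw [evalV6_embV]
  have h := applyX_sound l n A false t (0 : F) (by simp) r [(1, 1, 0)] k
  have e : eval t (0 : F) [(1, 1, 0)] = t := by simp [evalM]
  rw [e] at h
  rw [h]
  rfl

theorem phi_u (l n : ℕ) (A : Fns) (r : ℕ) (h : ∀ k < l + n, chkU l n A r k = true) (a b c d t : F) :
    PhiM l n A F r a (a * t + b) c (c * t + d) = PhiM l n A F r a b c d * xM l n A F r t := by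
  apply matrix_ext_bvec
  intro k hk
  rw [← Matrix.mulVec_mulVec, xM_col l n A r k a b c d t]
  have h1 := phiCol_sound l n A r (env a b c d t) LA LBu LC LDu k
  have h2 := phiVec_sound l n A r (env a b c d t) LA LB LC LD
    (embV (applyX l n A false r [(1, 1, 0)] k))
  rw [env_LA, env_LBu, env_LC, env_LDu] at h1
  rw [env_LA, env_LB, env_LC, env_LD] at h2
  rw [h1, h2]
  exact evalV6_eq_of_normV_nil _ _ _ _ _ (h k hk)

theorem phi_l (l n : ℕ) (A : Fns) (r : ℕ) (h : ∀ k < l + n, chkL l n A r k = true) (a b c d t : F) :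
    PhiM l n A F r (a + b * t) b (c + d * t) d = PhiM l n A F r a b c d * xM l n A F (A.neg r) t := by
  apply matrix_ext_bvec
  intro k hk
  rw [← Matrix.mulVec_mulVec, xM_col l n A (A.neg r) k a b c d t]
  have h1 := phiCol_sound l n A r (env a b c d t) LAl LB LCl LD k
  have h2 := phiVec_sound l n A r (env a b c d t) LA LB LC LD
    (embV (applyX l n A false (A.neg r) [(1, 1, 0)] k))
  rw [env_LAl, env_LB, env_LCl, env_LD] at h1
  rw [env_LA, env_LB, env_LC, env_LD] at h2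
  rw [h1, h2]
  exact evalV6_eq_of_normV_nil _ _ _ _ _ (h k hk)

theorem phi_one (l n : ℕ) (A : Fns) (r : ℕ) (h : ∀ k < l + n, chkI l n A r k = true) :
    PhiM l n A F r 1 0 0 1 = 1 := by
  apply matrix_ext_bvec
  intro k hk
  have h1 := phiCol_sound l n A r (fun _ => (0 : F)) one6 [] [] one6 k
  rw [eval6_one, eval6_nil] at h1
  rw [h1, Matrix.one_mulVec]
  have h2 := evalV6_eq_of_normV_nil l n (fun _ => (0 : F)) _ _ (h k hk)
  rw [h2, evalV6_cons, evalV6_nil, eval6_one, one_smul, add_zero]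

end Sem

end Cfsg.Agent.Lib.Helper7.SL2Phi
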