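import Cfsg.Agent.Lib.Helper7.StCover
import Cfsg.Prelude.Def_ChevG2
import Cfsg.Prelude.Def_ChevB2
import Cfsg.Prelude.Def_ChevD4
import Cfsg.Prelude.Def_ChevF4
import Cfsg.Prelude.Def_ChevE6
import Cfsg.Prelude.Def_ChevE7
import Cfsg.Prelude.Def_ChevE8

set_option autoImplicit false
set_option maxRecDepth 1000000
set_option maxHeartbeats 4000000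

namespace Cfsg.Agent.Lib.Helper7.StCoverAll
open Cfsg.Lie Cfsg.Agent.Lib.Helper7.StCover

def psG2 : List St := [⟨false, 0, 6, 1, 1, 1, 1, 0, 0⟩, ⟨false, 0, 10, 5, -1, 1, 1, 0, 0⟩, ⟨false, 1, 5, 0, 1, 1, 1, 0, 0⟩, ⟨false, 1, 11, 6, -1, 1, 1, 0, 0⟩, ⟨false, 5, 11, 10, 1, 1, 1, 0, 0⟩, ⟨false, 6, 10, 11, 1, 1, 1, 0, 0⟩, ⟨true, 0, 8, 4, 1, 1, 2, 2, 1⟩, ⟨false, 0, 8, 2, 1, 1, 1, 0, 0⟩, ⟨false, 1, 7, 3, -1, 1, 2, 0, 0⟩, ⟨false, 0, 9, 7, -1, 1, 2, 0, 0⟩, ⟨false, 1, 9, 8, 1, 1, 2, 0, 0⟩, ⟨false, 3, 11, 9, 1, 1, 1, 0, 0⟩]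

theorem pkG2 : chkAll chevG2 false [] psG2 = true := by decide +kernel

def psB2 : List St := [⟨true, 0, 5, 3, -1, 1, 2, 1, 1⟩, ⟨false, 0, 5, 1, 1, 1, 1, 0, 0⟩, ⟨false, 1, 7, 5, -1, 1, 1, 0, 0⟩, ⟨false, 2, 3, 0, -1, 2, 1, 0, 0⟩, ⟨false, 1, 4, 2, 1, 1, 1, 0, 0⟩, ⟨false, 0, 6, 4, 1, 1, 2, 0, 0⟩, ⟨false, 2, 7, 6, 1, 1, 1, 0, 0⟩, ⟨false, 3, 6, 7, 1, 1, 2, 0, 0⟩]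

theorem pkB2 : chkAll chevB2 false [] psB2 = true := by decide +kernel

def psD4 : List St := [⟨false, 0, 14, 1, 1, 1, 1, 0, 0⟩, ⟨false, 0, 15, 2, -1, 1, 1, 0, 0⟩, ⟨false, 0, 16, 3, -1, 1, 1, 0, 0⟩, ⟨false, 0, 17, 4, 1, 1, 1, 0, 0⟩, ⟨false, 0, 19, 6, -1, 1, 1, 0, 0⟩, ⟨false, 0, 20, 7, 1, 1, 1, 0, 0⟩, ⟨false, 0, 21, 8, 1, 1, 1, 0, 0⟩, ⟨false, 0, 22, 9, -1, 1, 1, 0, 0⟩, ⟨false, 1, 9, 0, 1, 1, 1, 0, 0⟩, ⟨false, 1, 17, 5, 1, 1, 1, 0, 0⟩, ⟨false, 1, 20, 10, -1, 1, 1, 0, 0⟩, ⟨false, 1, 21, 11, -1, 1, 1, 0, 0⟩, ⟨false, 1, 23, 14, -1, 1, 1, 0, 0⟩, ⟨false, 2, 22, 12, -1, 1, 1, 0, 0⟩, ⟨false, 2, 23, 15, 1, 1, 1, 0, 0⟩, ⟨false, 3, 22, 13, -1, 1, 1, 0, 0⟩, ⟨false, 3, 23, 16, 1, 1, 1, 0, 0⟩, ⟨false,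 4, 23, 17, -1, 1, 1, 0, 0⟩, ⟨false, 6, 22, 18, 1, 1, 1, 0, 0⟩, ⟨false, 6, 23, 19, 1, 1, 1, 0, 0⟩, ⟨false, 7, 23, 20, -1, 1, 1, 0, 0⟩, ⟨false, 8, 23, 21, -1, 1, 1, 0, 0⟩, ⟨false, 9, 23, 22, 1, 1, 1, 0, 0⟩, ⟨false, 14, 22, 23, 1, 1, 1, 0, 0⟩]

theorem pkD4 : chkAll chevD4 true [] psD4 = true := by decide +kernel

def psF4 : List St := [⟨false, 0, 24, 1, 1, 1, 1, 0, 0⟩, ⟨false, 0, 26, 2, 1, 1, 1, 0, 0⟩, ⟨false, 0, 31, 4, -1, 1, 1, 0, 0⟩, ⟨false, 0, 32, 5, 1, 1, 1, 0, 0⟩, ⟨false, 0, 42, 15, -1, 1, 1, 0, 0⟩, ⟨false, 0, 43, 16, 1, 1, 1, 0, 0⟩, ⟨false, 0, 45, 21, -1, 1, 1, 0, 0⟩, ⟨false, 0, 46, 23, -1, 1, 1, 0, 0⟩, ⟨false, 1, 23, 0, 1, 1, 1, 0, 0⟩, ⟨false, 1, 28, 3, 1, 1, 1, 0, 0⟩, ⟨false,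 0, 29, 6, 1, 1, 2, 0, 0⟩, ⟨false, 1, 35, 7, 1, 1, 1, 0, 0⟩, ⟨false, 0, 36, 17, -1, 1, 2, 0, 0⟩, ⟨false, 1, 37, 8, -1, 1, 1, 0, 0⟩, ⟨false, 0, 38, 22, 1, 1, 2, 0, 0⟩, ⟨false, 1, 47, 24, -1, 1, 1, 0, 0⟩, ⟨false, 2, 37, 9, -1, 1, 1, 0, 0⟩, ⟨false, 0, 39, 25, -1, 1, 2, 0, 0⟩, ⟨false, 2, 38, 10, 1, 1, 1, 0, 0⟩, ⟨false, 1, 39, 26, 1, 1, 2, 0, 0⟩, ⟨false, 3, 37, 11, -1, 1, 1, 0, 0⟩, ⟨false, 0, 40, 30, 1, 1, 2, 0, 0⟩, ⟨false, 3, 38, 12, 1, 1, 1, 0, 0⟩, ⟨false, 1, 40, 31, -1, 1, 2, 0, 0⟩, ⟨false, 3, 39, 13, -1, 1, 1, 0, 0⟩, ⟨false, 2, 40, 32, 1, 1, 2, 0, 0⟩, ⟨false, 3, 40, 14, -1, 1, 1, 0, 0⟩, ⟨false, 3, 41, 18, -1, 1, 1, 0, 0⟩, ⟨false, 0, 44, 41, -1, 1, 2, 0, 0⟩, ⟨false, 3, 42, 19, 1, 1, 1,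 0, 0⟩, ⟨false, 1, 44, 42, 1, 1, 2, 0, 0⟩, ⟨false, 3, 43, 20, -1, 1, 1, 0, 0⟩, ⟨false, 2, 44, 43, -1, 1, 2, 0, 0⟩, ⟨false, 3, 45, 27, -1, 1, 1, 0, 0⟩, ⟨false, 3, 46, 28, -1, 1, 1, 0, 0⟩, ⟨false, 3, 47, 29, -1, 1, 1, 0, 0⟩, ⟨false, 4, 44, 45, -1, 1, 2, 0, 0⟩, ⟨false, 5, 44, 46, 1, 1, 2, 0, 0⟩, ⟨false, 6, 44, 47, -1, 1, 2, 0, 0⟩, ⟨false, 7, 44, 33, -1, 1, 1, 0, 0⟩, ⟨false, 7, 45, 34, -1, 1, 1, 0, 0⟩, ⟨false, 7, 46, 35, -1, 1, 1, 0, 0⟩, ⟨false, 7, 47, 36, -1, 1, 1, 0, 0⟩, ⟨false, 8, 46, 37, 1, 1, 1, 0, 0⟩, ⟨false, 8, 47, 38, 1, 1, 1, 0, 0⟩, ⟨false, 9, 47, 39, -1, 1, 1, 0, 0⟩, ⟨false, 11, 47, 40, 1, 1, 1, 0, 0⟩, ⟨false, 18, 47, 44, 1, 1, 1, 0, 0⟩]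

theorem pkF4 : chkAll chevF4 true [] psF4 = true := by decide +kernel

def psE6 : List St := [⟨false, 0, 46, 1, 1, 1, 1, 0, 0⟩, ⟨false, 0, 47, 2, -1, 1, 1, 0, 0⟩, ⟨false, 0, 48, 3, 1, 1, 1, 0, 0⟩, ⟨false, 0, 49, 4, -1, 1, 1, 0, 0⟩, ⟨false, 0, 50, 5, 1, 1, 1, 0, 0⟩, ⟨false, 0, 51, 6, -1, 1, 1, 0, 0⟩, ⟨false, 0, 52, 7, 1, 1, 1, 0, 0⟩, ⟨false, 0, 53, 8, 1, 1, 1, 0, 0⟩, ⟨false, 0, 54, 9, -1, 1, 1, 0, 0⟩, ⟨false, 0, 55, 10, 1, 1, 1, 0, 0⟩, ⟨false, 0, 61, 16, -1, 1, 1, 0, 0⟩, ⟨false, 0, 62, 17, 1, 1, 1, 0, 0⟩, ⟨false, 0, 63, 18, -1, 1, 1, 0, 0⟩, ⟨false, 0, 64, 19, -1, 1, 1, 0, 0⟩, ⟨false, 0, 65, 20, 1, 1, 1, 0, 0⟩, ⟨false, 0, 66, 21, -1, 1, 1, 0, 0⟩, ⟨false, 0, 67, 22, 1, 1, 1, 0, 0⟩, ⟨false,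 0, 68, 23, -1, 1, 1, 0, 0⟩, ⟨false, 0, 69, 24, 1, 1, 1, 0, 0⟩, ⟨false, 0, 70, 25, -1, 1, 1, 0, 0⟩, ⟨false, 1, 25, 0, 1, 1, 1, 0, 0⟩, ⟨false, 1, 53, 11, 1, 1, 1, 0, 0⟩, ⟨false, 1, 54, 12, -1, 1, 1, 0, 0⟩, ⟨false, 1, 55, 13, 1, 1, 1, 0, 0⟩, ⟨false, 1, 64, 26, -1, 1, 1, 0, 0⟩, ⟨false, 1, 65, 27, 1, 1, 1, 0, 0⟩, ⟨false, 1, 66, 28, -1, 1, 1, 0, 0⟩, ⟨false, 1, 67, 30, -1, 1, 1, 0, 0⟩, ⟨false, 1, 68, 31, 1, 1, 1, 0, 0⟩, ⟨false, 1, 69, 32, -1, 1, 1, 0, 0⟩, ⟨false, 1, 71, 46, -1, 1, 1, 0, 0⟩, ⟨false, 2, 55, 14, 1, 1, 1, 0, 0⟩, ⟨false, 2, 66, 29, -1, 1, 1, 0, 0⟩, ⟨false, 2, 67, 33, 1, 1, 1, 0, 0⟩, ⟨false, 2, 68, 34, -1, 1, 1, 0, 0⟩, ⟨false, 2, 70, 39, -1, 1, 1, 0, 0⟩, ⟨false, 2, 71, 47, 1, 1,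 1, 0, 0⟩, ⟨false, 3, 67, 35, -1, 1, 1, 0, 0⟩, ⟨false, 3, 69, 37, -1, 1, 1, 0, 0⟩, ⟨false, 3, 70, 40, 1, 1, 1, 0, 0⟩, ⟨false, 3, 71, 48, -1, 1, 1, 0, 0⟩, ⟨false, 4, 68, 36, -1, 1, 1, 0, 0⟩, ⟨false, 4, 69, 38, 1, 1, 1, 0, 0⟩, ⟨false, 4, 70, 41, -1, 1, 1, 0, 0⟩, ⟨false, 4, 71, 49, 1, 1, 1, 0, 0⟩, ⟨false, 5, 55, 15, 1, 1, 1, 0, 0⟩, ⟨false, 5, 69, 42, -1, 1, 1, 0, 0⟩, ⟨false, 5, 70, 43, -1, 1, 1, 0, 0⟩, ⟨false, 5, 71, 50, -1, 1, 1, 0, 0⟩, ⟨false, 6, 70, 44, 1, 1, 1, 0, 0⟩, ⟨false, 6, 71, 51, 1, 1, 1, 0, 0⟩, ⟨false, 7, 70, 45, -1, 1, 1, 0, 0⟩, ⟨false, 7, 71, 52, -1, 1, 1, 0, 0⟩, ⟨false, 8, 71, 53, -1, 1, 1, 0, 0⟩, ⟨false, 9, 71, 54, 1, 1, 1, 0, 0⟩, ⟨false, 10, 71, 55, -1, 1, 1, 0, 0⟩, ⟨false,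 16, 66, 56, 1, 1, 1, 0, 0⟩, ⟨false, 16, 69, 57, 1, 1, 1, 0, 0⟩, ⟨false, 16, 70, 58, 1, 1, 1, 0, 0⟩, ⟨false, 16, 71, 61, 1, 1, 1, 0, 0⟩, ⟨false, 17, 70, 59, -1, 1, 1, 0, 0⟩, ⟨false, 17, 71, 62, -1, 1, 1, 0, 0⟩, ⟨false, 18, 70, 60, 1, 1, 1, 0, 0⟩, ⟨false, 18, 71, 63, 1, 1, 1, 0, 0⟩, ⟨false, 19, 71, 64, 1, 1, 1, 0, 0⟩, ⟨false, 20, 71, 65, -1, 1, 1, 0, 0⟩, ⟨false, 21, 71, 66, 1, 1, 1, 0, 0⟩, ⟨false, 22, 71, 67, -1, 1, 1, 0, 0⟩, ⟨false, 23, 71, 68, 1, 1, 1, 0, 0⟩, ⟨false, 24, 71, 69, -1, 1, 1, 0, 0⟩, ⟨false, 25, 71, 70, 1, 1, 1, 0, 0⟩, ⟨false, 46, 70, 71, 1, 1, 1, 0, 0⟩]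

theorem pkE6 : chkAll chevE6 true [] psE6 = true := by decide +kernel

def psE7 : List St := [⟨false, 0, 93, 1, 1, 1, 1, 0, 0⟩, ⟨false, 0, 94, 2, -1, 1, 1, 0, 0⟩, ⟨false, 0, 95, 3, 1, 1, 1, 0, 0⟩, ⟨false, 0, 96, 4, -1, 1, 1, 0, 0⟩, ⟨false, 0, 97, 5, 1, 1, 1, 0, 0⟩, ⟨false, 0, 98, 6, -1, 1, 1, 0, 0⟩, ⟨false, 0, 99, 7, -1, 1, 1, 0, 0⟩, ⟨false, 0, 100, 8, 1, 1, 1, 0, 0⟩, ⟨false, 0, 101, 9, -1, 1, 1, 0, 0⟩, ⟨false, 0, 102, 10, 1, 1, 1, 0, 0⟩, ⟨false, 0, 103, 11, -1, 1, 1, 0, 0⟩, ⟨false, 0, 104, 12, 1, 1, 1, 0, 0⟩, ⟨false, 0, 105, 13, -1, 1, 1, 0, 0⟩, ⟨false, 0, 106, 14, -1, 1, 1, 0, 0⟩, ⟨false, 0, 107, 15, 1, 1, 1, 0, 0⟩, ⟨false, 0, 108, 16, -1, 1, 1, 0, 0⟩, ⟨false, 0, 109, 17, 1, 1, 1,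 0, 0⟩, ⟨false, 0, 110, 18, -1, 1, 1, 0, 0⟩, ⟨false, 0, 111, 19, 1, 1, 1, 0, 0⟩, ⟨false, 0, 112, 20, 1, 1, 1, 0, 0⟩, ⟨false, 0, 113, 21, -1, 1, 1, 0, 0⟩, ⟨false, 0, 114, 22, 1, 1, 1, 0, 0⟩, ⟨false, 0, 115, 23, -1, 1, 1, 0, 0⟩, ⟨false, 0, 116, 24, 1, 1, 1, 0, 0⟩, ⟨false, 0, 117, 25, -1, 1, 1, 0, 0⟩, ⟨false, 0, 118, 26, 1, 1, 1, 0, 0⟩, ⟨false, 0, 119, 27, 1, 1, 1, 0, 0⟩, ⟨false, 0, 120, 28, -1, 1, 1, 0, 0⟩, ⟨false, 0, 121, 29, 1, 1, 1, 0, 0⟩, ⟨false, 0, 122, 30, -1, 1, 1, 0, 0⟩, ⟨false, 0, 123, 31, 1, 1, 1, 0, 0⟩, ⟨false, 0, 124, 32, -1, 1, 1, 0, 0⟩, ⟨false, 1, 32, 0, 1, 1, 1, 0, 0⟩, ⟨false, 1, 109, 33, -1, 1, 1, 0, 0⟩, ⟨false, 1, 110, 34, 1, 1, 1, 0, 0⟩, ⟨false, 1, 111, 35, -1, 1, 1, 0,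 0⟩, ⟨false, 1, 112, 36, -1, 1, 1, 0, 0⟩, ⟨false, 1, 113, 37, 1, 1, 1, 0, 0⟩, ⟨false, 1, 114, 38, -1, 1, 1, 0, 0⟩, ⟨false, 1, 115, 39, 1, 1, 1, 0, 0⟩, ⟨false, 1, 116, 40, -1, 1, 1, 0, 0⟩, ⟨false, 1, 117, 41, 1, 1, 1, 0, 0⟩, ⟨false, 1, 118, 42, -1, 1, 1, 0, 0⟩, ⟨false, 1, 119, 48, -1, 1, 1, 0, 0⟩, ⟨false, 1, 120, 49, 1, 1, 1, 0, 0⟩, ⟨false, 1, 121, 50, -1, 1, 1, 0, 0⟩, ⟨false, 1, 122, 51, 1, 1, 1, 0, 0⟩, ⟨false, 1, 123, 52, -1, 1, 1, 0, 0⟩, ⟨false, 1, 125, 93, -1, 1, 1, 0, 0⟩, ⟨false, 2, 115, 43, 1, 1, 1, 0, 0⟩, ⟨false, 2, 116, 44, -1, 1, 1, 0, 0⟩, ⟨false, 2, 117, 45, 1, 1, 1, 0, 0⟩, ⟨false, 2, 118, 46, -1, 1, 1, 0, 0⟩, ⟨false, 2, 119, 53, 1, 1, 1, 0, 0⟩, ⟨false, 2, 120, 54, -1, 1, 1,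 0, 0⟩, ⟨false, 2, 121, 55, 1, 1, 1, 0, 0⟩, ⟨false, 2, 122, 56, -1, 1, 1, 0, 0⟩, ⟨false, 2, 124, 73, -1, 1, 1, 0, 0⟩, ⟨false, 2, 125, 94, 1, 1, 1, 0, 0⟩, ⟨false, 3, 118, 47, -1, 1, 1, 0, 0⟩, ⟨false, 3, 119, 57, -1, 1, 1, 0, 0⟩, ⟨false, 3, 120, 58, 1, 1, 1, 0, 0⟩, ⟨false, 3, 121, 59, -1, 1, 1, 0, 0⟩, ⟨false, 3, 123, 69, -1, 1, 1, 0, 0⟩, ⟨false, 3, 124, 74, 1, 1, 1, 0, 0⟩, ⟨false, 3, 125, 95, -1, 1, 1, 0, 0⟩, ⟨false, 4, 119, 60, 1, 1, 1, 0, 0⟩, ⟨false, 4, 120, 61, -1, 1, 1, 0, 0⟩, ⟨false, 4, 122, 66, -1, 1, 1, 0, 0⟩, ⟨false, 4, 123, 70, 1, 1, 1, 0, 0⟩, ⟨false, 4, 124, 75, -1, 1, 1, 0, 0⟩, ⟨false, 4, 125, 96, 1, 1, 1, 0, 0⟩, ⟨false, 5, 119, 62, -1, 1, 1, 0, 0⟩, ⟨false, 5, 121, 64, -1, 1,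 1, 0, 0⟩, ⟨false, 5, 122, 67, 1, 1, 1, 0, 0⟩, ⟨false, 5, 123, 71, -1, 1, 1, 0, 0⟩, ⟨false, 5, 124, 76, 1, 1, 1, 0, 0⟩, ⟨false, 5, 125, 97, -1, 1, 1, 0, 0⟩, ⟨false, 6, 120, 63, -1, 1, 1, 0, 0⟩, ⟨false, 6, 121, 65, 1, 1, 1, 0, 0⟩, ⟨false, 6, 122, 68, -1, 1, 1, 0, 0⟩, ⟨false, 6, 123, 72, 1, 1, 1, 0, 0⟩, ⟨false, 6, 124, 77, -1, 1, 1, 0, 0⟩, ⟨false, 6, 125, 98, 1, 1, 1, 0, 0⟩, ⟨false, 7, 122, 78, -1, 1, 1, 0, 0⟩, ⟨false, 7, 123, 79, -1, 1, 1, 0, 0⟩, ⟨false, 7, 124, 83, -1, 1, 1, 0, 0⟩, ⟨false, 7, 125, 99, 1, 1, 1, 0, 0⟩, ⟨false, 8, 123, 80, 1, 1, 1, 0, 0⟩, ⟨false, 8, 124, 84, 1, 1, 1, 0, 0⟩, ⟨false, 8, 125, 100, -1, 1, 1, 0, 0⟩, ⟨false, 9, 123, 81, -1, 1, 1, 0, 0⟩, ⟨false, 9, 124, 85, -1,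 1, 1, 0, 0⟩, ⟨false, 9, 125, 101, 1, 1, 1, 0, 0⟩, ⟨false, 10, 123, 82, 1, 1, 1, 0, 0⟩, ⟨false, 10, 124, 86, 1, 1, 1, 0, 0⟩, ⟨false, 10, 125, 102, -1, 1, 1, 0, 0⟩, ⟨false, 11, 124, 87, -1, 1, 1, 0, 0⟩, ⟨false, 11, 125, 103, 1, 1, 1, 0, 0⟩, ⟨false, 12, 124, 88, 1, 1, 1, 0, 0⟩, ⟨false, 12, 125, 104, -1, 1, 1, 0, 0⟩, ⟨false, 13, 124, 89, -1, 1, 1, 0, 0⟩, ⟨false, 13, 125, 105, 1, 1, 1, 0, 0⟩, ⟨false, 14, 124, 90, -1, 1, 1, 0, 0⟩, ⟨false, 14, 125, 106, 1, 1, 1, 0, 0⟩, ⟨false, 15, 124, 91, 1, 1, 1, 0, 0⟩, ⟨false, 15, 125, 107, -1, 1, 1, 0, 0⟩, ⟨false, 16, 124, 92, -1, 1, 1, 0, 0⟩, ⟨false, 16, 125, 108, 1, 1, 1, 0, 0⟩, ⟨false, 17, 125, 109, -1, 1, 1, 0, 0⟩, ⟨false, 18, 125, 110, 1, 1, 1, 0,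 0⟩, ⟨false, 19, 125, 111, -1, 1, 1, 0, 0⟩, ⟨false, 20, 125, 112, -1, 1, 1, 0, 0⟩, ⟨false, 21, 125, 113, 1, 1, 1, 0, 0⟩, ⟨false, 22, 125, 114, -1, 1, 1, 0, 0⟩, ⟨false, 23, 125, 115, 1, 1, 1, 0, 0⟩, ⟨false, 24, 125, 116, -1, 1, 1, 0, 0⟩, ⟨false, 25, 125, 117, 1, 1, 1, 0, 0⟩, ⟨false, 26, 125, 118, -1, 1, 1, 0, 0⟩, ⟨false, 27, 125, 119, -1, 1, 1, 0, 0⟩, ⟨false, 28, 125, 120, 1, 1, 1, 0, 0⟩, ⟨false, 29, 125, 121, -1, 1, 1, 0, 0⟩, ⟨false, 30, 125, 122, 1, 1, 1, 0, 0⟩, ⟨false, 31, 125, 123, -1, 1, 1, 0, 0⟩, ⟨false, 32, 125, 124, 1, 1, 1, 0, 0⟩, ⟨false, 93, 124, 125, 1, 1, 1, 0, 0⟩]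

theorem pkE7 : chkAll chevE7 true [] psE7 = true := by decide +kernel

def psE8 : List St := [⟨false, 0, 120, 1, 1, 1, 1, 0, 0⟩, ⟨false, 0, 122, 2, 1, 1, 1, 0, 0⟩, ⟨false, 0, 125, 3, 1, 1, 1, 0, 0⟩, ⟨false, 0, 129, 4, 1, 1, 1, 0, 0⟩, ⟨false, 0, 134, 5, 1, 1, 1, 0, 0⟩, ⟨false, 0, 140, 6, 1, 1, 1, 0, 0⟩, ⟨false, 0, 146, 7, 1, 1, 1, 0, 0⟩, ⟨false, 0, 151, 8, -1, 1, 1, 0, 0⟩, ⟨false, 0, 155, 9, 1, 1, 1, 0, 0⟩, ⟨false, 0, 158, 10, -1, 1, 1, 0, 0⟩, ⟨false, 0, 160, 11, 1, 1, 1, 0, 0⟩, ⟨false, 0, 161, 12, -1, 1, 1, 0, 0⟩, ⟨false, 0, 168, 14, 1, 1, 1, 0, 0⟩, ⟨false, 0, 173, 15, -1, 1, 1, 0, 0⟩, ⟨false, 0, 177, 16, 1, 1, 1, 0, 0⟩, ⟨false, 0, 180, 17, -1, 1, 1, 0, 0⟩, ⟨false, 0, 182, 18, 1, 1,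 1, 0, 0⟩, ⟨false, 0, 183, 19, -1, 1, 1, 0, 0⟩, ⟨false, 0, 187, 21, -1, 1, 1, 0, 0⟩, ⟨false, 0, 190, 22, 1, 1, 1, 0, 0⟩, ⟨false, 0, 192, 23, -1, 1, 1, 0, 0⟩, ⟨false, 0, 193, 24, 1, 1, 1, 0, 0⟩, ⟨false, 0, 196, 26, -1, 1, 1, 0, 0⟩, ⟨false, 0, 198, 27, 1, 1, 1, 0, 0⟩, ⟨false, 0, 199, 28, -1, 1, 1, 0, 0⟩, ⟨false, 0, 201, 30, -1, 1, 1, 0, 0⟩, ⟨false, 0, 202, 31, 1, 1, 1, 0, 0⟩, ⟨false, 0, 203, 33, -1, 1, 1, 0, 0⟩, ⟨false, 0, 206, 36, 1, 1, 1, 0, 0⟩, ⟨false, 0, 208, 37, -1, 1, 1, 0, 0⟩, ⟨false, 0, 209, 38, 1, 1, 1, 0, 0⟩, ⟨false, 0, 211, 40, 1, 1, 1, 0, 0⟩, ⟨false, 0, 212, 41, -1, 1, 1, 0, 0⟩, ⟨false, 0, 213, 43, 1, 1, 1, 0, 0⟩, ⟨false, 0, 215, 46, -1, 1, 1, 0, 0⟩, ⟨false, 0, 216, 47, 1, 1,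 1, 0, 0⟩, ⟨false, 0, 217, 49, -1, 1, 1, 0, 0⟩, ⟨false, 0, 218, 52, 1, 1, 1, 0, 0⟩, ⟨false, 0, 220, 56, 1, 1, 1, 0, 0⟩, ⟨false, 0, 221, 57, -1, 1, 1, 0, 0⟩, ⟨false, 0, 222, 59, 1, 1, 1, 0, 0⟩, ⟨false, 0, 223, 62, -1, 1, 1, 0, 0⟩, ⟨false, 0, 224, 66, 1, 1, 1, 0, 0⟩, ⟨false, 0, 225, 71, -1, 1, 1, 0, 0⟩, ⟨false, 0, 227, 78, 1, 1, 1, 0, 0⟩, ⟨false, 0, 228, 79, -1, 1, 1, 0, 0⟩, ⟨false, 0, 229, 81, 1, 1, 1, 0, 0⟩, ⟨false, 0, 230, 84, -1, 1, 1, 0, 0⟩, ⟨false, 0, 231, 88, 1, 1, 1, 0, 0⟩, ⟨false, 0, 232, 93, -1, 1, 1, 0, 0⟩, ⟨false, 0, 233, 99, -1, 1, 1, 0, 0⟩, ⟨false, 0, 234, 105, -1, 1, 1, 0, 0⟩, ⟨false, 0, 235, 110, -1, 1, 1, 0, 0⟩, ⟨false, 0, 236, 114, -1, 1, 1, 0, 0⟩, ⟨false, 0, 237, 117,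 -1, 1, 1, 0, 0⟩, ⟨false, 0, 238, 119, -1, 1, 1, 0, 0⟩, ⟨false, 1, 119, 0, 1, 1, 1, 0, 0⟩, ⟨false, 1, 161, 13, -1, 1, 1, 0, 0⟩, ⟨false, 1, 183, 20, -1, 1, 1, 0, 0⟩, ⟨false, 1, 193, 25, 1, 1, 1, 0, 0⟩, ⟨false, 1, 199, 29, -1, 1, 1, 0, 0⟩, ⟨false, 1, 202, 32, 1, 1, 1, 0, 0⟩, ⟨false, 1, 203, 34, -1, 1, 1, 0, 0⟩, ⟨false, 1, 209, 39, 1, 1, 1, 0, 0⟩, ⟨false, 1, 212, 42, -1, 1, 1, 0, 0⟩, ⟨false, 1, 213, 44, 1, 1, 1, 0, 0⟩, ⟨false, 1, 216, 48, 1, 1, 1, 0, 0⟩, ⟨false, 1, 217, 50, -1, 1, 1, 0, 0⟩, ⟨false, 1, 218, 53, 1, 1, 1, 0, 0⟩, ⟨false, 1, 221, 58, -1, 1, 1, 0, 0⟩, ⟨false, 1, 222, 60, 1, 1, 1, 0, 0⟩, ⟨false, 1, 223, 63, -1, 1, 1, 0, 0⟩, ⟨false, 1, 224, 67, 1, 1, 1, 0, 0⟩, ⟨false, 1, 225, 72,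 -1, 1, 1, 0, 0⟩, ⟨false, 1, 228, 80, -1, 1, 1, 0, 0⟩, ⟨false, 1, 229, 82, 1, 1, 1, 0, 0⟩, ⟨false, 1, 230, 85, -1, 1, 1, 0, 0⟩, ⟨false, 1, 231, 89, 1, 1, 1, 0, 0⟩, ⟨false, 1, 232, 94, -1, 1, 1, 0, 0⟩, ⟨false, 1, 233, 100, -1, 1, 1, 0, 0⟩, ⟨false, 1, 234, 106, -1, 1, 1, 0, 0⟩, ⟨false, 1, 235, 111, -1, 1, 1, 0, 0⟩, ⟨false, 1, 236, 115, -1, 1, 1, 0, 0⟩, ⟨false, 1, 237, 118, -1, 1, 1, 0, 0⟩, ⟨false, 1, 239, 120, -1, 1, 1, 0, 0⟩, ⟨false, 2, 203, 35, -1, 1, 1, 0, 0⟩, ⟨false, 2, 213, 45, 1, 1, 1, 0, 0⟩, ⟨false, 2, 217, 51, -1, 1, 1, 0, 0⟩, ⟨false, 2, 218, 54, 1, 1, 1, 0, 0⟩, ⟨false, 2, 222, 61, 1, 1, 1, 0, 0⟩, ⟨false, 2, 223, 64, -1, 1, 1, 0, 0⟩, ⟨false, 2, 224, 68, 1, 1, 1, 0, 0⟩, ⟨false, 2,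 225, 73, -1, 1, 1, 0, 0⟩, ⟨false, 2, 229, 83, 1, 1, 1, 0, 0⟩, ⟨false, 2, 230, 86, -1, 1, 1, 0, 0⟩, ⟨false, 2, 231, 90, 1, 1, 1, 0, 0⟩, ⟨false, 2, 232, 95, -1, 1, 1, 0, 0⟩, ⟨false, 2, 233, 101, -1, 1, 1, 0, 0⟩, ⟨false, 2, 234, 107, -1, 1, 1, 0, 0⟩, ⟨false, 2, 235, 112, -1, 1, 1, 0, 0⟩, ⟨false, 2, 236, 116, -1, 1, 1, 0, 0⟩, ⟨false, 2, 238, 121, -1, 1, 1, 0, 0⟩, ⟨false, 2, 239, 122, -1, 1, 1, 0, 0⟩, ⟨false, 3, 218, 55, 1, 1, 1, 0, 0⟩, ⟨false, 3, 223, 65, -1, 1, 1, 0, 0⟩, ⟨false, 3, 224, 69, 1, 1, 1, 0, 0⟩, ⟨false, 3, 225, 74, -1, 1, 1, 0, 0⟩, ⟨false, 3, 230, 87, -1, 1, 1, 0, 0⟩, ⟨false, 3, 231, 91, 1, 1, 1, 0, 0⟩, ⟨false, 3, 232, 96, -1, 1, 1, 0, 0⟩, ⟨false, 3, 233, 102, -1, 1, 1, 0, 0⟩,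 ⟨false, 3, 234, 108, -1, 1, 1, 0, 0⟩, ⟨false, 3, 235, 113, -1, 1, 1, 0, 0⟩, ⟨false, 3, 237, 123, -1, 1, 1, 0, 0⟩, ⟨false, 3, 238, 124, -1, 1, 1, 0, 0⟩, ⟨false, 3, 239, 125, -1, 1, 1, 0, 0⟩, ⟨false, 4, 224, 70, 1, 1, 1, 0, 0⟩, ⟨false, 4, 225, 75, -1, 1, 1, 0, 0⟩, ⟨false, 4, 231, 92, 1, 1, 1, 0, 0⟩, ⟨false, 4, 232, 97, -1, 1, 1, 0, 0⟩, ⟨false, 4, 233, 103, -1, 1, 1, 0, 0⟩, ⟨false, 4, 234, 109, -1, 1, 1, 0, 0⟩, ⟨false, 4, 236, 126, -1, 1, 1, 0, 0⟩, ⟨false, 4, 237, 127, -1, 1, 1, 0, 0⟩, ⟨false, 4, 238, 128, -1, 1, 1, 0, 0⟩, ⟨false, 4, 239, 129, -1, 1, 1, 0, 0⟩, ⟨false, 5, 225, 76, -1, 1, 1, 0, 0⟩, ⟨false, 5, 232, 98, -1, 1, 1, 0, 0⟩, ⟨false, 5, 233, 104, -1, 1, 1, 0, 0⟩, ⟨false, 5, 235,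 130, -1, 1, 1, 0, 0⟩, ⟨false, 5, 236, 131, -1, 1, 1, 0, 0⟩, ⟨false, 5, 237, 132, -1, 1, 1, 0, 0⟩, ⟨false, 5, 238, 133, -1, 1, 1, 0, 0⟩, ⟨false, 5, 239, 134, -1, 1, 1, 0, 0⟩, ⟨false, 6, 225, 77, -1, 1, 1, 0, 0⟩, ⟨false, 6, 234, 135, -1, 1, 1, 0, 0⟩, ⟨false, 6, 235, 136, -1, 1, 1, 0, 0⟩, ⟨false, 6, 236, 137, -1, 1, 1, 0, 0⟩, ⟨false, 6, 237, 138, -1, 1, 1, 0, 0⟩, ⟨false, 6, 238, 139, -1, 1, 1, 0, 0⟩, ⟨false, 6, 239, 140, -1, 1, 1, 0, 0⟩, ⟨false, 7, 234, 141, -1, 1, 1, 0, 0⟩, ⟨false, 7, 235, 142, -1, 1, 1, 0, 0⟩, ⟨false, 7, 236, 143, -1, 1, 1, 0, 0⟩, ⟨false, 7, 237, 144, -1, 1, 1, 0, 0⟩, ⟨false, 7, 238, 145, -1, 1, 1, 0, 0⟩, ⟨false, 7, 239, 146, -1, 1, 1, 0, 0⟩, ⟨false, 8, 235, 147, 1, 1,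 1, 0, 0⟩, ⟨false, 8, 236, 148, 1, 1, 1, 0, 0⟩, ⟨false, 8, 237, 149, 1, 1, 1, 0, 0⟩, ⟨false, 8, 238, 150, 1, 1, 1, 0, 0⟩, ⟨false, 8, 239, 151, 1, 1, 1, 0, 0⟩, ⟨false, 9, 236, 152, -1, 1, 1, 0, 0⟩, ⟨false, 9, 237, 153, -1, 1, 1, 0, 0⟩, ⟨false, 9, 238, 154, -1, 1, 1, 0, 0⟩, ⟨false, 9, 239, 155, -1, 1, 1, 0, 0⟩, ⟨false, 10, 237, 156, 1, 1, 1, 0, 0⟩, ⟨false, 10, 238, 157, 1, 1, 1, 0, 0⟩, ⟨false, 10, 239, 158, 1, 1, 1, 0, 0⟩, ⟨false, 11, 238, 159, -1, 1, 1, 0, 0⟩, ⟨false, 11, 239, 160, -1, 1, 1, 0, 0⟩, ⟨false, 12, 239, 161, 1, 1, 1, 0, 0⟩, ⟨false, 14, 233, 162, -1, 1, 1, 0, 0⟩, ⟨false, 14, 234, 163, -1, 1, 1, 0, 0⟩, ⟨false, 14, 235, 164, -1, 1, 1, 0, 0⟩, ⟨false, 14, 236, 165, -1, 1, 1, 0,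 0⟩, ⟨false, 14, 237, 166, -1, 1, 1, 0, 0⟩, ⟨false, 14, 238, 167, -1, 1, 1, 0, 0⟩, ⟨false, 14, 239, 168, -1, 1, 1, 0, 0⟩, ⟨false, 15, 235, 169, 1, 1, 1, 0, 0⟩, ⟨false, 15, 236, 170, 1, 1, 1, 0, 0⟩, ⟨false, 15, 237, 171, 1, 1, 1, 0, 0⟩, ⟨false, 15, 238, 172, 1, 1, 1, 0, 0⟩, ⟨false, 15, 239, 173, 1, 1, 1, 0, 0⟩, ⟨false, 16, 236, 174, -1, 1, 1, 0, 0⟩, ⟨false, 16, 237, 175, -1, 1, 1, 0, 0⟩, ⟨false, 16, 238, 176, -1, 1, 1, 0, 0⟩, ⟨false, 16, 239, 177, -1, 1, 1, 0, 0⟩, ⟨false, 17, 237, 178, 1, 1, 1, 0, 0⟩, ⟨false, 17, 238, 179, 1, 1, 1, 0, 0⟩, ⟨false, 17, 239, 180, 1, 1, 1, 0, 0⟩, ⟨false, 18, 238, 181, -1, 1, 1, 0, 0⟩, ⟨false, 18, 239, 182, -1, 1, 1, 0, 0⟩, ⟨false, 19, 239, 183, 1, 1, 1, 0,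 0⟩, ⟨false, 21, 236, 184, 1, 1, 1, 0, 0⟩, ⟨false, 21, 237, 185, 1, 1, 1, 0, 0⟩, ⟨false, 21, 238, 186, 1, 1, 1, 0, 0⟩, ⟨false, 21, 239, 187, 1, 1, 1, 0, 0⟩, ⟨false, 22, 237, 188, -1, 1, 1, 0, 0⟩, ⟨false, 22, 238, 189, -1, 1, 1, 0, 0⟩, ⟨false, 22, 239, 190, -1, 1, 1, 0, 0⟩, ⟨false, 23, 238, 191, 1, 1, 1, 0, 0⟩, ⟨false, 23, 239, 192, 1, 1, 1, 0, 0⟩, ⟨false, 24, 239, 193, -1, 1, 1, 0, 0⟩, ⟨false, 26, 237, 194, 1, 1, 1, 0, 0⟩, ⟨false, 26, 238, 195, 1, 1, 1, 0, 0⟩, ⟨false, 26, 239, 196, 1, 1, 1, 0, 0⟩, ⟨false, 27, 238, 197, -1, 1, 1, 0, 0⟩, ⟨false, 27, 239, 198, -1, 1, 1, 0, 0⟩, ⟨false, 28, 239, 199, 1, 1, 1, 0, 0⟩, ⟨false, 30, 238, 200, 1, 1, 1, 0, 0⟩, ⟨false, 30, 239, 201, 1, 1, 1, 0, 0⟩,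 ⟨false, 31, 239, 202, -1, 1, 1, 0, 0⟩, ⟨false, 33, 239, 203, 1, 1, 1, 0, 0⟩, ⟨false, 36, 237, 204, -1, 1, 1, 0, 0⟩, ⟨false, 36, 238, 205, -1, 1, 1, 0, 0⟩, ⟨false, 36, 239, 206, -1, 1, 1, 0, 0⟩, ⟨false, 37, 238, 207, 1, 1, 1, 0, 0⟩, ⟨false, 37, 239, 208, 1, 1, 1, 0, 0⟩, ⟨false, 38, 239, 209, -1, 1, 1, 0, 0⟩, ⟨false, 40, 238, 210, -1, 1, 1, 0, 0⟩, ⟨false, 40, 239, 211, -1, 1, 1, 0, 0⟩, ⟨false, 41, 239, 212, 1, 1, 1, 0, 0⟩, ⟨false, 43, 239, 213, -1, 1, 1, 0, 0⟩, ⟨false, 46, 238, 214, 1, 1, 1, 0, 0⟩, ⟨false, 46, 239, 215, 1, 1, 1, 0, 0⟩, ⟨false, 47, 239, 216, -1, 1, 1, 0, 0⟩, ⟨false, 49, 239, 217, 1, 1, 1, 0, 0⟩, ⟨false, 52, 239, 218, -1, 1, 1, 0, 0⟩, ⟨false, 56, 238, 219, -1, 1, 1, 0, 0⟩,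 ⟨false, 56, 239, 220, -1, 1, 1, 0, 0⟩, ⟨false, 57, 239, 221, 1, 1, 1, 0, 0⟩, ⟨false, 59, 239, 222, -1, 1, 1, 0, 0⟩, ⟨false, 62, 239, 223, 1, 1, 1, 0, 0⟩, ⟨false, 66, 239, 224, -1, 1, 1, 0, 0⟩, ⟨false, 71, 239, 225, 1, 1, 1, 0, 0⟩, ⟨false, 78, 238, 226, -1, 1, 1, 0, 0⟩, ⟨false, 78, 239, 227, -1, 1, 1, 0, 0⟩, ⟨false, 79, 239, 228, 1, 1, 1, 0, 0⟩, ⟨false, 81, 239, 229, -1, 1, 1, 0, 0⟩, ⟨false, 84, 239, 230, 1, 1, 1, 0, 0⟩, ⟨false, 88, 239, 231, -1, 1, 1, 0, 0⟩, ⟨false, 93, 239, 232, 1, 1, 1, 0, 0⟩, ⟨false, 99, 239, 233, 1, 1, 1, 0, 0⟩, ⟨false, 105, 239, 234, 1, 1, 1, 0, 0⟩, ⟨false, 110, 239, 235, 1, 1, 1, 0, 0⟩, ⟨false, 114, 239, 236, 1, 1, 1, 0, 0⟩, ⟨false, 117, 239, 237, 1, 1, 1, 0, 0⟩,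 ⟨false, 119, 239, 238, 1, 1, 1, 0, 0⟩, ⟨false, 120, 238, 239, 1, 1, 1, 0, 0⟩]

theorem pkE8 : chkAll chevE8 true [] psE8 = true := by decide +kernel

theorem cover_perfect {K : Type*} [Field K] (D : ChevalleyDatum)
    (hD : D ∈ [chevG2, chevB2, chevD4, chevF4, chevE6, chevE7, chevE8])
    (hK : D ∈ [chevB2, chevG2] → ∃ x : K, x ≠ 0 ∧ x ≠ 1) :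
    commutator (D.SteinbergCover K) = ⊤ := by
  simp only [List.mem_cons, List.not_mem_nil, or_false] at hD
  rcases hD with rfl | rfl | rfl | rfl | rfl | rfl | rfl
  · exact perfect_of_chk chevG2 false (fun _ => hK (by simp)) psG2 pkG2
  · exact perfect_of_chk chevB2 false (fun _ => hK (by simp)) psB2 pkB2
  · exact perfect_of_chk chevD4 true (fun h => absurd h (by decide)) psD4 pkD4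
  · exact perfect_of_chk chevF4 true (fun h => absurd h (by decide)) psF4 pkF4
  · exact perfect_of_chk chevE6 true (fun h => absurd h (by decide)) psE6 pkE6
  · exact perfect_of_chk chevE7 true (fun h => absurd h (by decide)) psE7 pkE7
  · exact perfect_of_chk chevE8 true (fun h => absurd h (by decide)) psE8 pkE8

end Cfsg.Agent.Lib.Helper7.StCoverAll
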